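import Cfsg.Agent.Char.Classes
import Cfsg.Prelude.Def_Blocks
import Mathlib.RingTheory.IntegralClosure.Algebra.Basic
import Mathlib.RingTheory.Polynomial.RationalRoot
import Mathlib.Algebra.MonoidAlgebra.Basic

/-! Central characters, integrality, degrees, kernels and linear characters. -/

set_option linter.unusedSectionVars false
set_option linter.style.haveILetI false

namespace CfsgLib.Char

open Module Cfsg
open scoped ComplexConjugate

universe u v

section integral

variable {G : Type u} [Group G] [Finite G]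

theorem isIntegral_root {z : ℂ} {n : ℕ} (hn : n ≠ 0) (h : z ^ n = 1) : IsIntegral ℤ z :=
  IsIntegral.of_pow (Nat.pos_of_ne_zero hn) (by rw [h]; exact isIntegral_one)

theorem char_isIntegral {χ : G → ℂ} (h : IsCharacter G χ) (g : G) : IsIntegral ℤ (χ g) := by
  obtain ⟨n, ρ, rfl⟩ := h
  obtain ⟨ζ, hζ, -, hg, -⟩ := exists_roots ρ g
  rw [hg]
  exact IsIntegral.sum _ fun i _ => isIntegral_root (orderOf_pos g).ne' (hζ i)

theorem gen_isIntegral {θ : G → ℂ} (h : IsGeneralizedCharacter G θ) (g : G) :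
    IsIntegral ℤ (θ g) := by
  obtain ⟨χ, ψ, hχ, hψ, rfl⟩ := h
  exact (char_isIntegral hχ g).sub (char_isIntegral hψ g)

theorem char_mem_algInt {χ : G → ℂ} (h : IsCharacter G χ) (g : G) : χ g ∈ AlgInt :=
  char_isIntegral h g

/-- a rational algebraic integer is an integer -/
theorem exists_int_of_isIntegral_rat {z : ℂ} (hz : IsIntegral ℤ z) (q : ℚ) (hq : z = (q : ℂ)) :
    ∃ n : ℤ, z = n := by
  subst hq
  have h1 : IsIntegral ℤ q := (isIntegral_algebraMap_iff (algebraMap ℚ ℂ).injective).mp hz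
  obtain ⟨n, hn⟩ := IsIntegrallyClosed.isIntegral_iff.mp h1
  exact ⟨n, by rw [← hn]; simp⟩

theorem dvd_of_isIntegral_div {a b : ℕ} (hb : b ≠ 0) (h : IsIntegral ℤ ((a : ℂ) / (b : ℂ))) :
    b ∣ a := by
  obtain ⟨n, hn⟩ := exists_int_of_isIntegral_rat h ((a : ℚ) / (b : ℚ)) (by push_cast; ring)
  have hb' : (b : ℂ) ≠ 0 := by exact_mod_cast hb
  rw [div_eq_iff hb'] at hn
  have : (a : ℤ) = n * b := by exact_mod_cast hn
  exact Int.natCast_dvd_natCast.mp ⟨n, by rw [this]; ring⟩

theorem charDegree_eq {χ : G → ℂ} {n : ℕ} (h : χ 1 = n) : charDegree χ = n := by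
  simp [charDegree, h]

theorem char_one_eq {χ : G → ℂ} (h : IsCharacter G χ) : χ 1 = (charDegree χ : ℂ) := by
  obtain ⟨n, hn⟩ := charDegree_aux h
  rw [charDegree_eq hn, hn]

theorem irr_one_eq {χ : G → ℂ} (h : IsIrrCharacter G χ) : χ 1 = (charDegree χ : ℂ) :=
  char_one_eq (isCharacter_of_isIrr h)

theorem charDegree_pos {χ : G → ℂ} (h : IsIrrCharacter G χ) : 0 < charDegree χ := by
  obtain ⟨n, hn, h1⟩ := irr_deg h
  rwa [charDegree_eq h1]

theorem char_norm_le {χ : G → ℂ} (h : IsCharacter G χ) (g : G) : ‖χ g‖ ≤ (charDegree χ : ℝ) := by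
  obtain ⟨n, ρ, rfl⟩ := h
  obtain ⟨ζ, hζ, -, hg, -⟩ := exists_roots ρ g
  rw [charDegree_eq (χ := ρ.character) (n := finrank ℂ (Fin n → ℂ)) (by simp), hg]
  refine (norm_sum_le _ _).trans ?_
  simp [fun i => norm_root (orderOf_pos g).ne' (hζ i)]

/-- a character takes its degree at `g` only if `g` acts trivially -/
theorem rep_eq_id_of_char {V : Type v} [AddCommGroup V] [Module ℂ V] [FiniteDimensional ℂ V]
    (ρ : Representation ℂ G V) (g : G) (h : ρ.character g = (finrank ℂ V : ℂ)) :
    ρ g = 1 := by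
  obtain ⟨b, ζ, hζ, hb⟩ := exists_eigenbasis ρ g
  have hg : ρ.character g = ∑ i, ζ i := trace_of_eigen hb
  have hre : ∀ i, (ζ i).re ≤ 1 := fun i =>
    (Complex.re_le_norm _).trans (norm_root (orderOf_pos g).ne' (hζ i)).le
  have hsum : ∑ i, (1 - (ζ i).re) = 0 := by
    have := congrArg Complex.re (hg.symm.trans h)
    simp only [Complex.re_sum, Complex.natCast_re] at this
    simp [this]
  have hone : ∀ i, ζ i = 1 := by
    intro i
    have h1 := (Finset.sum_eq_zero_iff_of_nonneg fun i _ => sub_nonneg.mpr (hre i)).mp hsum i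
      (Finset.mem_univ i)
    have h2 : (ζ i).re = 1 := by linarith
    have h3 := Complex.sq_norm (ζ i)
    rw [norm_root (orderOf_pos g).ne' (hζ i), Complex.normSq_apply, h2] at h3
    exact Complex.ext h2 (by simpa using mul_self_eq_zero.mp (by linarith : (ζ i).im * (ζ i).im = 0))
  exact b.ext fun i => by simp [hb i, hone i]

/-- the kernel of a character is a normal subgroup -/
theorem exists_kernel {χ : G → ℂ} (h : IsCharacter G χ) :
    ∃ K : Subgroup G, K.Normal ∧ (∀ g, g ∈ K ↔ χ g = χ 1) ∧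
      ∀ k ∈ K, ∀ g, χ (k * g) = χ g := by
  obtain ⟨n, ρ, rfl⟩ := h
  let f : G →* (Module.End ℂ (Fin n → ℂ))ˣ := ρ.toHomUnits
  have hf : ∀ g, g ∈ f.ker ↔ ρ g = 1 := fun g => by
    rw [MonoidHom.mem_ker, Units.ext_iff]; rfl
  refine ⟨f.ker, inferInstance, fun g => ⟨fun hg => ?_, fun hg => ?_⟩, fun k hk g => ?_⟩
  · show LinearMap.trace ℂ _ (ρ g) = LinearMap.trace ℂ _ (ρ 1)
    rw [(hf g).mp hg, map_one ρ]
  · rw [hf]
    exact rep_eq_id_of_char ρ g (by rw [hg]; simp)
  · rw [Representation.character, map_mul, (hf k).mp hk, one_mul]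
    rfl

end integral

section omega

variable {G : Type u} [Group G] [Fintype G]

/-- the scalar by which a class function acts in an irreducible representation -/
theorem classFun_scalar {V : Type v} [AddCommGroup V] [Module ℂ V] [FiniteDimensional ℂ V]
    (ρ : Representation ℂ G V) [ρ.IsIrreducible] {f : G → ℂ} (hf : IsClassFunction G f) :
    ∑ x : G, f x • ρ x =
      ((∑ x : G, f x * ρ.character x) / (finrank ℂ V : ℂ)) • LinearMap.id := by
  obtain ⟨c, hc⟩ := schur_scalar ρ (∑ x : G, f x • ρ x) (fun k v => by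
    simp only [LinearMap.sum_apply, LinearMap.smul_apply, map_sum, map_smul]
    refine Fintype.sum_equiv (MulAut.conj k⁻¹).toEquiv _ _ fun g => ?_
    show f g • ρ g (ρ k v) = f (k⁻¹ * g * k⁻¹⁻¹) • ρ k (ρ (k⁻¹ * g * k⁻¹⁻¹) v)
    rw [hf g k⁻¹, ← Module.End.mul_apply, ← map_mul, ← Module.End.mul_apply, ← map_mul]
    simp [mul_assoc])
  have htr := congrArg (LinearMap.trace ℂ V) hc
  rw [map_smul, LinearMap.trace_id, map_sum] at htr
  simp only [map_smul, smul_eq_mul] at htr
  rw [hc]
  congr 1
  have hn : (finrank ℂ V : ℂ) ≠ 0 := by exact_mod_cast (finrank_pos_of_irreducible ρ).ne'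
  rw [eq_div_iff hn]
  exact htr.symm

open Classical in
theorem sum_isConj_smul {M : Type*} [AddCommGroup M] [Module ℂ M] (g : G) (F : G → M) :
    ∑ x : G, (if IsConj g x then (1 : ℂ) else 0) • F x =
      ∑ x ∈ Finset.univ.filter (fun x => IsConj g x), F x := by
  rw [Finset.sum_filter]
  exact Finset.sum_congr rfl fun x _ => by split_ifs <;> simp

open Classical in
theorem centralChar_eq {χ : G → ℂ} (hχ : IsClassFunction G χ) (g : G) :
    centralChar χ g = (∑ x ∈ Finset.univ.filter (fun x => IsConj g x), χ x) / χ 1 := by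
  rw [centralChar, Finset.sum_congr rfl fun x hx =>
    (classFun_isConj hχ (Finset.mem_filter.mp hx).2).symm, Finset.sum_const, nsmul_eq_mul,
    card_filter_isConj]

open Classical in
/-- class sums act by the central character -/
theorem classSum_scalar {V : Type v} [AddCommGroup V] [Module ℂ V] [FiniteDimensional ℂ V]
    (ρ : Representation ℂ G V) [ρ.IsIrreducible] (g : G) :
    ∑ x ∈ Finset.univ.filter (fun x => IsConj g x), ρ x =
      centralChar ρ.character g • (LinearMap.id : V →ₗ[ℂ] V) := by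
  have hf : IsClassFunction G (fun x => if IsConj g x then (1 : ℂ) else 0) := by
    intro x k
    have : IsConj x (k * x * k⁻¹) := isConj_iff.mpr ⟨k, rfl⟩
    exact if_congr ⟨fun hh => hh.trans this.symm, fun hh => hh.trans this⟩ rfl rfl
  rw [← sum_isConj_smul, classFun_scalar ρ hf,
    centralChar_eq (fun x k => ρ.char_conj x k) g, Representation.char_one]
  congr 2
  exact sum_isConj_smul g ρ.character

theorem centralChar_isIntegral {χ : G → ℂ} (hχ : IsIrrCharacter G χ) (g : G) :
    IsIntegral ℤ (centralChar χ g) := by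
  classical
  obtain ⟨n, ρ, hirr, rfl⟩ := hχ
  haveI := hirr
  haveI : Nontrivial (Fin n → ℂ) := Module.finrank_pos_iff.mp (finrank_pos_of_irreducible ρ)
  let a : MonoidAlgebra ℤ G :=
    ∑ x ∈ Finset.univ.filter (fun x => IsConj g x), MonoidAlgebra.of ℤ G x
  haveI : Module.Finite ℤ (MonoidAlgebra ℤ G) := inferInstance
  have h1 : IsIntegral ℤ a := IsIntegral.of_finite ℤ a
  have h2 := h1.map (MonoidAlgebra.lift ℤ (Module.End ℂ (Fin n → ℂ)) G ρ)
  have h3 : MonoidAlgebra.lift ℤ (Module.End ℂ (Fin n → ℂ)) G ρ a =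
      algebraMap ℂ (Module.End ℂ (Fin n → ℂ)) (centralChar ρ.character g) := by
    simp only [a, map_sum, MonoidAlgebra.lift_of]
    rw [classSum_scalar ρ g, Algebra.algebraMap_eq_smul_one]
    rfl
  rw [h3] at h2
  exact (isIntegral_algebraMap_iff (algebraMap ℂ (Module.End ℂ (Fin n → ℂ))).injective).mp h2

theorem centralChar_mem_algInt {χ : G → ℂ} (hχ : IsIrrCharacter G χ) (g : G) :
    centralChar χ g ∈ AlgInt := centralChar_isIntegral hχ g

theorem centralChar_isConj {χ : G → ℂ} (hχ : IsClassFunction G χ) {g h : G} (hgh : IsConj g h) :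
    centralChar χ g = centralChar χ h := by
  classical
  rw [centralChar_eq hχ, centralChar_eq hχ]
  congr 2
  ext x
  simp only [Finset.mem_filter, Finset.mem_univ, true_and]
  exact ⟨fun hh => hgh.symm.trans hh, fun hh => hgh.trans hh⟩

open Classical in
/-- multiplicativity of the central character on class sums -/
theorem centralChar_mul {χ : G → ℂ} (hχ : IsIrrCharacter G χ) (a b : G) :
    centralChar χ a * centralChar χ b =
      (∑ x ∈ Finset.univ.filter (fun x => IsConj a x),
        ∑ y ∈ Finset.univ.filter (fun y => IsConj b y), χ (x * y)) / χ 1 := by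
  obtain ⟨n, ρ, hirr, rfl⟩ := hχ
  haveI := hirr
  have h := congrArg (LinearMap.trace ℂ (Fin n → ℂ))
    (congrArg₂ (· * ·) (classSum_scalar ρ a) (classSum_scalar ρ b))
  rw [Finset.sum_mul_sum] at h
  simp only [map_sum, ← map_mul, ← Module.End.one_eq_id, smul_mul_assoc, mul_smul_comm, mul_one,
    map_smul, LinearMap.trace_one, smul_eq_mul] at h
  have hn : (finrank ℂ (Fin n → ℂ) : ℂ) ≠ 0 := by
    exact_mod_cast (finrank_pos_of_irreducible ρ).ne'
  rw [Representation.char_one, eq_div_iff hn, mul_assoc]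
  rw [mul_left_comm]
  exact h.symm

theorem degree_dvd_card {χ : G → ℂ} (hχ : IsIrrCharacter G χ) : charDegree χ ∣ Nat.card G := by
  classical
  obtain ⟨n, hn, h1⟩ := irr_deg hχ
  rw [charDegree_eq h1]
  apply dvd_of_isIntegral_div hn.ne'
  have hsum : ∑ x : G, χ x * conj (χ x) = (Nat.card G : ℂ) := by
    have := irr_inner_self hχ
    rwa [classInner_def, inv_mul_eq_one₀ (natCard_ne_zero G), eq_comm] at this
  haveI : Fintype (ConjClasses G) := Fintype.ofFinite _
  have : (Nat.card G : ℂ) / (n : ℂ) =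
      ∑ C : ConjClasses G, centralChar χ C.out * conj (χ C.out) := by
    rw [← hsum, Finset.sum_div, ← Finset.sum_fiberwise Finset.univ ConjClasses.mk]
    refine Finset.sum_congr rfl fun C _ => ?_
    have hC : (Finset.univ.filter fun x : G => ConjClasses.mk x = C) =
        Finset.univ.filter (fun x => IsConj C.out x) := by
      ext x
      simp only [Finset.mem_filter, Finset.mem_univ, true_and]
      rw [← ConjClasses.mk_eq_mk_iff_isConj]
      have : ConjClasses.mk C.out = C := Quotient.out_eq C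
      rw [this, eq_comm]
    rw [hC, centralChar_eq (classFun_of_irr hχ), h1, Finset.sum_div, Finset.sum_mul]
    refine Finset.sum_congr rfl fun x hx => ?_
    rw [← classFun_isConj (classFun_of_irr hχ) (Finset.mem_filter.mp hx).2]
    ring
  rw [this]
  exact IsIntegral.sum _ fun C _ => (centralChar_isIntegral hχ _).mul
    (by rw [← char_conj_eq (isCharacter_of_isIrr hχ)]
        exact char_isIntegral (isCharacter_of_isIrr hχ) _)

end omega

section linear

variable {G : Type u} [Group G] [Finite G]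

theorem isCharacter_linear (μ : G →* ℂˣ) : IsCharacter G (fun g => (μ g : ℂ)) := by
  let ρ : Representation ℂ G (Fin 1 → ℂ) :=
    { toFun := fun g => (μ g : ℂ) • LinearMap.id
      map_one' := by ext v; simp
      map_mul' := fun a b => by ext v i; simp; ring }
  refine ⟨1, ρ, ?_⟩
  ext g
  show LinearMap.trace ℂ (Fin 1 → ℂ) ((μ g : ℂ) • LinearMap.id) = _
  rw [map_smul, LinearMap.trace_id]; simp

theorem linear_root (μ : G →* ℂˣ) (g : G) : (μ g : ℂ) ^ orderOf g = 1 := by
  rw [← Units.val_pow_eq_pow_val, ← map_pow, pow_orderOf_eq_one, map_one, Units.val_one]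

theorem isIrr_linear (μ : G →* ℂˣ) : IsIrrCharacter G (fun g => (μ g : ℂ)) := by
  haveI := Fintype.ofFinite G
  refine isIrr_of_char_norm (isCharacter_linear μ) ?_
  have : ∀ g, (μ g : ℂ) * conj (μ g : ℂ) = 1 := fun g => by
    rw [Complex.mul_conj', norm_root (orderOf_pos g).ne' (linear_root μ g)]; simp
  simp [classInner_def, this, ← Fintype.card_eq_nat_card]

/-- characters of degree one are homomorphisms -/
theorem exists_hom_of_degree_one {χ : G → ℂ} (h : IsCharacter G χ) (h1 : χ 1 = 1) :
    ∃ μ : G →* ℂˣ, χ = fun g => (μ g : ℂ) := by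
  obtain ⟨n, ρ, rfl⟩ := h
  have hn : n = 1 := by simpa using h1
  subst hn
  have key : ∀ g, ρ.character g = LinearMap.det (ρ g) := by
    intro g
    rw [Representation.character, ← LinearMap.det_toMatrix' ,
      LinearMap.trace_eq_matrix_trace ℂ (Pi.basisFun ℂ (Fin 1)), Matrix.det_fin_one]
    simp [Matrix.trace, LinearMap.toMatrix_eq_toMatrix']
  exact ⟨((LinearMap.det : _ →* ℂ).comp ρ).toHomUnits, funext fun g => key g⟩

theorem isCharacter_degree_one_irr {χ : G → ℂ} (h : IsCharacter G χ) (h1 : χ 1 = 1) :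
    IsIrrCharacter G χ := by
  obtain ⟨μ, rfl⟩ := exists_hom_of_degree_one h h1
  exact isIrr_linear μ

theorem irr_mul_linear {χ : G → ℂ} (h : IsIrrCharacter G χ) (μ : G →* ℂˣ) :
    IsIrrCharacter G (fun g => χ g * (μ g : ℂ)) := by
  haveI := Fintype.ofFinite G
  refine isIrr_of_char_norm (isCharacter_mul (isCharacter_of_isIrr h) (isCharacter_linear μ)) ?_
  rw [← irr_inner_self h, classInner_def, classInner_def]
  congr 1
  refine Finset.sum_congr rfl fun g _ => ?_
  have : (μ g : ℂ) * conj (μ g : ℂ) = 1 := by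
    rw [Complex.mul_conj', norm_root (orderOf_pos g).ne' (linear_root μ g)]; simp
  simp only [map_mul]
  linear_combination χ g * conj (χ g) * this

theorem irr_conj {χ : G → ℂ} (h : IsIrrCharacter G χ) :
    IsIrrCharacter G (fun g => conj (χ g)) := by
  haveI := Fintype.ofFinite G
  refine isIrr_of_char_norm (isCharacter_conj (isCharacter_of_isIrr h)) ?_
  rw [← irr_inner_self h, classInner_def, classInner_def]
  congr 1
  exact Finset.sum_congr rfl fun g _ => by rw [Complex.conj_conj, mul_comm]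

end linear

end CfsgLib.Char
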