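import Cfsg.Agent.Char.Central
import Mathlib.GroupTheory.QuotientGroup.Basic

/-! Induced class functions, restriction, inflation. -/

set_option linter.unusedSectionVars false
set_option linter.style.haveILetI false

namespace CfsgLib.Char

open Module Cfsg
open scoped ComplexConjugate

universe u v

variable {G : Type u} [Group G]

theorem extendByZero_mem (H : Subgroup G) (θ : H → ℂ) (h : H) :
    extendByZero H θ (h : G) = θ h :=
  Subtype.val_injective.extend_apply _ _ _

theorem extendByZero_not_mem (H : Subgroup G) (θ : H → ℂ) {g : G} (hg : g ∉ H) :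
    extendByZero H θ g = 0 :=
  Function.extend_apply' _ _ _ (by rintro ⟨a, rfl⟩; exact hg a.2)

theorem extendByZero_mem' (H : Subgroup G) (θ : H → ℂ) {g : G} (hg : g ∈ H) :
    extendByZero H θ g = θ ⟨g, hg⟩ := extendByZero_mem H θ ⟨g, hg⟩

theorem sum_subgroup [Fintype G] (H : Subgroup G) [Fintype H] {M : Type*} [AddCommMonoid M]
    (F : G → M) (hF : ∀ g, g ∉ H → F g = 0) : ∑ g : G, F g = ∑ h : H, F (h : G) := by
  classical
  rw [← Finset.sum_subtype (Finset.univ.filter (· ∈ H)) (by simp) F]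
  exact (Finset.sum_subset (Finset.filter_subset _ _) fun g _ hg => hF g (by simpa using hg)).symm

variable [Fintype G]

theorem indFun_apply (H : Subgroup G) (θ : H → ℂ) (g : G) :
    indFun H θ g = (Nat.card H : ℂ)⁻¹ * ∑ x : G, extendByZero H θ (x⁻¹ * g * x) := rfl

theorem indFun_classFun (H : Subgroup G) (θ : H → ℂ) : IsClassFunction G (indFun H θ) := by
  intro g k
  simp only [indFun_apply]
  congr 1
  exact Fintype.sum_equiv (Equiv.mulLeft k⁻¹) _ _ fun x => by simp [mul_assoc]

theorem indFun_add (H : Subgroup G) (θ φ : H → ℂ) :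
    indFun H (θ + φ) = indFun H θ + indFun H φ := by
  ext g
  simp only [indFun_apply, Pi.add_apply, ← mul_add, ← Finset.sum_add_distrib]
  congr 1
  refine Finset.sum_congr rfl fun x _ => ?_
  by_cases hx : x⁻¹ * g * x ∈ H
  · simp [extendByZero_mem' _ _ hx]
  · simp [extendByZero_not_mem _ _ hx]

theorem indFun_smul (H : Subgroup G) (c : ℂ) (θ : H → ℂ) :
    indFun H (c • θ) = c • indFun H θ := by
  ext g
  simp only [indFun_apply, Pi.smul_apply, smul_eq_mul, Finset.mul_sum]
  refine Finset.sum_congr rfl fun x _ => ?_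
  by_cases hx : x⁻¹ * g * x ∈ H
  · simp only [extendByZero_mem' _ _ hx, Pi.smul_apply, smul_eq_mul]; ring
  · simp [extendByZero_not_mem _ _ hx]

theorem indFun_zero (H : Subgroup G) : indFun H (0 : H → ℂ) = 0 := by
  simpa using indFun_smul H 0 (0 : H → ℂ)

theorem indFun_neg (H : Subgroup G) (θ : H → ℂ) : indFun H (-θ) = -indFun H θ := by
  simpa using indFun_smul H (-1) θ

theorem indFun_sub (H : Subgroup G) (θ φ : H → ℂ) :
    indFun H (θ - φ) = indFun H θ - indFun H φ := by
  rw [sub_eq_add_neg, indFun_add, indFun_neg, sub_eq_add_neg]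

theorem indFun_sum (H : Subgroup G) {ι : Type*} (s : Finset ι) (θ : ι → H → ℂ) :
    indFun H (∑ i ∈ s, θ i) = ∑ i ∈ s, indFun H (θ i) := by
  classical
  induction s using Finset.induction with
  | empty => simp [indFun_zero]
  | insert a s ha ih => rw [Finset.sum_insert ha, Finset.sum_insert ha, indFun_add, ih]

theorem indFun_one (H : Subgroup G) (θ : H → ℂ) : indFun H θ 1 = (H.index : ℂ) * θ 1 := by
  have : ∀ x : G, extendByZero H θ (x⁻¹ * 1 * x) = θ 1 := fun x => by
    rw [mul_one, inv_mul_cancel, extendByZero_mem' H θ H.one_mem]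
    rfl
  rw [indFun_apply, Finset.sum_congr rfl fun x _ => this x, Finset.sum_const, Finset.card_univ,
    nsmul_eq_mul, Fintype.card_eq_nat_card, ← H.index_mul_card, Nat.cast_mul]
  have := natCard_ne_zero H
  field_simp

/-- Frobenius reciprocity -/
theorem frobenius (H : Subgroup G) [Fintype H] (θ : H → ℂ) {χ : G → ℂ}
    (hχ : IsClassFunction G χ) :
    classInner (indFun H θ) χ = classInner θ (fun h : H => χ h) := by
  have key : ∀ x : G, ∑ g : G, extendByZero H θ (x⁻¹ * g * x) * conj (χ g) =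
      ∑ h : H, θ h * conj (χ h) := by
    intro x
    rw [← Fintype.sum_equiv (MulAut.conj x).toEquiv
      (fun g => extendByZero H θ g * conj (χ g))
      (fun g => extendByZero H θ (x⁻¹ * g * x) * conj (χ g))
      (fun g => by
        show extendByZero H θ g * conj (χ g) =
          extendByZero H θ (x⁻¹ * (x * g * x⁻¹) * x) * conj (χ (x * g * x⁻¹))
        rw [hχ g x, show x⁻¹ * (x * g * x⁻¹) * x = g by group])]
    rw [sum_subgroup H _ fun g hg => by rw [extendByZero_not_mem _ _ hg, zero_mul]]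
    simp [extendByZero_mem]
  simp only [classInner_def, indFun_apply, mul_assoc, Finset.sum_mul, ← Finset.mul_sum]
  rw [Finset.sum_comm]
  simp only [← mul_assoc (_⁻¹ : G)] 
  simp only [key, Finset.sum_const, Finset.card_univ, nsmul_eq_mul, Fintype.card_eq_nat_card]
  have := natCard_ne_zero G
  field_simp

theorem frobenius' (H : Subgroup G) [Fintype H] (θ : H → ℂ) {χ : G → ℂ}
    (hχ : IsClassFunction G χ) :
    classInner χ (indFun H θ) = classInner (fun h : H => χ h) θ := by
  rw [← classInner_conj, frobenius H θ hχ, classInner_conj]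

theorem isCharacter_indFun (H : Subgroup G) {θ : H → ℂ} (hθ : IsCharacter H θ) :
    IsCharacter G (indFun H θ) := by
  haveI := Fintype.ofFinite H
  refine isCharacter_iff.mpr ⟨indFun_classFun H θ, fun χ => ?_⟩
  rw [frobenius H θ (classFun_of_irr χ.2)]
  exact inner_char_char hθ (isCharacter_restrict H (isCharacter_of_isIrr χ.2))

theorem gen_indFun (H : Subgroup G) {θ : H → ℂ} (hθ : IsGeneralizedCharacter H θ) :
    IsGeneralizedCharacter G (indFun H θ) := by
  obtain ⟨χ, ψ, hχ, hψ, rfl⟩ := hθ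
  exact ⟨_, _, isCharacter_indFun H hχ, isCharacter_indFun H hψ, indFun_sub H χ ψ⟩

/-- transitivity of induction -/
theorem indFun_trans (H K : Subgroup G) [Fintype K] (hHK : H ≤ K) (θ : H → ℂ) :
    indFun K (indFun (H.subgroupOf K) (fun x => θ ⟨(x : K), Subgroup.mem_subgroupOf.mp x.2⟩)) =
      indFun H θ := by
  ext g
  set θ' : H.subgroupOf K → ℂ := fun x => θ ⟨(x : K), Subgroup.mem_subgroupOf.mp x.2⟩
  have hcard : Nat.card (H.subgroupOf K) = Nat.card H :=
    Nat.card_congr (Subgroup.subgroupOfEquivOfLe hHK).toEquiv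
  have hext : ∀ y : G, ∀ hy : y ∈ K,
      extendByZero (H.subgroupOf K) θ' ⟨y, hy⟩ = extendByZero H θ y := by
    intro y hy
    by_cases h : y ∈ H
    · have : (⟨y, hy⟩ : K) ∈ H.subgroupOf K := Subgroup.mem_subgroupOf.mpr h
      rw [extendByZero_mem' _ _ this, extendByZero_mem' _ _ h]
    · have : (⟨y, hy⟩ : K) ∉ H.subgroupOf K := fun hh => h (Subgroup.mem_subgroupOf.mp hh)
      rw [extendByZero_not_mem _ _ this, extendByZero_not_mem _ _ h]
  have inner : ∀ x : G, extendByZero K (indFun (H.subgroupOf K) θ') (x⁻¹ * g * x) =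
      (Nat.card H : ℂ)⁻¹ * ∑ k : K, extendByZero H θ ((x * k)⁻¹ * g * (x * k)) := by
    intro x
    by_cases hx : x⁻¹ * g * x ∈ K
    · rw [extendByZero_mem' _ _ hx, indFun_apply, hcard]
      congr 1
      refine Finset.sum_congr rfl fun k _ => ?_
      have hm : (k : G)⁻¹ * (x⁻¹ * g * x) * k ∈ K := K.mul_mem (K.mul_mem (K.inv_mem k.2) hx) k.2
      have := hext _ hm
      rw [show (x * (k : G))⁻¹ * g * (x * k) = (k : G)⁻¹ * (x⁻¹ * g * x) * k by group, ← this]
      rfl
    · rw [extendByZero_not_mem _ _ hx]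
      symm
      rw [mul_eq_zero]
      right
      refine Finset.sum_eq_zero fun k _ => extendByZero_not_mem _ _ fun hh => hx ?_
      have := K.mul_mem (K.mul_mem k.2 (hHK hh)) (K.inv_mem k.2)
      rwa [show (k : G) * ((x * k)⁻¹ * g * (x * k)) * (k : G)⁻¹ = x⁻¹ * g * x by group] at this
  rw [indFun_apply, indFun_apply]
  simp only [inner, ← Finset.mul_sum]
  rw [Finset.sum_comm]
  have : ∀ k : K, ∑ x : G, extendByZero H θ ((x * (k : G))⁻¹ * g * (x * k)) =
      ∑ x : G, extendByZero H θ (x⁻¹ * g * x) := fun k =>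
    Fintype.sum_equiv (Equiv.mulRight (k : G)) _ _ fun x => rfl
  simp only [this, Finset.sum_const, Finset.card_univ, nsmul_eq_mul, Fintype.card_eq_nat_card]
  have := natCard_ne_zero K
  field_simp

theorem indFun_congr {H K : Subgroup G} (h : H = K) {θ : H → ℂ} {φ : K → ℂ}
    (hθφ : ∀ (g : G) (hH : g ∈ H) (hK : g ∈ K), θ ⟨g, hH⟩ = φ ⟨g, hK⟩) :
    indFun H θ = indFun K φ := by
  subst h
  have : θ = φ := funext fun x => hθφ x.1 x.2 x.2
  rw [this]

/-- inducing through a subgroup -/
theorem indFun_indFun (T : Subgroup G) [Fintype T] (H : Subgroup T) (θ : H → ℂ) :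
    indFun T (indFun H θ) = indFun (H.map T.subtype)
      (θ ∘ (Subgroup.equivMapOfInjective H T.subtype T.subtype_injective).symm) := by
  rw [← indFun_trans (H.map T.subtype) T (Subgroup.map_subtype_le H)]
  congr 1
  refine indFun_congr (Subgroup.comap_map_eq_self_of_injective T.subtype_injective H).symm
    fun g hH hK => ?_
  simp only [Function.comp_apply]
  congr 1
  rw [eq_comm, MulEquiv.symm_apply_eq]
  exact Subtype.ext rfl

section comp

variable {H : Type v} [Group H] [Fintype H]

theorem classInner_comp (f : H →* G) (hf : Function.Surjective f) (φ ψ : G → ℂ) :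
    classInner (φ ∘ f) (ψ ∘ f) = classInner φ ψ := by
  classical
  have hfib : ∀ y : G, (Finset.univ.filter fun x : H => f x = y).card = Nat.card f.ker := by
    intro y
    obtain ⟨x₀, rfl⟩ := hf y
    rw [← Fintype.card_subtype, Fintype.card_eq_nat_card]
    refine Nat.card_congr ⟨fun x => ⟨x₀⁻¹ * x.1, by rw [MonoidHom.mem_ker, map_mul, map_inv, x.2,
      inv_mul_cancel]⟩, fun k => ⟨x₀ * k.1, by rw [map_mul, MonoidHom.mem_ker.mp k.2, mul_one]⟩,
      fun x => Subtype.ext (by simp), fun k => Subtype.ext (by simp)⟩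
  have hsum : ∑ x : H, (φ (f x) * conj (ψ (f x))) =
      (Nat.card f.ker : ℂ) * ∑ y : G, φ y * conj (ψ y) := by
    rw [← Finset.sum_fiberwise Finset.univ f, Finset.mul_sum]
    refine Finset.sum_congr rfl fun y _ => ?_
    rw [Finset.sum_congr rfl fun x hx => by rw [(Finset.mem_filter.mp hx).2], Finset.sum_const,
      hfib, nsmul_eq_mul]
  have hcard : (Nat.card H : ℂ) = Nat.card f.ker * Nat.card G := by
    rw [← f.ker.card_mul_index, Subgroup.index_ker, MonoidHom.range_eq_top.mpr hf,
      Subgroup.card_top, Nat.cast_mul]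
  simp only [classInner_def, Function.comp_apply]
  rw [hsum, hcard]
  have h1 := natCard_ne_zero f.ker
  field_simp

theorem irr_comp (f : H →* G) (hf : Function.Surjective f) {χ : G → ℂ}
    (h : IsIrrCharacter G χ) : IsIrrCharacter H (χ ∘ f) :=
  isIrr_of_char_norm (isCharacter_comp f (isCharacter_of_isIrr h))
    (by rw [classInner_comp f hf]; exact irr_inner_self h)

omit [Fintype G] in
theorem char_descend [Finite G] (f : H →* G) (hf : Function.Surjective f) {χ : H → ℂ}
    (h : IsCharacter H χ) (hker : ∀ k, f k = 1 → χ k = χ 1) :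
    ∃ χ' : G → ℂ, IsCharacter G χ' ∧ χ' ∘ f = χ := by
  obtain ⟨n, ρ, rfl⟩ := h
  have hρ : ∀ a b, f a = f b → ρ a = ρ b := fun a b hab => by
    have h1 : ρ (a⁻¹ * b) = 1 := rep_eq_id_of_char ρ _ (by
      rw [hker _ (by rw [map_mul, map_inv, hab, inv_mul_cancel])]; simp)
    have := congrArg (ρ a * ·) h1
    simpa [← map_mul] using this.symm
  choose s hs using hf
  let σ : Representation ℂ G (Fin n → ℂ) :=
    { toFun := fun y => ρ (s y)
      map_one' := by rw [hρ (s 1) 1 (by rw [hs, map_one]), map_one]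
      map_mul' := fun a b => by rw [← map_mul]; exact hρ _ _ (by rw [hs, map_mul, hs, hs]) }
  refine ⟨σ.character, ⟨n, σ, rfl⟩, ?_⟩
  ext x
  show LinearMap.trace ℂ _ (ρ (s (f x))) = LinearMap.trace ℂ _ (ρ x)
  rw [hρ _ _ (hs (f x))]

theorem irr_descend (f : H →* G) (hf : Function.Surjective f) {χ : H → ℂ}
    (h : IsIrrCharacter H χ) (hker : ∀ k, f k = 1 → χ k = χ 1) :
    ∃ χ' : G → ℂ, IsIrrCharacter G χ' ∧ χ' ∘ f = χ := by
  obtain ⟨χ', h1, h2⟩ := char_descend f hf (isCharacter_of_isIrr h) hker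
  refine ⟨χ', isIrr_of_char_norm h1 ?_, h2⟩
  rw [← classInner_comp f hf, h2]
  exact irr_inner_self h

theorem classInner_mulEquiv (e : H ≃* G) (φ ψ : G → ℂ) :
    classInner (φ ∘ e) (ψ ∘ e) = classInner φ ψ :=
  classInner_comp e.toMonoidHom e.surjective φ ψ

theorem irr_mulEquiv (e : H ≃* G) {χ : G → ℂ} (h : IsIrrCharacter G χ) :
    IsIrrCharacter H (χ ∘ e) :=
  irr_comp e.toMonoidHom e.surjective h

end comp

end CfsgLib.Char
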