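import Cfsg.Agent.Char.Rep

/-! Irreducible characters: orthogonality, completeness, basic closure properties. -/

set_option linter.unusedSectionVars false
set_option linter.style.haveILetI false

namespace CfsgLib.Char

open Module Cfsg
open scoped ComplexConjugate

universe u v w

section inner

variable {G : Type u} [Group G] [Fintype G]

theorem classInner_def (φ ψ : G → ℂ) :
    classInner φ ψ = (Nat.card G : ℂ)⁻¹ * ∑ g : G, φ g * conj (ψ g) := rfl

theorem classInner_add_left (φ φ' ψ : G → ℂ) :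
    classInner (φ + φ') ψ = classInner φ ψ + classInner φ' ψ := by
  simp [classInner_def, add_mul, Finset.sum_add_distrib, mul_add]

theorem classInner_add_right (φ ψ ψ' : G → ℂ) :
    classInner φ (ψ + ψ') = classInner φ ψ + classInner φ ψ' := by
  simp [classInner_def, mul_add, Finset.sum_add_distrib]

theorem classInner_smul_left (c : ℂ) (φ ψ : G → ℂ) :
    classInner (c • φ) ψ = c * classInner φ ψ := by
  simp only [classInner_def, Pi.smul_apply, smul_eq_mul, Finset.mul_sum]
  exact Finset.sum_congr rfl fun g _ => by ring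

theorem classInner_smul_right (c : ℂ) (φ ψ : G → ℂ) :
    classInner φ (c • ψ) = conj c * classInner φ ψ := by
  simp only [classInner_def, Pi.smul_apply, smul_eq_mul, map_mul, Finset.mul_sum]
  exact Finset.sum_congr rfl fun g _ => by ring

theorem classInner_zero_left (ψ : G → ℂ) : classInner 0 ψ = 0 := by simp [classInner_def]

theorem classInner_zero_right (ψ : G → ℂ) : classInner ψ 0 = 0 := by simp [classInner_def]

theorem classInner_neg_left (φ ψ : G → ℂ) : classInner (-φ) ψ = -classInner φ ψ := by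
  simp [classInner_def]

theorem classInner_neg_right (φ ψ : G → ℂ) : classInner φ (-ψ) = -classInner φ ψ := by
  simp [classInner_def]

theorem classInner_sub_left (φ φ' ψ : G → ℂ) :
    classInner (φ - φ') ψ = classInner φ ψ - classInner φ' ψ := by
  rw [sub_eq_add_neg, classInner_add_left, classInner_neg_left, sub_eq_add_neg]

theorem classInner_sub_right (φ ψ ψ' : G → ℂ) :
    classInner φ (ψ - ψ') = classInner φ ψ - classInner φ ψ' := by
  rw [sub_eq_add_neg, classInner_add_right, classInner_neg_right, sub_eq_add_neg]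

theorem classInner_sum_left {ι : Type*} (s : Finset ι) (φ : ι → G → ℂ) (ψ : G → ℂ) :
    classInner (∑ i ∈ s, φ i) ψ = ∑ i ∈ s, classInner (φ i) ψ := by
  classical
  induction s using Finset.induction with
  | empty => simp [classInner_zero_left]
  | insert a s ha ih => rw [Finset.sum_insert ha, Finset.sum_insert ha, classInner_add_left, ih]

theorem classInner_sum_right {ι : Type*} (s : Finset ι) (φ : ι → G → ℂ) (ψ : G → ℂ) :
    classInner ψ (∑ i ∈ s, φ i) = ∑ i ∈ s, classInner ψ (φ i) := by
  classical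
  induction s using Finset.induction with
  | empty => simp [classInner_zero_right]
  | insert a s ha ih => rw [Finset.sum_insert ha, Finset.sum_insert ha, classInner_add_right, ih]

theorem classInner_conj (φ ψ : G → ℂ) : conj (classInner φ ψ) = classInner ψ φ := by
  simp only [classInner_def, map_mul, map_inv₀, map_natCast, map_sum, Complex.conj_conj]
  congr 1
  exact Finset.sum_congr rfl fun g _ => mul_comm _ _

theorem classInner_congr_inst (inst1 inst2 : Fintype G) (φ ψ : G → ℂ) :
    @classInner G _ inst1 φ ψ = @classInner G _ inst2 φ ψ := by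
  rw [Subsingleton.elim inst1 inst2]

theorem classInner_one_one : classInner (fun _ : G => (1 : ℂ)) (fun _ => 1) = 1 := by
  simp [classInner_def, ← Fintype.card_eq_nat_card]

theorem classInner_self_re (φ : G → ℂ) :
    (classInner φ φ).re = (Nat.card G : ℝ)⁻¹ * ∑ g : G, ‖φ g‖ ^ 2 := by
  have : classInner φ φ = (((Nat.card G : ℝ)⁻¹ * ∑ g : G, ‖φ g‖ ^ 2 : ℝ) : ℂ) := by
    simp [classInner_def, Complex.mul_conj']
  rw [this, Complex.ofReal_re]

theorem classInner_self_eq_zero {φ : G → ℂ} (h : classInner φ φ = 0) : φ = 0 := by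
  have h2 := classInner_self_re φ
  rw [h, Complex.zero_re] at h2
  have h3 : ∑ g : G, ‖φ g‖ ^ 2 = 0 := by
    rcases mul_eq_zero.mp h2.symm with h4 | h4
    · exact absurd (inv_eq_zero.mp h4) (by exact_mod_cast Nat.card_pos.ne')
    · exact h4
  ext g
  have := (Finset.sum_eq_zero_iff_of_nonneg fun g _ => sq_nonneg ‖φ g‖).mp h3 g (Finset.mem_univ g)
  simpa using this

end inner

section basic

variable {G : Type u} [Group G]

theorem isCharacter_of_isIrr {χ : G → ℂ} (h : IsIrrCharacter G χ) : IsCharacter G χ := by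
  obtain ⟨n, ρ, _, h⟩ := h; exact ⟨n, ρ, h⟩

theorem classFun_of_char {χ : G → ℂ} (h : IsCharacter G χ) : IsClassFunction G χ := by
  obtain ⟨n, ρ, rfl⟩ := h
  exact fun g k => ρ.char_conj g k

theorem classFun_of_irr {χ : G → ℂ} (h : IsIrrCharacter G χ) : IsClassFunction G χ :=
  classFun_of_char (isCharacter_of_isIrr h)

theorem classFun_mul_comm {θ : G → ℂ} (h : IsClassFunction G θ) (a b : G) :
    θ (a * b) = θ (b * a) := by
  have := h (a * b) b
  rw [show b * (a * b) * b⁻¹ = b * a by group] at this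
  exact this.symm

theorem classFun_isConj {θ : G → ℂ} (h : IsClassFunction G θ) {a b : G} (hab : IsConj a b) :
    θ a = θ b := by
  obtain ⟨c, hc⟩ := isConj_iff.mp hab
  rw [← hc, h]

theorem classFun_of_gen {θ : G → ℂ} (h : IsGeneralizedCharacter G θ) : IsClassFunction G θ := by
  obtain ⟨χ, ψ, hχ, hψ, rfl⟩ := h
  intro g k
  simp [classFun_of_char hχ g k, classFun_of_char hψ g k]

theorem isCharacter_zero : IsCharacter G (0 : G → ℂ) :=
  ⟨0, 1, by ext g; simp [Representation.character]⟩

variable [Finite G]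

theorem isCharacter_add {χ ψ : G → ℂ} (h : IsCharacter G χ) (h' : IsCharacter G ψ) :
    IsCharacter G (χ + ψ) := by
  obtain ⟨n, ρ, rfl⟩ := h
  obtain ⟨m, σ, rfl⟩ := h'
  rw [← char_add_prod]
  exact isCharacter_of_rep _

theorem isCharacter_mul {χ ψ : G → ℂ} (h : IsCharacter G χ) (h' : IsCharacter G ψ) :
    IsCharacter G (χ * ψ) := by
  obtain ⟨n, ρ, rfl⟩ := h
  obtain ⟨m, σ, rfl⟩ := h'
  rw [← Representation.char_tensor]
  exact isCharacter_of_rep _

theorem char_conj_eq {χ : G → ℂ} (h : IsCharacter G χ) (g : G) : χ g⁻¹ = conj (χ g) := by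
  obtain ⟨n, ρ, rfl⟩ := h
  exact char_inv ρ g

theorem gen_conj_eq {θ : G → ℂ} (h : IsGeneralizedCharacter G θ) (g : G) :
    θ g⁻¹ = conj (θ g) := by
  obtain ⟨χ, ψ, hχ, hψ, rfl⟩ := h
  simp [char_conj_eq hχ g, char_conj_eq hψ g]

theorem isCharacter_conj {χ : G → ℂ} (h : IsCharacter G χ) :
    IsCharacter G (fun g => conj (χ g)) := by
  obtain ⟨n, ρ, rfl⟩ := h
  have : (fun g => conj (ρ.character g)) = ρ.dual.character := by
    ext g; rw [Representation.char_dual, char_inv]
  rw [this]
  exact isCharacter_of_rep _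

theorem isIrr_one : IsIrrCharacter G (fun _ => (1 : ℂ)) := by
  have h : (Representation.trivial ℂ G ℂ).IsIrreducible := by
    haveI : Nontrivial (Subrepresentation (Representation.trivial ℂ G ℂ)) :=
      ⟨⊥, ⊤, fun hh => bot_ne_top (α := Submodule ℂ ℂ) (congrArg Subrepresentation.toSubmodule hh)⟩
    refine { eq_bot_or_eq_top := fun W => ?_ }
    rcases eq_bot_or_eq_top W.toSubmodule with e | e
    · exact Or.inl (Subrepresentation.toSubmodule_injective e)
    · exact Or.inr (Subrepresentation.toSubmodule_injective e)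
  have h2 := isIrr_of_rep _ h
  have : (Representation.trivial ℂ G ℂ).character = fun _ => (1 : ℂ) := by
    ext g
    simp [Representation.character, Representation.trivial]
  rwa [this] at h2

theorem isCharacter_one : IsCharacter G (fun _ => (1 : ℂ)) := isCharacter_of_isIrr isIrr_one

theorem isCharacter_natMul (n : ℕ) {χ : G → ℂ} (h : IsCharacter G χ) :
    IsCharacter G ((n : ℂ) • χ) := by
  induction n with
  | zero => simpa using isCharacter_zero
  | succ n ih => rw [Nat.cast_succ, add_smul, one_smul]; exact isCharacter_add ih h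

theorem isCharacter_sum {ι : Type*} (s : Finset ι) (f : ι → G → ℂ)
    (h : ∀ i ∈ s, IsCharacter G (f i)) : IsCharacter G (∑ i ∈ s, f i) := by
  classical
  induction s using Finset.induction with
  | empty => simpa using isCharacter_zero
  | insert a s ha ih =>
    rw [Finset.sum_insert ha]
    exact isCharacter_add (h a (Finset.mem_insert_self a s))
      (ih fun i hi => h i (Finset.mem_insert_of_mem hi))

omit [Finite G] in
theorem isCharacter_comp {H : Type v} [Group H] (f : H →* G) {χ : G → ℂ} (h : IsCharacter G χ) :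
    IsCharacter H (χ ∘ f) := by
  obtain ⟨n, ρ, rfl⟩ := h
  exact ⟨n, ρ.comp f, rfl⟩

theorem isCharacter_restrict (H : Subgroup G) {χ : G → ℂ} (h : IsCharacter G χ) :
    IsCharacter H (fun x : H => χ x) :=
  isCharacter_comp H.subtype h

theorem charDegree_aux {χ : G → ℂ} (h : IsCharacter G χ) : ∃ n : ℕ, χ 1 = n := by
  obtain ⟨n, ρ, rfl⟩ := h
  exact ⟨n, by simp⟩

theorem irr_deg {χ : G → ℂ} (h : IsIrrCharacter G χ) : ∃ n : ℕ, 0 < n ∧ χ 1 = n := by
  obtain ⟨n, ρ, hirr, rfl⟩ := h
  haveI := hirr
  have := finrank_pos_of_irreducible ρ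
  exact ⟨n, by simpa using this, by simp⟩

theorem irr_one_ne_zero {χ : G → ℂ} (h : IsIrrCharacter G χ) : χ 1 ≠ 0 := by
  obtain ⟨n, hn, h1⟩ := irr_deg h
  rw [h1]; exact_mod_cast hn.ne'

theorem irr_ne_zero {χ : G → ℂ} (h : IsIrrCharacter G χ) : χ ≠ 0 :=
  fun e => irr_one_ne_zero h (by rw [e]; rfl)

end basic

section orth

variable {G : Type u} [Group G] [Fintype G]

theorem inner_eq_finrank {V : Type v} [AddCommGroup V] [Module ℂ V] [FiniteDimensional ℂ V]
    {W : Type w} [AddCommGroup W] [Module ℂ W] [FiniteDimensional ℂ W]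
    (ρ : Representation ℂ G V) (σ : Representation ℂ G W) :
    classInner σ.character ρ.character = (finrank ℂ (ρ.IntertwiningMap σ) : ℂ) := by
  obtain ⟨inv⟩ := invertibleCard G
  rw [← Representation.card_inv_mul_sum_char_mul_char_eq_finrank ρ σ, classInner_def]
  congr 1
  exact Finset.sum_congr rfl fun g _ => by rw [char_inv]

theorem irr_inner_self {χ : G → ℂ} (h : IsIrrCharacter G χ) : classInner χ χ = 1 := by
  obtain ⟨n, ρ, hirr, rfl⟩ := h
  haveI := hirr
  rw [inner_eq_finrank, Representation.IsIrreducible.finrank_intertwiningMap_self, Nat.cast_one]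

theorem irr_inner_ne {χ ψ : G → ℂ} (h : IsIrrCharacter G χ) (h' : IsIrrCharacter G ψ)
    (hne : χ ≠ ψ) : classInner χ ψ = 0 := by
  obtain ⟨n, ρ, hρ, rfl⟩ := h
  obtain ⟨m, σ, hσ, rfl⟩ := h'
  haveI := hρ
  haveI := hσ
  haveI : IsEmpty (σ.Equiv ρ) := ⟨fun e => hne (Representation.char_iso e).symm⟩
  rw [inner_eq_finrank, finrank_zero_of_subsingleton, Nat.cast_zero]

open Classical in
theorem irr_inner {χ ψ : G → ℂ} (h : IsIrrCharacter G χ) (h' : IsIrrCharacter G ψ) :
    classInner χ ψ = if χ = ψ then 1 else 0 := by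
  split_ifs with he
  · subst he; exact irr_inner_self h
  · exact irr_inner_ne h h' he

open Classical in
theorem irrChar_inner (χ ψ : IrrCharacter G) :
    classInner (χ : G → ℂ) (ψ : G → ℂ) = if χ = ψ then 1 else 0 := by
  rw [irr_inner χ.2 ψ.2]
  simp [Subtype.val_inj]

theorem linearIndependent_irr : LinearIndependent ℂ (fun χ : IrrCharacter G => (χ : G → ℂ)) := by
  classical
  rw [linearIndependent_iff']
  intro s c hc i hi
  have := congrArg (fun f => classInner f (i : G → ℂ)) hc
  simpa [classInner_sum_left, classInner_smul_left, irrChar_inner, classInner_zero_left, hi]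
    using this

end orth

instance finite_irrCharacter {G : Type u} [Group G] [Finite G] : Finite (IrrCharacter G) := by
  haveI := Fintype.ofFinite G
  exact (linearIndependent_irr (G := G)).finite

noncomputable scoped instance fintypeIrrCharacter {G : Type u} [Group G] [Finite G] :
    Fintype (IrrCharacter G) :=
  Fintype.ofFinite _

theorem finsum_irr {G : Type u} [Group G] [Finite G] {M : Type*} [AddCommMonoid M]
    (F : IrrCharacter G → M) : ∑ᶠ χ : IrrCharacter G, F χ = ∑ χ : IrrCharacter G, F χ :=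
  finsum_eq_sum_of_fintype F

section decomp

variable {G : Type u} [Group G] [Finite G]

theorem exists_list_irr {χ : G → ℂ} (h : IsCharacter G χ) :
    ∃ l : List (IrrCharacter G), χ = (l.map Subtype.val).sum := by
  obtain ⟨n, ρ, rfl⟩ := h
  induction n using Nat.strong_induction_on with
  | _ n ih =>
    rcases Nat.eq_zero_or_pos n with rfl | hn
    · exact ⟨[], by ext g; simp [Representation.character, Subsingleton.elim (ρ g) 0]⟩
    by_cases hirr : ρ.IsIrreducible
    · exact ⟨[⟨ρ.character, n, ρ, hirr, rfl⟩], by simp⟩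
    obtain ⟨W, W', hc, h1, h2⟩ := exists_split_of_not_irreducible ρ (by simpa using hn) hirr
    obtain ⟨l, hl⟩ := ih _ (by simpa using h1) (finRep W.toRepresentation)
    obtain ⟨l', hl'⟩ := ih _ (by simpa using h2) (finRep W'.toRepresentation)
    refine ⟨l ++ l', ?_⟩
    rw [List.map_append, List.sum_append, ← hl, ← hl', finRep_char, finRep_char]
    exact funext fun g => char_of_isCompl hc g

theorem schur_scalar {V : Type v} [AddCommGroup V] [Module ℂ V] [FiniteDimensional ℂ V]
    (ρ : Representation ℂ G V) [ρ.IsIrreducible] (f : V →ₗ[ℂ] V)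
    (hf : ∀ g v, f (ρ g v) = ρ g (f v)) : ∃ c : ℂ, f = c • LinearMap.id := by
  haveI : Nontrivial V := Module.finrank_pos_iff.mp (finrank_pos_of_irreducible ρ)
  obtain ⟨c, hc⟩ := Module.End.exists_eigenvalue f
  let W : Subrepresentation ρ :=
    ⟨Module.End.eigenspace f c, fun g v hv => by
      rw [Module.End.mem_eigenspace_iff] at hv ⊢
      rw [hf, hv, map_smul]⟩
  have hne : W ≠ ⊥ := fun e => hc (congrArg Subrepresentation.toSubmodule e)
  have htop : W = ⊤ := (IsSimpleOrder.eq_bot_or_eq_top W).resolve_left hne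
  refine ⟨c, LinearMap.ext fun v => ?_⟩
  have hv : v ∈ W.toSubmodule := by rw [htop]; exact Submodule.mem_top
  simpa using Module.End.mem_eigenspace_iff.mp hv

end decomp

section complete

variable {G : Type u} [Group G] [Fintype G]

theorem twisted_sum_eq_zero {f : G → ℂ} (hf : IsClassFunction G f)
    (horth : ∀ χ : IrrCharacter G, classInner (χ : G → ℂ) f = 0) {V : Type v} [AddCommGroup V]
    [Module ℂ V] [FiniteDimensional ℂ V] (ρ : Representation ℂ G V) :
    ∑ g : G, conj (f g) • ρ g = 0 := by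
  induction hn : finrank ℂ V using Nat.strong_induction_on generalizing V with
  | _ n ih =>
    rcases Nat.eq_zero_or_pos n with rfl | hpos
    · haveI : Subsingleton V := Module.finrank_zero_iff.mp hn
      exact Subsingleton.elim _ _
    by_cases hirr : ρ.IsIrreducible
    · haveI := hirr
      obtain ⟨c, hc⟩ := schur_scalar ρ (∑ g : G, conj (f g) • ρ g) (fun k v => by
        simp only [LinearMap.sum_apply, LinearMap.smul_apply, map_sum, map_smul]
        refine Fintype.sum_equiv (MulAut.conj k⁻¹).toEquiv _ _ fun g => ?_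
        show conj (f g) • ρ g (ρ k v) = conj (f (k⁻¹ * g * k⁻¹⁻¹)) • ρ k (ρ (k⁻¹ * g * k⁻¹⁻¹) v)
        rw [hf g k⁻¹, ← Module.End.mul_apply, ← map_mul, ← Module.End.mul_apply, ← map_mul]
        simp [mul_assoc])
      have htr : LinearMap.trace ℂ V (∑ g : G, conj (f g) • ρ g) = 0 := by
        have h0 := horth ⟨ρ.character, isIrr_of_rep ρ hirr⟩
        rw [classInner_def, mul_eq_zero] at h0
        have h1 := h0.resolve_left (inv_ne_zero (natCard_ne_zero G))
        rw [← h1]
        simp [Representation.character, mul_comm]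
      rw [hc, map_smul, LinearMap.trace_id, smul_eq_zero] at htr
      rcases htr with h0 | h0
      · rw [hc, h0, zero_smul]
      · exact absurd h0 (by exact_mod_cast (hn ▸ hpos).ne')
    obtain ⟨W, W', hc, h1, h2⟩ := exists_split_of_not_irreducible ρ (hn ▸ hpos) hirr
    have key : ∀ U : Subrepresentation ρ, finrank ℂ U.toSubmodule < n →
        U.toSubmodule ≤ LinearMap.ker (∑ g : G, conj (f g) • ρ g) := by
      intro U hU v hv
      have h0 := congrArg Subtype.val
        (LinearMap.congr_fun (ih _ hU U.toRepresentation rfl) ⟨v, hv⟩)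
      simpa [Subrepresentation.toRepresentation] using h0
    refine LinearMap.ker_eq_top.mp (top_le_iff.mp ?_)
    rw [← codisjoint_iff.mp (isCompl_toSubmodule hc).2]
    exact sup_le (key W (hn ▸ h1)) (key W' (hn ▸ h2))

theorem eq_zero_of_orth {f : G → ℂ} (hf : IsClassFunction G f)
    (horth : ∀ χ : IrrCharacter G, classInner f (χ : G → ℂ) = 0) : f = 0 := by
  classical
  let perm : Representation ℂ G (G → ℂ) :=
    { toFun := fun g => LinearMap.funLeft ℂ ℂ (fun x => g⁻¹ * x)
      map_one' := by ext v x; simp [LinearMap.funLeft]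
      map_mul' := fun a b => by ext v x; simp [LinearMap.funLeft, mul_assoc] }
  have h := twisted_sum_eq_zero hf (fun χ => by rw [← classInner_conj, horth, map_zero]) perm
  ext k
  have h2 := congrFun (LinearMap.congr_fun h (Pi.single 1 1)) k
  simp only [LinearMap.sum_apply, LinearMap.smul_apply, Finset.sum_apply, Pi.smul_apply,
    smul_eq_mul, LinearMap.zero_apply, Pi.zero_apply] at h2
  rw [Finset.sum_eq_single k (fun g _ hg => by
      simp [perm, LinearMap.funLeft, inv_mul_eq_one, hg]) (by simp)] at h2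
  simpa [perm, LinearMap.funLeft] using h2

theorem classFun_eq_sum {f : G → ℂ} (hf : IsClassFunction G f) :
    f = ∑ χ : IrrCharacter G, classInner f (χ : G → ℂ) • (χ : G → ℂ) := by
  classical
  refine sub_eq_zero.mp (eq_zero_of_orth (fun g k => ?_) fun ψ => ?_)
  · simp [hf g k, fun χ : IrrCharacter G => classFun_of_irr χ.2 g k]
  · simp [classInner_sub_left, classInner_sum_left, classInner_smul_left, irrChar_inner]

theorem classFun_ext {f f' : G → ℂ} (hf : IsClassFunction G f) (hf' : IsClassFunction G f')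
    (h : ∀ χ : IrrCharacter G, classInner f (χ : G → ℂ) = classInner f' (χ : G → ℂ)) : f = f' :=
  sub_eq_zero.mp <| eq_zero_of_orth (fun g k => by simp [hf g k, hf' g k])
    fun χ => by rw [classInner_sub_left, h χ, sub_self]

theorem inner_char_char {φ ψ : G → ℂ} (hφ : IsCharacter G φ) (hψ : IsCharacter G ψ) :
    ∃ n : ℕ, classInner φ ψ = n := by
  obtain ⟨n, ρ, rfl⟩ := hφ
  obtain ⟨m, σ, rfl⟩ := hψ
  exact ⟨_, inner_eq_finrank σ ρ⟩

theorem inner_char_irr {φ ψ : G → ℂ} (hφ : IsCharacter G φ) (hψ : IsIrrCharacter G ψ) :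
    ∃ n : ℕ, classInner φ ψ = n :=
  inner_char_char hφ (isCharacter_of_isIrr hψ)

theorem isCharacter_iff {f : G → ℂ} :
    IsCharacter G f ↔ IsClassFunction G f ∧
      ∀ χ : IrrCharacter G, ∃ n : ℕ, classInner f (χ : G → ℂ) = n := by
  refine ⟨fun h => ⟨classFun_of_char h, fun χ => inner_char_irr h χ.2⟩, fun ⟨hc, hn⟩ => ?_⟩
  rw [classFun_eq_sum hc]
  refine isCharacter_sum _ _ fun χ _ => ?_
  obtain ⟨n, h⟩ := hn χ
  rw [h]
  exact isCharacter_natMul n (isCharacter_of_isIrr χ.2)

theorem isGeneralized_iff {f : G → ℂ} :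
    IsGeneralizedCharacter G f ↔ IsClassFunction G f ∧
      ∀ χ : IrrCharacter G, ∃ n : ℤ, classInner f (χ : G → ℂ) = n := by
  constructor
  · intro h
    refine ⟨classFun_of_gen h, fun χ => ?_⟩
    obtain ⟨φ, ψ, hφ, hψ, rfl⟩ := h
    obtain ⟨a, ha⟩ := inner_char_irr hφ χ.2
    obtain ⟨b, hb⟩ := inner_char_irr hψ χ.2
    exact ⟨a - b, by rw [classInner_sub_left, ha, hb]; push_cast; ring⟩
  · rintro ⟨hc, hn⟩
    choose n hn using hn
    refine ⟨∑ χ : IrrCharacter G, ((n χ).toNat : ℂ) • (χ : G → ℂ),
      ∑ χ : IrrCharacter G, ((-n χ).toNat : ℂ) • (χ : G → ℂ),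
      isCharacter_sum _ _ fun χ _ => isCharacter_natMul _ (isCharacter_of_isIrr χ.2),
      isCharacter_sum _ _ fun χ _ => isCharacter_natMul _ (isCharacter_of_isIrr χ.2), ?_⟩
    conv_lhs => rw [classFun_eq_sum hc]
    rw [← Finset.sum_sub_distrib]
    refine Finset.sum_congr rfl fun χ _ => ?_
    rw [← sub_smul, hn]
    congr 1
    have : (n χ : ℂ) = (((n χ).toNat : ℤ) - ((-n χ).toNat : ℤ) : ℤ) := by
      rw [Int.toNat_sub_toNat_neg]
    rw [this]; push_cast; ring

theorem isIrr_of_char_norm {f : G → ℂ} (hf : IsCharacter G f) (h1 : classInner f f = 1) :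
    IsIrrCharacter G f := by
  classical
  obtain ⟨hc, hn⟩ := isCharacter_iff.mp hf
  choose n hn using hn
  have hexp := classFun_eq_sum hc
  simp only [hn] at hexp
  have h2 : classInner f f = ((∑ χ : IrrCharacter G, n χ * n χ : ℕ) : ℂ) := by
    nth_rewrite 2 [hexp]
    simp [classInner_sum_right, classInner_smul_right, hn]
  have h3 : ∑ χ : IrrCharacter G, n χ * n χ = 1 := by exact_mod_cast h2.symm.trans h1
  obtain ⟨χ, hχ⟩ : ∃ χ, n χ ≠ 0 := by
    by_contra hc2
    push Not at hc2
    simp [hc2] at h3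
  have h4 := Finset.add_sum_erase Finset.univ (fun χ => n χ * n χ) (Finset.mem_univ χ)
  have h5 : 1 ≤ n χ * n χ := Nat.one_le_iff_ne_zero.mpr (by simp [hχ])
  have h6 : ∑ ψ ∈ Finset.univ.erase χ, n ψ * n ψ = 0 := by omega
  have h7 : n χ * n χ = 1 := by omega
  have h8 : n χ = 1 := Nat.eq_one_of_mul_eq_one_right h7
  have h9 : f = (χ : G → ℂ) := by
    rw [hexp, Finset.sum_eq_single χ _ (by simp), h8]
    · simp
    · intro ψ _ hψ
      have := (Finset.sum_eq_zero_iff.mp h6) ψ (Finset.mem_erase.mpr ⟨hψ, Finset.mem_univ _⟩)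
      have : n ψ = 0 := by simpa using this
      simp [this]
  rw [h9]; exact χ.2

theorem isIrr_or_neg_of_norm {f : G → ℂ} (hf : IsGeneralizedCharacter G f)
    (h1 : classInner f f = 1) : IsIrrCharacter G f ∨ IsIrrCharacter G (-f) := by
  classical
  obtain ⟨hc, hn⟩ := isGeneralized_iff.mp hf
  choose n hn using hn
  have hexp := classFun_eq_sum hc
  simp only [hn] at hexp
  have h2 : classInner f f = ((∑ χ : IrrCharacter G, n χ * n χ : ℤ) : ℂ) := by
    nth_rewrite 2 [hexp]
    simp [classInner_sum_right, classInner_smul_right, hn]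
  have h3 : ∑ χ : IrrCharacter G, n χ * n χ = 1 := by exact_mod_cast h2.symm.trans h1
  obtain ⟨χ, hχ⟩ : ∃ χ, n χ ≠ 0 := by
    by_contra hc2
    push Not at hc2
    simp [hc2] at h3
  have h4 := Finset.add_sum_erase Finset.univ (fun χ => n χ * n χ) (Finset.mem_univ χ)
  have h5 : 1 ≤ n χ * n χ := mul_self_pos.mpr hχ
  have h6 : 0 ≤ ∑ ψ ∈ Finset.univ.erase χ, n ψ * n ψ :=
    Finset.sum_nonneg fun _ _ => mul_self_nonneg _
  have h6' : ∑ ψ ∈ Finset.univ.erase χ, n ψ * n ψ = 0 := by linarith
  have h7 : n χ * n χ = 1 := by linarith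
  have h9 : f = ((n χ : ℂ)) • (χ : G → ℂ) := by
    rw [hexp, Finset.sum_eq_single χ _ (by simp)]
    intro ψ _ hψ
    have := (Finset.sum_eq_zero_iff_of_nonneg fun _ _ => mul_self_nonneg _).mp h6' ψ
      (Finset.mem_erase.mpr ⟨hψ, Finset.mem_univ _⟩)
    have : n ψ = 0 := by simpa using this
    simp [this]
  rcases mul_self_eq_one_iff.mp h7 with h8 | h8
  · left; rw [h9, h8]; simpa using χ.2
  · right; rw [h9, h8]; simpa using χ.2

theorem isIrr_iff_norm {f : G → ℂ} (hf : IsCharacter G f) :
    IsIrrCharacter G f ↔ classInner f f = 1 :=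
  ⟨irr_inner_self, isIrr_of_char_norm hf⟩

end complete

end CfsgLib.Char
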