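import Cfsg.Agent.Char.Induce
import Mathlib.FieldTheory.AlgebraicClosure
import Mathlib.FieldTheory.IsAlgClosed.Basic
import Mathlib.RingTheory.RootsOfUnity.Complex
import Mathlib.RingTheory.Polynomial.Cyclotomic.Roots
import Mathlib.FieldTheory.Minpoly.IsIntegrallyClosed
import Mathlib.Algebra.Polynomial.Splits

/-! Galois action on character values. -/

set_option linter.unusedSectionVars false
set_option linter.style.haveILetI false

namespace CfsgLib.Char

open Module Cfsg Polynomial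
open scoped ComplexConjugate

universe u

/-- the algebraic numbers inside ℂ -/
noncomputable abbrev QBar : IntermediateField ℚ ℂ := algebraicClosure ℚ ℂ

theorem mem_qbar_of_integral {z : ℂ} (h : IsIntegral ℤ z) : z ∈ QBar :=
  (mem_algebraicClosure_iff').mpr h.tower_top

theorem minpoly_qbar {z : ℂ} (hz : z ∈ QBar) :
    minpoly ℚ (⟨z, hz⟩ : QBar) = minpoly ℚ z :=
  (minpoly.algebraMap_eq (algebraMap QBar ℂ).injective (⟨z, hz⟩ : QBar)).symm

theorem exists_algHom_of_root {z : ℂ} (hz : z ∈ QBar) {w : ℂ}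
    (hw : aeval w (minpoly ℚ z) = 0) : ∃ φ : QBar →ₐ[ℚ] ℂ, φ ⟨z, hz⟩ = w := by
  haveI : Algebra.IsAlgebraic ℚ QBar :=
    ⟨fun x => (isAlgebraic_algebraMap_iff (algebraMap QBar ℂ).injective).mp
      (mem_algebraicClosure_iff.mp x.2)⟩
  have h := Algebra.IsAlgebraic.range_eval_eq_rootSet_minpoly (F := ℚ) (A := ℂ) (⟨z, hz⟩ : QBar)
  have hi : IsIntegral ℚ z := mem_algebraicClosure_iff'.mp hz
  have hmem : w ∈ (minpoly ℚ (⟨z, hz⟩ : QBar)).rootSet ℂ := by
    rw [minpoly_qbar, mem_rootSet_of_ne (minpoly.ne_zero hi)]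
    exact hw
  rw [← h] at hmem
  exact hmem

theorem algHom_root {z : ℂ} (hz : z ∈ QBar) (φ : QBar →ₐ[ℚ] ℂ) :
    aeval (φ ⟨z, hz⟩) (minpoly ℚ z) = 0 := by
  have : minpoly ℚ (⟨z, hz⟩ : QBar) = minpoly ℚ z := minpoly_qbar hz
  rw [← this, aeval_algHom_apply, minpoly.aeval, map_zero]

theorem rat_of_fixed {z : ℂ} (hz : z ∈ QBar) (h : ∀ φ : QBar →ₐ[ℚ] ℂ, φ ⟨z, hz⟩ = z) :
    ∃ q : ℚ, z = q := by
  classical
  have hi : IsIntegral ℚ z := mem_algebraicClosure_iff'.mp hz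
  set p := minpoly ℚ z
  have hs : (p.rootSet ℂ) ⊆ {z} := by
    intro w hw
    obtain ⟨φ, hφ⟩ := exists_algHom_of_root hz ((mem_rootSet_of_ne (minpoly.ne_zero hi)).mp hw)
    rw [h] at hφ
    exact hφ.symm
  have hcard := card_rootSet_eq_natDegree (K := ℂ) (minpoly.irreducible hi).separable
    (IsAlgClosed.splits _)
  have h1 : p.natDegree ≤ 1 := by
    rw [← hcard, ← Nat.card_eq_fintype_card, Nat.card_coe_set_eq]
    exact (Set.ncard_le_ncard hs).trans (Set.ncard_singleton z).le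
  have h2 : p.degree ≤ 1 := natDegree_le_iff_degree_le.mp h1
  obtain ⟨q, hq⟩ := minpoly.mem_range_of_degree_eq_one ℚ z
    (le_antisymm h2 (Order.succ_le_of_lt (minpoly.degree_pos hi)))
  exact ⟨q, by simpa using hq.symm⟩

theorem int_of_fixed {z : ℂ} (hz : IsIntegral ℤ z)
    (h : ∀ φ : QBar →ₐ[ℚ] ℂ, φ ⟨z, mem_qbar_of_integral hz⟩ = z) : ∃ n : ℤ, z = n := by
  obtain ⟨q, hq⟩ := rat_of_fixed _ h
  exact exists_int_of_isIntegral_rat hz q hq

/-- an algebraic integer all whose conjugates lie in the closed unit disc, itself inside the open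
disc, vanishes -/
theorem eq_zero_of_conjugates_small {α : ℂ} (hα : IsIntegral ℤ α) (hlt : ‖α‖ < 1)
    (hle : ∀ φ : QBar →ₐ[ℚ] ℂ, ‖φ ⟨α, mem_qbar_of_integral hα⟩‖ ≤ 1) : α = 0 := by
  classical
  set p := (minpoly ℤ α).map (algebraMap ℤ ℂ) with hp
  have hm : p.Monic := (minpoly.monic hα).map _
  have hsp : p.Splits := IsAlgClosed.splits p
  have hprod := hsp.coeff_zero_eq_prod_roots_of_monic hm
  have hαQ : IsIntegral ℚ α := hα.tower_top
  have hq : minpoly ℚ α = (minpoly ℤ α).map (algebraMap ℤ ℚ) :=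
    minpoly.isIntegrallyClosed_eq_field_fractions' ℚ hα
  have hroots : ∀ β ∈ p.roots, ‖β‖ ≤ 1 := by
    intro β hβ
    obtain ⟨φ, hφ⟩ := exists_algHom_of_root (mem_qbar_of_integral hα) (w := β) (by
      rw [hq, aeval_map_algebraMap]
      have := (mem_roots'.mp hβ).2
      rwa [IsRoot, hp, eval_map_algebraMap] at this)
    rw [← hφ]; exact hle φ
  have hαr : α ∈ p.roots := by
    rw [mem_roots hm.ne_zero, IsRoot, hp, eval_map_algebraMap]
    exact minpoly.aeval ℤ α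
  obtain ⟨t, ht⟩ := Multiset.exists_cons_of_mem hαr
  have hlt' : ‖p.coeff 0‖ < 1 := by
    rw [hprod, norm_mul, norm_pow, norm_neg, norm_one, one_pow, one_mul, ht, Multiset.prod_cons,
      norm_mul]
    have : ∀ s : Multiset ℂ, (∀ β ∈ s, ‖β‖ ≤ 1) → ‖s.prod‖ ≤ 1 := by
      intro s
      induction s using Multiset.induction with
      | empty => simp
      | cons a s ih =>
        intro hs
        rw [Multiset.prod_cons, norm_mul]
        exact mul_le_one₀ (hs a (Multiset.mem_cons_self a s)) (norm_nonneg _)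
          (ih fun β hβ => hs β (Multiset.mem_cons_of_mem hβ))
    have h1 := this t (fun β hβ => hroots β (ht ▸ Multiset.mem_cons_of_mem hβ))
    calc ‖α‖ * ‖t.prod‖ ≤ ‖α‖ * 1 := by gcongr
      _ < 1 := by rw [mul_one]; exact hlt
  have h0 : (minpoly ℤ α).coeff 0 = 0 := by
    rw [hp, coeff_map, eq_intCast, Complex.norm_intCast] at hlt'
    have : |(minpoly ℤ α).coeff 0| < 1 := by exact_mod_cast hlt'
    exact Int.abs_lt_one_iff.mp this
  refine (minpoly.coeff_zero_eq_zero hαQ).mp ?_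
  rw [hq, coeff_map, h0, map_zero]

/-- every field embedding acts on characters as a power map -/
theorem algHom_char_pow (G : Type u) [Group G] [Finite G] (φ : QBar →ₐ[ℚ] ℂ) :
    ∃ m : ℕ, m.Coprime (Nat.card G) ∧ ∀ χ : G → ℂ, ∀ hχ : IsCharacter G χ, ∀ g : G,
      φ ⟨χ g, mem_qbar_of_integral (char_isIntegral hχ g)⟩ = χ (g ^ m) := by
  set N := Nat.card G
  have hN : N ≠ 0 := Nat.card_pos.ne'
  set z := Complex.exp (2 * Real.pi * Complex.I / N) with hzdef
  have hz : IsPrimitiveRoot z N := Complex.isPrimitiveRoot_exp N hN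
  let z' : QBar := ⟨z, mem_qbar_of_integral (isIntegral_root hN hz.pow_eq_one)⟩
  have hz' : IsPrimitiveRoot z' N :=
    IsPrimitiveRoot.of_map_of_injective (f := QBar.val) hz QBar.val.injective
  have himg : IsPrimitiveRoot (φ z') N := hz'.map_of_injective φ.injective
  haveI : NeZero N := ⟨hN⟩
  obtain ⟨m, -, hm⟩ := hz.eq_pow_of_pow_eq_one himg.pow_eq_one
  have hcop : m.Coprime N := (hz.pow_iff_coprime (Nat.pos_of_ne_zero hN) m).mp (hm ▸ himg)
  refine ⟨m, hcop, fun χ hχ g => ?_⟩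
  obtain ⟨n, ρ, rfl⟩ := hχ
  obtain ⟨ζ, hζ, hpow, hg, -⟩ := exists_roots ρ g
  have hζN : ∀ i, ζ i ^ N = 1 := fun i => by
    obtain ⟨c, hc⟩ := orderOf_dvd_natCard g
    show ζ i ^ Nat.card G = 1
    rw [hc, pow_mul, hζ, one_pow]
  have hζφ : ∀ i, φ ⟨ζ i, mem_qbar_of_integral (isIntegral_root hN (hζN i))⟩ = ζ i ^ m := by
    intro i
    obtain ⟨j, -, hj⟩ := hz.eq_pow_of_pow_eq_one (hζN i)
    have : (⟨ζ i, mem_qbar_of_integral (isIntegral_root hN (hζN i))⟩ : QBar) = z' ^ j :=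
      Subtype.ext (by simp [z', hj])
    rw [this, map_pow, ← hm, ← hj, ← pow_mul, ← pow_mul, mul_comm]
  have hsum : (⟨ρ.character g, mem_qbar_of_integral (char_isIntegral ⟨n, ρ, rfl⟩ g)⟩ : QBar) =
      ∑ i, ⟨ζ i, mem_qbar_of_integral (isIntegral_root hN (hζN i))⟩ :=
    Subtype.ext (by simp [hg])
  rw [hsum, map_sum, hpow m]
  exact Finset.sum_congr rfl fun i _ => hζφ i

/-- power maps come from field embeddings -/
theorem exists_algHom_pow (G : Type u) [Group G] [Finite G] {m : ℕ}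
    (hm : m.Coprime (Nat.card G)) : ∃ φ : QBar →ₐ[ℚ] ℂ, ∀ χ : G → ℂ, ∀ hχ : IsCharacter G χ,
      ∀ g : G, φ ⟨χ g, mem_qbar_of_integral (char_isIntegral hχ g)⟩ = χ (g ^ m) := by
  set N := Nat.card G
  have hN : N ≠ 0 := Nat.card_pos.ne'
  set z := Complex.exp (2 * Real.pi * Complex.I / N) with hzdef
  have hz : IsPrimitiveRoot z N := Complex.isPrimitiveRoot_exp N hN
  have hzQ : z ∈ QBar := mem_qbar_of_integral (isIntegral_root hN hz.pow_eq_one)
  obtain ⟨φ, hφ⟩ := exists_algHom_of_root hzQ (w := z ^ m) (by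
    have h1 : IsPrimitiveRoot (z ^ m) N := hz.pow_of_coprime m hm
    rw [← cyclotomic_eq_minpoly_rat hz (Nat.pos_of_ne_zero hN)]
    have := h1.isRoot_cyclotomic (Nat.pos_of_ne_zero hN)
    rwa [aeval_def, eval₂_eq_eval_map, map_cyclotomic, ← IsRoot])
  refine ⟨φ, fun χ hχ g => ?_⟩
  haveI : NeZero N := ⟨hN⟩
  obtain ⟨n, ρ, rfl⟩ := hχ
  obtain ⟨ζ, hζ, hpow, hg, -⟩ := exists_roots ρ g
  have hζN : ∀ i, ζ i ^ N = 1 := fun i => by
    obtain ⟨c, hc⟩ := orderOf_dvd_natCard g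
    show ζ i ^ Nat.card G = 1
    rw [hc, pow_mul, hζ, one_pow]
  have hζφ : ∀ i, φ ⟨ζ i, mem_qbar_of_integral (isIntegral_root hN (hζN i))⟩ = ζ i ^ m := by
    intro i
    obtain ⟨j, -, hj⟩ := hz.eq_pow_of_pow_eq_one (hζN i)
    have : (⟨ζ i, mem_qbar_of_integral (isIntegral_root hN (hζN i))⟩ : QBar) = ⟨z, hzQ⟩ ^ j :=
      Subtype.ext (by simp [hj])
    rw [this, map_pow, hφ, ← hj, ← pow_mul, ← pow_mul, mul_comm]
  have hsum : (⟨ρ.character g, mem_qbar_of_integral (char_isIntegral ⟨n, ρ, rfl⟩ g)⟩ : QBar) =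
      ∑ i, ⟨ζ i, mem_qbar_of_integral (isIntegral_root hN (hζN i))⟩ :=
    Subtype.ext (by simp [hg])
  rw [hsum, map_sum, hpow m]
  exact Finset.sum_congr rfl fun i _ => hζφ i

theorem pow_coprime_bijective {G : Type u} [Group G] [Finite G] {m : ℕ}
    (hm : m.Coprime (Nat.card G)) : Function.Bijective fun g : G => g ^ m :=
  Nat.Coprime.pow_left_bijective hm.symm

end CfsgLib.Char
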