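import Cfsg.Agent.Char.Induce

/-! Clifford theory. -/

set_option linter.unusedSectionVars false
set_option linter.style.haveILetI false

namespace CfsgLib.Char

open Module Cfsg
open scoped ComplexConjugate

universe u v

section general

variable {G : Type u} [Group G] [Fintype G]

/-- removing a constituent leaves a character -/
theorem isCharacter_sub_constituent {φ χ : G → ℂ} (hφ : IsCharacter G φ) (hχ : IsIrrCharacter G χ)
    (h : classInner φ χ ≠ 0) : IsCharacter G (φ - χ) := by
  classical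
  refine isCharacter_iff.mpr ⟨fun g k => ?_, fun ψ => ?_⟩
  · simp [classFun_of_char hφ g k, classFun_of_irr hχ g k]
  obtain ⟨n, hn⟩ := inner_char_irr hφ ψ.2
  by_cases he : χ = ψ.1
  · refine ⟨n - 1, ?_⟩
    have hn0 : n ≠ 0 := by rintro rfl; exact h (by rw [he, hn, Nat.cast_zero])
    rw [classInner_sub_left, hn, irr_inner hχ ψ.2, if_pos he,
      Nat.cast_sub (Nat.one_le_iff_ne_zero.mpr hn0), Nat.cast_one]
  · exact ⟨n, by rw [classInner_sub_left, hn, irr_inner hχ ψ.2, if_neg he, sub_zero]⟩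

theorem exists_constituent {φ : G → ℂ} (hφ : IsCharacter G φ) (h0 : φ ≠ 0) :
    ∃ χ : IrrCharacter G, classInner φ (χ : G → ℂ) ≠ 0 := by
  by_contra hc
  push Not at hc
  exact h0 (eq_zero_of_orth (classFun_of_char hφ) hc)

theorem char_eq_zero_iff {φ : G → ℂ} (hφ : IsCharacter G φ) : φ 1 = 0 ↔ φ = 0 := by
  classical
  refine ⟨fun h => ?_, fun h => by rw [h]; rfl⟩
  obtain ⟨n, ρ, rfl⟩ := hφ
  have hn : n = 0 := by simpa using h
  subst hn
  ext g
  simp [Representation.character, Subsingleton.elim (ρ g) 0]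

/-- inner products can only drop when a summand is removed -/
theorem inner_zero_of_summand {φ φ' ψ : G → ℂ} (hφ : IsCharacter G φ) (hφ' : IsCharacter G φ')
    (hψ : IsCharacter G ψ) (h : classInner (φ + φ') ψ = 0) : classInner φ ψ = 0 := by
  obtain ⟨a, ha⟩ := inner_char_char hφ hψ
  obtain ⟨b, hb⟩ := inner_char_char hφ' hψ
  rw [classInner_add_left, ha, hb] at h
  have h' : a + b = 0 := by exact_mod_cast h
  rw [ha, show a = 0 by omega, Nat.cast_zero]

end general

section clifford

variable {G : Type u} [Group G] {N : Subgroup G} [hN : N.Normal]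

/-- the conjugate `n ↦ θ (g n g⁻¹)` -/
def conjN (θ : N → ℂ) (g : G) : N → ℂ :=
  fun n => θ ⟨g * n * g⁻¹, hN.conj_mem n n.2 g⟩

theorem conjN_one (θ : N → ℂ) : conjN θ 1 = θ := by
  ext n; simp [conjN]

theorem conjN_mul (θ : N → ℂ) (g h : G) : conjN (conjN θ g) h = conjN θ (g * h) := by
  ext n; simp only [conjN]; congr 1; exact Subtype.ext (by simp [mul_assoc])

theorem conjN_eq_comp (θ : N → ℂ) (g : G) :
    conjN θ g = θ ∘ ((MulAut.conjNormal g : MulAut N) : N ≃* N) := by
  ext n; simp only [conjN, Function.comp_apply]; congr 1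

theorem conjN_of_mem {θ : N → ℂ} (hθ : IsClassFunction N θ) {g : G} (hg : g ∈ N) :
    conjN θ g = θ := by
  ext n
  exact hθ n ⟨g, hg⟩

/-- the inertia group -/
def inertia (θ : N → ℂ) : Subgroup G where
  carrier := {g | conjN θ g = θ}
  one_mem' := conjN_one θ
  mul_mem' := fun {a b} (ha : conjN θ a = θ) (hb : conjN θ b = θ) => by
    show conjN θ (a * b) = θ
    rw [← conjN_mul, ha, hb]
  inv_mem' := fun {a} (ha : conjN θ a = θ) => by
    show conjN θ a⁻¹ = θ
    conv_lhs => rw [← ha]
    rw [conjN_mul, mul_inv_cancel, conjN_one]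

theorem mem_inertia {θ : N → ℂ} {g : G} : g ∈ inertia θ ↔ conjN θ g = θ := Iff.rfl

theorem mem_inertia' {θ : N → ℂ} {g : G} :
    g ∈ inertia θ ↔ ∀ n : N, θ ⟨g * n * g⁻¹, hN.conj_mem n n.2 g⟩ = θ n := funext_iff

theorem le_inertia {θ : N → ℂ} (hθ : IsClassFunction N θ) : N ≤ inertia θ :=
  fun _ hg => conjN_of_mem hθ hg

variable [Fintype G]

theorem classInner_conjN [Fintype N] (θ φ : N → ℂ) (g : G) :
    classInner (conjN θ g) (conjN φ g) = classInner θ φ := by
  rw [conjN_eq_comp, conjN_eq_comp]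
  exact classInner_mulEquiv _ θ φ

theorem irr_conjN {θ : N → ℂ} (hθ : IsIrrCharacter N θ) (g : G) :
    IsIrrCharacter N (conjN θ g) := by
  haveI := Fintype.ofFinite N
  rw [conjN_eq_comp]; exact irr_mulEquiv _ hθ

theorem conjN_restrict {χ : G → ℂ} (hχ : IsClassFunction G χ) (g : G) :
    conjN (fun n : N => χ n) g = fun n : N => χ n := by
  ext n; exact hχ n g

theorem indFun_restrict (θ : N → ℂ) :
    (fun n : N => indFun N θ n) = (Nat.card N : ℂ)⁻¹ • ∑ x : G, conjN θ x := by
  ext n
  rw [indFun_apply, Pi.smul_apply, Finset.sum_apply, smul_eq_mul]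
  congr 1
  refine Fintype.sum_equiv (Equiv.inv G) _ _ fun x => ?_
  rw [extendByZero_mem' N θ (by simpa [mul_assoc] using hN.conj_mem n n.2 x⁻¹)]
  simp only [conjN, Equiv.inv_apply, inv_inv]

theorem indFun_outside (θ : N → ℂ) {g : G} (hg : g ∉ N) : indFun N θ g = 0 := by
  rw [indFun_apply, Finset.sum_eq_zero, mul_zero]
  intro x _
  refine extendByZero_not_mem _ _ fun hx => hg ?_
  simpa [mul_assoc] using hN.conj_mem _ hx x

theorem indFun_conjN (θ : N → ℂ) (g : G) : indFun N (conjN θ g) = indFun N θ := by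
  ext y
  by_cases hy : y ∈ N
  · have h1 := congrFun (indFun_restrict (conjN θ g)) ⟨y, hy⟩
    have h2 := congrFun (indFun_restrict θ) ⟨y, hy⟩
    simp only at h1 h2
    rw [h1, h2]
    simp only [Pi.smul_apply, Finset.sum_apply, conjN_mul]
    congr 1
    exact Fintype.sum_equiv (Equiv.mulLeft g) _ _ fun x => rfl
  · rw [indFun_outside _ hy, indFun_outside _ hy]

open Classical in
theorem inner_res_ind [Fintype N] {θ φ : N → ℂ} (hθ : IsIrrCharacter N θ)
    (hφ : IsIrrCharacter N φ) :
    classInner (fun n : N => indFun N θ n) φ =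
      ((Finset.univ.filter fun x : G => conjN θ x = φ).card : ℂ) / (Nat.card N : ℂ) := by
  rw [indFun_restrict, classInner_smul_left, classInner_sum_left, inv_mul_eq_div]
  congr 1
  rw [Finset.sum_congr rfl fun x _ => irr_inner (irr_conjN hθ x) hφ, Finset.sum_boole]

open Classical in
theorem norm_indFun [Fintype N] {θ : N → ℂ} (hθ : IsIrrCharacter N θ) :
    classInner (indFun N θ) (indFun N θ) = (Nat.card (inertia θ) : ℂ) / (Nat.card N : ℂ) := by
  rw [frobenius' N θ (indFun_classFun N θ), inner_res_ind hθ hθ, Nat.card_eq_fintype_card,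
    ← Fintype.card_subtype]
  congr 2
  exact_mod_cast (Fintype.card_eq_nat_card (α := {x // conjN θ x = θ})).trans rfl

theorem exists_constituent_res [Fintype N] {χ : G → ℂ} (hχ : IsIrrCharacter G χ) :
    ∃ θ : N → ℂ, IsIrrCharacter N θ ∧ classInner (fun n : N => χ n) θ ≠ 0 := by
  obtain ⟨θ, hθ⟩ := exists_constituent (isCharacter_restrict N (isCharacter_of_isIrr hχ))
    (fun e => irr_one_ne_zero hχ (congrFun e 1))
  exact ⟨θ.1, θ.2, hθ⟩

/-- constituents of the restriction are conjugate -/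
theorem conjugate_of_constituents [Fintype N] {χ : G → ℂ} (hχ : IsIrrCharacter G χ) {θ φ : N → ℂ}
    (hθ : IsIrrCharacter N θ) (hφ : IsIrrCharacter N φ)
    (hcθ : classInner (fun n : N => χ n) θ ≠ 0) (hcφ : classInner (fun n : N => χ n) φ ≠ 0) :
    ∃ g : G, φ = conjN θ g := by
  classical
  by_contra hc
  push Not at hc
  apply hcφ
  have hind := isCharacter_indFun N (isCharacter_of_isIrr hθ)
  have h1 : classInner (indFun N θ) χ ≠ 0 := by
    rw [frobenius N θ (classFun_of_irr hχ), ← classInner_conj]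
    intro e
    exact hcθ (by simpa using congrArg conj e)
  have hrest := isCharacter_sub_constituent hind hχ h1
  have h2 : classInner (fun n : N => indFun N θ n) φ = 0 := by
    rw [inner_res_ind hθ hφ]
    have : (Finset.univ.filter fun x : G => conjN θ x = φ) = ∅ :=
      Finset.filter_eq_empty_iff.mpr fun x _ e => hc x e.symm
    simp [this]
  refine inner_zero_of_summand (isCharacter_restrict N (isCharacter_of_isIrr hχ))
    (isCharacter_restrict N hrest) (isCharacter_of_isIrr hφ) ?_
  have hsum : (fun n : N => χ n) + (fun n : N => (indFun N θ - χ) (n : G)) =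
      fun n : N => indFun N θ n := by
    ext n; simp
  rw [hsum, h2]

theorem inner_res_conjN [Fintype N] {χ : G → ℂ} (hχ : IsClassFunction G χ) (φ : N → ℂ) (g : G) :
    classInner (fun n : N => χ n) (conjN φ g) = classInner (fun n : N => χ n) φ := by
  conv_lhs => rw [← conjN_restrict hχ g]
  exact classInner_conjN _ _ g

open Classical in
/-- Clifford's theorem -/
theorem clifford [Fintype N] {χ : G → ℂ} (hχ : IsIrrCharacter G χ) {θ : N → ℂ}
    (hθ : IsIrrCharacter N θ) (hc : classInner (fun n : N => χ n) θ ≠ 0) :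
    (fun n : N => χ n) =
      classInner (fun n : N => χ n) θ • ∑ ψ ∈ Finset.univ.image (conjN θ), ψ := by
  refine classFun_ext (classFun_of_char (isCharacter_restrict N (isCharacter_of_isIrr hχ)))
    (fun a b => ?_) fun φ => ?_
  · simp only [Pi.smul_apply, Finset.sum_apply]
    congr 1
    refine Finset.sum_congr rfl fun ψ hψ => ?_
    obtain ⟨g, -, rfl⟩ := Finset.mem_image.mp hψ
    exact classFun_of_irr (irr_conjN hθ g) a b
  rw [classInner_smul_left, classInner_sum_left]
  have hterm : ∀ ψ ∈ Finset.univ.image (conjN θ), classInner ψ φ.1 = if ψ = φ.1 then 1 else 0 := by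
    intro ψ hψ
    obtain ⟨g, -, rfl⟩ := Finset.mem_image.mp hψ
    exact irr_inner (irr_conjN hθ g) φ.2
  rw [Finset.sum_congr rfl hterm, Finset.sum_ite_eq']
  split_ifs with hmem
  · obtain ⟨g, -, hg⟩ := Finset.mem_image.mp hmem
    rw [mul_one, ← hg, inner_res_conjN (classFun_of_irr hχ)]
  · rw [mul_zero]
    by_contra hne
    obtain ⟨g, hg⟩ := conjugate_of_constituents hχ hθ φ.2 hc hne
    exact hmem (Finset.mem_image.mpr ⟨g, Finset.mem_univ _, hg.symm⟩)

theorem card_orbit (θ : N → ℂ) [DecidableEq (N → ℂ)] :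
    (Finset.univ.image (conjN θ)).card = (inertia θ).index := by
  classical
  have hfib : ∀ ψ ∈ Finset.univ.image (conjN θ),
      (Finset.univ.filter fun x : G => conjN θ x = ψ).card = Nat.card (inertia θ) := by
    intro ψ hψ
    obtain ⟨g, -, rfl⟩ := Finset.mem_image.mp hψ
    rw [← Fintype.card_subtype, Fintype.card_eq_nat_card]
    refine Nat.card_congr ⟨fun x => ⟨x.1 * g⁻¹, ?_⟩, fun k => ⟨k.1 * g, ?_⟩,
      fun x => Subtype.ext (by simp), fun k => Subtype.ext (by simp)⟩
    · show conjN θ (x.1 * g⁻¹) = θ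
      rw [← conjN_mul, x.2, conjN_mul, mul_inv_cancel, conjN_one]
    · rw [← conjN_mul, mem_inertia.mp k.2]
  have h := Finset.card_eq_sum_card_image (conjN θ) (Finset.univ : Finset G)
  rw [Finset.sum_congr rfl hfib, Finset.sum_const, smul_eq_mul, Finset.card_univ,
    Fintype.card_eq_nat_card, ← (inertia θ).index_mul_card] at h
  exact (mul_right_cancel₀ Nat.card_pos.ne' h).symm

theorem degree_clifford [Fintype N] {χ : G → ℂ} (hχ : IsIrrCharacter G χ) {θ : N → ℂ}
    (hθ : IsIrrCharacter N θ) (hc : classInner (fun n : N => χ n) θ ≠ 0) :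
    χ 1 = classInner (fun n : N => χ n) θ * ((inertia θ).index : ℂ) * θ 1 := by
  classical
  have h := congrFun (clifford hχ hθ hc) 1
  simp only [OneMemClass.coe_one, Pi.smul_apply, Finset.sum_apply, smul_eq_mul] at h
  have hone : ∀ ψ ∈ Finset.univ.image (conjN θ), ψ 1 = θ 1 := by
    intro ψ hψ
    obtain ⟨g, -, rfl⟩ := Finset.mem_image.mp hψ
    simp only [conjN]
    exact congrArg θ (Subtype.ext (by simp))
  rw [Finset.sum_congr rfl hone, Finset.sum_const, nsmul_eq_mul, card_orbit] at h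
  rw [h, mul_assoc]

/-- the restriction is homogeneous when the constituent is invariant -/
theorem res_homogeneous [Fintype N] {χ : G → ℂ} (hχ : IsIrrCharacter G χ) {θ : N → ℂ}
    (hθ : IsIrrCharacter N θ) (hc : classInner (fun n : N => χ n) θ ≠ 0)
    (hinv : ∀ g : G, conjN θ g = θ) :
    (fun n : N => χ n) = classInner (fun n : N => χ n) θ • θ := by
  classical
  have h := clifford hχ hθ hc
  have : Finset.univ.image (conjN θ) = {θ} := by
    ext ψ; simp [hinv, eq_comm]
  rwa [this, Finset.sum_singleton] at h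

end clifford

section correspondence

variable {G : Type u} [Group G] [Fintype G] {N : Subgroup G} [hN : N.Normal]

theorem res_homogeneous_le [Fintype N] {T : Subgroup G} [Fintype T] (hNT : N ≤ T) {θ : N → ℂ}
    (hθ : IsIrrCharacter N θ) (hinv : ∀ t ∈ T, conjN θ t = θ) {ψ : T → ℂ}
    (hψ : IsIrrCharacter T ψ) (hc : classInner (fun n : N => ψ ⟨n, hNT n.2⟩) θ ≠ 0) :
    (fun n : N => ψ ⟨n, hNT n.2⟩) = classInner (fun n : N => ψ ⟨n, hNT n.2⟩) θ • θ := by
  haveI : (N.subgroupOf T).Normal := hN.subgroupOf T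
  haveI := Fintype.ofFinite (N.subgroupOf T)
  let e : N.subgroupOf T ≃* N := Subgroup.subgroupOfEquivOfLe hNT
  have hres : (fun x : N.subgroupOf T => ψ x) = (fun n : N => ψ ⟨n, hNT n.2⟩) ∘ e := rfl
  have h := res_homogeneous hψ (irr_mulEquiv e hθ) (by rw [hres, classInner_mulEquiv]; exact hc)
    (fun t => by
      ext n
      simp only [conjN, Function.comp_apply]
      exact (congrArg θ (Subtype.ext rfl)).trans (congrFun (hinv t t.2) (e n)))
  rw [hres, classInner_mulEquiv] at h
  ext n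
  have h2 := congrFun h (e.symm n)
  simpa using h2

/-- Clifford correspondence: induction from the inertia group -/
theorem clifford_induce [Fintype N] {θ : N → ℂ} (hθ : IsIrrCharacter N θ) {T : Subgroup G} [Fintype T] (hT : ∀ g : G, g ∈ T ↔ conjN θ g = θ) (hNT : N ≤ T)
    {ψ : T → ℂ} (hψ : IsIrrCharacter (T) ψ)
    (hc : classInner (fun n : N => ψ ⟨n, hNT n.2⟩) θ ≠ 0) :
    IsIrrCharacter G (indFun (T) ψ) ∧
      classInner (fun n : N => indFun T ψ n) θ =
        classInner (fun n : N => ψ ⟨n, hNT n.2⟩) θ := by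
  have hψc := isCharacter_of_isIrr hψ
  have hind := isCharacter_indFun T hψc
  have hTi : T = inertia θ := Subgroup.ext fun g => hT g
  obtain ⟨χ, hχ⟩ := exists_constituent hind (fun e => by
    have := congrFun e 1
    rw [indFun_one] at this
    rcases mul_eq_zero.mp this with h | h
    · exact T.index_ne_zero_of_finite (by exact_mod_cast h)
    · exact irr_one_ne_zero hψ h)
  have hdiff := isCharacter_sub_constituent hind χ.2 hχ
  have hcons : classInner (fun t : T => χ.1 t) ψ ≠ 0 := by
    rw [← classInner_conj, ← frobenius T ψ (classFun_of_irr χ.2)]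
    intro e
    exact hχ (by simpa using congrArg conj e)
  have hrest := isCharacter_sub_constituent
    (isCharacter_restrict T (isCharacter_of_isIrr χ.2)) hψ hcons
  have hψN : IsCharacter N (fun n : N => ψ ⟨n, hNT n.2⟩) :=
    isCharacter_comp (Subgroup.inclusion hNT) hψc
  have hrN : IsCharacter N (fun n : N => ((fun t : T => χ.1 t) - ψ) ⟨n, hNT n.2⟩) :=
    isCharacter_comp (Subgroup.inclusion hNT) hrest
  obtain ⟨a, ha⟩ := inner_char_irr hψN hθ
  obtain ⟨b, hb⟩ := inner_char_irr hrN hθ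
  have hE : classInner (fun n : N => χ.1 n) θ = ((a + b : ℕ) : ℂ) := by
    have : (fun n : N => χ.1 n) = (fun n : N => ψ ⟨n, hNT n.2⟩) +
        (fun n : N => ((fun t : T => χ.1 t) - ψ) ⟨n, hNT n.2⟩) := by ext n; simp
    rw [this, classInner_add_left, ha, hb, Nat.cast_add]
  have ha0 : a ≠ 0 := by rintro rfl; exact hc (by rw [ha, Nat.cast_zero])
  have hψ1 : ψ 1 = (a : ℂ) * θ 1 := by
    have := congrFun (res_homogeneous_le hNT hθ (fun t ht => (hT t).mp ht) hψ hc) 1
    rw [ha] at this
    simp only [Pi.smul_apply, smul_eq_mul] at this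
    exact (congrArg ψ (Subtype.ext (by simp))).trans this
  have hd := degree_clifford χ.2 hθ (by rw [hE]; exact_mod_cast (by omega : a + b ≠ 0))
  rw [← hTi] at hd
  obtain ⟨m, hm⟩ := charDegree_aux hdiff
  obtain ⟨d, hd0, hθ1⟩ := irr_deg hθ
  rw [Pi.sub_apply, indFun_one, hd, hE, hψ1, hθ1] at hm
  have hnat : T.index * (a * d) = m + (a + b) * T.index * d := by
    have : ((T.index * (a * d) : ℕ) : ℂ) = ((m + (a + b) * T.index * d : ℕ) : ℂ) := by
      push_cast at hm ⊢; linear_combination hm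
    exact_mod_cast this
  have hi : 0 < T.index := Nat.pos_of_ne_zero T.index_ne_zero_of_finite
  have hm0 : m = 0 ∧ b = 0 := by
    have h' : m + b * (T.index * d) = 0 := by
      have h2 : (a + b) * T.index * d = T.index * (a * d) + b * (T.index * d) := by ring
      omega
    refine ⟨by omega, ?_⟩
    rcases Nat.mul_eq_zero.mp (by omega : b * (T.index * d) = 0) with h | h
    · exact h
    · exact absurd h (Nat.mul_pos hi hd0).ne'
  obtain ⟨rfl, rfl⟩ := hm0
  have heq : indFun T ψ = χ.1 := by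
    refine sub_eq_zero.mp ((char_eq_zero_iff hdiff).mp ?_)
    rw [Pi.sub_apply, indFun_one, hd, hE, hψ1, hθ1]
    push_cast
    ring
  exact ⟨heq ▸ χ.2, by rw [heq, hE, ha]; simp⟩

theorem clifford_exists [Fintype N] {θ : N → ℂ} (hθ : IsIrrCharacter N θ) {T : Subgroup G} [Fintype T] (hT : ∀ g : G, g ∈ T ↔ conjN θ g = θ) (hNT : N ≤ T)
    {χ : G → ℂ} (hχ : IsIrrCharacter G χ) (hc : classInner (fun n : N => χ n) θ ≠ 0) :
    ∃ ψ : T → ℂ, IsIrrCharacter (T) ψ ∧ indFun (T) ψ = χ ∧
      classInner (fun n : N => ψ ⟨n, hNT n.2⟩) θ =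
        classInner (fun n : N => χ n) θ := by
  classical
  have hres := isCharacter_restrict T (isCharacter_of_isIrr hχ)
  have hexp := classFun_eq_sum (classFun_of_char hres)
  obtain ⟨ψ, hψ1, hψ2⟩ : ∃ ψ : IrrCharacter T, classInner (fun t : T => χ t) ψ.1 ≠ 0 ∧
      classInner (fun n : N => ψ.1 ⟨n, hNT n.2⟩) θ ≠ 0 := by
    by_contra hcn
    push Not at hcn
    apply hc
    have : (fun n : N => χ n) = ∑ ψ : IrrCharacter T,
        classInner (fun t : T => χ t) ψ.1 • (fun n : N => ψ.1 ⟨n, hNT n.2⟩) := by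
      ext n
      have := congrFun hexp ⟨n, hNT n.2⟩
      simpa using this
    rw [this, classInner_sum_left]
    refine Finset.sum_eq_zero fun ψ _ => ?_
    rw [classInner_smul_left]
    rcases em (classInner (fun t : T => χ t) ψ.1 = 0) with h | h
    · rw [h, zero_mul]
    · rw [hcn ψ h, mul_zero]
  obtain ⟨hirr, hmul⟩ := clifford_induce hθ hT hNT ψ.2 hψ2
  have heq : indFun T ψ.1 = χ := by
    by_contra hne
    apply hψ1
    rw [← classInner_conj, ← frobenius T ψ.1 (classFun_of_irr hχ), irr_inner_ne hirr hχ hne,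
      map_zero]
  exact ⟨ψ.1, ψ.2, heq, by rw [← hmul, heq]⟩

theorem clifford_unique [Fintype N] {θ : N → ℂ} (hθ : IsIrrCharacter N θ) {T : Subgroup G} [Fintype T] (hT : ∀ g : G, g ∈ T ↔ conjN θ g = θ) (hNT : N ≤ T)
    {ψ ψ' : T → ℂ} (hψ : IsIrrCharacter (T) ψ)
    (hψ' : IsIrrCharacter (T) ψ')
    (hc : classInner (fun n : N => ψ ⟨n, hNT n.2⟩) θ ≠ 0)
    (hc' : classInner (fun n : N => ψ' ⟨n, hNT n.2⟩) θ ≠ 0)
    (heq : indFun (T) ψ = indFun (T) ψ') : ψ = ψ' := by
  by_contra hne
  obtain ⟨hirr, hm⟩ := clifford_induce hθ hT hNT hψ hc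
  have hres := isCharacter_restrict T (isCharacter_of_isIrr hirr)
  have hA : classInner (fun t : T => indFun T ψ t) ψ ≠ 0 := by
    rw [← classInner_conj, ← frobenius T ψ (classFun_of_irr hirr), irr_inner_self hirr, map_one]
    exact one_ne_zero
  have hrest := isCharacter_sub_constituent hres hψ hA
  have hB : classInner ((fun t : T => indFun T ψ t) - ψ) ψ' ≠ 0 := by
    rw [classInner_sub_left, irr_inner_ne hψ hψ' hne, sub_zero, ← classInner_conj,
      ← frobenius T ψ' (classFun_of_irr hirr), heq,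
      irr_inner_self (heq ▸ hirr : IsIrrCharacter G (indFun T ψ')), map_one]
    exact one_ne_zero
  have hrest' := isCharacter_sub_constituent hrest hψ' hB
  have c1 : IsCharacter N (fun n : N => ψ ⟨n, hNT n.2⟩) :=
    isCharacter_comp (Subgroup.inclusion hNT) (isCharacter_of_isIrr hψ)
  have c2 : IsCharacter N (fun n : N => ψ' ⟨n, hNT n.2⟩) :=
    isCharacter_comp (Subgroup.inclusion hNT) (isCharacter_of_isIrr hψ')
  have c3 : IsCharacter N
      (fun n : N => ((fun t : T => indFun T ψ t) - ψ - ψ') ⟨n, hNT n.2⟩) :=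
    isCharacter_comp (Subgroup.inclusion hNT) hrest'
  obtain ⟨a, ha⟩ := inner_char_irr c1 hθ
  obtain ⟨b, hb⟩ := inner_char_irr c2 hθ
  obtain ⟨c, hcc⟩ := inner_char_irr c3 hθ
  have hsum : (fun n : N => indFun T ψ n) = (fun n : N => ψ ⟨n, hNT n.2⟩) +
      (fun n : N => ψ' ⟨n, hNT n.2⟩) +
      (fun n : N => ((fun t : T => indFun T ψ t) - ψ - ψ') ⟨n, hNT n.2⟩) := by
    ext n; simp
  rw [hsum, classInner_add_left, classInner_add_left, ha, hb, hcc] at hm
  have : a + b + c = a := by exact_mod_cast hm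
  exact hc' (by rw [hb, show b = 0 by omega, Nat.cast_zero])

end correspondence

end CfsgLib.Char
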