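import Cfsg.Agent.Char.Galois
import Mathlib.GroupTheory.Solvable
import Mathlib.GroupTheory.Sylow
import Mathlib.GroupTheory.PGroup
import Mathlib.GroupTheory.Nilpotent
import Mathlib.GroupTheory.Subgroup.Simple

/-! Burnside's lemma, Burnside's p^a q^b theorem. -/

set_option linter.unusedSectionVars false
set_option linter.style.haveILetI false

namespace CfsgLib.Char

open Module Cfsg
open scoped ComplexConjugate

universe u

theorem char_qbar_norm_le {G : Type u} [Group G] [Finite G] (φ : QBar →ₐ[ℚ] ℂ) {χ : G → ℂ}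
    (hχ : IsCharacter G χ) (g : G) :
    ‖φ ⟨χ g, mem_qbar_of_integral (char_isIntegral hχ g)⟩‖ ≤ (charDegree χ : ℝ) := by
  obtain ⟨m, -, hm⟩ := algHom_char_pow G φ
  rw [hm χ hχ g]
  exact char_norm_le hχ _

theorem burnside_zero_or_norm {G : Type u} [Group G] [Fintype G] {χ : G → ℂ}
    (hχ : IsIrrCharacter G χ) (g : G)
    (hcop : Nat.Coprime (charDegree χ) (Subgroup.centralizer ({g} : Set G)).index) :
    χ g = 0 ∨ ‖χ g‖ = (charDegree χ : ℝ) := by
  set n := charDegree χ
  set k := (Subgroup.centralizer ({g} : Set G)).index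
  have hn : (0 : ℝ) < n := by exact_mod_cast charDegree_pos hχ
  have hc := isCharacter_of_isIrr hχ
  rcases (char_norm_le hc g).lt_or_eq with hlt | heq
  swap
  · exact Or.inr heq
  left
  have hnC : (n : ℂ) ≠ 0 := by exact_mod_cast hn.ne'
  have hint : IsIntegral ℤ (χ g / (n : ℂ)) := by
    have hω := centralChar_isIntegral hχ g
    rw [centralChar, irr_one_eq hχ] at hω
    have hbez := Nat.gcd_eq_gcd_ab n k
    rw [hcop] at hbez
    have h1 : (1 : ℂ) = (n : ℂ) * (Nat.gcdA n k : ℂ) + (k : ℂ) * (Nat.gcdB n k : ℂ) := by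
      exact_mod_cast hbez
    have : χ g / (n : ℂ) = (Nat.gcdA n k : ℂ) * χ g + (Nat.gcdB n k : ℂ) * ((k : ℂ) * χ g / n) := by
      field_simp
      linear_combination χ g * h1
    rw [this]
    exact (((isIntegral_algebraMap (R := ℤ) (A := ℂ) (x := Nat.gcdA n k)).mul
      (char_isIntegral hc g))).add
      ((isIntegral_algebraMap (R := ℤ) (A := ℂ) (x := Nat.gcdB n k)).mul hω)
  have hα := eq_zero_of_conjugates_small hint
    (by rw [norm_div, Complex.norm_natCast, div_lt_one hn]; exact hlt)
    (fun φ => by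
      have : (⟨χ g / (n : ℂ), mem_qbar_of_integral hint⟩ : QBar) =
          ⟨χ g, mem_qbar_of_integral (char_isIntegral hc g)⟩ / (n : QBar) :=
        Subtype.ext (by simp)
      rw [this, map_div₀, map_natCast, norm_div, Complex.norm_natCast, div_le_one hn]
      exact char_qbar_norm_le φ hc g)
  exact (div_eq_zero_iff.mp hα).resolve_right hnC

/-- if `|χ g| = χ 1` then `g` acts as a scalar -/
theorem rep_scalar_of_norm {G : Type u} [Group G] [Finite G] {V : Type*} [AddCommGroup V]
    [Module ℂ V] [FiniteDimensional ℂ V] (ρ : Representation ℂ G V) (g : G)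
    (h : ‖ρ.character g‖ = (finrank ℂ V : ℝ)) :
    ∃ ω : ℂ, ρ g = ω • (LinearMap.id : V →ₗ[ℂ] V) := by
  obtain ⟨b, ζ, hζ, hb⟩ := exists_eigenbasis ρ g
  have hsum : ρ.character g = ∑ i, ζ i := trace_of_eigen hb
  rcases Nat.eq_zero_or_pos (finrank ℂ V) with h0 | hpos
  · haveI : Subsingleton V := Module.finrank_zero_iff.mp h0
    exact ⟨0, Subsingleton.elim _ _⟩
  have hne : ρ.character g ≠ 0 := by
    intro he
    rw [he, norm_zero] at h
    exact hpos.ne' (by exact_mod_cast h.symm)
  set w : ℂ := ρ.character g / (‖ρ.character g‖ : ℂ) with hw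
  have hnw : ‖w‖ = 1 := by
    rw [hw, norm_div, Complex.norm_real, Real.norm_eq_abs, abs_of_nonneg (norm_nonneg _),
      div_self (norm_ne_zero_iff.mpr hne)]
  have hre : ∀ i, (ζ i * conj w).re ≤ 1 := fun i => (Complex.re_le_norm _).trans (by
    rw [norm_mul, Complex.norm_conj, hnw, norm_root (orderOf_pos g).ne' (hζ i), mul_one])
  have hS : ∑ i, (1 - (ζ i * conj w).re) = 0 := by
    have h2 : (∑ i, ζ i) * conj w = ((finrank ℂ V : ℝ) : ℂ) := by
      rw [← hsum, hw, map_div₀, Complex.conj_ofReal, ← mul_div_assoc, Complex.mul_conj', ← h]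
      have : (‖ρ.character g‖ : ℂ) ≠ 0 := by simpa using hne
      field_simp
    have h3 := congrArg Complex.re h2
    rw [Finset.sum_mul, Complex.re_sum, Complex.ofReal_re] at h3
    rw [Finset.sum_sub_distrib, h3]
    simp
  have hall : ∀ i, ζ i = w := by
    intro i
    have h1 := (Finset.sum_eq_zero_iff_of_nonneg fun i _ => sub_nonneg.mpr (hre i)).mp hS i
      (Finset.mem_univ i)
    have h2 : (ζ i * conj w).re = 1 := by linarith
    have h3 := Complex.sq_norm (ζ i * conj w)
    rw [norm_mul, Complex.norm_conj, hnw, norm_root (orderOf_pos g).ne' (hζ i),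
      Complex.normSq_apply, h2] at h3
    have h4 : (ζ i * conj w).im * (ζ i * conj w).im = 0 := by linarith
    have h5 : ζ i * conj w = 1 := Complex.ext h2 (by simpa using h4)
    have h6 : w * conj w = 1 := by rw [Complex.mul_conj', hnw]; simp
    calc ζ i = ζ i * (w * conj w) := by rw [h6, mul_one]
      _ = w := by rw [mul_left_comm, h5, mul_one]
  exact ⟨w, b.ext fun i => by simp [hb i, hall i]⟩

theorem central_of_scalar_faithful {G : Type u} [Group G] {V : Type*} [AddCommGroup V]
    [Module ℂ V] {ρ : Representation ℂ G V} (hf : Function.Injective ρ) {g : G} {w : ℂ}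
    (h : ρ g = w • (LinearMap.id : V →ₗ[ℂ] V)) : g ∈ Subgroup.center G :=
  Subgroup.mem_center_iff.mpr fun x => hf (by
    rw [map_mul, map_mul, h, ← Module.End.one_eq_id, mul_smul_comm, smul_mul_assoc, mul_one,
      one_mul])

theorem isIntegral_natCast (n : ℕ) : IsIntegral ℤ (n : ℂ) := by
  simpa using isIntegral_algebraMap (R := ℤ) (A := ℂ) (x := (n : ℤ))

/-- a finite simple group with a non-trivial class of prime-power size has prime order -/
theorem prime_card_of_class_prime_pow {G : Type u} [Group G] [Finite G] [IsSimpleGroup G]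
    (p k : ℕ) (hp : p.Prime) (g : G) (hg : g ≠ 1)
    (hclass : (Subgroup.centralizer ({g} : Set G)).index = p ^ k) : (Nat.card G).Prime := by
  classical
  haveI := Fintype.ofFinite G
  suffices g ∈ Subgroup.center G by
    rcases (Subgroup.center G).normal_of_characteristic.eq_bot_or_eq_top with h | h
    · rw [h, Subgroup.mem_bot] at this
      exact absurd this hg
    · haveI : IsMulCommutative G := ⟨⟨fun a b => by
        have hb : b ∈ Subgroup.center G := by rw [h]; trivial
        exact Subgroup.mem_center_iff.mp hb a⟩⟩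
      open scoped IsMulCommutative in exact IsSimpleGroup.prime_card
  rcases Nat.eq_zero_or_pos k with rfl | hk
  · rw [pow_zero, Subgroup.index_eq_one] at hclass
    refine Subgroup.mem_center_iff.mpr fun x => ?_
    exact (mem_centralizer_singleton.mp (hclass ▸ Subgroup.mem_top x))
  have h := second_orth g 1
  rw [if_neg (fun hc : IsConj g 1 => hg (isConj_one_right.mp hc.symm))] at h
  let one' : IrrCharacter G := ⟨fun _ => 1, isIrr_one⟩
  rw [← Finset.add_sum_erase Finset.univ _ (Finset.mem_univ one'), map_one, mul_one] at h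
  obtain ⟨χ, hχ1, hχg, hpχ⟩ : ∃ χ : IrrCharacter G, χ ≠ one' ∧ (χ : G → ℂ) g ≠ 0 ∧
      ¬ p ∣ charDegree (χ : G → ℂ) := by
    by_contra hc
    push Not at hc
    have hdiv : IsIntegral ℤ ((1 : ℂ) / (p : ℂ)) := by
      have h2 : (1 : ℂ) / (p : ℂ) = -∑ χ ∈ Finset.univ.erase one',
          (χ : G → ℂ) g * ((charDegree (χ : G → ℂ) / p : ℕ) : ℂ) := by
        have h3 : (∑ χ ∈ Finset.univ.erase one', (χ : G → ℂ) g * conj ((χ : G → ℂ) 1)) =
            (p : ℂ) * ∑ χ ∈ Finset.univ.erase one',
              (χ : G → ℂ) g * ((charDegree (χ : G → ℂ) / p : ℕ) : ℂ) := by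
          rw [Finset.mul_sum]
          refine Finset.sum_congr rfl fun χ hχ => ?_
          rw [irr_one_eq χ.2, map_natCast]
          by_cases h0 : (χ : G → ℂ) g = 0
          · simp [h0]
          obtain ⟨t, ht⟩ := hc χ (Finset.ne_of_mem_erase hχ) h0
          rw [ht, Nat.mul_div_cancel_left _ hp.pos]; push_cast; ring
        rw [h3] at h
        have hp0 : (p : ℂ) ≠ 0 := by exact_mod_cast hp.ne_zero
        field_simp
        linear_combination h
      rw [h2]
      exact (IsIntegral.sum _ fun χ _ => (char_isIntegral (isCharacter_of_isIrr χ.2) g).mul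
        (isIntegral_natCast _)).neg
    exact hp.not_dvd_one (dvd_of_isIntegral_div hp.ne_zero (a := 1) (by simpa using hdiv))
  obtain ⟨n, ρ, hirr, hρ⟩ := χ.2
  have hnorm := (burnside_zero_or_norm χ.2 g (by
    rw [hclass]; exact Nat.Coprime.pow_right _ ((hp.coprime_iff_not_dvd.mpr hpχ).symm))).resolve_left hχg
  rw [← hρ, charDegree_eq (n := finrank ℂ (Fin n → ℂ)) (Representation.char_one ρ)] at hnorm
  obtain ⟨w, hw⟩ := rep_scalar_of_norm ρ g hnorm
  refine central_of_scalar_faithful (ρ := ρ) ?_ hw
  let f : G →* (Module.End ℂ (Fin n → ℂ))ˣ := ρ.toHomUnits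
  have hval : ∀ x, (f x : Module.End ℂ (Fin n → ℂ)) = ρ x := fun x => rfl
  rcases f.normal_ker.eq_bot_or_eq_top with hb | ht
  · intro a b hab
    exact (MonoidHom.ker_eq_bot_iff f).mp hb (Units.ext (by rw [hval, hval, hab]))
  · exfalso
    have hone : ∀ x, ρ x = 1 := fun x => by
      have hx : f x = 1 := MonoidHom.mem_ker.mp (ht ▸ Subgroup.mem_top x)
      rw [← hval, hx]; rfl
    have hconst : (χ : G → ℂ) = (n : ℂ) • (fun _ => (1 : ℂ)) := by
      rw [← hρ]; ext x
      simp [Representation.character, hone x]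
    have := irr_inner_ne χ.2 isIrr_one (fun e => hχ1 (Subtype.ext e))
    rw [hconst, classInner_smul_left, classInner_one_one, mul_one] at this
    exact irr_one_ne_zero χ.2 (by rw [hconst]; simp [this])

theorem solvable_of_card_two_primes {G : Type u} [Group G] [Finite G] (p q a b : ℕ) (hp : p.Prime)
    (hq : q.Prime) (hcard : Nat.card G = p ^ a * q ^ b) : Group.IsSolvable G := by
  induction hn : Nat.card G using Nat.strong_induction_on generalizing G a b with
  | _ N ih =>
    have sub : ∀ d, d ∣ p ^ a * q ^ b → ∃ a' b', d = p ^ a' * q ^ b' := by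
      intro d hd
      obtain ⟨d₁, d₂, h1, h2, rfl⟩ := exists_dvd_and_dvd_of_dvd_mul hd
      obtain ⟨a', -, rfl⟩ := (Nat.dvd_prime_pow hp).mp h1
      obtain ⟨b', -, rfl⟩ := (Nat.dvd_prime_pow hq).mp h2
      exact ⟨a', b', rfl⟩
    by_cases hN : ∃ M : Subgroup G, M.Normal ∧ M ≠ ⊥ ∧ M ≠ ⊤
    · obtain ⟨M, hM, hb, ht⟩ := hN
      have hM1 : 1 < Nat.card M := M.one_lt_card_iff_ne_bot.mpr hb
      have hidx : 1 < M.index := by
        have h1 := M.index_ne_zero_of_finite
        have h2 : M.index ≠ 1 := fun e => ht (Subgroup.index_eq_one.mp e)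
        omega
      have hmul := M.card_mul_index
      have hlt1 : Nat.card M < N := by rw [← hn]; nlinarith
      have hlt2 : Nat.card (G ⧸ M) < N := by
        rw [← hn, ← Subgroup.index_eq_card]; nlinarith
      obtain ⟨a', b', h'⟩ := sub _ (hcard ▸ M.card_subgroup_dvd_card)
      obtain ⟨a'', b'', h''⟩ := sub _ (hcard ▸ M.index_dvd_card)
      have s1 := ih _ hlt1 a' b' h' rfl
      have s2 := ih _ hlt2 a'' b'' ((Subgroup.index_eq_card M).symm.trans h'') rfl
      exact Group.isSolvable_of_ker_le_range M.subtype (QuotientGroup.mk' M) (by simp)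
    push Not at hN
    rcases subsingleton_or_nontrivial G with hs | hnt
    · exact Group.isSolvable_of_comm fun x y => Subsingleton.elim _ _
    haveI : IsSimpleGroup G := ⟨fun M hM => or_iff_not_imp_left.mpr (hN M hM)⟩
    haveI : Fact p.Prime := ⟨hp⟩
    by_cases hpG : p ∣ Nat.card G
    · obtain ⟨P⟩ : Nonempty (Sylow p G) := inferInstance
      haveI : Nontrivial (P : Subgroup G) :=
        (Subgroup.nontrivial_iff_ne_bot _).mpr (Sylow.ne_bot_of_dvd_card P hpG)
      haveI := P.isPGroup'.center_nontrivial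
      obtain ⟨⟨z, hz⟩, hz1⟩ := exists_ne (1 : Subgroup.center (P : Subgroup G))
      have hzne : (z : G) ≠ 1 := fun e => hz1 (Subtype.ext (Subtype.ext e))
      have hle : (P : Subgroup G) ≤ Subgroup.centralizer ({(z : G)} : Set G) := fun x hx =>
        mem_centralizer_singleton.mpr
          (congrArg Subtype.val (Subgroup.mem_center_iff.mp hz ⟨x, hx⟩))
      obtain ⟨a', b', hab⟩ := sub _ (hcard ▸ (Subgroup.index_dvd_card
        (Subgroup.centralizer ({(z : G)} : Set G))))
      have hb' : ∃ k, (Subgroup.centralizer ({(z : G)} : Set G)).index = q ^ k := by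
        refine ⟨b', ?_⟩
        rcases Nat.eq_zero_or_pos a' with h0 | hpos
        · rw [hab, h0, pow_zero, one_mul]
        · exfalso
          exact P.not_dvd_index ((dvd_pow_self p hpos.ne').trans ((Dvd.intro _ hab.symm).trans
            (Subgroup.index_dvd_of_le hle)))
      obtain ⟨k, hk⟩ := hb'
      haveI : Fact (Nat.card G).Prime := ⟨prime_card_of_class_prime_pow q k hq _ hzne hk⟩
      haveI := isCyclic_of_prime_card (α := G) (p := Nat.card G) rfl
      exact Group.isSolvable_of_comm fun x y => IsCyclic.commGroup.mul_comm x y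
    · haveI : Fact q.Prime := ⟨hq⟩
      have ha : a = 0 := by
        by_contra ha
        exact hpG (hcard ▸ dvd_mul_of_dvd_left (dvd_pow_self p ha) _)
      have : IsPGroup q G := IsPGroup.of_card (n := b) (by rw [hcard, ha, pow_zero, one_mul])
      haveI : Group.IsNilpotent G := this.isNilpotent
      infer_instance

end CfsgLib.Char
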