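import Cfsg.Agent.Char.Orth
import Mathlib.GroupTheory.Subgroup.Centralizer
import Mathlib.GroupTheory.Index
import Mathlib.Algebra.Group.ConjFinite

/-! Conjugacy classes, second orthogonality relation, number of irreducible characters. -/

set_option linter.unusedSectionVars false
set_option linter.style.haveILetI false

namespace CfsgLib.Char

open Module Cfsg
open scoped ComplexConjugate

universe u v

variable {G : Type u} [Group G]

theorem mem_centralizer_singleton {g x : G} :
    x ∈ Subgroup.centralizer ({g} : Set G) ↔ x * g = g * x :=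
  Subgroup.mem_centralizer_singleton_iff

theorem card_isConj [Finite G] (g : G) :
    Nat.card {x : G // IsConj g x} = (Subgroup.centralizer ({g} : Set G)).index := by
  let C := Subgroup.centralizer ({g} : Set G)
  let F : G ⧸ C → {x : G // IsConj g x} := fun q => Quotient.liftOn' q
    (fun x => ⟨x * g * x⁻¹, isConj_iff.mpr ⟨x, rfl⟩⟩) fun a b hab => by
      have h := mem_centralizer_singleton.mp (QuotientGroup.leftRel_apply.mp hab)
      refine Subtype.ext ?_
      show a * g * a⁻¹ = b * g * b⁻¹
      have h2 : b * g = a * g * a⁻¹ * b := by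
        calc b * g = a * (a⁻¹ * b * g) := by group
          _ = a * (g * (a⁻¹ * b)) := by rw [h]
          _ = a * g * a⁻¹ * b := by group
      rw [h2]; group
  refine (Nat.card_congr (Equiv.ofBijective F ⟨?_, ?_⟩)).symm
  · rintro ⟨a⟩ ⟨b⟩ hab
    have hab' : a * g * a⁻¹ = b * g * b⁻¹ := congrArg Subtype.val hab
    refine Quotient.sound' (QuotientGroup.leftRel_apply.mpr (mem_centralizer_singleton.mpr ?_))
    calc a⁻¹ * b * g = a⁻¹ * (b * g * b⁻¹) * b := by group
      _ = a⁻¹ * (a * g * a⁻¹) * b := by rw [hab']
      _ = g * (a⁻¹ * b) := by group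
  · rintro ⟨x, hx⟩
    obtain ⟨c, hc⟩ := isConj_iff.mp hx
    exact ⟨(c : G ⧸ C), Subtype.ext hc⟩

theorem card_filter_isConj [Fintype G] [DecidableRel (IsConj (α := G))] (g : G) :
    (Finset.univ.filter fun x : G => IsConj g x).card =
      (Subgroup.centralizer ({g} : Set G)).index := by
  rw [← card_isConj, Nat.card_eq_fintype_card, Fintype.card_subtype]

theorem index_mul_card_centralizer (g : G) :
    (Subgroup.centralizer ({g} : Set G)).index *
      Nat.card (Subgroup.centralizer ({g} : Set G)) = Nat.card G :=
  Subgroup.index_mul_card _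

variable [Fintype G]

open Classical in
theorem classInner_indicator (h : G) {χ : G → ℂ} (hχ : IsClassFunction G χ) :
    classInner (fun x => if IsConj h x then (1 : ℂ) else 0) χ =
      ((Subgroup.centralizer ({h} : Set G)).index : ℂ) * conj (χ h) / (Nat.card G : ℂ) := by
  rw [classInner_def, ← card_filter_isConj h]
  have : ∑ x : G, (if IsConj h x then (1 : ℂ) else 0) * conj (χ x) =
      ((Finset.univ.filter fun x : G => IsConj h x).card : ℂ) * conj (χ h) := by
    rw [← nsmul_eq_mul, ← Finset.sum_const, Finset.sum_filter]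
    refine Finset.sum_congr rfl fun x _ => ?_
    split_ifs with hx
    · rw [one_mul, classFun_isConj hχ hx]
    · rw [zero_mul]
  rw [this]; ring

/-- second orthogonality relation -/
theorem second_orth (g h : G) [Decidable (IsConj g h)] :
    ∑ χ : IrrCharacter G, (χ : G → ℂ) g * conj ((χ : G → ℂ) h) =
      if IsConj g h then (Nat.card (Subgroup.centralizer ({g} : Set G)) : ℂ) else 0 := by
  classical
  have hf : IsClassFunction G (fun x => if IsConj h x then (1 : ℂ) else 0) := by
    intro x k
    have : IsConj x (k * x * k⁻¹) := isConj_iff.mpr ⟨k, rfl⟩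
    simp only
    exact if_congr ⟨fun hh => hh.trans this.symm, fun hh => hh.trans this⟩ rfl rfl
  have key := congrFun (classFun_eq_sum hf) g
  simp only [Finset.sum_apply, Pi.smul_apply, smul_eq_mul,
    fun χ : IrrCharacter G => classInner_indicator h (classFun_of_irr χ.2)] at key
  have hi : ((Subgroup.centralizer ({h} : Set G)).index : ℂ) ≠ 0 := by
    exact_mod_cast Subgroup.index_ne_zero_of_finite
  have key2 : (if IsConj h g then (1 : ℂ) else 0) =
      ((Subgroup.centralizer ({h} : Set G)).index : ℂ) / (Nat.card G : ℂ) *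
        ∑ χ : IrrCharacter G, (χ : G → ℂ) g * conj ((χ : G → ℂ) h) := by
    rw [key, Finset.mul_sum]
    exact Finset.sum_congr rfl fun χ _ => by ring
  by_cases hgh : IsConj g h
  · rw [if_pos hgh]
    rw [if_pos hgh.symm] at key2
    have hc : (Subgroup.centralizer ({g} : Set G)).index =
        (Subgroup.centralizer ({h} : Set G)).index := by
      rw [← card_isConj, ← card_isConj]
      exact Nat.card_congr (Equiv.subtypeEquivRight fun x =>
        ⟨fun hh => hgh.symm.trans hh, fun hh => hgh.trans hh⟩)
    have hGC : ((Subgroup.centralizer ({h} : Set G)).index : ℂ) *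
        (Nat.card (Subgroup.centralizer ({g} : Set G)) : ℂ) = Nat.card G := by
      rw [← hc]; exact_mod_cast index_mul_card_centralizer g
    refine mul_left_cancel₀ hi ?_
    rw [hGC]
    field_simp [natCard_ne_zero G] at key2
    linear_combination -key2
  · rw [if_neg hgh]
    rw [if_neg fun hh => hgh hh.symm] at key2
    rcases mul_eq_zero.mp key2.symm with h0 | h0
    · exact absurd h0 (div_ne_zero hi (natCard_ne_zero G))
    · exact h0

theorem sum_degree_sq :
    ∑ χ : IrrCharacter G, (χ : G → ℂ) 1 ^ 2 = (Nat.card G : ℂ) := by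
  classical
  have h := second_orth (1 : G) 1
  rw [if_pos (IsConj.refl 1)] at h
  have hc : Nat.card (Subgroup.centralizer ({(1 : G)} : Set G)) = Nat.card G := by
    have : Subgroup.centralizer ({(1 : G)} : Set G) = ⊤ := by
      ext x; simp [Subgroup.mem_centralizer_singleton_iff]
    rw [this, Subgroup.card_top]
  rw [hc] at h
  rw [← h]
  refine Finset.sum_congr rfl fun χ _ => ?_
  obtain ⟨n, -, hn⟩ := irr_deg χ.2
  rw [hn, map_natCast, sq]

theorem isConj_iff_irr (g h : G) :
    IsConj g h ↔ ∀ χ : IrrCharacter G, (χ : G → ℂ) g = (χ : G → ℂ) h := by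
  classical
  refine ⟨fun hgh χ => classFun_isConj (classFun_of_irr χ.2) hgh, fun hh => ?_⟩
  by_contra hne
  have h1 := second_orth g h
  have h2 := second_orth g g
  rw [if_neg hne] at h1
  rw [if_pos (IsConj.refl g)] at h2
  have : (Nat.card (Subgroup.centralizer ({g} : Set G)) : ℂ) = 0 := by
    rw [← h2, ← h1]
    exact Finset.sum_congr rfl fun χ _ => by rw [hh χ]
  exact Nat.card_pos.ne' (by exact_mod_cast this)

/-- class functions as a submodule -/
noncomputable def classFunEquiv :
    (ConjClasses G → ℂ) →ₗ[ℂ] (G → ℂ) := LinearMap.funLeft ℂ ℂ ConjClasses.mk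

theorem classFunEquiv_range :
    LinearMap.range (classFunEquiv (G := G)) =
      Submodule.span ℂ (Set.range fun χ : IrrCharacter G => (χ : G → ℂ)) := by
  refine le_antisymm ?_ ?_
  · rintro f ⟨c, rfl⟩
    have hc : IsClassFunction G (classFunEquiv c) := fun g k => by
      show c (ConjClasses.mk _) = c (ConjClasses.mk _)
      exact congrArg c (ConjClasses.mk_eq_mk_iff_isConj.mpr (isConj_iff.mpr ⟨k, rfl⟩).symm)
    rw [classFun_eq_sum hc]
    exact Submodule.sum_mem _ fun χ _ =>
      Submodule.smul_mem _ _ (Submodule.subset_span (Set.mem_range_self χ))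
  · rw [Submodule.span_le]
    rintro _ ⟨χ, rfl⟩
    refine ⟨fun C => Quotient.liftOn C (χ : G → ℂ) fun a b hab =>
      classFun_isConj (classFun_of_irr χ.2) hab, ?_⟩
    ext g; rfl

theorem card_irr_eq_card_conjClasses :
    Nat.card (IrrCharacter G) = Nat.card (ConjClasses G) := by
  classical
  have hinj : Function.Injective (classFunEquiv (G := G)) :=
    LinearMap.funLeft_injective_of_surjective ℂ ℂ _ ConjClasses.mk_surjective
  have h1 := LinearMap.finrank_range_of_inj hinj
  rw [classFunEquiv_range, finrank_span_eq_card linearIndependent_irr] at h1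
  haveI : Fintype (ConjClasses G) := Fintype.ofFinite _
  rw [Module.finrank_pi] at h1
  rw [Nat.card_eq_fintype_card, Nat.card_eq_fintype_card, h1]

end CfsgLib.Char
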