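import Cfsg.Agent.Char.ExtCrit

/-! Consequences of the extension criteria. -/

set_option linter.unusedSectionVars false
set_option linter.style.haveILetI false

namespace CfsgLib.Char

open Module Cfsg
open scoped ComplexConjugate

universe u v w

variable {G : Type u} [Group G] [Finite G]

theorem detChar_exists_hom {χ : G → ℂ} (h : IsCharacter G χ) :
    ∃ D : G →* ℂˣ, detChar χ = fun g => (D g : ℂ) := by
  obtain ⟨n, ρ, rfl⟩ := h
  exact ⟨detHom ρ, detChar_eq ρ⟩

theorem detChar_mul_linear {χ : G → ℂ} (h : IsCharacter G χ) {d : ℕ} (hd : χ 1 = d) (μ : G →* ℂˣ) :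
    detChar (fun g => χ g * (μ g : ℂ)) = fun g => detChar χ g * (μ g : ℂ) ^ d := by
  obtain ⟨n, ρ, rfl⟩ := h
  have hn : n = d := by
    rw [Representation.char_one, finrank_fin_fun] at hd; exact_mod_cast hd
  subst hn
  let σ : Representation ℂ G (Fin n → ℂ) :=
    { toFun := fun g => (μ g : ℂ) • ρ g
      map_one' := by simp
      map_mul' := fun a b => by
        rw [map_mul, map_mul, Units.val_mul, smul_mul_smul_comm] }
  have hσ : σ.character = fun g => ρ.character g * (μ g : ℂ) := by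
    ext g
    show LinearMap.trace ℂ _ ((μ g : ℂ) • ρ g) = _
    rw [map_smul, smul_eq_mul, mul_comm]
    rfl
  rw [← hσ, detChar_eq σ, detChar_eq ρ]
  ext g
  show LinearMap.det ((μ g : ℂ) • ρ g) = _
  rw [LinearMap.det_smul, finrank_fin_fun, mul_comm]

variable {N : Subgroup G} [hN : N.Normal]

theorem detChar_res {χ : G → ℂ} (h : IsCharacter G χ) {θ : N → ℂ} (hres : ∀ n : N, χ n = θ n)
    (n : N) : detChar χ n = detChar θ n := by
  obtain ⟨m, ρ, rfl⟩ := h
  let τ : Representation ℂ N (Fin m → ℂ) := ρ.comp N.subtype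
  have hτ : τ.character = θ := funext hres
  rw [← hτ, detChar_eq ρ, detChar_eq τ]
  rfl

/-- extensions with a prescribed determinant -/
theorem existsUnique_det {θ : N → ℂ} (hθ : IsIrrCharacter N θ) {d : ℕ} (hd : θ 1 = d)
    (hcop : Nat.Coprime N.index d) {η : G → ℂ} (hη : IsIrrCharacter G η)
    (hηN : ∀ n : N, η n = θ n) (M : G →* ℂˣ) (hM : ∀ n : N, (M n : ℂ) = detChar θ n) :
    ∃! χ : G → ℂ, IsIrrCharacter G χ ∧ (∀ n : N, χ n = θ n) ∧
      detChar χ = fun g => (M g : ℂ) := by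
  haveI := Fintype.ofFinite G
  haveI := Fintype.ofFinite N
  have hη1 : η 1 = d := by rw [← hd, ← hηN 1]; rfl
  have hηc := isCharacter_of_isIrr hη
  obtain ⟨D, hD⟩ := detChar_exists_hom hηc
  set ν := M / D with hν
  have hνN : ∀ n : N, ν n = 1 := fun n => by
    have h : (M n : ℂ) = (D n : ℂ) := by
      rw [hM, ← detChar_res hηc hηN n, hD]
    rw [hν, MonoidHom.div_apply, Units.ext h, div_self']
  have hindex : ∀ B : G →* ℂˣ, (∀ n : N, B n = 1) → ∀ g, B g ^ N.index = 1 := fun B hB g => by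
    rw [← map_pow]; exact hB ⟨g ^ N.index, N.pow_index_mem g⟩
  obtain ⟨s, hs1, hs2⟩ := Nat.chineseRemainder hcop 1 0
  obtain ⟨k, rfl⟩ := Nat.modEq_zero_iff_dvd.mp hs2
  have hkd : ∀ g, (ν g ^ k) ^ d = ν g := fun g => by
    rw [← pow_mul, mul_comm]
    conv_rhs => rw [← pow_one (ν g)]
    exact pow_eq_pow_iff_modEq.mpr (hs1.of_dvd (orderOf_dvd_of_pow_eq_one (hindex ν hνN g)))
  set β := ν ^ k with hβ
  refine ⟨fun g => η g * (β g : ℂ), ⟨irr_mul_linear hη β, fun n => ?_, ?_⟩, ?_⟩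
  · show η n * _ = _
    rw [hβ, MonoidHom.pow_apply, hνN, one_pow, Units.val_one, mul_one, hηN]
  · rw [detChar_mul_linear hηc hη1 β, hD]
    ext g
    rw [hβ, MonoidHom.pow_apply, ← Units.val_pow_eq_pow_val, hkd, ← Units.val_mul]
    congr 1
    simp [hν]
  · rintro χ ⟨hχ, hχN, hχdet⟩
    obtain ⟨b, ⟨hb, hbN⟩, heq⟩ := (gallagher hθ hηc hηN).surjOn
      (⟨hχ, by rw [funext hχN, irr_inner_self hθ]; exact one_ne_zero⟩ :
        χ ∈ {ψ : G → ℂ | IsIrrCharacter G ψ ∧ classInner (fun n : N => ψ n) θ ≠ 0})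
    have hd0 : (d : ℂ) ≠ 0 := by rw [← hη1]; exact irr_one_ne_zero hη
    have hb1 : b 1 = 1 := by
      have h1 := congrFun heq 1
      simp only [Pi.mul_apply] at h1
      rw [hη1, show χ 1 = (d : ℂ) by rw [← hd, ← hχN 1]; rfl] at h1
      exact mul_right_cancel₀ hd0 (h1.trans (one_mul _).symm)
    obtain ⟨B, rfl⟩ := exists_hom_of_degree_one (isCharacter_of_isIrr hb) hb1
    have hBN : ∀ n : N, B n = 1 := fun n => Units.ext ((hbN n).trans hb1)
    have hχ' : χ = fun g => η g * (B g : ℂ) := by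
      rw [← heq]; ext g; exact mul_comm _ _
    rw [hχ', detChar_mul_linear hηc hη1 B, hD] at hχdet
    rw [hχ']
    ext g
    have h1 : B g ^ d = ν g := by
      have h2 := congrFun hχdet g
      simp only at h2
      rw [hν, MonoidHom.div_apply, eq_div_iff_mul_eq', mul_comm]
      exact Units.ext (by simpa using h2)
    have h3 : B g = β g := by
      have hx : B g ^ N.index = 1 := hindex B hBN g
      rw [hβ, MonoidHom.pow_apply, ← h1, ← pow_mul]
      conv_lhs => rw [← pow_one (B g)]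
      exact (pow_eq_pow_iff_modEq.mpr (hs1.of_dvd (orderOf_dvd_of_pow_eq_one hx))).symm
    rw [h3]

/-- the canonical extension -/
theorem exists_canonical_extension {θ : N → ℂ} (hθ : IsIrrCharacter N θ)
    (hinv : ∀ g : G, conjN θ g = θ) {d : ℕ} (hd : θ 1 = d)
    (hcop : Nat.Coprime N.index (detOrder θ * d)) :
    ∃ χ : G → ℂ, (IsIrrCharacter G χ ∧ (∀ n : N, χ n = θ n) ∧ detOrder χ = detOrder θ) ∧
      ∀ χ' : G → ℂ, IsIrrCharacter G χ' → (∀ n : N, χ' n = θ n) →
        Nat.Coprime N.index (detOrder χ') → χ' = χ := by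
  obtain ⟨D, hD⟩ := detChar_exists_hom (isCharacter_of_isIrr hθ)
  have hcd : Nat.Coprime N.index d := Nat.Coprime.coprime_dvd_right (dvd_mul_left d _) hcop
  have hco : Nat.Coprime N.index (orderOf D) := by
    have h := Nat.Coprime.coprime_dvd_right (dvd_mul_right (detOrder θ) d) hcop
    rwa [detOrder, hD, orderOf_coe_linear] at h
  have hDinv : ∀ (g : G) (n : N), D ⟨g * n * g⁻¹, hN.conj_mem n n.2 g⟩ = D n := by
    intro g n
    obtain ⟨m, ρ, -, hρc⟩ := hθ
    let τ : Representation ℂ N (Fin m → ℂ) := ρ.comp (MulAut.conjNormal g : MulAut N).toMonoidHom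
    have hτ : τ.character = ρ.character := by
      conv_rhs => rw [hρc, ← hinv g, conjN_eq_comp, ← hρc]
      rfl
    rw [← hρc, detChar_eq ρ] at hD
    apply Units.ext
    rw [← congrFun hD n, ← congrFun hD, det_eq_of_char_eq ρ τ hτ.symm n]
    rfl
  obtain ⟨M, hM, hMo, hMu⟩ := extend_coprime_order D hDinv hco
  have hMN : ∀ n : N, (M n : ℂ) = detChar θ n := fun n => by rw [hD, hM]
  obtain ⟨η, hη, hηN⟩ := extend_of_det hθ hinv hd hcd (fun g => (M g : ℂ)) (isCharacter_linear M)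
    (by simp) hMN
  obtain ⟨χ, ⟨hχ, hχN, hχdet⟩, huniq⟩ := existsUnique_det hθ hd hcd hη hηN M hMN
  refine ⟨χ, ⟨hχ, hχN, ?_⟩, fun χ' hχ' hχ'N hco' => huniq χ' ⟨hχ', hχ'N, ?_⟩⟩
  · rw [detOrder, detOrder, hχdet, hD, orderOf_coe_linear, orderOf_coe_linear, hMo]
  · obtain ⟨D', hD'⟩ := detChar_exists_hom (isCharacter_of_isIrr hχ')
    rw [detOrder, hD', orderOf_coe_linear] at hco'
    rw [hD', hMu D' (fun n => Units.ext ?_) hco']
    rw [← congrFun hD' n, detChar_res (isCharacter_of_isIrr hχ') hχ'N n, hD]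

theorem finrank_dvd_index {V : Type v} [AddCommGroup V] [Module ℂ V] [FiniteDimensional ℂ V]
    (ρ : Representation ℂ G V) [ρ.IsIrreducible] (A : Subgroup G) [A.Normal]
    (hA : ∀ a ∈ A, ∀ b ∈ A, a * b = b * a) : finrank ℂ V ∣ A.index := by
  haveI := Fintype.ofFinite G
  haveI := Fintype.ofFinite A
  have hχ := isIrr_of_rep ρ ‹_›
  obtain ⟨θ, hθ, hc⟩ := exists_constituent_res (N := A) hχ
  have hθ1 : θ 1 = 1 :=
    irr_degree_one_of_comm (fun a b => Subtype.ext (hA a a.2 b b.2)) hθ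
  obtain ⟨k, hk, hdvd⟩ := degree_quotient hχ hθ hc
  rw [hθ1, mul_one, Representation.char_one, Nat.cast_inj] at hk
  rwa [hk]

end CfsgLib.Char
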