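import Cfsg.Agent.Char.Artin
import Cfsg.Agent.Char.Galois
import Cfsg.Agent.Char.ExtMore

/-! Galois twists `g ↦ χ (g ^ m)` of characters. -/

set_option linter.unusedSectionVars false
set_option linter.style.haveILetI false

namespace CfsgLib.Char

open Module Cfsg
open scoped ComplexConjugate

universe u

variable {G : Type u} [Group G]

theorem conj_pow_mem_iff [Finite G] {m : ℕ} (hm : m.Coprime (Nat.card G)) (H : Subgroup G) (g : G) :
    g ^ m ∈ H ↔ g ∈ H := by
  refine ⟨fun h => ?_, fun h => H.pow_mem h m⟩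
  obtain ⟨k, hk⟩ := exists_pow_eq_self_of_coprime
    (hm.coprime_dvd_right (orderOf_dvd_natCard g))
  rw [← hk]
  exact H.pow_mem h k

theorem indFun_pow [Fintype G] {m : ℕ} (hm : m.Coprime (Nat.card G)) (H : Subgroup G)
    (lam : H →* ℂˣ) (g : G) :
    indFun H (fun h => (lam h : ℂ)) (g ^ m) = indFun H (fun h => ((lam ^ m) h : ℂ)) g := by
  rw [indFun_apply, indFun_apply]
  congr 1
  refine Finset.sum_congr rfl fun x _ => ?_
  have hc : x⁻¹ * g ^ m * x = (x⁻¹ * g * x) ^ m := by
    have := conj_pow (i := m) (a := x⁻¹) (b := g)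
    simpa using this.symm
  rw [hc]
  by_cases h : x⁻¹ * g * x ∈ H
  · rw [extendByZero_mem' _ _ (H.pow_mem h m), extendByZero_mem' _ _ h,
      show (⟨(x⁻¹ * g * x) ^ m, H.pow_mem h m⟩ : H) = (⟨x⁻¹ * g * x, h⟩ : H) ^ m from rfl,
      map_pow]
    rfl
  · rw [extendByZero_not_mem _ _ h,
      extendByZero_not_mem _ _ (fun e => h ((conj_pow_mem_iff hm H _).mp e))]

/-- a coprime power twist of a character is a generalized character -/
theorem gen_pow [Fintype G] {m : ℕ} (hm : m.Coprime (Nat.card G)) {χ : G → ℂ}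
    (hχ : IsCharacter G χ) : IsGeneralizedCharacter G (fun g => χ (g ^ m)) := by
  have h := char_mem_monomialSpan hχ
  clear hχ
  induction h using AddSubgroup.closure_induction with
  | mem f hf =>
    obtain ⟨i, -, rfl⟩ := hf
    refine ⟨indFun i.1 (fun h => ((i.2 ^ m) h : ℂ)), 0,
      isCharacter_indFun _ (isCharacter_linear _), isCharacter_zero, ?_⟩
    funext g
    rw [Pi.sub_apply, Pi.zero_apply, sub_zero, indFun_pow hm]
  | zero => exact ⟨0, 0, isCharacter_zero, isCharacter_zero, by funext g; simp⟩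
  | add f f' _ _ hf hf' =>
    obtain ⟨a, b, ha, hb, h⟩ := hf
    obtain ⟨a', b', ha', hb', h'⟩ := hf'
    refine ⟨a + a', b + b', isCharacter_add ha ha', isCharacter_add hb hb', ?_⟩
    funext g
    have e := congrFun h g
    have e' := congrFun h' g
    simp only [Pi.sub_apply, Pi.add_apply] at e e' ⊢
    linear_combination e + e'
  | neg f _ hf =>
    obtain ⟨a, b, ha, hb, h⟩ := hf
    refine ⟨b, a, hb, ha, ?_⟩
    funext g
    have e := congrFun h g
    simp only [Pi.sub_apply, Pi.neg_apply] at e ⊢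
    linear_combination -e

/-- a coprime power twist of an irreducible character is irreducible -/
theorem irr_pow [Finite G] {m : ℕ} (hm : m.Coprime (Nat.card G)) {χ : G → ℂ}
    (hχ : IsIrrCharacter G χ) : IsIrrCharacter G (fun g => χ (g ^ m)) := by
  haveI := Fintype.ofFinite G
  have hn : classInner (fun g => χ (g ^ m)) (fun g => χ (g ^ m)) = 1 := by
    rw [← irr_inner_self hχ, classInner_def, classInner_def]
    congr 1
    exact Fintype.sum_bijective _ (pow_coprime_bijective hm) _ _ fun g => rfl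
  rcases isIrr_or_neg_of_norm (gen_pow hm (isCharacter_of_isIrr hχ)) hn with h | h
  · exact h
  · exfalso
    obtain ⟨a, ha, hχ1⟩ := irr_deg hχ
    obtain ⟨b, hb, hneg⟩ := irr_deg h
    simp only [Pi.neg_apply, one_pow, hχ1] at hneg
    have : (a : ℤ) + b = 0 := by
      have h2 : ((a : ℤ) + b : ℂ) = 0 := by push_cast; linear_combination -hneg
      exact_mod_cast h2
    omega

/-- the determinant of a twist -/
theorem detChar_pow [Finite G] {m : ℕ} (hm : m.Coprime (Nat.card G)) {χ : G → ℂ}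
    (hχ : IsIrrCharacter G χ) (g : G) : detChar (fun g => χ (g ^ m)) g = detChar χ g ^ m := by
  obtain ⟨d, ρ, hρ, rfl⟩ := hχ
  obtain ⟨e, σ, hσ, hσc⟩ := irr_pow hm ⟨d, ρ, hρ, rfl⟩
  rw [← hσc, detChar_eq σ, detChar_eq ρ]
  obtain ⟨ζ, hζ, hpow, -, hdet⟩ := exists_roots ρ g
  obtain ⟨ξ, hξ, hpow', -, hdet'⟩ := exists_roots σ g
  show LinearMap.det (σ g) = LinearMap.det (ρ g) ^ m
  rw [hdet', hdet, ← Finset.prod_pow]
  refine prod_eq_of_powSums (orderOf_pos g).ne' ξ (fun i => ζ i ^ m) hξ
    (fun i => by rw [← pow_mul, mul_comm, pow_mul, hζ, one_pow]) fun k => ?_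
  rw [← hpow' k, hσc]
  show ρ.character ((g ^ k) ^ m) = _
  rw [← pow_mul, hpow]
  exact Finset.sum_congr rfl fun i _ => by rw [← pow_mul, mul_comm]

end CfsgLib.Char
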