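import Cfsg.Agent.Char.Burnside
import Cfsg.Agent.Char.Clifford
import Cfsg.Prelude.Def_CharExt
import Mathlib.GroupTheory.Transfer

/-! Linear characters: extension, transfer, determinants. -/

set_option linter.unusedSectionVars false
set_option linter.style.haveILetI false

namespace CfsgLib.Char

open Module Cfsg
open scoped ComplexConjugate

universe u v w

section linext

variable {G : Type u} [Group G] [Finite G] {N : Subgroup G} [hN : N.Normal]

/-- exponents `k` such that `lam ^ k` extends to the whole group -/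
noncomputable def extPow (lam : N →* ℂˣ) : AddSubgroup ℤ where
  carrier := {k | ∃ L : G →* ℂˣ, ∀ n : N, L n = lam n ^ k}
  zero_mem' := ⟨1, fun n => by simp⟩
  add_mem' := fun {a b} ⟨L, hL⟩ ⟨M, hM⟩ => ⟨L * M, fun n => by simp [hL, hM, zpow_add]⟩
  neg_mem' := fun {a} ⟨L, hL⟩ => ⟨L⁻¹, fun n => by simp [hL]⟩

theorem orderOf_mem_extPow (lam : N →* ℂˣ) : (orderOf lam : ℤ) ∈ extPow lam :=
  ⟨1, fun n => by
    rw [zpow_natCast, ← MonoidHom.pow_apply, pow_orderOf_eq_one]; simp⟩

theorem extend_of_extPow (lam : N →* ℂˣ)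
    (h : ∀ p : ℕ, p.Prime → ∃ k ∈ extPow lam, ¬ (p : ℤ) ∣ k) :
    ∃ L : G →* ℂˣ, ∀ n : N, L n = lam n := by
  obtain ⟨d, hd⟩ := Int.subgroup_cyclic (extPow lam)
  rw [← AddSubgroup.zmultiples_eq_closure] at hd
  have hd1 : d.natAbs = 1 := by
    by_contra hne
    obtain ⟨q, hq, hqd⟩ := Nat.exists_prime_and_dvd hne
    obtain ⟨k, hk, hqk⟩ := h q hq
    rw [hd, Int.mem_zmultiples_iff] at hk
    exact hqk ((Int.natCast_dvd.mpr hqd).trans hk)
  have h1 : (1 : ℤ) ∈ extPow lam := by
    rw [hd, Int.mem_zmultiples_iff]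
    exact (Int.isUnit_iff_natAbs_eq.mpr hd1).dvd
  obtain ⟨L, hL⟩ := h1
  exact ⟨L, fun n => by simpa using hL n⟩

/-- transfer of an extension to a subgroup -/
theorem transfer_mem_extPow (lam : N →* ℂˣ) {H : Subgroup G} (hNH : N ≤ H)
    (hinv : ∀ (g : G) (n : N), lam ⟨g * n * g⁻¹, hN.conj_mem n n.2 g⟩ = lam n)
    (ν : H →* ℂˣ) (hν : ∀ n : N, ν ⟨n, hNH n.2⟩ = lam n) : (H.index : ℤ) ∈ extPow lam := by
  classical
  refine ⟨MonoidHom.transfer ν, fun n => ?_⟩
  letI := H.fintypeQuotientOfFiniteIndex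
  haveI : Fintype (Quotient (MulAction.orbitRel (Subgroup.zpowers (n : G)) (G ⧸ H))) :=
    Fintype.ofFinite _
  rw [MonoidHom.transfer_eq_prod_quotient_orbitRel_zpowers_quot, zpow_natCast,
    Subgroup.index_eq_sum_minimalPeriod H (n : G), ← Finset.prod_pow_eq_pow_sum]
  refine Finset.prod_congr rfl fun q _ => ?_
  set k := Function.minimalPeriod ((n : G) • ·) q.out
  set c := q.out.out
  have hmem : c⁻¹ * (n : G) ^ k * c⁻¹⁻¹ ∈ N :=
    hN.conj_mem _ (N.pow_mem n.2 k) c⁻¹
  have h1 := hν ⟨_, hmem⟩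
  have h2 := hinv c⁻¹ (n ^ k)
  have h2' : lam ⟨c⁻¹ * (n : G) ^ k * c⁻¹⁻¹, hmem⟩ = lam n ^ k := by
    rw [← map_pow]
    refine Eq.trans ?_ h2
    congr 1
  rw [← h2', ← h1]
  congr 1
  exact Subtype.ext (by simp; rfl)

theorem index_mem_extPow (lam : N →* ℂˣ)
    (hinv : ∀ (g : G) (n : N), lam ⟨g * n * g⁻¹, hN.conj_mem n n.2 g⟩ = lam n) :
    (N.index : ℤ) ∈ extPow lam :=
  transfer_mem_extPow lam le_rfl hinv lam fun _ => rfl

theorem extend_of_coprime (lam : N →* ℂˣ) {a b : ℕ} (hab : Nat.Coprime a b)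
    (ha : (a : ℤ) ∈ extPow lam) (hb : (b : ℤ) ∈ extPow lam) :
    ∃ L : G →* ℂˣ, ∀ n : N, L n = lam n := by
  refine extend_of_extPow lam fun p hp => ?_
  by_cases hpa : p ∣ a
  · exact ⟨b, hb, fun h => hp.not_dvd_one (hab ▸ Nat.dvd_gcd hpa (Int.natCast_dvd_natCast.mp h))⟩
  · exact ⟨a, ha, fun h => hpa (Int.natCast_dvd_natCast.mp h)⟩

/-- a linear character of coprime order extends, uniquely among those of coprime order -/
theorem extend_coprime_order (lam : N →* ℂˣ)
    (hinv : ∀ (g : G) (n : N), lam ⟨g * n * g⁻¹, hN.conj_mem n n.2 g⟩ = lam n)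
    (hcop : Nat.Coprime N.index (orderOf lam)) :
    ∃ L : G →* ℂˣ, (∀ n : N, L n = lam n) ∧ orderOf L = orderOf lam ∧
      ∀ L' : G →* ℂˣ, (∀ n : N, L' n = lam n) → Nat.Coprime N.index (orderOf L') → L' = L := by
  set m := orderOf lam with hm
  obtain ⟨L0, hL0⟩ := extend_of_coprime lam hcop (index_mem_extPow lam hinv) (orderOf_mem_extPow lam)
  have hindex : ∀ M : G →* ℂˣ, (∀ n : N, M n = 1) → M ^ N.index = 1 := by
    intro M hM
    ext g
    rw [MonoidHom.pow_apply, ← map_pow]
    exact congrArg Units.val (hM ⟨g ^ N.index, N.pow_index_mem g⟩)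
  obtain ⟨s, hs1, hs2⟩ := Nat.chineseRemainder hcop 0 1
  have hlamm : ∀ n : N, lam n ^ m = 1 := fun n => by
    rw [← MonoidHom.pow_apply, hm, pow_orderOf_eq_one]; rfl
  have hres : ∀ n : N, (L0 ^ s) n = lam n := by
    intro n
    rw [MonoidHom.pow_apply, hL0]
    conv_rhs => rw [← pow_one (lam n)]
    exact pow_eq_pow_iff_modEq.mpr (hs2.of_dvd (orderOf_dvd_of_pow_eq_one (hlamm n)))
  have hord : orderOf (L0 ^ s) = m := by
    refine Nat.dvd_antisymm ?_ ?_
    · apply orderOf_dvd_of_pow_eq_one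
      obtain ⟨c, hc⟩ := Nat.modEq_zero_iff_dvd.mp hs1
      have h1 := hindex (L0 ^ m) fun n => by rw [MonoidHom.pow_apply, hL0, hlamm]
      ext g
      have h1g := DFunLike.congr_fun h1 g
      simp only [MonoidHom.pow_apply, MonoidHom.one_apply] at h1g ⊢
      rw [← pow_mul, hc, show N.index * c * m = m * N.index * c by ring, pow_mul, pow_mul, h1g,
        one_pow]
    · rw [hm]
      refine orderOf_dvd_of_pow_eq_one (MonoidHom.ext fun n => ?_)
      rw [MonoidHom.pow_apply, ← hres, ← MonoidHom.pow_apply, pow_orderOf_eq_one]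
      rfl
  refine ⟨L0 ^ s, hres, hord, fun L' hL' hcop' => ?_⟩
  have h1 : (L' / L0 ^ s) ^ N.index = 1 := hindex _ fun n => by
    rw [MonoidHom.div_apply, hL', hres, div_self']
  have h2 : (L' / L0 ^ s) ^ (orderOf L' * m) = 1 := by
    have ha := DFunLike.congr_fun (pow_orderOf_eq_one L')
    have hb := DFunLike.congr_fun (pow_orderOf_eq_one (L0 ^ s))
    rw [hord] at hb
    ext g
    simp only [MonoidHom.pow_apply, MonoidHom.one_apply, MonoidHom.div_apply] at ha hb ⊢
    rw [div_pow, pow_mul (L' g), ha, one_pow, mul_comm, pow_mul, hb, one_pow, div_one]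
  have h3 : orderOf (L' / L0 ^ s) ∣ 1 := by
    rw [← (hcop'.mul_right hcop).gcd_eq_one]
    exact Nat.dvd_gcd (orderOf_dvd_of_pow_eq_one h1) (orderOf_dvd_of_pow_eq_one h2)
  exact div_eq_one.mp (orderOf_eq_one_iff.mp (Nat.dvd_one.mp h3))

/-- as functions, linear characters have the same order -/
theorem orderOf_coe_linear {H : Type v} [Group H] (L : H →* ℂˣ) :
    orderOf (fun h => (L h : ℂ)) = orderOf L :=
  orderOf_injective (G := H →* ℂˣ)
    ({ toFun := fun M h => (M h : ℂ), map_one' := rfl,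
       map_mul' := fun _ _ => funext fun _ => Units.val_mul _ _ } : (H →* ℂˣ) →* (H → ℂ))
    (fun _ _ h => MonoidHom.ext fun x => Units.ext (congrFun h x)) L

theorem coe_linear_injective {H : Type v} [Group H] {L M : H →* ℂˣ}
    (h : (fun x => (L x : ℂ)) = fun x => (M x : ℂ)) : L = M :=
  MonoidHom.ext fun x => Units.ext (congrFun h x)

end linext

section det

variable {G : Type u} [Group G] [Finite G]

/-- two families of roots of unity with equal power sums have equal products -/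
theorem prod_eq_of_powSums {ι : Type v} {κ : Type w} [Fintype ι] [Fintype κ] {n : ℕ} (hn : n ≠ 0)
    (a : ι → ℂ) (b : κ → ℂ) (ha : ∀ i, a i ^ n = 1) (hb : ∀ j, b j ^ n = 1)
    (h : ∀ k : ℕ, ∑ i, a i ^ k = ∑ j, b j ^ k) : ∏ i, a i = ∏ j, b j := by
  classical
  have hcount : ∀ {α : Type} [Fintype α] (c : α → ℂ), (∀ i, c i ^ n = 1) → ∀ z : ℂ, z ^ n = 1 →
      ((Finset.univ.filter fun i => c i = z).card : ℂ) * (n : ℂ) =
        ∑ k ∈ Finset.range n, (z ^ k)⁻¹ * ∑ i, c i ^ k := by
    intro α _ c hc z hz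
    have hz0 : z ≠ 0 := fun e => by simp [e, zero_pow hn] at hz
    simp only [Finset.mul_sum]
    rw [Finset.sum_comm, Finset.card_eq_sum_ones, Nat.cast_sum, Finset.sum_mul, Finset.sum_filter]
    refine Finset.sum_congr rfl fun i _ => ?_
    have hk : ∀ k, (z ^ k)⁻¹ * c i ^ k = (z⁻¹ * c i) ^ k := fun k => by rw [mul_pow, inv_pow]
    simp only [hk]
    split_ifs with he
    · simp [he, inv_mul_cancel₀ hz0]
    · have hne : z⁻¹ * c i ≠ 1 := fun e => he (by
        rw [inv_mul_eq_iff_eq_mul₀ hz0, mul_one] at e; exact e)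
      rw [geom_sum_eq hne, mul_pow, hc, inv_pow, hz, inv_one, one_mul, sub_self, zero_div]
  let ea := Fintype.equivFin ι
  let eb := Fintype.equivFin κ
  let a' := a ∘ ea.symm
  let b' := b ∘ eb.symm
  rw [← ea.symm.prod_comp, ← eb.symm.prod_comp]
  show ∏ i, a' i = ∏ j, b' j
  let S : Finset ℂ := Finset.univ.image a' ∪ Finset.univ.image b'
  have hS : ∀ z ∈ S, z ^ n = 1 := by
    intro z hz
    rcases Finset.mem_union.mp hz with h' | h' <;>
      obtain ⟨i, -, rfl⟩ := Finset.mem_image.mp h'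
    · exact ha _
    · exact hb _
  rw [← Finset.prod_fiberwise_of_maps_to (t := S) (g := a') (fun i hi =>
      Finset.mem_union_left _ (Finset.mem_image.mpr ⟨i, hi, rfl⟩)) a',
    ← Finset.prod_fiberwise_of_maps_to (t := S) (g := b') (fun i hi =>
      Finset.mem_union_right _ (Finset.mem_image.mpr ⟨i, hi, rfl⟩)) b']
  refine Finset.prod_congr rfl fun z hz => ?_
  rw [Finset.prod_congr rfl fun i hi => (Finset.mem_filter.mp hi).2,
    Finset.prod_congr rfl fun i hi => (Finset.mem_filter.mp hi).2,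
    Finset.prod_const, Finset.prod_const]
  congr 1
  have h1 := hcount a' (fun i => ha _) z (hS z hz)
  have h2 := hcount b' (fun i => hb _) z (hS z hz)
  have hsame : ∀ k, ∑ i, a' i ^ k = ∑ j, b' j ^ k := fun k => by
    simp only [a', b', Function.comp_apply]
    rw [ea.symm.sum_comp (fun i => a i ^ k), eb.symm.sum_comp (fun i => b i ^ k), h]
  simp only [hsame] at h1
  rw [← h2] at h1
  exact_mod_cast mul_right_cancel₀ (Nat.cast_ne_zero.mpr hn) h1

variable {V : Type v} [AddCommGroup V] [Module ℂ V] [FiniteDimensional ℂ V]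
  {W : Type w} [AddCommGroup W] [Module ℂ W] [FiniteDimensional ℂ W]

/-- the determinant only depends on the character -/
theorem det_eq_of_char_eq (ρ : Representation ℂ G V) (σ : Representation ℂ G W)
    (h : ρ.character = σ.character) (g : G) : LinearMap.det (ρ g) = LinearMap.det (σ g) := by
  obtain ⟨b, ζ, hζ, hb⟩ := exists_eigenbasis ρ g
  obtain ⟨b', ζ', hζ', hb'⟩ := exists_eigenbasis σ g
  rw [det_of_eigen hb, det_of_eigen hb']
  refine prod_eq_of_powSums (orderOf_pos g).ne' ζ ζ' hζ hζ' fun k => ?_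
  have h1 := trace_of_eigen (eigen_pow hb k)
  have h2 := trace_of_eigen (eigen_pow hb' k)
  rw [← h1, ← h2]
  exact congrFun h (g ^ k)

theorem detChar_eq (ρ : Representation ℂ G V) :
    detChar ρ.character = fun g => LinearMap.det (ρ g) := by
  have h := isCharacter_of_rep ρ
  ext g
  rw [detChar, dif_pos h]
  exact det_eq_of_char_eq _ ρ (Classical.choose_spec (Classical.choose_spec h)) g

/-- the determinant as a linear character -/
noncomputable def detHom (ρ : Representation ℂ G V) : G →* ℂˣ :=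
  ((LinearMap.det : _ →* ℂ).comp ρ).toHomUnits

theorem detHom_apply (ρ : Representation ℂ G V) (g : G) :
    (detHom ρ g : ℂ) = LinearMap.det (ρ g) := rfl

theorem detChar_eq_detHom (ρ : Representation ℂ G V) :
    detChar ρ.character = fun g => (detHom ρ g : ℂ) := detChar_eq ρ

/-- irreducible representations with equal characters are isomorphic -/
theorem exists_equiv_of_char_eq (ρ : Representation ℂ G V) (σ : Representation ℂ G W)
    [ρ.IsIrreducible] [σ.IsIrreducible] (h : ρ.character = σ.character) :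
    ∃ e : V ≃ₗ[ℂ] W, ∀ g v, e (ρ g v) = σ g (e v) := by
  haveI := Fintype.ofFinite G
  have h1 := inner_eq_finrank ρ σ
  rw [← h, inner_eq_finrank ρ ρ, Representation.IsIrreducible.finrank_intertwiningMap_self] at h1
  have h2 : finrank ℂ (ρ.IntertwiningMap σ) = 1 := by exact_mod_cast h1.symm
  haveI : Nontrivial (ρ.IntertwiningMap σ) :=
    Module.nontrivial_of_finrank_eq_succ (n := 0) h2
  obtain ⟨f, hf⟩ := exists_ne (0 : ρ.IntertwiningMap σ)
  have hbij := (Representation.IsIrreducible.bijective_or_eq_zero f).resolve_right hf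
  exact ⟨LinearEquiv.ofBijective f.toLinearMap hbij,
    fun g v => f.isIntertwining ρ σ g v⟩

end det

end CfsgLib.Char
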