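import Cfsg.Agent.Char.Clifford
import Cfsg.Agent.Char.Burnside
import Mathlib.GroupTheory.Nilpotent

/-! Kernels of constituents, abelian groups, nilpotent groups are monomial. -/

set_option linter.unusedSectionVars false
set_option linter.style.haveILetI false

namespace CfsgLib.Char

open Module Cfsg
open scoped ComplexConjugate

universe u

theorem kernel_of_summand {G : Type u} [Group G] [Finite G] {φ φ' : G → ℂ}
    (h : IsCharacter G φ) (h' : IsCharacter G φ') {g : G} (hg : (φ + φ') g = (φ + φ') 1) :
    φ g = φ 1 := by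
  have h1 := char_norm_le h g
  have h2 := char_norm_le h' g
  have h3 : (φ g).re + (φ' g).re = (charDegree φ : ℝ) + (charDegree φ' : ℝ) := by
    have := congrArg Complex.re hg
    simpa [char_one_eq h, char_one_eq h'] using this
  have h4 := Complex.re_le_norm (φ g)
  have h5 := Complex.re_le_norm (φ' g)
  have hre : (φ g).re = (charDegree φ : ℝ) := by linarith
  have hno : ‖φ g‖ = (φ g).re := by linarith
  have him : (φ g).im = 0 := by
    have := Complex.sq_norm (φ g)
    rw [hno, Complex.normSq_apply] at this
    exact mul_self_eq_zero.mp (by linarith)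
  rw [char_one_eq h]
  exact Complex.ext (by simpa using hre) (by simpa using him)

theorem kernel_of_constituent {G : Type u} [Group G] [Fintype G] {φ χ : G → ℂ}
    (h : IsCharacter G φ) (hχ : IsIrrCharacter G χ) (hc : classInner φ χ ≠ 0) {g : G}
    (hg : φ g = φ 1) : χ g = χ 1 :=
  kernel_of_summand (isCharacter_of_isIrr hχ) (isCharacter_sub_constituent h hχ hc)
    (by simpa using hg)

theorem irr_degree_one_of_comm {G : Type u} [Group G] [Finite G] (hab : ∀ a b : G, a * b = b * a)
    {χ : G → ℂ} (hχ : IsIrrCharacter G χ) : χ 1 = 1 := by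
  obtain ⟨n, ρ, hirr, rfl⟩ := hχ
  haveI := hirr
  haveI : IsMulCommutative G := ⟨⟨hab⟩⟩
  rw [Representation.char_one,
    Representation.IsIrreducible.finrank_eq_one_of_isMulCommutative ρ, Nat.cast_one]

/-- a character induced from a linear character -/
def IsMonomial {G : Type u} [Group G] [Fintype G] (χ : G → ℂ) : Prop :=
  ∃ (H : Subgroup G) (lam : H →* ℂˣ), χ = indFun H (fun h => (lam h : ℂ))

theorem indFun_top {G : Type u} [Group G] [Fintype G] {θ : G → ℂ} (hθ : IsClassFunction G θ) :
    indFun (⊤ : Subgroup G) (fun h => θ h) = θ := by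
  ext g
  rw [indFun_apply]
  have : ∀ x : G, extendByZero (⊤ : Subgroup G) (fun h => θ h) (x⁻¹ * g * x) = θ g := fun x => by
    rw [extendByZero_mem' _ _ (Subgroup.mem_top _)]
    simpa using hθ g x⁻¹
  rw [Finset.sum_congr rfl fun x _ => this x, Finset.sum_const, Finset.card_univ, nsmul_eq_mul,
    Fintype.card_eq_nat_card, Subgroup.card_top, ← mul_assoc,
    inv_mul_cancel₀ (natCard_ne_zero G), one_mul]

theorem isMonomial_of_linear {G : Type u} [Group G] [Fintype G] {χ : G → ℂ}
    (h : IsCharacter G χ) (h1 : χ 1 = 1) : IsMonomial χ := by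
  obtain ⟨μ, rfl⟩ := exists_hom_of_degree_one h h1
  exact ⟨⊤, μ.comp (⊤ : Subgroup G).subtype,
    (indFun_top (classFun_of_char (isCharacter_linear μ))).symm⟩

theorem isMonomial_indFun {G : Type u} [Group G] [Fintype G] (T : Subgroup G) [Fintype T]
    {ψ : T → ℂ} (h : IsMonomial ψ) : IsMonomial (indFun T ψ) := by
  obtain ⟨H, lam, rfl⟩ := h
  exact ⟨H.map T.subtype,
    lam.comp (Subgroup.equivMapOfInjective H T.subtype T.subtype_injective).symm.toMonoidHom,
    indFun_indFun T H _⟩

/-- a nilpotent non-abelian group has an abelian normal non-central subgroup -/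
theorem exists_abelian_normal_noncentral {Q : Type u} [Group Q] [Group.IsNilpotent Q]
    (h : ∃ a b : Q, a * b ≠ b * a) :
    ∃ A : Subgroup Q, A.Normal ∧ (∀ a ∈ A, ∀ b ∈ A, a * b = b * a) ∧
      ¬ A ≤ Subgroup.center Q := by
  obtain ⟨a, ha2, hac⟩ : ∃ a : Q, a ∈ Subgroup.upperCentralSeries Q 2 ∧ a ∉ Subgroup.center Q := by
    by_contra hc
    push Not at hc
    have hstep : ∀ n, Subgroup.upperCentralSeries Q n ≤ Subgroup.center Q := by
      intro n
      induction n with
      | zero => simp
      | succ n ih =>
        intro x hx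
        refine hc x ((Subgroup.mem_upperCentralSeries_succ_iff).mpr fun y => ?_)
        rw [Subgroup.upperCentralSeries_one]
        exact ih ((Subgroup.mem_upperCentralSeries_succ_iff).mp hx y)
    obtain ⟨n, hn⟩ := Group.IsNilpotent.nilpotent Q
    obtain ⟨x, y, hxy⟩ := h
    have : y ∈ Subgroup.center Q := hstep n (hn ▸ Subgroup.mem_top y)
    exact hxy (Subgroup.mem_center_iff.mp this x)
  have hcomm : ∀ y : Q, a * y * a⁻¹ * y⁻¹ ∈ Subgroup.center Q := fun y => by
    rw [← Subgroup.upperCentralSeries_one]
    simpa [commutatorElement_def] using Subgroup.mem_upperCentralSeries_succ_iff.mp ha2 y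
  refine ⟨Subgroup.closure (insert a (Subgroup.center Q : Set Q)), ?_, ?_,
    fun hle => hac (hle (Subgroup.subset_closure (Set.mem_insert _ _)))⟩
  · constructor
    intro n hn g
    induction hn using Subgroup.closure_induction with
    | mem x hx =>
      rcases hx with rfl | hx
      · have : g * x * g⁻¹ = (x * g * x⁻¹ * g⁻¹)⁻¹ * x := by group
        rw [this]
        exact Subgroup.mul_mem _
          (Subgroup.inv_mem _ (Subgroup.subset_closure (Set.mem_insert_of_mem _ (hcomm g))))
          (Subgroup.subset_closure (Set.mem_insert _ _))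
      · rw [Subgroup.mem_center_iff.mp hx g, mul_inv_cancel_right]
        exact Subgroup.subset_closure (Set.mem_insert_of_mem _ hx)
    | one => simp
    | mul x y _ _ hx hy =>
      rw [show g * (x * y) * g⁻¹ = (g * x * g⁻¹) * (g * y * g⁻¹) by group]
      exact Subgroup.mul_mem _ hx hy
    | inv x _ hx =>
      rw [show g * x⁻¹ * g⁻¹ = (g * x * g⁻¹)⁻¹ by group]
      exact Subgroup.inv_mem _ hx
  · have key : ∀ s ∈ insert a (Subgroup.center Q : Set Q),
        ∀ t ∈ insert a (Subgroup.center Q : Set Q), s * t = t * s := by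
      rintro s (rfl | hs) t (rfl | ht)
      · rfl
      · exact Subgroup.mem_center_iff.mp ht s
      · exact (Subgroup.mem_center_iff.mp hs t).symm
      · exact Subgroup.mem_center_iff.mp ht s
    intro x hx y hy
    haveI := Subgroup.isMulCommutative_closure key
    exact congrArg Subtype.val (mul_comm' (⟨x, hx⟩ : Subgroup.closure _) ⟨y, hy⟩)

theorem monomial_of_nilpotent {G : Type u} [Group G] [Fintype G] [Group.IsNilpotent G]
    {χ : G → ℂ} (hχ : IsIrrCharacter G χ) : IsMonomial χ := by
  induction hn : Nat.card G using Nat.strong_induction_on generalizing G with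
  | _ N ih =>
    classical
    by_cases h1 : χ 1 = 1
    · exact isMonomial_of_linear (isCharacter_of_isIrr hχ) h1
    obtain ⟨K, hK, hmemK, htrans⟩ := exists_kernel (isCharacter_of_isIrr hχ)
    haveI := hK
    haveI := Fintype.ofFinite (G ⧸ K)
    obtain ⟨χ', hχ', hcomp⟩ := irr_descend (QuotientGroup.mk' K) (QuotientGroup.mk'_surjective K) hχ
      fun k hk => (hmemK k).mp ((QuotientGroup.eq_one_iff k).mp hk)
    have hnab : ∃ a b : G ⧸ K, a * b ≠ b * a := by
      by_contra hc
      push Not at hc
      apply h1
      rw [← hcomp, Function.comp_apply, map_one]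
      exact irr_degree_one_of_comm hc hχ'
    obtain ⟨A', hA'n, hA'c, hA'z⟩ := exists_abelian_normal_noncentral hnab
    let A : Subgroup G := A'.comap (QuotientGroup.mk' K)
    haveI : A.Normal := hA'n.comap _
    haveI := Fintype.ofFinite A
    obtain ⟨θ, hθ, hc⟩ := exists_constituent_res (N := A) hχ
    have hθ1 : θ 1 = 1 := by
      haveI := Fintype.ofFinite A'
      let f : A →* A' := (QuotientGroup.mk' K).subgroupComap A'
      have hf : Function.Surjective f := fun y => by
        obtain ⟨x, hx⟩ := QuotientGroup.mk'_surjective K y.1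
        exact ⟨⟨x, by show QuotientGroup.mk' K x ∈ A'; rw [hx]; exact y.2⟩, Subtype.ext hx⟩
      obtain ⟨θ', hθ', hcomp'⟩ := irr_descend f hf hθ fun k hk => by
        refine kernel_of_constituent (isCharacter_restrict A (isCharacter_of_isIrr hχ)) hθ hc ?_
        exact (hmemK k).mp ((QuotientGroup.eq_one_iff (k : G)).mp (congrArg Subtype.val hk))
      rw [← hcomp', Function.comp_apply, map_one]
      exact irr_degree_one_of_comm (fun a b => Subtype.ext (hA'c a a.2 b b.2)) hθ'
    by_cases hinv : ∀ g : G, conjN θ g = θ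
    · exfalso
      apply hA'z
      intro y hy
      obtain ⟨x, rfl⟩ := QuotientGroup.mk'_surjective K y
      have hx : x ∈ A := hy
      have hres := res_homogeneous hχ hθ hc hinv
      obtain ⟨e, he⟩ := inner_char_irr (isCharacter_restrict A (isCharacter_of_isIrr hχ)) hθ
      rw [he] at hres
      have hd := congrFun hres 1
      simp only [OneMemClass.coe_one, Pi.smul_apply, smul_eq_mul, hθ1, mul_one] at hd
      obtain ⟨n, ρ, hirr, hρ⟩ := hχ
      haveI := hirr
      obtain ⟨μ, hμ⟩ := exists_hom_of_degree_one (isCharacter_of_isIrr hθ) hθ1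
      have hn : n = e := by
        rw [← hρ, Representation.char_one] at hd
        simpa using hd
      have hnorm : ‖ρ.character x‖ = (finrank ℂ (Fin n → ℂ) : ℝ) := by
        have := congrFun hres ⟨x, hx⟩
        simp only [Pi.smul_apply, smul_eq_mul] at this
        rw [hρ, this, hμ, norm_mul, Complex.norm_natCast,
          norm_root (orderOf_pos (⟨x, hx⟩ : A)).ne' (linear_root μ _), mul_one]
        simp [hn]
      obtain ⟨w, hw⟩ := rep_scalar_of_norm ρ x hnorm
      refine Subgroup.mem_center_iff.mpr fun z => ?_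
      obtain ⟨z, rfl⟩ := QuotientGroup.mk'_surjective K z
      have hcommK : (z * x)⁻¹ * (x * z) ∈ K := by
        rw [hmemK, ← hρ]
        have : ρ ((z * x)⁻¹ * (x * z)) = 1 := by
          rw [map_mul, map_mul ρ x z, hw, ← Module.End.one_eq_id, smul_mul_assoc, one_mul,
            show w • ρ z = ρ (z * x) by
              rw [map_mul, hw, ← Module.End.one_eq_id, mul_smul_comm, mul_one],
            ← map_mul, inv_mul_cancel, map_one]
        show LinearMap.trace ℂ _ (ρ _) = LinearMap.trace ℂ _ (ρ 1)
        rw [this, map_one ρ]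
      exact (QuotientGroup.eq.mpr hcommK)
    · push Not at hinv
      obtain ⟨g, hg⟩ := hinv
      haveI := Fintype.ofFinite (inertia θ)
      obtain ⟨ψ, hψ, hind, -⟩ := clifford_exists hθ (fun g => Iff.rfl)
        (le_inertia (classFun_of_irr hθ)) hχ hc
      rw [← hind]
      refine isMonomial_indFun _ (ih _ ?_ hψ rfl)
      rw [← hn, ← (inertia θ).index_mul_card]
      have hne : (inertia θ).index ≠ 1 := fun e => hg (by
        rw [Subgroup.index_eq_one] at e
        exact mem_inertia.mp (e ▸ Subgroup.mem_top g))
      have := (inertia θ).index_ne_zero_of_finite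
      exact lt_mul_of_one_lt_left Nat.card_pos (by omega)

end CfsgLib.Char
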