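import Cfsg.Prelude.Def_OddOrderChar
import Cfsg.Prelude.Def_OddOrderLocal
import Cfsg.Agent.Blk.ZStarBasic
import Cfsg.Agent.Char.Monomial
import Cfsg.Agent.Char.Linear
import Mathlib.GroupTheory.SpecificGroups.Cyclic

/-! The set-up of a self-normalising cyclic subgroup `W₁ ⊔ W₂`: the two projections, linear
characters, the induction of `(1 - φ)(1 - ψ)`. -/

set_option autoImplicit false
set_option linter.style.haveILetI false
set_option linter.unusedSectionVars false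

namespace CfsgLib.CTI

open Cfsg CfsgLib.Char
open scoped ComplexConjugate CfsgLib.Char

universe u

section abelian

variable {W : Type u} [Group W] [Fintype W]

/-- linear characters of an abelian group as its irreducible characters -/
noncomputable def linEquiv (hab : ∀ a b : W, a * b = b * a) : (W →* ℂˣ) ≃ IrrCharacter W :=
  Equiv.ofBijective (fun μ => (⟨fun w => (μ w : ℂ), isIrr_linear μ⟩ : IrrCharacter W))
    ⟨fun _ _ h => coe_linear_injective (congrArg Subtype.val h), fun χ => by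
      obtain ⟨μ, hμ⟩ := exists_hom_of_degree_one (isCharacter_of_isIrr χ.2)
        (irr_degree_one_of_comm hab χ.2)
      exact ⟨μ, Subtype.ext hμ.symm⟩⟩

theorem sum_linear_conj (hab : ∀ a b : W, a * b = b * a) [Fintype (W →* ℂˣ)] (x y : W)
    [Decidable (x = y)] :
    ∑ μ : W →* ℂˣ, (μ x : ℂ) * conj (μ y : ℂ) = if x = y then (Nat.card W : ℂ) else 0 := by
  classical
  have h := second_orth x y
  rw [← Equiv.sum_comp (linEquiv hab)] at h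
  have h' : ∑ μ : W →* ℂˣ, (μ x : ℂ) * conj (μ y : ℂ) =
      if IsConj x y then (Nat.card (Subgroup.centralizer ({x} : Set W)) : ℂ) else 0 := h
  rw [h']
  refine if_ctx_congr ⟨fun hc => ?_, fun hxy => hxy ▸ IsConj.refl x⟩ (fun hxy => ?_) (fun _ => rfl)
  · obtain ⟨c, hc⟩ := isConj_iff.1 hc
    rwa [hab c x, mul_inv_cancel_right] at hc
  · rw [show Subgroup.centralizer ({x} : Set W) = ⊤ from
      Subgroup.ext fun z => iff_of_true (Subgroup.mem_centralizer_singleton_iff.2 (hab z x)) trivial,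
      Subgroup.card_top]

theorem linear_inner (μ ν : W →* ℂˣ) [Decidable (μ = ν)] :
    classInner (fun w => (μ w : ℂ)) (fun w => (ν w : ℂ)) = if μ = ν then 1 else 0 := by
  classical
  rw [irr_inner (isIrr_linear μ) (isIrr_linear ν)]
  exact if_congr ⟨coe_linear_injective, fun h => h ▸ rfl⟩ rfl rfl

end abelian

variable {G : Type u} [Group G] [Fintype G] {W₁ W₂ : Subgroup G}
  (hW : IsSelfNormalizingCyclic W₁ W₂)
include hW

theorem comm (a b : ↥(W₁ ⊔ W₂)) : a * b = b * a := by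
  haveI := hW.2.2.2.2.1
  obtain ⟨c, hc⟩ := IsCyclic.exists_generator (α := ↥(W₁ ⊔ W₂))
  obtain ⟨i, rfl⟩ := Subgroup.mem_zpowers_iff.1 (hc a)
  obtain ⟨j, rfl⟩ := Subgroup.mem_zpowers_iff.1 (hc b)
  exact ((Commute.refl c).zpow_zpow i j).eq

/-- in the cyclic group `W`, a subgroup is cut out by its order -/
theorem mem_of_pow {V : Subgroup G} (hV : V ≤ W₁ ⊔ W₂) {u : G} (hu : u ∈ W₁ ⊔ W₂)
    (h : u ^ Nat.card V = 1) : u ∈ V := by
  classical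
  haveI := hW.2.2.2.2.1
  haveI : Fintype ↥(W₁ ⊔ W₂) := Fintype.ofFinite _
  let S := Finset.univ.filter fun v : ↥(W₁ ⊔ W₂) => v ^ Nat.card V = 1
  let T := Finset.univ.filter fun v : ↥(W₁ ⊔ W₂) => (v : G) ∈ V
  have hTS : T ⊆ S := fun v hv => Finset.mem_filter.2 ⟨Finset.mem_univ _, Subtype.ext (by
    push_cast
    exact orderOf_dvd_iff_pow_eq_one.1
      (Subgroup.orderOf_dvd_natCard _ (Finset.mem_filter.1 hv).2))⟩
  have hS : S.card ≤ Nat.card V := IsCyclic.card_pow_eq_one_le Nat.card_pos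
  have hT : T.card = Nat.card V := by
    rw [← Nat.card_congr (Subgroup.subgroupOfEquivOfLe hV).toEquiv,
      Nat.card_eq_fintype_card, Fintype.card_subtype]
    rfl
  have : (⟨u, hu⟩ : ↥(W₁ ⊔ W₂)) ∈ T := by
    rw [Finset.eq_of_subset_of_card_le hTS (by omega)]
    exact Finset.mem_filter.2 ⟨Finset.mem_univ _, Subtype.ext (by simpa using h)⟩
  exact (Finset.mem_filter.1 this).2

theorem coprime : (Nat.card W₁).Coprime (Nat.card W₂) := by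
  refine Nat.coprime_of_dvd fun p hp h1 h2 => ?_
  haveI := Fact.mk hp
  obtain ⟨a, ha⟩ := exists_prime_orderOf_dvd_card' p h1
  have ha1 : (a : G) ^ Nat.card W₂ = 1 := by
    rw [← orderOf_dvd_iff_pow_eq_one, Subgroup.orderOf_coe, ha]; exact h2
  have := Subgroup.mem_inf.2 ⟨a.2, mem_of_pow hW le_sup_right (Subgroup.mem_sup_left a.2) ha1⟩
  rw [hW.2.2.1, Subgroup.mem_bot] at this
  rw [show a = 1 from Subtype.ext this, orderOf_one] at ha
  exact hp.one_lt.ne ha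

theorem exists_mul {w : G} (hw : w ∈ W₁ ⊔ W₂) : ∃ a ∈ W₁, ∃ b ∈ W₂, w = a * b := by
  have hle : W₂ ≤ Subgroup.normalizer (W₁ : Set G) := fun b hb =>
    Subgroup.mem_normalizer_iff.2 fun a => ⟨fun ha => by
      rwa [← hW.2.2.2.1 a ha b hb, mul_inv_cancel_right], fun ha => by
      have e := hW.2.2.2.1 _ ha b hb
      have e2 : b * a * b⁻¹ = a := by
        calc b * a * b⁻¹ = b⁻¹ * (b * (b * a * b⁻¹)) := by group
          _ = b⁻¹ * (b * a * b⁻¹ * b) := by rw [e]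
          _ = a := by group
      rwa [e2] at ha⟩
  rw [← SetLike.mem_coe, Subgroup.coe_mul_of_right_le_normalizer_left _ _ hle] at hw
  obtain ⟨a, ha, b, hb, rfl⟩ := Set.mem_mul.1 hw
  exact ⟨a, ha, b, hb, rfl⟩

/-- exponents of the two projections -/
theorem exists_exponents : ∃ k l : ℕ, ∀ a ∈ W₁, ∀ b ∈ W₂, (a * b) ^ k = a ∧ (a * b) ^ l = b := by
  obtain ⟨k, hk1, hk0⟩ := Nat.chineseRemainder (coprime hW) 1 0
  obtain ⟨l, hl0, hl1⟩ := Nat.chineseRemainder (coprime hW) 0 1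
  refine ⟨k, l, fun a ha b hb => ?_⟩
  have hc : Commute a b := hW.2.2.2.1 a ha b hb
  have e1 : ∀ n, n ≡ 1 [MOD Nat.card W₁] → a ^ n = a := fun n hn => by
    conv_rhs => rw [← pow_one a]
    exact pow_eq_pow_iff_modEq.2 (hn.of_dvd (Subgroup.orderOf_dvd_natCard _ ha))
  have e2 : ∀ n, n ≡ 1 [MOD Nat.card W₂] → b ^ n = b := fun n hn => by
    conv_rhs => rw [← pow_one b]
    exact pow_eq_pow_iff_modEq.2 (hn.of_dvd (Subgroup.orderOf_dvd_natCard _ hb))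
  have f1 : ∀ n, n ≡ 0 [MOD Nat.card W₁] → a ^ n = 1 := fun n hn =>
    orderOf_dvd_iff_pow_eq_one.1
      ((Subgroup.orderOf_dvd_natCard _ ha).trans (Nat.modEq_zero_iff_dvd.1 hn))
  have f2 : ∀ n, n ≡ 0 [MOD Nat.card W₂] → b ^ n = 1 := fun n hn =>
    orderOf_dvd_iff_pow_eq_one.1
      ((Subgroup.orderOf_dvd_natCard _ hb).trans (Nat.modEq_zero_iff_dvd.1 hn))
  exact ⟨by rw [hc.mul_pow, e1 k hk1, f2 k hk0, mul_one],
    by rw [hc.mul_pow, f1 l hl0, e2 l hl1, one_mul]⟩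

/-- `(1 - φ)(1 - ψ)` lives off `W₁ ∪ W₂` -/
theorem alpha_eq_zero {φ ψ : ↥(W₁ ⊔ W₂) →* ℂˣ}
    (hφ : ∀ w : ↥(W₁ ⊔ W₂), (w : G) ∈ W₂ → φ w = 1)
    (hψ : ∀ w : ↥(W₁ ⊔ W₂), (w : G) ∈ W₁ → ψ w = 1) (w : ↥(W₁ ⊔ W₂))
    (h : (w : G) ∈ W₁ ∨ (w : G) ∈ W₂) :
    1 - (φ w : ℂ) - (ψ w : ℂ) + (φ w : ℂ) * (ψ w : ℂ) = 0 := by
  rcases h with h | h
  · rw [hψ w h]; simp
  · rw [hφ w h]; simp

theorem mem_of_conj {w w' : ↥(W₁ ⊔ W₂)} (hw : (w : G) ∉ W₁ ∧ (w : G) ∉ W₂)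
    (hw' : (w' : G) ∉ W₁ ∧ (w' : G) ∉ W₂) {g : G} (e : g * (w : G) * g⁻¹ = (w' : G)) :
    g ∈ W₁ ⊔ W₂ := by
  have hcent : ∀ v : ↥(W₁ ⊔ W₂), (v : G) ∉ W₁ ∧ (v : G) ∉ W₂ →
      Subgroup.centralizer ({(v : G)} : Set G) = W₁ ⊔ W₂ := by
    intro v hv
    refine Eq.trans ?_ (hW.2.2.2.2.2 {(v : G)}
      (Set.singleton_subset_iff.2 ⟨v.2, fun h => h.elim hv.1 hv.2⟩) (Set.singleton_nonempty _))
    ext z
    rw [Subgroup.mem_centralizer_singleton_iff, Subgroup.mem_set_normalizer_iff]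
    constructor
    · intro hz y
      simp only [Set.mem_singleton_iff]
      constructor
      · rintro rfl; rw [hz, mul_inv_cancel_right]
      · intro h
        calc y = z⁻¹ * (z * y * z⁻¹) * z := by group
          _ = z⁻¹ * ((v : G) * z) := by rw [h]; group
          _ = v := by rw [← hz]; group
    · intro hz
      exact mul_inv_eq_iff_eq_mul.1 (Set.mem_singleton_iff.1 ((hz v).1 rfl))
  have hnormW : ∀ u ∈ W₁ ⊔ W₂, g * u * g⁻¹ ∈ W₁ ⊔ W₂ := by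
    intro u hu
    rw [← hcent w' hw', Subgroup.mem_centralizer_singleton_iff, ← e]
    rw [← hcent w hw, Subgroup.mem_centralizer_singleton_iff] at hu
    calc g * u * g⁻¹ * (g * w * g⁻¹) = g * (u * w) * g⁻¹ := by group
      _ = g * w * g⁻¹ * (g * u * g⁻¹) := by rw [hu]; group
  have hVnorm : ∀ (V : Subgroup G), V ≤ W₁ ⊔ W₂ → ∀ u ∈ W₁ ⊔ W₂, (u ∈ V ↔ g * u * g⁻¹ ∈ V) := by
    intro V hV u hu
    constructor
    · intro h
      exact mem_of_pow hW hV (hnormW u hu) (by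
        rw [conj_pow, orderOf_dvd_iff_pow_eq_one.1 (Subgroup.orderOf_dvd_natCard _ h)]; group)
    · intro h
      refine mem_of_pow hW hV hu ?_
      have h' := orderOf_dvd_iff_pow_eq_one.1 (Subgroup.orderOf_dvd_natCard _ h)
      rwa [conj_pow, conj_eq_one_iff] at h'
  have hWg : ∀ u, g * u * g⁻¹ ∈ W₁ ⊔ W₂ → u ∈ W₁ ⊔ W₂ := by
    intro u hu
    rw [← hcent w hw, Subgroup.mem_centralizer_singleton_iff]
    rw [← hcent w' hw', Subgroup.mem_centralizer_singleton_iff, ← e] at hu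
    calc u * w = g⁻¹ * (g * u * g⁻¹ * (g * w * g⁻¹)) * g := by group
      _ = w * u := by rw [hu]; group
  have key := hW.2.2.2.2.2 ((↑(W₁ ⊔ W₂) : Set G) \ (↑W₁ ∪ ↑W₂)) subset_rfl
    ⟨w, w.2, fun h => h.elim hw.1 hw.2⟩
  rw [← key, Subgroup.mem_set_normalizer_iff]
  intro u
  simp only [Set.mem_sdiff, Set.mem_union, SetLike.mem_coe]
  constructor
  · rintro ⟨hu, hu'⟩
    exact ⟨hnormW u hu, fun h => hu' (h.imp (hVnorm W₁ le_sup_left u hu).2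
      (hVnorm W₂ le_sup_right u hu).2)⟩
  · rintro ⟨hu, hu'⟩
    exact ⟨hWg u hu, fun h => hu' (h.imp (hVnorm W₁ le_sup_left u (hWg u hu)).1
      (hVnorm W₂ le_sup_right u (hWg u hu)).1)⟩

theorem inner_ind [Fintype ↥(W₁ ⊔ W₂)] {α β : ↥(W₁ ⊔ W₂) → ℂ}
    (hα : ∀ w : ↥(W₁ ⊔ W₂), ((w : G) ∈ W₁ ∨ (w : G) ∈ W₂) → α w = 0)
    (hβ : ∀ w : ↥(W₁ ⊔ W₂), ((w : G) ∈ W₁ ∨ (w : G) ∈ W₂) → β w = 0) :
    classInner (indFun (W₁ ⊔ W₂) α) (indFun (W₁ ⊔ W₂) β) = classInner α β := by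
  refine CfsgLib.Blk.classInner_indFun_ti (W₁ ⊔ W₂) (fun a b => ?_) fun h hh g hm hh' => ?_
  · rw [show b * a * b⁻¹ = a by rw [comm hW b a, mul_inv_cancel_right]]
  · have h1 : (h : G) ∉ W₁ ∧ (h : G) ∉ W₂ :=
      ⟨fun e => hh (hα h (Or.inl e)), fun e => hh (hα h (Or.inr e))⟩
    have h2 := fun e => hh' (hβ ⟨_, hm⟩ e)
    have := mem_of_conj hW (w := h) (w' := ⟨_, hm⟩) h1
      ⟨fun e => h2 (Or.inl e), fun e => h2 (Or.inr e)⟩ (g := g⁻¹) (by simp)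
    simpa using inv_mem this

/-- Expansion of a point off `W₁ ∪ W₂` by the functions `(1 - φ)(1 - ψ)`. -/
theorem eq_zero_of_orth [Fintype ↥(W₁ ⊔ W₂)] (f : ↥(W₁ ⊔ W₂) → ℂ)
    (hf : ∀ φ ψ : ↥(W₁ ⊔ W₂) →* ℂˣ, (∀ w : ↥(W₁ ⊔ W₂), (w : G) ∈ W₂ → φ w = 1) →
      (∀ w : ↥(W₁ ⊔ W₂), (w : G) ∈ W₁ → ψ w = 1) →
      classInner f (fun w => 1 - (φ w : ℂ) - (ψ w : ℂ) + (φ w : ℂ) * (ψ w : ℂ)) = 0)
    {w : ↥(W₁ ⊔ W₂)} (hw₁ : (w : G) ∉ W₁) (hw₂ : (w : G) ∉ W₂) : f w = 0 := by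
  classical
  haveI : Fintype (↥(W₁ ⊔ W₂) →* ℂˣ) := Fintype.ofEquiv _ (linEquiv (comm hW)).symm
  obtain ⟨k, l, hkl⟩ := exists_exponents hW
  have hkv : ∀ v : ↥(W₁ ⊔ W₂), (((v ^ k : ↥(W₁ ⊔ W₂)) : G) ∈ W₁) ∧
      (((v ^ l : ↥(W₁ ⊔ W₂)) : G) ∈ W₂) ∧ v ^ k * v ^ l = v := by
    intro v
    obtain ⟨a, ha, b, hb, e⟩ := exists_mul hW v.2
    refine ⟨?_, ?_, Subtype.ext ?_⟩
    · rw [SubmonoidClass.coe_pow, e, (hkl a ha b hb).1]; exact ha
    · rw [SubmonoidClass.coe_pow, e, (hkl a ha b hb).2]; exact hb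
    · push_cast; rw [e, (hkl a ha b hb).1, (hkl a ha b hb).2]
  have hk0 : ∀ v : ↥(W₁ ⊔ W₂), (v : G) ∈ W₂ → v ^ k = 1 := fun v hv => Subtype.ext (by
    have := (hkl 1 (one_mem _) v hv).1
    rw [one_mul] at this
    push_cast; exact this)
  have hl0 : ∀ v : ↥(W₁ ⊔ W₂), (v : G) ∈ W₁ → v ^ l = 1 := fun v hv => Subtype.ext (by
    have := (hkl v hv 1 (one_mem _)).2
    rw [mul_one] at this
    push_cast; exact this)
  let A : (↥(W₁ ⊔ W₂) →* ℂˣ) → ↥(W₁ ⊔ W₂) → ℂ := fun μ x =>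
    1 - (μ (x ^ k) : ℂ) - (μ (x ^ l) : ℂ) + (μ (x ^ k) : ℂ) * (μ (x ^ l) : ℂ)
  have hA0 : ∀ μ, classInner f (A μ) = 0 := fun μ => by
    have h := hf (μ ^ k) (μ ^ l) (fun v hv => by rw [MonoidHom.pow_apply, ← map_pow, hk0 v hv, map_one])
      (fun v hv => by rw [MonoidHom.pow_apply, ← map_pow, hl0 v hv, map_one])
    simpa [A, MonoidHom.pow_apply, ← map_pow] using h
  have hsum : ∀ x, ∑ μ : ↥(W₁ ⊔ W₂) →* ℂˣ, A μ x * conj (μ w : ℂ) =
      if x = w then (Nat.card ↥(W₁ ⊔ W₂) : ℂ) else 0 := by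
    intro x
    have e0 : ∑ μ : ↥(W₁ ⊔ W₂) →* ℂˣ, conj (μ w : ℂ) = 0 := by
      have h := sum_linear_conj (comm hW) 1 w
      rw [if_neg fun e => hw₁ (by rw [← e]; exact one_mem _)] at h
      simpa using h
    have e1 : ∀ μ : ↥(W₁ ⊔ W₂) →* ℂˣ, (μ (x ^ k) : ℂ) * (μ (x ^ l) : ℂ) = (μ x : ℂ) := fun μ => by
      rw [← Units.val_mul, ← map_mul, (hkv x).2.2]
    simp only [A, e1, add_mul, sub_mul, one_mul, Finset.sum_add_distrib, Finset.sum_sub_distrib, e0,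
      sum_linear_conj (comm hW),
      if_neg (fun e : x ^ k = w => hw₁ (e ▸ (hkv x).1)),
      if_neg (fun e : x ^ l = w => hw₂ (e ▸ (hkv x).2.1)), zero_sub, neg_zero, zero_add]
  have hz : ∑ μ : ↥(W₁ ⊔ W₂) →* ℂˣ, (μ w : ℂ) * classInner f (A μ) = 0 :=
    Finset.sum_eq_zero fun μ _ => by rw [hA0, mul_zero]
  simp only [classInner_def, ← mul_assoc, mul_comm (_ : ℂ) (Nat.card ↥(W₁ ⊔ W₂) : ℂ)⁻¹] at hz
  simp only [mul_assoc, ← Finset.mul_sum] at hz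
  have h1 := (mul_eq_zero.1 hz).resolve_left (inv_ne_zero (natCard_ne_zero _))
  simp only [Finset.mul_sum] at h1
  rw [Finset.sum_comm] at h1
  have h2 : ∀ x, ∑ μ : ↥(W₁ ⊔ W₂) →* ℂˣ, (μ w : ℂ) * (f x * conj (A μ x)) =
      f x * conj (if x = w then (Nat.card ↥(W₁ ⊔ W₂) : ℂ) else 0) := by
    intro x
    rw [← hsum x, map_sum, Finset.mul_sum]
    exact Finset.sum_congr rfl fun μ _ => by rw [map_mul, Complex.conj_conj]; ring
  simp only [h2] at h1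
  rw [Finset.sum_eq_single w (fun x _ hx => by simp [hx]) (by simp), if_pos rfl, map_natCast] at h1
  exact (mul_eq_zero.1 h1).resolve_right (natCard_ne_zero _)

end CfsgLib.CTI
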