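import Cfsg.Agent.Char.Hyper
import Cfsg.Agent.Char.Monomial
import Cfsg.Agent.Char.Clifford
import Mathlib.GroupTheory.Nilpotent

/-! Brauer's induction theorem and the characterisation of generalized characters. -/

set_option linter.unusedSectionVars false
set_option linter.style.haveILetI false

namespace CfsgLib.Char

open Module Cfsg
open scoped ComplexConjugate

universe u v

section basic

variable {G : Type u} [Group G] [Fintype G]

theorem indFun_mul (H : Subgroup G) (θ : H → ℂ) {ψ : G → ℂ} (hψ : IsClassFunction G ψ) :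
    indFun H θ * ψ = indFun H (fun h => θ h * ψ h) := by
  ext g
  simp only [Pi.mul_apply, indFun_apply]
  rw [mul_assoc, Finset.sum_mul]
  congr 1
  refine Finset.sum_congr rfl fun x _ => ?_
  by_cases h : x⁻¹ * g * x ∈ H
  · rw [extendByZero_mem' _ _ h, extendByZero_mem' _ _ h]
    congr 1
    simpa [mul_assoc] using (hψ g x⁻¹).symm
  · rw [extendByZero_not_mem _ _ h, extendByZero_not_mem _ _ h, zero_mul]

theorem solomon (p : ℕ) (hp : p.Prime) :
    ∃ (m : ℤ) (a : Subgroup G → ℤ), ¬ (p : ℤ) ∣ m ∧ (∀ H, a H ≠ 0 → IsHyper p H) ∧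
      (fun _ : G => (m : ℂ)) = ∑ H : Subgroup G, (a H : ℂ) • indFun H (fun _ => 1) := by
  classical
  let fH : Subgroup G → G → ℤ := fun H g => (Nat.card (MulAction.fixedBy (G ⧸ H) g) : ℤ)
  have hfH : ∀ H g, ((fH H g : ℤ) : ℂ) = indFun H (fun _ => 1) g := fun H g => by
    rw [indFun_coset]; simp [fH]
  let S : Set (G → ℤ) := {f | ∃ H, IsHyper p H ∧ fH H = f}
  let R := AddSubgroup.closure S
  have hmul : ∀ f ∈ R, ∀ g ∈ R, f * g ∈ R := by
    intro f hf g hg
    induction hf using AddSubgroup.closure_induction with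
    | mem f hf =>
      obtain ⟨H, hH, rfl⟩ := hf
      induction hg using AddSubgroup.closure_induction with
      | mem g hg =>
        obtain ⟨K, hK, rfl⟩ := hg
        obtain ⟨ι, _, U, hU, hprod⟩ := indFun_one_mul H K
        have : fH H * fH K = ∑ i, fH (U i) := by
          ext x
          have h := congrFun hprod x
          simp only [Pi.mul_apply, Finset.sum_apply, ← hfH] at h
          rw [Pi.mul_apply, Finset.sum_apply]
          exact_mod_cast h
        rw [this]
        exact R.sum_mem fun i _ => AddSubgroup.subset_closure ⟨U i, isHyper_of_le hp hH (hU i), rfl⟩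
      | zero => rw [mul_zero]; exact R.zero_mem
      | add a b _ _ ha hb => rw [mul_add]; exact R.add_mem ha hb
      | neg a _ ha => rw [mul_neg]; exact R.neg_mem ha
    | zero => rw [zero_mul]; exact R.zero_mem
    | add a b _ _ ha hb => rw [add_mul]; exact R.add_mem ha hb
    | neg a _ ha => rw [neg_mul]; exact R.neg_mem ha
  obtain ⟨m, hm, hmR⟩ := exists_const_mem p hp R hmul fun x => by
    obtain ⟨H, hH, hv⟩ := exists_hyper_value x p hp
    exact ⟨fH H, AddSubgroup.subset_closure ⟨H, hH, rfl⟩, by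
      simpa [fH, Int.natCast_dvd_natCast] using hv⟩
  have key : ∀ f ∈ R, ∃ a : Subgroup G → ℤ, (∀ H, a H ≠ 0 → IsHyper p H) ∧
      f = ∑ H, a H • fH H := by
    intro f hf
    induction hf using AddSubgroup.closure_induction with
    | mem f hf =>
      obtain ⟨H, hH, rfl⟩ := hf
      refine ⟨Pi.single H 1, fun K hK => ?_, ?_⟩
      · by_cases h : K = H
        · exact h ▸ hH
        · simp [h] at hK
      · rw [Finset.sum_eq_single H (fun K _ hK => by simp [hK]) (fun h => absurd (Finset.mem_univ _) h)]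
        simp
    | zero => exact ⟨0, fun H h => absurd rfl h, by simp⟩
    | add a b _ _ ha hb =>
      obtain ⟨x, hx, rfl⟩ := ha
      obtain ⟨y, hy, rfl⟩ := hb
      refine ⟨x + y, fun H h => ?_, by simp [add_smul, Finset.sum_add_distrib]⟩
      by_cases hx0 : x H = 0
      · exact hy H (by simpa [hx0] using h)
      · exact hx H hx0
    | neg a _ ha =>
      obtain ⟨x, hx, rfl⟩ := ha
      exact ⟨-x, fun H h => hx H (by simpa using h), by simp [Finset.sum_neg_distrib]⟩
  obtain ⟨a, ha, hsum⟩ := key _ hmR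
  refine ⟨m, a, hm, ha, ?_⟩
  ext g
  have h := congrFun hsum g
  simp only [Finset.sum_apply, Pi.smul_apply, smul_eq_mul] at h ⊢
  simp only [← hfH]
  exact_mod_cast h

end basic

/-- an invariant linear character trivial on the fixed points of a coprime `p`-group is trivial -/
theorem invariant_linear_trivial {G : Type u} [Group G] [Finite G] (p : ℕ) [Fact p.Prime]
    (C P : Subgroup G) [hC : C.Normal] (hP : IsPGroup p P) (hcop : Nat.Coprime (Nat.card C) p)
    (μ : C →* ℂˣ) (hinv : ∀ g ∈ P, ∀ c : C, μ ⟨g * c * g⁻¹, hC.conj_mem (c : G) c.2 g⟩ = μ c)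
    (hker : ∀ c : C, (c : G) ∈ Subgroup.centralizer (P : Set G) → μ c = 1) : μ = 1 := by
  classical
  ext c
  let F := {d : C // μ d = μ c}
  letI : MulAction P F :=
    { smul := fun g d => ⟨⟨g * d.1 * (g : G)⁻¹, hC.conj_mem _ d.1.2 g⟩, by rw [hinv g g.2]; exact d.2⟩
      one_smul := fun d => Subtype.ext (Subtype.ext (by
        show ((1 : P) : G) * d.1 * ((1 : P) : G)⁻¹ = _
        simp))
      mul_smul := fun g h d => Subtype.ext (Subtype.ext (by
        show ((g * h : P) : G) * d.1 * ((g * h : P) : G)⁻¹ = g * (h * d.1 * (h : G)⁻¹) * (g : G)⁻¹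
        simp [mul_assoc])) }
  have hcard : Nat.card F = Nat.card μ.ker :=
    Nat.card_congr ⟨fun d => ⟨c⁻¹ * d.1, by simp [MonoidHom.mem_ker, d.2]⟩,
      fun k => ⟨c * k.1, by rw [map_mul, MonoidHom.mem_ker.mp k.2, mul_one]⟩,
      fun d => Subtype.ext (mul_inv_cancel_left c d.1),
      fun k => Subtype.ext (inv_mul_cancel_left c k.1)⟩
  have hne : (MulAction.fixedPoints P F).Nonempty := by
    refine hP.nonempty_fixed_point_of_prime_not_dvd_card F fun hd => ?_
    rw [hcard] at hd
    exact (Fact.out : p.Prime).coprime_iff_not_dvd.mp hcop.symm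
      (hd.trans (Subgroup.card_subgroup_dvd_card _))
  obtain ⟨d, hd⟩ := hne
  have hcent : (d.1 : G) ∈ Subgroup.centralizer (P : Set G) := by
    refine Subgroup.mem_centralizer_iff.mpr fun g hg => ?_
    have h : g * d.1 * g⁻¹ = d.1 := congrArg (fun x : F => ((x.1 : C) : G)) (hd ⟨g, hg⟩)
    exact mul_inv_eq_iff_eq_mul.mp h
  rw [← d.2, hker d.1 hcent]
  rfl

theorem normal_of_le_center {G : Type u} [Group G] {C : Subgroup G} (h : C ≤ Subgroup.center G) :
    C.Normal :=
  ⟨fun n hn g => by rwa [Subgroup.mem_center_iff.mp (h hn) g, mul_inv_cancel_right]⟩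

theorem isElementary_mulEquiv {E : Type u} {F : Type v} [Group E] [Group F] (e : E ≃* F) {p : ℕ}
    (h : IsElementary p E) : IsElementary p F := by
  obtain ⟨x, hx, hcop, k, hk⟩ := h
  refine ⟨e x, Subgroup.mem_center_iff.mpr fun y => ?_, by rwa [MulEquiv.orderOf_eq],
    k, ?_⟩
  · apply e.symm.injective
    simpa using Subgroup.mem_center_iff.mp hx (e.symm y)
  · have : Subgroup.zpowers (e x) = (Subgroup.zpowers x).map (e : E →* F) :=
      (MonoidHom.map_zpowers (e : E →* F) x).symm
    rw [this, Subgroup.index_map_equiv, hk]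

theorem isElementary_of_le {G : Type u} [Group G] [Finite G] {p : ℕ} (hp : p.Prime) {H E : Subgroup G}
    (hle : H ≤ E) (h : IsElementary p E) : IsElementary p H := by
  obtain ⟨x, hx, hcop, k, hk⟩ := h
  refine isElementary_mulEquiv (Subgroup.subgroupOfEquivOfLe hle) ?_
  set H' := H.subgroupOf E
  set C := Subgroup.zpowers x
  haveI : C.Normal := normal_of_le_center (Subgroup.zpowers_le.mpr hx)
  haveI : IsCyclic (C.subgroupOf H') :=
    isCyclic_of_injective ((H'.subtype.comp (C.subgroupOf H').subtype).codRestrict C fun z => z.2)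
      fun a b h => Subtype.ext (Subtype.ext (congrArg (fun c : C => (c : E)) h))
  obtain ⟨y, hy⟩ := IsCyclic.exists_generator (α := (C.subgroupOf H'))
  have hyC : ((y : H') : E) ∈ C := y.2
  refine ⟨y, Subgroup.mem_center_iff.mpr fun z => Subtype.ext ?_, ?_, ?_⟩
  · exact Subgroup.mem_center_iff.mp (Subgroup.zpowers_le.mpr hx hyC) z
  · refine Nat.Coprime.coprime_dvd_left ?_ hcop
    rw [← Subgroup.orderOf_coe]
    obtain ⟨i, hi⟩ := Subgroup.mem_zpowers_iff.mp hyC
    rw [← hi]
    refine orderOf_dvd_of_pow_eq_one ?_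
    rw [← zpow_natCast, ← zpow_mul, mul_comm, zpow_mul, zpow_natCast, pow_orderOf_eq_one,
      one_zpow]
  · have heq : Subgroup.zpowers (y : H') = C.subgroupOf H' := by
      refine le_antisymm (Subgroup.zpowers_le.mpr y.2) fun z hz => ?_
      obtain ⟨i, hi⟩ := Subgroup.mem_zpowers_iff.mp (hy ⟨z, hz⟩)
      exact Subgroup.mem_zpowers_iff.mpr ⟨i, congrArg Subtype.val hi⟩
    rw [heq]
    have hd : C.relIndex H' ∣ C.index := C.relIndex_dvd_index_of_normal H'
    rw [hk] at hd
    obtain ⟨j, -, hj⟩ := (Nat.dvd_prime_pow hp).mp hd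
    exact ⟨j, hj⟩

theorem isNilpotent_of_elementary {E : Type u} [Group E] [Finite E] {p : ℕ} (hp : p.Prime)
    (h : IsElementary p E) : Group.IsNilpotent E := by
  haveI : Fact p.Prime := ⟨hp⟩
  obtain ⟨x, hx, hcop, k, hk⟩ := h
  have hle := Subgroup.zpowers_le.mpr hx
  haveI : (Subgroup.zpowers x).Normal := normal_of_le_center hle
  have hq : Group.IsNilpotent (E ⧸ Subgroup.zpowers x) :=
    (IsPGroup.of_card (p := p) (n := k) (by rw [← Subgroup.index_eq_card, hk])).isNilpotent
  exact Subgroup.isNilpotent_of_ker_le_center (QuotientGroup.mk' (Subgroup.zpowers x))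
    (by rwa [QuotientGroup.ker_mk'])

/-- generalized sums of characters induced from `p`-elementary subgroups -/
def elemSpan (p : ℕ) (G : Type u) [Group G] [Fintype G] : AddSubgroup (G → ℂ) :=
  AddSubgroup.closure {f | ∃ (E : Subgroup G) (χ : E → ℂ), IsElementary p E ∧ IsCharacter E χ ∧
    f = indFun E χ}

section span

variable {G : Type u} [Group G] [Fintype G] {p : ℕ}

theorem elemSpan_mul {f ψ : G → ℂ} (hf : f ∈ elemSpan p G) (hψ : IsCharacter G ψ) :
    f * ψ ∈ elemSpan p G := by
  induction hf using AddSubgroup.closure_induction with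
  | mem f hf =>
    obtain ⟨E, χ, hE, hχ, rfl⟩ := hf
    rw [indFun_mul E χ (classFun_of_char hψ)]
    exact AddSubgroup.subset_closure
      ⟨E, _, hE, isCharacter_mul hχ (isCharacter_restrict E hψ), rfl⟩
  | zero => rw [zero_mul]; exact AddSubgroup.zero_mem _
  | add a b _ _ ha hb => rw [add_mul]; exact AddSubgroup.add_mem _ ha hb
  | neg a _ ha => rw [neg_mul]; exact AddSubgroup.neg_mem _ ha

theorem elemSpan_ind (T : Subgroup G) [Fintype T] {f : T → ℂ} (hf : f ∈ elemSpan p T) :
    indFun T f ∈ elemSpan p G := by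
  induction hf using AddSubgroup.closure_induction with
  | mem f hf =>
    obtain ⟨E, χ, hE, hχ, rfl⟩ := hf
    rw [indFun_indFun]
    exact AddSubgroup.subset_closure ⟨_, _,
      isElementary_mulEquiv (Subgroup.equivMapOfInjective E T.subtype T.subtype_injective) hE,
      isCharacter_comp (MulEquiv.toMonoidHom _) hχ, rfl⟩
  | zero => rw [indFun_zero]; exact AddSubgroup.zero_mem _
  | add a b _ _ ha hb => rw [indFun_add]; exact AddSubgroup.add_mem _ ha hb
  | neg a _ ha => rw [indFun_neg]; exact AddSubgroup.neg_mem _ ha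

end span

theorem one_mem_elemSpan_hyper {G : Type u} [Group G] [Fintype G] {p : ℕ} (hp : p.Prime)
    (C : Subgroup G) [C.Normal] [IsCyclic C] (hcop : Nat.Coprime (Nat.card C) p)
    (hidx : ∃ k, C.index = p ^ k) : (fun _ => 1 : G → ℂ) ∈ elemSpan p G := by
  induction hn : Nat.card G using Nat.strong_induction_on generalizing G with
  | _ N ih =>
  classical
  haveI : Fact p.Prime := ⟨hp⟩
  obtain ⟨k, hk⟩ := hidx
  have P : Sylow p G := Classical.arbitrary _
  have hG : Nat.card G = Nat.card C * p ^ k := by rw [← hk, C.card_mul_index]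
  have hCP : C ⊔ (P : Subgroup G) = ⊤ := by
    rw [← Subgroup.index_eq_one]
    refine Nat.eq_one_of_dvd_coprimes ?_ (Subgroup.index_dvd_of_le le_sup_left)
      (Subgroup.index_dvd_of_le le_sup_right)
    rw [hk]
    exact Nat.Coprime.pow_left _ (hp.coprime_iff_not_dvd.mpr P.not_dvd_index)
  letI hcomm : CommGroup C := IsCyclic.commGroup
  let Z := C ⊓ Subgroup.center G
  have hZc : Z ≤ Subgroup.center G := inf_le_right
  haveI : Z.Normal := normal_of_le_center hZc
  have hcentC : ∀ c : C, (c : G) ∈ Subgroup.centralizer ((P : Subgroup G) : Set G) →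
      (c : G) ∈ Z := by
    refine fun c hc => ⟨c.2, Subgroup.mem_center_iff.mpr fun g => ?_⟩
    have hle : C ⊔ (P : Subgroup G) ≤ Subgroup.centralizer {(c : G)} := by
      refine sup_le (fun d hd => Subgroup.mem_centralizer_singleton_iff.mpr ?_) fun d hd =>
        Subgroup.mem_centralizer_singleton_iff.mpr (Subgroup.mem_centralizer_iff.mp hc d hd)
      exact congrArg Subtype.val (mul_comm (⟨d, hd⟩ : C) c)
    rw [hCP] at hle
    exact Subgroup.mem_centralizer_singleton_iff.mp (hle (Subgroup.mem_top g))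
  let E := (P : Subgroup G) ⊔ Z
  have hE : IsElementary p E := by
    haveI : IsCyclic Z := isCyclic_of_injective (Subgroup.inclusion (inf_le_left : Z ≤ C))
      (Subgroup.inclusion_injective _)
    obtain ⟨z, hz⟩ := IsCyclic.exists_generator (α := Z)
    have hzE : (z : G) ∈ E := Subgroup.mem_sup_right z.2
    have heq : Subgroup.zpowers (⟨z, hzE⟩ : E) = Z.subgroupOf E := by
      refine le_antisymm (Subgroup.zpowers_le.mpr z.2) fun w hw => ?_
      obtain ⟨i, hi⟩ := Subgroup.mem_zpowers_iff.mp (hz ⟨(w : G), hw⟩)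
      refine Subgroup.mem_zpowers_iff.mpr ⟨i, Subtype.ext ?_⟩
      simpa using congrArg Subtype.val hi
    refine ⟨⟨z, hzE⟩, Subgroup.mem_center_iff.mpr fun w => Subtype.ext
      (Subgroup.mem_center_iff.mp (hZc z.2) w), ?_, ?_⟩
    · refine Nat.Coprime.coprime_dvd_left ?_ hcop
      rw [← Subgroup.orderOf_coe]
      exact (Subgroup.orderOf_dvd_natCard C (inf_le_left (b := Subgroup.center G) z.2))
    · rw [heq]
      show ∃ k, Z.relIndex E = p ^ k
      rw [Subgroup.relIndex_sup_right]
      obtain ⟨n, hn⟩ := IsPGroup.iff_card.mp P.isPGroup'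
      obtain ⟨j, -, hj⟩ := (Nat.dvd_prime_pow hp).mp
        (hn ▸ Z.relIndex_dvd_card (P : Subgroup G))
      exact ⟨j, hj⟩
  haveI := Fintype.ofFinite E
  haveI := Fintype.ofFinite C
  have hind : indFun E (fun _ => (1 : ℂ)) ∈ elemSpan p G :=
    AddSubgroup.subset_closure ⟨E, _, hE, isCharacter_one, rfl⟩
  set π := indFun E (fun _ => (1 : ℂ)) with hπ
  have hπc : IsCharacter G π := isCharacter_indFun E isCharacter_one
  have hone : IsIrrCharacter G (fun _ => (1 : ℂ)) := by
    simpa using isIrr_linear (1 : G →* ℂˣ)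
  have hπ1 : classInner π (fun _ => (1 : ℂ)) = 1 := by
    rw [hπ, frobenius E _ (classFun_of_irr hone)]
    exact classInner_one_one
  have hΘc : IsCharacter G (π - fun _ => (1 : ℂ)) :=
    isCharacter_sub_constituent hπc hone (by rw [hπ1]; exact one_ne_zero)
  set Θ := π - fun _ => (1 : ℂ) with hΘ
  suffices hall : ∀ χ : IrrCharacter G, classInner Θ χ.1 ≠ 0 → χ.1 ∈ elemSpan p G by
    have hΘmem : Θ ∈ elemSpan p G := by
      obtain ⟨hcl, hn⟩ := isCharacter_iff.mp hΘc
      rw [classFun_eq_sum hcl]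
      refine AddSubgroup.sum_mem _ fun χ _ => ?_
      rcases em (classInner Θ χ.1 = 0) with h | h
      · rw [h, zero_smul]; exact AddSubgroup.zero_mem _
      · obtain ⟨n, hn⟩ := hn χ
        rw [hn, Nat.cast_smul_eq_nsmul]
        exact AddSubgroup.nsmul_mem _ (hall χ h) n
    have : (fun _ => 1 : G → ℂ) = π - Θ := by rw [hΘ]; abel
    rw [this]
    exact AddSubgroup.sub_mem _ hind hΘmem
  intro χ hχ
  obtain ⟨θ, hθ, hθc⟩ := exists_constituent_res (N := C) χ.2
  have hθ1 : θ 1 = 1 := irr_degree_one_of_comm (fun a b => mul_comm a b) hθ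
  obtain ⟨μ, hμ⟩ := exists_hom_of_degree_one (isCharacter_of_isIrr hθ) hθ1
  have hθZ : ∀ c : C, (c : G) ∈ Z → θ c = 1 := by
    intro c hc
    have hfix : Θ (c : G) = Θ 1 := by
      simp only [hΘ, Pi.sub_apply, hπ, indFun_apply]
      congr 2
      refine Finset.sum_congr rfl fun x _ => ?_
      have hx : x⁻¹ * c * x = c := by
        rw [mul_assoc, ← Subgroup.mem_center_iff.mp (hZc hc) x, inv_mul_cancel_left]
      rw [hx, extendByZero_mem' _ _ (Subgroup.mem_sup_right hc : (c : G) ∈ E),
        extendByZero_mem' _ _ (show x⁻¹ * 1 * x ∈ E by simp)]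
    have h2 : χ.1 (c : G) = χ.1 1 := kernel_of_constituent hΘc χ.2 hχ hfix
    rw [← hθ1]
    exact kernel_of_constituent (isCharacter_restrict C (isCharacter_of_isIrr χ.2)) hθ hθc h2
  -- the restriction of `Θ` to `C` does not contain the trivial character
  have hΘ0 : classInner (fun c : C => Θ c) (fun _ => (1 : ℂ)) = 0 := by
    have hEC : E ⊔ C = ⊤ := top_le_iff.mp (hCP ▸ sup_le le_sup_right (le_sup_left.trans le_sup_left))
    have hcard : Nat.card G * Nat.card (C ⊓ E : Subgroup G) = Nat.card C * Nat.card E := by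
      have h1 : C.index = C.relIndex E := by
        rw [← Subgroup.relIndex_sup_right E C, hEC, Subgroup.relIndex_top_right]
      have h2 : (C ⊓ E).relIndex E = C.relIndex E := Subgroup.inf_relIndex_right C E
      have h3 := ((C ⊓ E).subgroupOf E).card_mul_index
      rw [Nat.card_congr (Subgroup.subgroupOfEquivOfLe (inf_le_right : C ⊓ E ≤ E)).toEquiv] at h3
      change Nat.card (C ⊓ E : Subgroup G) * (C ⊓ E).relIndex E = Nat.card E at h3
      rw [h2, ← h1] at h3
      rw [← h3, ← C.card_mul_index]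
      ring
    have hsum : ∑ c : C, π c = (Nat.card C : ℂ) := by
      simp only [hπ, indFun_apply]
      rw [← Finset.mul_sum, Finset.sum_comm]
      have hin : ∀ x : G, (∑ c : C, extendByZero E (fun _ => (1 : ℂ)) (x⁻¹ * (c : G) * x)) =
          (Nat.card (C ⊓ E : Subgroup G) : ℂ) := by
        intro x
        have e : (∑ c : C, extendByZero E (fun _ => (1 : ℂ)) (x⁻¹ * (c : G) * x)) =
            ∑ c : C, extendByZero E (fun _ => (1 : ℂ)) (c : G) :=
          Fintype.sum_equiv (MulAut.conjNormal x⁻¹ : MulAut C).toEquiv _ _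
            fun c => by simp [MulAut.conjNormal_apply]
        rw [e]
        have hite : ∀ c : C, extendByZero E (fun _ => (1 : ℂ)) (c : G) =
            if (c : G) ∈ E then 1 else 0 := fun c => by
          split_ifs with h
          · rw [extendByZero_mem' _ _ h]
          · rw [extendByZero_not_mem _ _ h]
        simp only [hite, Finset.sum_boole]
        norm_cast
        rw [← Fintype.card_subtype, Fintype.card_eq_nat_card]
        exact Nat.card_congr ⟨fun c => ⟨c.1.1, c.1.2, c.2⟩, fun c => ⟨⟨c.1, c.2.1⟩, c.2.2⟩,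
          fun c => rfl, fun c => rfl⟩
      rw [Finset.sum_congr rfl fun x _ => hin x, Finset.sum_const, Finset.card_univ, nsmul_eq_mul,
        Fintype.card_eq_nat_card, ← Nat.cast_mul, hcard, Nat.cast_mul]
      field_simp [natCard_ne_zero E]
    simp only [classInner, map_one, mul_one, hΘ, Pi.sub_apply, Finset.sum_sub_distrib, hsum,
      Finset.sum_const, Finset.card_univ, Fintype.card_eq_nat_card, nsmul_eq_mul, sub_self,
      mul_zero]
  have hθne : θ ≠ fun _ => (1 : ℂ) := by
    intro heq
    have hd := isCharacter_sub_constituent hΘc χ.2 hχ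
    have := inner_zero_of_summand (isCharacter_restrict C (isCharacter_of_isIrr χ.2))
      (isCharacter_restrict C hd) (ψ := θ)
    apply hθc
    refine this (isCharacter_of_isIrr hθ) ?_
    rw [heq]
    convert hΘ0 using 2
    ext c
    simp
  let T := inertia θ
  have hCT : C ≤ T := le_inertia (classFun_of_irr hθ)
  have hTne : T ≠ ⊤ := by
    intro htop
    apply hθne
    have hone' : μ = 1 := invariant_linear_trivial p C (P : Subgroup G) P.isPGroup' hcop μ
      (fun g _ c => Units.ext (by
        have := congrFun (mem_inertia.mp (htop ▸ Subgroup.mem_top g : g ∈ T)) c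
        simpa [hμ, conjN] using this))
      (fun c hc => Units.ext (by simpa [hμ] using hθZ c (hcentC c hc)))
    simp [hμ, hone']
  haveI := Fintype.ofFinite T
  obtain ⟨ψ, hψ, hψχ, -⟩ := clifford_exists hθ (T := T) (fun g => Iff.rfl) hCT χ.2 hθc
  have hlt : Nat.card T < N := by
    subst hn
    exact lt_of_le_of_ne T.card_le_card_group fun e => hTne (Subgroup.eq_top_of_card_eq _ e)
  haveI : (C.subgroupOf T).Normal := ‹C.Normal›.subgroupOf T
  haveI : IsCyclic (C.subgroupOf T) :=
    isCyclic_of_surjective (Subgroup.subgroupOfEquivOfLe hCT).symm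
      (Subgroup.subgroupOfEquivOfLe hCT).symm.surjective
  have hTmem := ih (Nat.card T) hlt (G := T) (C.subgroupOf T)
    (by rwa [Nat.card_congr (Subgroup.subgroupOfEquivOfLe hCT).toEquiv]) (by
      have hd : C.relIndex T ∣ C.index := C.relIndex_dvd_index_of_normal T
      rw [hk] at hd
      obtain ⟨j, -, hj⟩ := (Nat.dvd_prime_pow hp).mp hd
      exact ⟨j, hj⟩) rfl
  have hψmem := elemSpan_mul hTmem (isCharacter_of_isIrr hψ)
  rw [show ((fun _ => 1 : T → ℂ) * ψ) = ψ from funext fun t => one_mul _] at hψmem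
  rw [← hψχ]
  exact elemSpan_ind T hψmem

/-- Brauer's induction theorem, one prime at a time -/
theorem exists_const_mem_elemSpan {G : Type u} [Group G] [Fintype G] {p : ℕ} (hp : p.Prime) :
    ∃ m : ℤ, ¬ (p : ℤ) ∣ m ∧ (fun _ => (m : ℂ) : G → ℂ) ∈ elemSpan p G := by
  classical
  obtain ⟨m, a, hm, ha, heq⟩ := solomon (G := G) p hp
  refine ⟨m, hm, ?_⟩
  rw [heq]
  refine AddSubgroup.sum_mem _ fun H _ => ?_
  by_cases h0 : a H = 0
  · rw [h0, Int.cast_zero, zero_smul]; exact AddSubgroup.zero_mem _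
  rw [Int.cast_smul_eq_zsmul]
  refine AddSubgroup.zsmul_mem _ ?_ _
  obtain ⟨C, hCH, hN, hcyc, hcop, hk⟩ := ha H h0
  haveI := hcyc
  haveI := normal_subgroupOf hN
  haveI := Fintype.ofFinite H
  haveI : IsCyclic (C.subgroupOf H) :=
    isCyclic_of_surjective (Subgroup.subgroupOfEquivOfLe hCH).symm
      (Subgroup.subgroupOfEquivOfLe hCH).symm.surjective
  exact elemSpan_ind H (one_mem_elemSpan_hyper hp (C.subgroupOf H)
    (by rwa [Nat.card_congr (Subgroup.subgroupOfEquivOfLe hCH).toEquiv]) hk)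

/-- generalized sums of characters induced from elementary subgroups -/
def elemSpanAll (G : Type u) [Group G] [Fintype G] : AddSubgroup (G → ℂ) :=
  ⨆ p : {p : ℕ // p.Prime}, elemSpan p.1 G

theorem one_mem_elemSpanAll (G : Type u) [Group G] [Fintype G] :
    (fun _ => 1 : G → ℂ) ∈ elemSpanAll G := by
  let φ : ℤ →+ (G → ℂ) := (smulAddHom ℤ (G → ℂ)).flip (fun _ => 1)
  let A := (elemSpanAll G).comap φ
  obtain ⟨d, hd⟩ := Int.subgroup_cyclic A
  rw [← AddSubgroup.zmultiples_eq_closure] at hd
  have hdvd : ∀ m : ℤ, m ∈ A ↔ d ∣ m := fun m => by rw [hd, Int.mem_zmultiples_iff]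
  have hall : ∀ p : ℕ, p.Prime → ¬ (p : ℤ) ∣ d := by
    intro p hp hpd
    obtain ⟨m, hm, hmem⟩ := exists_const_mem_elemSpan (G := G) hp
    refine hm (hpd.trans ((hdvd m).mp ?_))
    refine AddSubgroup.mem_comap.mpr (le_iSup (fun p : {p : ℕ // p.Prime} => elemSpan p.1 G) ⟨p, hp⟩ ?_)
    convert hmem using 1
    ext g; simp [φ]
  have hd1 : d.natAbs = 1 := by
    by_contra hne
    obtain ⟨q, hq, hqd⟩ := Nat.exists_prime_and_dvd hne
    exact hall q hq (Int.natCast_dvd.mpr hqd)
  have h1 : (1 : ℤ) ∈ A := (hdvd 1).mpr (Int.isUnit_iff_natAbs_eq.mpr hd1).dvd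
  simpa [φ] using AddSubgroup.mem_comap.mp h1

/-- Brauer's induction theorem -/
theorem char_mem_elemSpanAll {G : Type u} [Group G] [Fintype G] {χ : G → ℂ}
    (hχ : IsCharacter G χ) : χ ∈ elemSpanAll G := by
  have key : elemSpanAll G ≤ (elemSpanAll G).comap (AddMonoidHom.mulRight χ) :=
    iSup_le fun p f hf =>
      le_iSup (fun p : {p : ℕ // p.Prime} => elemSpan p.1 G) p (elemSpan_mul hf hχ)
  have : (fun _ => 1 : G → ℂ) * χ ∈ elemSpanAll G := key (one_mem_elemSpanAll G)
  rwa [show ((fun _ => 1 : G → ℂ) * χ) = χ from funext fun g => one_mul _] at this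

/-- Brauer's characterisation of generalized characters -/
theorem brauer_criterion {G : Type u} [Group G] [Finite G] {θ : G → ℂ}
    (hθ : IsClassFunction G θ)
    (hE : ∀ (E : Subgroup G) (p : ℕ), p.Prime → IsElementary p E →
      IsGeneralizedCharacter E (fun e : E => θ e)) : IsGeneralizedCharacter G θ := by
  haveI := Fintype.ofFinite G
  let Gen : AddSubgroup (G → ℂ) :=
    { carrier := {f | IsGeneralizedCharacter G (f * θ)}
      zero_mem' := ⟨0, 0, isCharacter_zero, isCharacter_zero, by simp⟩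
      add_mem' := fun {a b} ⟨x, y, hx, hy, h⟩ ⟨x', y', hx', hy', h'⟩ =>
        ⟨x + x', y + y', isCharacter_add hx hx', isCharacter_add hy hy', by
          rw [add_mul, h, h']; abel⟩
      neg_mem' := fun {a} ⟨x, y, hx, hy, h⟩ => ⟨y, x, hy, hx, by rw [neg_mul, h, neg_sub]⟩ }
  have hle : elemSpanAll G ≤ Gen := by
    refine iSup_le fun p => (AddSubgroup.closure_le _).mpr ?_
    rintro f ⟨E, χ, hEl, hχ, rfl⟩
    show IsGeneralizedCharacter G (indFun E χ * θ)
    rw [indFun_mul E χ hθ]
    apply gen_indFun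
    obtain ⟨a, b, ha, hb, hab⟩ := hE E p.1 p.2 hEl
    refine ⟨χ * a, χ * b, isCharacter_mul hχ ha, isCharacter_mul hχ hb, ?_⟩
    ext e
    have := congrFun hab e
    simp only [Pi.sub_apply, Pi.mul_apply] at this ⊢
    rw [this, mul_sub]
  have h1 := hle (one_mem_elemSpanAll G)
  change IsGeneralizedCharacter G ((fun _ => 1) * θ) at h1
  rwa [show ((fun _ => 1 : G → ℂ) * θ) = θ from funext fun g => one_mul _] at h1

end CfsgLib.Char
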