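import Cfsg.Agent.Blk.ZStarBasic

/-! Generalized characters of norm 2 vanishing at the identity; the isometry lemma behind exceptional
characters. -/

set_option autoImplicit false
set_option linter.style.haveILetI false
set_option linter.unusedSectionVars false

namespace CfsgLib.Char

open Cfsg
open scoped ComplexConjugate

universe u

variable {G : Type u} [Group G] [Fintype G]

theorem exists_sub_of_norm_two {τ : G → ℂ} (hτ : IsGeneralizedCharacter G τ) (h1 : τ 1 = 0)
    (h2 : classInner τ τ = 2) :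
    ∃ X Y : IrrCharacter G, X ≠ Y ∧ τ = (X : G → ℂ) - (Y : G → ℂ) := by
  classical
  obtain ⟨hc, hn⟩ := isGeneralized_iff.mp hτ
  choose n hn using hn
  have hexp := classFun_eq_sum hc
  simp only [hn] at hexp
  have e : classInner τ τ = ((∑ χ : IrrCharacter G, n χ ^ 2 : ℤ) : ℂ) := by
    nth_rewrite 2 [hexp]
    simp [classInner_sum_right, classInner_smul_right, hn, pow_two]
  have e2 : ∑ χ : IrrCharacter G, n χ ^ 2 = 2 := by exact_mod_cast e.symm.trans h2
  obtain ⟨i, j, hij, hi, hj, hz⟩ := CfsgLib.Blk.exists_of_sum_sq_eq_two e2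
  have hsum : τ = (n i : ℂ) • (i : G → ℂ) + (n j : ℂ) • (j : G → ℂ) := by
    conv_lhs => rw [hexp, Finset.sum_eq_add (s := Finset.univ) i j hij
      (fun k _ hk => by simp [hz k hk.1 hk.2]) (by simp) (by simp)]
  obtain ⟨a, ha, hav⟩ := irr_deg i.2
  obtain ⟨b, hb, hbv⟩ := irr_deg j.2
  have h0 : (n i : ℂ) * (a : ℂ) + (n j : ℂ) * (b : ℂ) = 0 := by
    rw [hsum] at h1; simpa [hav, hbv] using h1
  have h0' : n i * a + n j * b = 0 := by exact_mod_cast h0
  rw [pow_two] at hi hj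
  rcases mul_self_eq_one_iff.1 hi with hi' | hi' <;> rcases mul_self_eq_one_iff.1 hj with hj' | hj' <;>
    rw [hi', hj'] at hsum h0'
  · omega
  · exact ⟨i, j, hij, by rw [hsum]; ext g; simp [sub_eq_add_neg]⟩
  · exact ⟨j, i, hij.symm, by rw [hsum]; ext g; simp [sub_eq_neg_add]⟩
  · omega

theorem inner_sub_sub (X Y X' Y' : IrrCharacter G) [DecidableEq (IrrCharacter G)] :
    classInner ((X : G → ℂ) - (Y : G → ℂ)) ((X' : G → ℂ) - (Y' : G → ℂ)) =
      (if X = X' then (1 : ℂ) else 0) - (if X = Y' then 1 else 0) -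
        ((if Y = X' then 1 else 0) - (if Y = Y' then 1 else 0)) := by
  classical
  simp only [classInner_sub_left, classInner_sub_right, irr_inner X.2 X'.2, irr_inner X.2 Y'.2,
    irr_inner Y.2 X'.2, irr_inner Y.2 Y'.2, Subtype.coe_inj]
  grind

/-- The isometry lemma. -/
theorem exists_exceptional {ι : Type} [Fintype ι] (i₀ : ι) (τ : ι → G → ℂ) (h0 : τ i₀ = 0)
    (hgen : ∀ i, IsGeneralizedCharacter G (τ i)) (hone : ∀ i, τ i 1 = 0)
    (hgram : ∀ i j, i ≠ i₀ → j ≠ i₀ → ∀ [Decidable (i = j)],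
      classInner (τ i) (τ j) = if i = j then 2 else 1) :
    ∃ ε : ℂ, (ε = 1 ∨ ε = -1) ∧ ∃ μ : ι → (G → ℂ), (∀ i, IsIrrCharacter G (μ i)) ∧
      Function.Injective μ ∧ ∀ i, τ i = ε • (μ i - μ i₀) := by
  classical
  by_cases hex : ∃ k, k ≠ i₀
  swap
  · push Not at hex
    exact ⟨1, Or.inl rfl, fun _ _ => 1, fun _ => isIrr_one,
      fun a b _ => (hex a).trans (hex b).symm, fun i => by rw [hex i, h0]; simp⟩
  have hXY : ∀ i : {i // i ≠ i₀}, ∃ X Y : IrrCharacter G, X ≠ Y ∧ τ i.1 = (X : G → ℂ) - (Y : G → ℂ) :=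
    fun i => exists_sub_of_norm_two (hgen i) (hone i) (by simpa using hgram i i i.2 i.2)
  choose X Y hne hτ using hXY
  have hsq : ∀ i j : {i // i ≠ i₀}, i ≠ j →
      (X i = X j ∧ Y i ≠ Y j ∧ X i ≠ Y j ∧ Y i ≠ X j) ∨
      (Y i = Y j ∧ X i ≠ X j ∧ X i ≠ Y j ∧ Y i ≠ X j) := by
    intro i j hij
    have h := hgram i.1 j.1 i.2 j.2
    rw [if_neg (fun e => hij (Subtype.ext e)), hτ i, hτ j, inner_sub_sub] at h
    have := hne i
    have := hne j
    by_cases h1 : X i = X j <;> by_cases h2 : Y i = Y j <;> by_cases h3 : X i = Y j <;>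
      by_cases h4 : Y i = X j <;> simp [h1, h2, h3, h4] at h <;> grind
  obtain ⟨k₀, hk₀⟩ := hex
  let b : {i // i ≠ i₀} := ⟨k₀, hk₀⟩
  have hall : (∀ i j, X i = X j) ∨ ∀ i j, Y i = Y j := by
    by_contra hc
    simp only [not_or, not_forall] at hc
    obtain ⟨⟨i, j, hij⟩, k, l, hkl⟩ := hc
    have hij' : i ≠ j := fun e => hij (e ▸ rfl)
    have hkl' : k ≠ l := fun e => hkl (e ▸ rfl)
    have hA := (hsq i j hij').resolve_left fun h => hij h.1
    have hB := (hsq k l hkl').resolve_right fun h => hkl h.1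
    have hkey : ∀ m, Y m = Y i := by
      intro m
      rcases eq_or_ne m i with rfl | hmi
      · rfl
      rcases eq_or_ne m j with rfl | hmj
      · exact hA.1.symm
      rcases hsq m i hmi with h | h
      · rcases hsq m j hmj with h' | h'
        · exact absurd (h.1.symm.trans h'.1) hij
        · exact absurd (h'.1.trans hA.1.symm) h.2.1
      · exact h.1
    exact hB.2.1 ((hkey k).trans (hkey l).symm)
  rcases hall with hX | hY
  · refine ⟨-1, Or.inr rfl, fun i => if h : i = i₀ then (X b : G → ℂ) else (Y ⟨i, h⟩ : G → ℂ),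
      fun i => ?_, fun i j h => ?_, fun i => ?_⟩
    · dsimp only; split_ifs <;> exact Subtype.prop _
    · dsimp only at h
      split_ifs at h with h1 h2 h2
      · exact h1.trans h2.symm
      · exact absurd (Subtype.ext h) ((hX b ⟨j, h2⟩).symm ▸ hne ⟨j, h2⟩)
      · exact absurd (Subtype.ext h.symm) ((hX b ⟨i, h1⟩).symm ▸ hne ⟨i, h1⟩)
      · by_contra hne'
        rcases hsq ⟨i, h1⟩ ⟨j, h2⟩ (fun e => hne' (congrArg Subtype.val e)) with h' | h'
        · exact h'.2.1 (Subtype.ext h)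
        · exact h'.2.1 (hX _ _)
    · dsimp only
      rw [dif_pos rfl]
      by_cases h1 : i = i₀
      · rw [dif_pos h1, h1, h0]; simp
      · rw [dif_neg h1, hτ ⟨i, h1⟩, hX ⟨i, h1⟩ b]
        ext g; simp
  · refine ⟨1, Or.inl rfl, fun i => if h : i = i₀ then (Y b : G → ℂ) else (X ⟨i, h⟩ : G → ℂ),
      fun i => ?_, fun i j h => ?_, fun i => ?_⟩
    · dsimp only; split_ifs <;> exact Subtype.prop _
    · dsimp only at h
      split_ifs at h with h1 h2 h2
      · exact h1.trans h2.symm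
      · exact absurd (Subtype.ext h.symm) ((hY b ⟨j, h2⟩).symm ▸ hne ⟨j, h2⟩)
      · exact absurd (Subtype.ext h) ((hY b ⟨i, h1⟩).symm ▸ hne ⟨i, h1⟩)
      · by_contra hne'
        rcases hsq ⟨i, h1⟩ ⟨j, h2⟩ (fun e => hne' (congrArg Subtype.val e)) with h' | h'
        · exact h'.2.1 (hY _ _)
        · exact h'.2.1 (Subtype.ext h)
    · dsimp only
      rw [dif_pos rfl]
      by_cases h1 : i = i₀
      · rw [dif_pos h1, h1, h0]; simp
      · rw [dif_neg h1, hτ ⟨i, h1⟩, hY ⟨i, h1⟩ b]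
        simp

end CfsgLib.Char
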