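import Cfsg.Agent.Char.Linear
import Cfsg.Agent.Char.Brauer

/-! Gallagher's correspondence and the centre bound on degrees. -/

set_option linter.unusedSectionVars false
set_option linter.style.haveILetI false

namespace CfsgLib.Char

open Module Cfsg
open scoped ComplexConjugate

universe u v

variable {G : Type u} [Group G]

section mul

variable [Fintype G] {N : Subgroup G} [hN : N.Normal] [Fintype N]

theorem inertia_top_of_inv {θ : N → ℂ} (hinv : ∀ g : G, conjN θ g = θ) : inertia θ = ⊤ :=
  top_le_iff.mp fun g _ => hinv g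

theorem norm_indFun_inv {θ : N → ℂ} (hθ : IsIrrCharacter N θ) (hinv : ∀ g : G, conjN θ g = θ) :
    classInner (indFun N θ) (indFun N θ) = (N.index : ℂ) := by
  rw [norm_indFun hθ, inertia_top_of_inv hinv, Subgroup.card_top, ← N.card_mul_index, Nat.cast_mul,
    mul_div_cancel_left₀ _ (natCard_ne_zero _)]

/-- multiplication by a character whose product stays irreducible below is a bijection above -/
theorem gallagher_general {φ θ : N → ℂ} (hφ : IsIrrCharacter N φ)
    (hφinv : ∀ g : G, conjN φ g = φ) (hprod : IsIrrCharacter N (φ * θ))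
    (hprodinv : ∀ g : G, conjN (φ * θ) g = φ * θ) {χ : G → ℂ} (hχ : IsCharacter G χ)
    (hext : ∀ n : N, χ n = θ n) :
    Set.BijOn (fun β : G → ℂ => β * χ)
      {β : G → ℂ | IsIrrCharacter G β ∧ classInner (indFun N φ) β ≠ 0}
      {ψ : G → ℂ | IsIrrCharacter G ψ ∧ classInner (indFun N (φ * θ)) ψ ≠ 0} := by
  classical
  have hcl := classFun_of_char hχ
  have hmul : indFun N (φ * θ) = indFun N φ * χ := by
    rw [indFun_mul N φ hcl]
    congr 1
    ext n
    simp [hext]
  have hφc := isCharacter_indFun N (isCharacter_of_isIrr hφ)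
  obtain ⟨hcl1, hnat⟩ := isCharacter_iff.mp hφc
  choose a ha using hnat
  have hexp : indFun N φ = ∑ β : IrrCharacter G, (a β : ℂ) • (β : G → ℂ) := by
    conv_lhs => rw [classFun_eq_sum hcl1]
    simp [ha]
  have hexp' : indFun N (φ * θ) = ∑ β : IrrCharacter G, (a β : ℂ) • ((β : G → ℂ) * χ) := by
    rw [hmul, hexp, Finset.sum_mul]
    exact Finset.sum_congr rfl fun β _ => smul_mul_assoc _ _ _
  have hchar : ∀ β : IrrCharacter G, IsCharacter G ((β : G → ℂ) * χ) :=
    fun β => isCharacter_mul (isCharacter_of_isIrr β.2) hχ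
  choose M hM using fun β β' : IrrCharacter G => inner_char_char (hchar β') (hchar β)
  -- the two norms
  have h1 : (∑ β : IrrCharacter G, a β * a β : ℕ) = N.index := by
    have := norm_indFun_inv hφ hφinv
    rw [hexp] at this
    simp only [classInner_sum_left, classInner_smul_left, classInner_sum_right,
      classInner_smul_right, irrChar_inner, Complex.conj_natCast, mul_ite, mul_one, mul_zero,
      Finset.sum_ite_eq', Finset.mem_univ, if_true] at this
    exact_mod_cast this
  have h2 : (∑ β : IrrCharacter G, ∑ β' : IrrCharacter G, a β * (a β' * M β β') : ℕ) =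
      N.index := by
    have := norm_indFun_inv hprod hprodinv
    rw [hexp'] at this
    simp only [classInner_sum_left, classInner_smul_left, classInner_sum_right,
      classInner_smul_right, Complex.conj_natCast, hM, Finset.mul_sum] at this
    exact_mod_cast this
  have hne : ∀ β : IrrCharacter G, classInner (indFun N φ) (β : G → ℂ) ≠ 0 → a β ≠ 0 :=
    fun β h e => h (by rw [ha, e, Nat.cast_zero])
  have hMpos : ∀ β : IrrCharacter G, a β ≠ 0 → 1 ≤ M β β := by
    intro β _
    rcases Nat.eq_zero_or_pos (M β β) with h0 | h0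
    · exfalso
      have hz := hM β β
      rw [h0, Nat.cast_zero] at hz
      have := congrFun (classInner_self_eq_zero hz) 1
      rcases mul_eq_zero.mp this with h | h
      · exact irr_one_ne_zero β.2 h
      · apply irr_one_ne_zero hprod
        rw [Pi.mul_apply, ← hext]
        simp [h]
    · exact h0
  have hzero : ∀ β β' : IrrCharacter G,
      a β * (a β' * M β β') = if β = β' then a β * a β else 0 := by
    have hle : ∀ β β' : IrrCharacter G,
        (if β = β' then a β * a β else 0) ≤ a β * (a β' * M β β') := by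
      intro β β'
      split_ifs with h
      · subst h
        rcases Nat.eq_zero_or_pos (a β) with h0 | h0
        · simp [h0]
        · exact Nat.mul_le_mul_left _ (Nat.le_mul_of_pos_right _ (hMpos β h0.ne'))
      · exact Nat.zero_le _
    have htot : ∑ β : IrrCharacter G, ∑ β' : IrrCharacter G, (if β = β' then a β * a β else 0) =
        ∑ β : IrrCharacter G, ∑ β' : IrrCharacter G, a β * (a β' * M β β') := by
      simp only [Finset.sum_ite_eq, Finset.mem_univ, if_true]
      rw [h1, h2]
    intro β β'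
    have h3 := (Finset.sum_eq_sum_iff_of_le
      (fun β _ => Finset.sum_le_sum fun β' _ => hle β β')).mp htot β (Finset.mem_univ _)
    exact ((Finset.sum_eq_sum_iff_of_le fun β' _ => hle β β').mp h3 β' (Finset.mem_univ _)).symm
  have hirr : ∀ β : IrrCharacter G, a β ≠ 0 → IsIrrCharacter G ((β : G → ℂ) * χ) := by
    intro β hb
    refine isIrr_of_char_norm (hchar β) ?_
    have := hzero β β
    rw [if_pos rfl] at this
    rw [hM]
    have h3 : a β * (a β * M β β) = a β * (a β * 1) := by rw [this, mul_one]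
    exact_mod_cast Nat.eq_of_mul_eq_mul_left (Nat.pos_of_ne_zero hb)
      (Nat.eq_of_mul_eq_mul_left (Nat.pos_of_ne_zero hb) h3)
  have horth : ∀ β β' : IrrCharacter G, a β ≠ 0 → a β' ≠ 0 → β ≠ β' → M β β' = 0 := by
    intro β β' hb hb' hbb'
    have := hzero β β'
    rw [if_neg hbb'] at this
    simpa [hb, hb'] using this
  refine ⟨fun β hβ => ⟨hirr ⟨β, hβ.1⟩ (hne _ hβ.2), ?_⟩, fun β hβ β' hβ' heq => ?_, fun ψ hψ => ?_⟩
  · rw [hexp', classInner_sum_left]
    simp only [classInner_smul_left]
    rw [Finset.sum_eq_single (⟨β, hβ.1⟩ : IrrCharacter G)]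
    · rw [show (⟨β, hβ.1⟩ : IrrCharacter G).1 = β from rfl,
        irr_inner_self (hirr ⟨β, hβ.1⟩ (hne _ hβ.2)), mul_one]
      exact_mod_cast hne ⟨β, hβ.1⟩ hβ.2
    · intro β' _ hne'
      rcases Nat.eq_zero_or_pos (a β') with h0 | h0
      · simp [h0]
      · show (a β' : ℂ) * classInner ((β' : G → ℂ) * χ)
          (((⟨β, hβ.1⟩ : IrrCharacter G) : G → ℂ) * χ) = 0
        rw [hM ⟨β, hβ.1⟩ β', horth ⟨β, hβ.1⟩ β' (hne ⟨β, hβ.1⟩ hβ.2) h0.ne' (Ne.symm hne'),
          Nat.cast_zero, mul_zero]
    · simp
  · by_contra hne'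
    have h0 := horth ⟨β, hβ.1⟩ ⟨β', hβ'.1⟩ (hne _ hβ.2) (hne _ hβ'.2)
      (fun e => hne' (congrArg Subtype.val e))
    have h3 := hM ⟨β, hβ.1⟩ ⟨β', hβ'.1⟩
    rw [h0] at h3
    simp only at heq
    simp only [← heq, irr_inner_self (hirr ⟨β, hβ.1⟩ (hne _ hβ.2)), Nat.cast_zero] at h3
    exact one_ne_zero h3
  · by_contra hnot
    apply hψ.2
    rw [hexp', classInner_sum_left]
    refine Finset.sum_eq_zero fun β _ => ?_
    rw [classInner_smul_left]
    rcases Nat.eq_zero_or_pos (a β) with h0 | h0
    · simp [h0]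
    · rw [irr_inner_ne (hirr β h0.ne') hψ.1, mul_zero]
      intro e
      exact hnot ⟨β.1, ⟨β.2, by rw [ha]; exact_mod_cast h0.ne'⟩, e⟩

/-- the irreducible constituents of `1_N^G` are the characters trivial on `N` -/
theorem mem_ind_one_iff {β : G → ℂ} (hβ : IsIrrCharacter G β) :
    classInner (indFun N (fun _ => (1 : ℂ))) β ≠ 0 ↔ ∀ n : N, β n = β 1 := by
  rw [frobenius N _ (classFun_of_irr hβ)]
  have hres := isCharacter_restrict N (isCharacter_of_isIrr hβ)
  have hone : IsIrrCharacter N (fun _ => (1 : ℂ)) := by simpa using isIrr_linear (1 : N →* ℂˣ)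
  constructor
  · intro h n
    have hc : classInner (fun n : N => β n) (fun _ => 1) ≠ 0 := fun e => h (by
      rw [← classInner_conj, e, map_zero])
    have hinv : ∀ g : G, conjN (fun _ : N => (1 : ℂ)) g = fun _ => 1 := fun g => rfl
    have hh := res_homogeneous hβ hone hc hinv
    have h1 := congrFun hh n
    have h2 := congrFun hh 1
    simp only [Pi.smul_apply] at h1 h2
    rw [h1, ← h2]
    simp
  · intro h
    have : (fun x : N => β x) = fun _ => β 1 := funext h
    rw [this, classInner_def]
    simp [natCard_ne_zero, irr_one_ne_zero hβ, ← Fintype.card_eq_nat_card]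

/-- Gallagher: the characters above an extendible invariant character -/
theorem gallagher {θ : N → ℂ} (hθ : IsIrrCharacter N θ) {χ : G → ℂ} (hχ : IsCharacter G χ)
    (hext : ∀ n : N, χ n = θ n) :
    Set.BijOn (fun β : G → ℂ => β * χ)
      {β : G → ℂ | IsIrrCharacter G β ∧ ∀ n : N, β n = β 1}
      {ψ : G → ℂ | IsIrrCharacter G ψ ∧ classInner (fun n : N => ψ n) θ ≠ 0} := by
  have hθinv : ∀ g : G, conjN θ g = θ := fun g => by
    rw [← funext hext]; exact conjN_restrict (classFun_of_char hχ) g
  have hone : IsIrrCharacter N (fun _ => (1 : ℂ)) := by simpa using isIrr_linear (1 : N →* ℂˣ)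
  have h1 : (fun _ => (1 : ℂ)) * θ = θ := funext fun n => one_mul _
  have h := gallagher_general hone (fun g => rfl) (θ := θ) (by rw [h1]; exact hθ)
    (by rw [h1]; exact hθinv) hχ hext
  rw [h1] at h
  have hA : ∀ β, IsIrrCharacter G β →
      ((classInner (indFun N (fun _ => (1 : ℂ))) β ≠ 0) ↔ ∀ n : N, β n = β 1) :=
    fun β hβ => mem_ind_one_iff hβ
  have hB : ∀ ψ, IsIrrCharacter G ψ →
      ((classInner (indFun N θ) ψ ≠ 0) ↔ classInner (fun n : N => ψ n) θ ≠ 0) := fun ψ hψ => by
    rw [frobenius N _ (classFun_of_irr hψ), ← classInner_conj]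
    simp
  have eA : {β : G → ℂ | IsIrrCharacter G β ∧ ∀ n : N, β n = β 1} =
      {β | IsIrrCharacter G β ∧ classInner (indFun N (fun _ => (1 : ℂ))) β ≠ 0} :=
    Set.ext fun β => and_congr_right fun hβ => (hA β hβ).symm
  have eB : {ψ : G → ℂ | IsIrrCharacter G ψ ∧ classInner (fun n : N => ψ n) θ ≠ 0} =
      {ψ | IsIrrCharacter G ψ ∧ classInner (indFun N θ) ψ ≠ 0} :=
    Set.ext fun ψ => and_congr_right fun hψ => (hB ψ hψ).symm
  rw [eA, eB]
  exact h

end mul

section center

open Classical in
/-- the degree divides the index of a central subgroup -/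
theorem degree_dvd_index_central {G : Type u} [Group G] [Finite G] {χ : G → ℂ}
    (hχ : IsIrrCharacter G χ) (Z : Subgroup G) (hZ : Z ≤ Subgroup.center G) :
    charDegree χ ∣ Z.index := by
  induction hn : Nat.card G using Nat.strong_induction_on generalizing G with
  | _ N ih =>
  haveI := Fintype.ofFinite G
  obtain ⟨K, hK, hmemK, -⟩ := exists_kernel (isCharacter_of_isIrr hχ)
  haveI := hK
  by_cases hbot : Z ⊓ K = ⊥
  swap
  · haveI := Fintype.ofFinite (G ⧸ K)
    obtain ⟨χ', hχ', hcomp⟩ := irr_descend (QuotientGroup.mk' K) (QuotientGroup.mk'_surjective K) hχ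
      fun k hk => (hmemK k).mp ((QuotientGroup.eq_one_iff k).mp hk)
    have hlt : Nat.card (G ⧸ K) < N := by
      subst hn
      rw [← Subgroup.index_eq_card, ← K.card_mul_index]
      refine lt_mul_left K.index_ne_zero_of_finite.bot_lt (Subgroup.one_lt_card_iff_ne_bot K |>.mpr ?_)
      exact fun e => hbot (by rw [e, inf_bot_eq])
    have h := ih _ hlt hχ' (Z.map (QuotientGroup.mk' K)) (by
      rintro _ ⟨z, hz, rfl⟩
      refine Subgroup.mem_center_iff.mpr fun q => ?_
      obtain ⟨g, rfl⟩ := QuotientGroup.mk'_surjective K q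
      rw [← map_mul, ← map_mul, Subgroup.mem_center_iff.mp (hZ hz) g]) rfl
    have hdeg : charDegree χ' = charDegree χ := by
      simp only [charDegree, ← hcomp, Function.comp_apply, map_one]
    rw [← hdeg]
    exact h.trans (Subgroup.index_map_dvd _ (QuotientGroup.mk'_surjective K))
  -- now `Z` is faithful: count by classes
  obtain ⟨n, ρ, hirr, rfl⟩ := hχ
  haveI := hirr
  have hn0 : n ≠ 0 := by
    have := finrank_pos_of_irreducible ρ
    simp at this
    omega
  have hscal : ∀ z ∈ Z, ∃ ω : ℂ, ρ z = ω • (LinearMap.id : (Fin n → ℂ) →ₗ[ℂ] _) := fun z hz =>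
    schur_scalar ρ (ρ z) fun g v => by
      rw [← Module.End.mul_apply, ← map_mul, ← Subgroup.mem_center_iff.mp (hZ hz) g, map_mul,
        Module.End.mul_apply]
  choose! ω hω using hscal
  have hchar : ∀ z ∈ Z, ∀ g, ρ.character (z * g) = ω z * ρ.character g := by
    intro z hz g
    simp only [Representation.character, map_mul, hω z hz]
    rw [smul_mul_assoc, ← Module.End.one_eq_id, one_mul, map_smul, smul_eq_mul]
  set S := Finset.univ.filter fun g : G => ρ.character g ≠ 0
  have hnorm : ∑ g : G, ρ.character g * conj (ρ.character g) = (Nat.card G : ℂ) := by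
    have h := irr_inner_self (G := G) ⟨n, ρ, hirr, rfl⟩
    rw [classInner_def, inv_mul_eq_iff_eq_mul₀ (natCard_ne_zero G), mul_one] at h
    exact h
  have hωnorm : ∀ z ∈ Z, ω z * conj (ω z) = 1 := by
    intro z hz
    have h1 : ω z ^ orderOf z = 1 := by
      have h2 : ρ (z ^ orderOf z) = (ω z ^ orderOf z) • (LinearMap.id : (Fin n → ℂ) →ₗ[ℂ] _) := by
        rw [map_pow, hω z hz, smul_pow, ← Module.End.one_eq_id, one_pow]
      rw [pow_orderOf_eq_one, map_one] at h2
      haveI : NeZero n := ⟨hn0⟩
      have h3 := congrFun (LinearMap.congr_fun h2 (fun _ => 1)) 0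
      simpa using h3.symm
    rw [Complex.mul_conj', norm_root (orderOf_pos z).ne' h1]
    simp
  let r : G → G → Prop := fun a b => ∃ z ∈ Z, IsConj (z * a) b
  have hr : Equivalence r := by
    refine ⟨fun a => ⟨1, Z.one_mem, by rw [one_mul]⟩, ?_, ?_⟩
    · rintro a b ⟨z, hz, h⟩
      obtain ⟨c, hc⟩ := isConj_iff.mp h
      refine ⟨z⁻¹, Z.inv_mem hz, isConj_iff.mpr ⟨c⁻¹, ?_⟩⟩
      rw [← hc, ← mul_assoc c⁻¹, Subgroup.mem_center_iff.mp (hZ (Z.inv_mem hz)) c⁻¹]
      group
    · rintro a b c ⟨z, hz, h⟩ ⟨w, hw, h'⟩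
      obtain ⟨s, hs⟩ := isConj_iff.mp h
      refine ⟨w * z, Z.mul_mem hw hz, IsConj.trans (isConj_iff.mpr ⟨s, ?_⟩) h'⟩
      rw [← hs]
      simp only [mul_assoc]
      rw [← mul_assoc s w, Subgroup.mem_center_iff.mp (hZ hw) s, mul_assoc]
  letI st : Setoid G := ⟨r, hr⟩
  haveI : Fintype (Quotient st) := Fintype.ofFinite _
  have hfib : ∀ q : Quotient st, ∃ β : ℂ, IsIntegral ℤ β ∧
      ∑ g ∈ Finset.univ.filter (fun g => (⟦g⟧ : Quotient st) = q),
        ρ.character g * conj (ρ.character g) = (Nat.card Z : ℂ) * n * β := by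
    intro q
    obtain ⟨a, rfl⟩ := Quotient.exists_rep q
    by_cases ha : ρ.character a = 0
    · refine ⟨0, isIntegral_zero, ?_⟩
      rw [mul_zero]
      refine Finset.sum_eq_zero fun g hg => ?_
      obtain ⟨z, hz, h⟩ := hr.symm (Quotient.exact (Finset.mem_filter.mp hg).2)
      have := classFun_isConj (classFun_of_char (isCharacter_of_rep ρ)) h
      rw [hchar z hz, ha, mul_zero] at this
      rw [← this, zero_mul]
    refine ⟨centralChar ρ.character a * conj (ρ.character a),
      (centralChar_isIntegral ⟨n, ρ, hirr, rfl⟩ a).mul ?_, ?_⟩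
    · rw [← char_inv ρ a]
      exact char_isIntegral (isCharacter_of_rep ρ) a⁻¹
    have heq : Finset.univ.filter (fun g => (⟦g⟧ : Quotient st) = ⟦a⟧) =
        ((Finset.univ : Finset Z) ×ˢ Finset.univ.filter fun x : G => IsConj a x).image
          (fun p => (p.1 : G) * p.2) := by
      ext g
      simp only [Finset.mem_filter, Finset.mem_univ, true_and, Finset.mem_image, Finset.mem_product,
        Prod.exists, Quotient.eq]
      constructor
      · intro h
        obtain ⟨z, hz, hc⟩ := hr.symm h
        obtain ⟨c, hc⟩ := isConj_iff.mp hc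
        refine ⟨⟨z, hz⟩, z⁻¹ * g, isConj_iff.mpr ⟨c, ?_⟩, by simp⟩
        rw [← hc, ← mul_assoc c z, Subgroup.mem_center_iff.mp (hZ hz) c]
        group
      · rintro ⟨z, x, hx, rfl⟩
        refine hr.symm ⟨z, z.2, ?_⟩
        obtain ⟨c, hc⟩ := isConj_iff.mp hx
        refine isConj_iff.mpr ⟨c, ?_⟩
        rw [← hc, ← mul_assoc c, Subgroup.mem_center_iff.mp (hZ z.2) c]
        group
    rw [heq, Finset.sum_image]
    · have hval : ∀ p ∈ (Finset.univ : Finset Z) ×ˢ Finset.univ.filter (fun x : G => IsConj a x),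
          ρ.character (p.1 * p.2) * conj (ρ.character (p.1 * p.2)) =
            ρ.character a * conj (ρ.character a) := by
        rintro ⟨z, x⟩ hp
        have hx : IsConj a x := (Finset.mem_filter.mp (Finset.mem_product.mp hp).2).2
        have hxa := classFun_isConj (classFun_of_char (isCharacter_of_rep ρ)) hx
        rw [hchar z z.2, map_mul, ← hxa]
        have := hωnorm z z.2
        linear_combination (ρ.character a * conj (ρ.character a)) * this
      rw [Finset.sum_congr rfl hval, Finset.sum_const, Finset.card_product, Finset.card_univ,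
        card_filter_isConj, centralChar, Fintype.card_eq_nat_card, nsmul_eq_mul,
        Representation.char_one, finrank_fin_fun]
      have : (n : ℂ) ≠ 0 := Nat.cast_ne_zero.mpr hn0
      push_cast
      field_simp
    · rintro ⟨z, x⟩ hp ⟨w, y⟩ hq (h : (z : G) * x = w * y)
      have hx := (Finset.mem_filter.mp (Finset.mem_product.mp hp).2).2
      have hy := (Finset.mem_filter.mp (Finset.mem_product.mp hq).2).2
      have hval : ρ.character ((z : G) * x) = ρ.character ((w : G) * y) := by rw [h]
      rw [hchar z z.2, hchar w w.2, ← classFun_isConj (classFun_of_char (isCharacter_of_rep ρ)) hx,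
        ← classFun_isConj (classFun_of_char (isCharacter_of_rep ρ)) hy] at hval
      have hzw : ω z = ω w := mul_right_cancel₀ ha hval
      have hk : (w : G)⁻¹ * z ∈ Z ⊓ K := by
        refine ⟨Z.mul_mem (Z.inv_mem w.2) z.2, (hmemK _).mpr ?_⟩
        have hrep : ρ ((w : G)⁻¹ * z) = 1 := by
          rw [map_mul, hω z z.2, hzw, ← hω w w.2, ← map_mul, inv_mul_cancel, map_one]
        simp [Representation.character, hrep]
      rw [hbot, Subgroup.mem_bot, inv_mul_eq_one] at hk
      have : w = z := Subtype.ext hk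
      subst this
      simp at h
      simp [h]
  choose β hβ1 hβ2 using hfib
  have htot : (Nat.card G : ℂ) = (Nat.card Z : ℂ) * n * ∑ q, β q := by
    rw [← hnorm, ← Finset.sum_fiberwise Finset.univ (fun g => (⟦g⟧ : Quotient st)),
      Finset.mul_sum]
    exact Finset.sum_congr rfl fun q _ => hβ2 q
  have hdeg : charDegree ρ.character = n :=
    charDegree_eq (by rw [Representation.char_one, finrank_fin_fun])
  rw [hdeg]
  refine dvd_of_isIntegral_div hn0 ?_
  have h3 : (Z.index : ℂ) / n = ∑ q, β q := by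
    rw [← Z.card_mul_index, Nat.cast_mul] at htot
    rw [div_eq_iff (Nat.cast_ne_zero.mpr hn0)]
    have := natCard_ne_zero Z
    apply mul_left_cancel₀ this
    rw [htot]; ring
  rw [h3]
  exact IsIntegral.sum _ fun q _ => hβ1 q

end center

end CfsgLib.Char
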