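import Cfsg.Agent.Char.Orth
import Cfsg.Agent.Char.Central
import Cfsg.Prelude.Def_OddOrderChar

/-! Coherence from a family of images. -/

set_option autoImplicit false
set_option linter.style.haveILetI false
set_option linter.unusedSectionVars false

namespace CfsgLib.Coh

open Cfsg CfsgLib.Char
open scoped ComplexConjugate CfsgLib.Char

universe u v

variable {L : Type u} [Group L] [Fintype L] {G : Type v} [Group G] [Fintype G]
variable {E : Set (L → ℂ)} {τ : (L → ℂ) → (G → ℂ)}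

theorem mem_zspan {S : Set (L → ℂ)} {φ : L → ℂ} (h : φ ∈ S) : φ ∈ zspan S := Submodule.subset_span h

theorem zspanOn_zero (S : Set (L → ℂ)) (A : Set L) : (0 : L → ℂ) ∈ zspanOn S A :=
  ⟨Submodule.zero_mem _, fun _ _ => rfl⟩

theorem zspanOn_add {S : Set (L → ℂ)} {A : Set L} {α β : L → ℂ} (ha : α ∈ zspanOn S A)
    (hb : β ∈ zspanOn S A) : α + β ∈ zspanOn S A :=
  ⟨Submodule.add_mem _ ha.1 hb.1, fun x hx => by simp [ha.2 x hx, hb.2 x hx]⟩

theorem zspanOn_smul {S : Set (L → ℂ)} {A : Set L} {α : L → ℂ} (ha : α ∈ zspanOn S A) (n : ℤ) :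
    n • α ∈ zspanOn S A :=
  ⟨Submodule.smul_mem _ _ ha.1, fun x hx => by simp [ha.2 x hx]⟩

theorem zspanOn_sum {S : Set (L → ℂ)} {A : Set L} {ι : Type*} (s : Finset ι) (f : ι → L → ℂ)
    (h : ∀ i ∈ s, f i ∈ zspanOn S A) : ∑ i ∈ s, f i ∈ zspanOn S A :=
  Finset.sum_induction f (fun α => α ∈ zspanOn S A) (fun _ _ => zspanOn_add) (zspanOn_zero S A) h

theorem zspanOn_mono {S T : Set (L → ℂ)} (h : S ⊆ T) (A : Set L) : zspanOn S A ⊆ zspanOn T A :=
  fun _ hα => ⟨Submodule.span_mono h hα.1, hα.2⟩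

theorem isometry_mono {E' : Set (L → ℂ)} (h : E' ⊆ E) (hτ : IsLinearIsometryOn E τ) :
    IsLinearIsometryOn E' τ :=
  ⟨fun a ha b hb => hτ.1 a (h ha) b (h hb), fun a ha => hτ.2.1 a (h ha),
    fun a ha b hb => hτ.2.2.1 a (h ha) b (h hb), fun a ha => hτ.2.2.2 a (h ha)⟩

theorem iso_zero {S : Set (L → ℂ)} {A : Set L} (hτ : IsLinearIsometryOn (zspanOn S A) τ) : τ 0 = 0 := by
  have := hτ.2.1 0 (zspanOn_zero S A) 0
  simpa using this

theorem iso_sum {S : Set (L → ℂ)} {A : Set L} (hτ : IsLinearIsometryOn (zspanOn S A) τ) {ι : Type*}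
    (s : Finset ι) (f : ι → L → ℂ) (h : ∀ i ∈ s, f i ∈ zspanOn S A) :
    τ (∑ i ∈ s, f i) = ∑ i ∈ s, τ (f i) := by
  classical
  induction s using Finset.induction_on with
  | empty => simp [iso_zero hτ]
  | insert a s ha ih =>
    rw [Finset.sum_insert ha, Finset.sum_insert ha,
      hτ.1 _ (h a (Finset.mem_insert_self a s)) _
        (zspanOn_sum s f fun i hi => h i (Finset.mem_insert_of_mem hi)),
      ih fun i hi => h i (Finset.mem_insert_of_mem hi)]

theorem degZero_mem {S : Set (L → ℂ)} (d : (L → ℂ) → ℕ) (hd : ∀ φ ∈ S, φ 1 = (d φ : ℂ)) {φ ψ : L → ℂ}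
    (hφ : φ ∈ S) (hψ : ψ ∈ S) : (d ψ : ℤ) • φ - (d φ : ℤ) • ψ ∈ zspanOn S {1}ᶜ := by
  refine ⟨Submodule.sub_mem _ (Submodule.smul_mem _ _ (mem_zspan hφ))
    (Submodule.smul_mem _ _ (mem_zspan hψ)), fun x hx => ?_⟩
  obtain rfl : x = 1 := by simpa using hx
  simp [hd φ hφ, hd ψ hψ, mul_comm]

theorem smul_cancel {X : Type*} {n : ℕ} (hn : 0 < n) {a b : X → ℂ}
    (h : (n : ℤ) • a = (n : ℤ) • b) : a = b := by
  funext x
  have := congrFun h x
  simp only [Pi.smul_apply, zsmul_eq_mul, Int.cast_natCast] at this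
  exact mul_left_cancel₀ (Nat.cast_ne_zero.2 hn.ne') this

/-- Coherence from the images of the members. -/
theorem coherent_of_family (S : Finset (L → ℂ)) (d : (L → ℂ) → ℕ)
    (hd : ∀ φ ∈ S, φ 1 = (d φ : ℂ))
    (horth : ∀ φ ∈ S, ∀ ψ ∈ S, φ ≠ ψ → classInner φ ψ = 0)
    (hnorm : ∀ φ ∈ S, classInner φ φ ≠ 0)
    (hτ : IsLinearIsometryOn (zspanOn (S : Set (L → ℂ)) {1}ᶜ) τ)
    (χ₁ : L → ℂ) (hχ₁ : χ₁ ∈ S) (hd1 : 0 < d χ₁)
    (T : (L → ℂ) → (G → ℂ)) (hgen : ∀ φ ∈ S, IsGeneralizedCharacter G (T φ))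
    (hgram : ∀ φ ∈ S, ∀ ψ ∈ S, classInner (T φ) (T ψ) = classInner φ ψ)
    (hcompat : ∀ φ ∈ S, τ ((d χ₁ : ℤ) • φ - (d φ : ℤ) • χ₁) = (d χ₁ : ℤ) • T φ - (d φ : ℤ) • T χ₁)
    (hnz : ∃ α ∈ zspanOn (S : Set (L → ℂ)) {1}ᶜ, α ≠ 0) :
    IsCoherent (S : Set (L → ℂ)) {1}ᶜ τ := by
  classical
  have hco : ∀ α ∈ zspan (S : Set (L → ℂ)), ∃ c : (L → ℂ) → ℤ,
      α = ∑ φ ∈ S, c φ • φ ∧ ∑ φ ∈ S, (classInner α φ / classInner φ φ) • T φ = ∑ φ ∈ S, c φ • T φ := by
    intro α hα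
    obtain ⟨c, -, hc⟩ := Submodule.mem_span_finset.1 hα
    refine ⟨c, hc.symm, Finset.sum_congr rfl fun φ hφ => ?_⟩
    have : classInner α φ = (c φ : ℂ) * classInner φ φ := by
      rw [← hc, classInner_sum_left, Finset.sum_eq_single φ]
      · rw [← Int.cast_smul_eq_zsmul ℂ, classInner_smul_left]
      · intro ψ hψ hne
        rw [← Int.cast_smul_eq_zsmul ℂ, classInner_smul_left, horth ψ hψ φ hφ hne, mul_zero]
      · intro h; exact absurd hφ h
    rw [this, mul_div_cancel_right₀ _ (hnorm φ hφ), Int.cast_smul_eq_zsmul]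
  refine ⟨hnz, fun α => ∑ φ ∈ S, (classInner α φ / classInner φ φ) • T φ, ?_, ?_⟩
  · refine ⟨fun α _ β _ => ?_, fun α _ n => ?_, fun α hα β hβ => ?_, fun α hα => ?_⟩
    · simp only [classInner_add_left, add_div, add_smul, Finset.sum_add_distrib]
    · simp only [← Int.cast_smul_eq_zsmul ℂ, classInner_smul_left, Finset.smul_sum, smul_smul, mul_div_assoc]
    · obtain ⟨a, ha, ha'⟩ := hco α hα
      obtain ⟨b, hb, hb'⟩ := hco β hβ
      simp only at *
      rw [ha', hb']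
      conv_rhs => rw [ha, hb]
      simp only [classInner_sum_left, classInner_sum_right, ← Int.cast_smul_eq_zsmul ℂ,
        classInner_smul_left, classInner_smul_right]
      exact Finset.sum_congr rfl fun φ hφ => congrArg _ (Finset.sum_congr rfl fun ψ hψ => by rw [hgram ψ hψ φ hφ])
    · obtain ⟨a, -, ha'⟩ := hco α hα
      simp only at *
      rw [ha']
      refine Finset.sum_induction _ (IsGeneralizedCharacter G) ?_ ⟨0, 0, isCharacter_zero, isCharacter_zero, by simp⟩ ?_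
      · rintro _ _ ⟨x, y, hx, hy, rfl⟩ ⟨x', y', hx', hy', rfl⟩
        exact ⟨x + x', y + y', isCharacter_add hx hx', isCharacter_add hy hy', by abel⟩
      · intro φ hφ
        rw [← Int.cast_smul_eq_zsmul ℂ]
        refine isGeneralized_iff.2 ⟨fun x y => by simp [classFun_of_gen (hgen φ hφ) x y], fun χ => ?_⟩
        obtain ⟨k, hk⟩ := (isGeneralized_iff.1 (hgen φ hφ)).2 χ
        exact ⟨a φ * k, by rw [classInner_smul_left, hk]; push_cast; rfl⟩
  · intro α hα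
    obtain ⟨c, hc, hc'⟩ := hco α hα.1
    simp only at *
    rw [hc']
    refine smul_cancel hd1 ?_
    have h0 : ∑ φ ∈ S, c φ * (d φ : ℤ) = 0 := by
      have h : α 1 = 0 := hα.2 1 (by simp)
      rw [hc, Finset.sum_apply] at h
      have h' : ((∑ φ ∈ S, c φ * (d φ : ℤ) : ℤ) : ℂ) = 0 := by
        rw [← h, Int.cast_sum]
        refine Finset.sum_congr rfl fun φ hφ => ?_
        simp [hd φ hφ]
      exact_mod_cast h'
    have e : (d χ₁ : ℤ) • α = ∑ φ ∈ S, c φ • ((d χ₁ : ℤ) • φ - (d φ : ℤ) • χ₁) := by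
      simp only [smul_sub, Finset.sum_sub_distrib, smul_smul, ← Finset.sum_smul, h0, zero_smul, sub_zero]
      rw [hc, Finset.smul_sum]
      simp only [smul_smul, mul_comm]
    have e' : (d χ₁ : ℤ) • ∑ φ ∈ S, c φ • T φ =
        ∑ φ ∈ S, c φ • ((d χ₁ : ℤ) • T φ - (d φ : ℤ) • T χ₁) := by
      simp only [smul_sub, Finset.sum_sub_distrib, smul_smul, ← Finset.sum_smul, h0, zero_smul, sub_zero]
      rw [Finset.smul_sum]
      simp only [smul_smul, mul_comm]
    rw [← hτ.2.1 α hα, e', e, iso_sum hτ _ _ fun φ hφ => zspanOn_smul (degZero_mem d hd hφ hχ₁) _]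
    exact Finset.sum_congr rfl fun φ hφ => by rw [hτ.2.1 _ (degZero_mem d hd hφ hχ₁), hcompat φ hφ]

theorem inner_int {α β : G → ℂ} (hα : IsGeneralizedCharacter G α) (hβ : IsGeneralizedCharacter G β) :
    ∃ z : ℤ, classInner α β = z := by
  obtain ⟨a, b, ha, hb, rfl⟩ := hα
  obtain ⟨a', b', ha', hb', rfl⟩ := hβ
  obtain ⟨n1, e1⟩ := inner_char_char ha ha'
  obtain ⟨n2, e2⟩ := inner_char_char ha hb'
  obtain ⟨n3, e3⟩ := inner_char_char hb ha'
  obtain ⟨n4, e4⟩ := inner_char_char hb hb'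
  exact ⟨n1 - n2 - (n3 - n4), by
    rw [classInner_sub_left, classInner_sub_right, classInner_sub_right, e1, e2, e3, e4]
    push_cast; ring⟩

theorem gen_sub {α β : G → ℂ} (hα : IsGeneralizedCharacter G α) (hβ : IsGeneralizedCharacter G β) :
    IsGeneralizedCharacter G (α - β) := by
  obtain ⟨a, b, ha, hb, rfl⟩ := hα
  obtain ⟨a', b', ha', hb', rfl⟩ := hβ
  exact ⟨a + b', b + a', isCharacter_add ha hb', isCharacter_add hb ha', by abel⟩

theorem gen_zsmul {α : G → ℂ} (hα : IsGeneralizedCharacter G α) (n : ℤ) :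
    IsGeneralizedCharacter G (n • α) := by
  obtain ⟨hc, hn⟩ := isGeneralized_iff.1 hα
  refine isGeneralized_iff.2 ⟨fun x y => by simp [hc x y], fun χ => ?_⟩
  obtain ⟨k, hk⟩ := hn χ
  exact ⟨n * k, by rw [← Int.cast_smul_eq_zsmul ℂ, classInner_smul_left, hk]; push_cast; rfl⟩

theorem norm_one_value {α : G → ℂ} (hα : IsGeneralizedCharacter G α) (h : classInner α α = 1) :
    α 1 ≠ 0 := by
  rcases isIrr_or_neg_of_norm hα h with h1 | h1
  · exact irr_one_ne_zero h1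
  · exact fun e => irr_one_ne_zero h1 (by simp [e])

end CfsgLib.Coh
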