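import Cfsg.Agent.Char.Extension

/-! Extension criteria for invariant characters and the degree quotient theorem. -/

set_option linter.unusedSectionVars false
set_option linter.style.haveILetI false

namespace CfsgLib.Char

open Module Cfsg
open scoped ComplexConjugate

universe u v w

variable {G : Type u} [Group G]

theorem irr_of_res_irr [Finite G] (N : Subgroup G) {χ : G → ℂ} (hχ : IsCharacter G χ)
    (h : IsIrrCharacter N (fun n : N => χ n)) : IsIrrCharacter G χ := by
  haveI := Fintype.ofFinite G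
  haveI := Fintype.ofFinite N
  obtain ⟨ψ, hψ⟩ := exists_constituent hχ fun e => irr_one_ne_zero h (congrFun e 1)
  have hrest := isCharacter_sub_constituent hχ ψ.2 hψ
  have h1 := isCharacter_restrict N (isCharacter_of_isIrr ψ.2)
  have h2 := isCharacter_restrict N hrest
  obtain ⟨a, ha⟩ := inner_char_char h1 h1
  obtain ⟨b, hb⟩ := inner_char_char h2 h2
  obtain ⟨c, hc⟩ := inner_char_char h1 h2
  obtain ⟨c', hc'⟩ := inner_char_char h2 h1
  have hsum : (fun n : N => χ n) =
      (fun n : N => (ψ : G → ℂ) n) + fun n : N => (χ - (ψ : G → ℂ)) n := by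
    ext n; simp
  have hn := irr_inner_self h
  rw [hsum, classInner_add_left, classInner_add_right, classInner_add_right, ha, hb, hc, hc'] at hn
  have hn' : a + c + (c' + b) = 1 := by exact_mod_cast hn
  have ha0 : a ≠ 0 := fun e => irr_one_ne_zero ψ.2 (by
    have := congrFun (classInner_self_eq_zero (by rw [ha, e, Nat.cast_zero])) (1 : N)
    simpa using this)
  have hb0 : classInner (fun n : N => (χ - (ψ : G → ℂ)) n) (fun n : N => (χ - (ψ : G → ℂ)) n) = 0 := by
    rw [hb, show b = 0 by omega, Nat.cast_zero]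
  have h1' : (χ - (ψ : G → ℂ)) 1 = 0 := by
    simpa using congrFun (classInner_self_eq_zero hb0) (1 : N)
  have := (char_eq_zero_iff hrest).mp h1'
  rw [sub_eq_zero.mp this]
  exact ψ.2

theorem irreducible_of_char [Finite G] {V : Type v} [AddCommGroup V] [Module ℂ V]
    [FiniteDimensional ℂ V] (τ : Representation ℂ G V) (h : IsIrrCharacter G τ.character) :
    τ.IsIrreducible := by
  haveI := Fintype.ofFinite G
  by_contra hirr
  have hpos : 0 < finrank ℂ V := by
    have := irr_one_ne_zero h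
    rw [Representation.char_one, Ne, Nat.cast_eq_zero] at this
    omega
  obtain ⟨W, W', hWW, hlt, hlt'⟩ := exists_split_of_not_irreducible τ hpos hirr
  have hW := isCharacter_of_rep W.toRepresentation
  have hW' := isCharacter_of_rep W'.toRepresentation
  obtain ⟨a, ha⟩ := inner_char_char hW hW
  obtain ⟨b, hb⟩ := inner_char_char hW' hW'
  obtain ⟨c, hc⟩ := inner_char_char hW hW'
  obtain ⟨c', hc'⟩ := inner_char_char hW' hW
  have hn := irr_inner_self h
  rw [show τ.character = W.toRepresentation.character + W'.toRepresentation.character from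
    funext fun g => char_of_isCompl hWW g, classInner_add_left, classInner_add_right,
    classInner_add_right, ha, hb, hc, hc'] at hn
  have hn' : a + c + (c' + b) = 1 := by exact_mod_cast hn
  have hsum := Submodule.finrank_add_eq_of_isCompl (isCompl_toSubmodule hWW)
  have hdeg : ∀ U : Subrepresentation τ, classInner U.toRepresentation.character
      U.toRepresentation.character = 0 → finrank ℂ U.toSubmodule = 0 := fun U h0 => by
    have := congrFun (classInner_self_eq_zero h0) 1
    rw [Representation.char_one, Pi.zero_apply] at this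
    exact_mod_cast this
  rcases Nat.eq_zero_or_pos a with ha0 | ha0
  · have := hdeg W (by rw [ha, ha0, Nat.cast_zero]); omega
  · have := hdeg W' (by rw [hb, show b = 0 by omega, Nat.cast_zero]); omega

section criteria

variable [Finite G] {N : Subgroup G} [hN : N.Normal]

theorem conjN_eq_iff (θ : N → ℂ) :
    (∀ (g : G) (n : N), θ ⟨g * n * g⁻¹, hN.conj_mem (n : G) n.2 g⟩ = θ n) ↔
      ∀ g : G, conjN θ g = θ :=
  ⟨fun h g => funext (h g), fun h g n => congrFun (h g) n⟩

theorem exists_extension_of_rep {d : ℕ} {ρ : Representation ℂ N (Fin d → ℂ)} [ρ.IsIrreducible]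
    (σ : Representation ℂ G (Fin d → ℂ)) (hσ : ∀ n : N, σ n = ρ n) :
    ∃ χ : G → ℂ, IsIrrCharacter G χ ∧ ∀ n : N, χ n = ρ.character n := by
  have h : ∀ n : N, σ.character n = ρ.character n := fun n => by
    simp only [Representation.character, hσ]
  refine ⟨σ.character, irr_of_res_irr N (isCharacter_of_rep σ) ?_, h⟩
  rw [funext h]
  exact ⟨d, ρ, ‹_›, rfl⟩

/-- extension from Sylow preimages -/
theorem extend_of_sylow {θ : N → ℂ} (hθ : IsIrrCharacter N θ) (hinv : ∀ g : G, conjN θ g = θ)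
    (hsyl : ∀ p : ℕ, p.Prime → ∃ (P : Subgroup G) (hNP : N ≤ P) (η : P → ℂ),
      Nat.Coprime P.index p ∧ IsIrrCharacter P η ∧ ∀ n : N, η ⟨(n : G), hNP n.2⟩ = θ n) :
    ∃ χ : G → ℂ, IsIrrCharacter G χ ∧ ∀ n : N, χ n = θ n := by
  obtain ⟨d, ρ, hirr, rfl⟩ := hθ
  haveI := hirr
  haveI := extGroup_finite ρ
  obtain ⟨L, hL⟩ := extend_of_extPow (extLam ρ) fun p hp => by
    obtain ⟨P, hNP, η, hcop, ⟨m, σ, hσirr, rfl⟩, hres⟩ := hsyl p hp
    refine ⟨(P.index : ℤ), ?_, fun hdvd => (hp.coprime_iff_not_dvd.mp hcop.symm)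
      (Int.natCast_dvd_natCast.mp hdvd)⟩
    let τ : Representation ℂ N (Fin m → ℂ) := σ.comp (Subgroup.inclusion hNP)
    have hτ : τ.character = ρ.character := funext hres
    haveI : τ.IsIrreducible := irreducible_of_char τ (by rw [hτ]; exact ⟨d, ρ, hirr, rfl⟩)
    obtain ⟨e, he⟩ := exists_equiv_of_char_eq τ ρ hτ
    let σ' : Representation ℂ P (Fin d → ℂ) :=
      { toFun := fun x => e.conj (σ x)
        map_one' := by simp [Module.End.one_eq_id]
        map_mul' := fun a b => by ext v; simp [LinearEquiv.conj_apply, Module.End.mul_apply] }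
    refine index_mem_extPow_of_extension ρ hinv hNP σ' fun n => LinearMap.ext fun v => ?_
    show e (σ ⟨n, hNP n.2⟩ (e.symm v)) = ρ n v
    rw [show σ ⟨(n : G), hNP n.2⟩ = τ n from rfl, he, LinearEquiv.apply_symm_apply]
  obtain ⟨σ, hσ⟩ := extension_of_extLam ρ hinv L hL
  exact exists_extension_of_rep σ hσ

/-- extension when degree and index are coprime and the determinant extends -/
theorem extend_of_det {θ : N → ℂ} (hθ : IsIrrCharacter N θ) (hinv : ∀ g : G, conjN θ g = θ)
    {d : ℕ} (hd : θ 1 = d) (hcop : Nat.Coprime N.index d) (μ : G → ℂ) (hμ : IsCharacter G μ)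
    (hμ1 : μ 1 = 1) (hμN : ∀ n : N, μ n = detChar θ n) :
    ∃ χ : G → ℂ, IsIrrCharacter G χ ∧ ∀ n : N, χ n = θ n := by
  obtain ⟨d', ρ, hirr, rfl⟩ := hθ
  haveI := hirr
  haveI := extGroup_finite ρ
  have hdd : d = d' := by
    rw [Representation.char_one, finrank_fin_fun] at hd; exact_mod_cast hd.symm
  subst hdd
  obtain ⟨M, rfl⟩ := exists_hom_of_degree_one hμ hμ1
  have h1 := degree_mem_extPow_of_det ρ M fun n => Units.ext (by
    rw [detHom_apply, ← congrFun (detChar_eq ρ) n]; exact hμN n)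
  have h2 := index_mem_extPow (extLam ρ) (extLam_inv ρ)
  rw [show (extN ρ).index = N.index from
    Subgroup.index_comap_of_surjective _ (extProj_surjective ρ hinv)] at h2
  obtain ⟨L, hL⟩ := extend_of_coprime (extLam ρ) hcop h2 h1
  obtain ⟨σ, hσ⟩ := extension_of_extLam ρ hinv L hL
  exact exists_extension_of_rep σ hσ

/-- a linear character extends over a cyclic quotient -/
theorem extend_linear_cyclic (lam : N →* ℂˣ)
    (hinv : ∀ (g : G) (n : N), lam ⟨g * n * g⁻¹, hN.conj_mem n n.2 g⟩ = lam n)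
    (hcyc : IsCyclic (G ⧸ N)) : ∃ L : G →* ℂˣ, ∀ n : N, L n = lam n := by
  haveI := Fintype.ofFinite G
  haveI := Fintype.ofFinite N
  have hirr := isIrr_linear lam
  have hne : indFun N (fun n => (lam n : ℂ)) ≠ 0 := fun e => by
    have := congrFun e 1
    rw [indFun_one, map_one] at this
    simp [Subgroup.index_ne_zero_of_finite] at this
  obtain ⟨χ, hχ⟩ := exists_constituent (isCharacter_indFun N (isCharacter_linear lam)) hne
  have hc : classInner (fun n : N => (χ : G → ℂ) n) (fun n => (lam n : ℂ)) ≠ 0 := by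
    rw [frobenius N _ (classFun_of_irr χ.2), ← classInner_conj] at hχ
    exact fun e => hχ (by rw [e, map_zero])
  have hres := res_homogeneous χ.2 hirr hc fun g => funext fun n => congrArg Units.val (hinv g n)
  obtain ⟨m, ρ, hρ, hρc⟩ := χ.2
  haveI := hρ
  have hχ1 : classInner (fun n : N => (χ : G → ℂ) n) (fun n => (lam n : ℂ)) = (χ : G → ℂ) 1 := by
    have := congrFun hres 1
    simpa using this.symm
  rw [hχ1] at hres
  have hscal : ∀ n : N, ∃ ω : ℂ, ρ n = ω • (LinearMap.id : (Fin m → ℂ) →ₗ[ℂ] _) := fun n => by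
    refine rep_scalar_of_norm ρ n ?_
    have := congrFun hres n
    simp only [Pi.smul_apply, smul_eq_mul, ← hρc] at this
    rw [this, norm_mul, norm_root (orderOf_pos n).ne' (linear_root lam n), mul_one,
      Representation.char_one, Complex.norm_natCast]
  obtain ⟨a, ha⟩ := hcyc.exists_generator
  obtain ⟨a, rfl⟩ := QuotientGroup.mk_surjective a
  have hcom : ∀ x y : G, ρ x * ρ y = ρ y * ρ x := by
    have hdec : ∀ x : G, ∃ (i : ℤ) (ω : ℂ), ρ x = ω • ρ (a ^ i) := by
      intro x
      obtain ⟨i, hi⟩ := Subgroup.mem_zpowers_iff.mp (ha (x : G ⧸ N))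
      have hn : (a ^ i)⁻¹ * x ∈ N := QuotientGroup.eq.mp (by simpa using hi)
      obtain ⟨ω, hω⟩ := hscal ⟨_, hn⟩
      refine ⟨i, ω, ?_⟩
      have h2 : ρ x = ρ (a ^ i) * ρ ((a ^ i)⁻¹ * x) := by rw [← map_mul, mul_inv_cancel_left]
      rw [h2, hω, mul_smul_comm, ← Module.End.one_eq_id, mul_one]
    intro x y
    obtain ⟨i, ω, hx⟩ := hdec x
    obtain ⟨j, ω', hy⟩ := hdec y
    rw [hx, hy, smul_mul_smul_comm, smul_mul_smul_comm, ← map_mul, ← map_mul, ← zpow_add,
      ← zpow_add, add_comm i j, mul_comm ω ω']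
  obtain ⟨K, hK, hmemK, -⟩ := exists_kernel (isCharacter_of_isIrr χ.2)
  haveI := hK
  haveI := Fintype.ofFinite (G ⧸ K)
  obtain ⟨χ', hχ', hcomp⟩ := irr_descend (QuotientGroup.mk' K) (QuotientGroup.mk'_surjective K) χ.2
    fun k hk => (hmemK k).mp ((QuotientGroup.eq_one_iff k).mp hk)
  have hdeg : (χ : G → ℂ) 1 = 1 := by
    rw [← hcomp, Function.comp_apply, map_one]
    refine irr_degree_one_of_comm (fun p q => ?_) hχ'
    obtain ⟨x, rfl⟩ := QuotientGroup.mk_surjective p
    obtain ⟨y, rfl⟩ := QuotientGroup.mk_surjective q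
    rw [← QuotientGroup.mk_mul, ← QuotientGroup.mk_mul, QuotientGroup.eq, hmemK, ← hρc]
    have : ρ ((x * y)⁻¹ * (y * x)) = 1 := by
      rw [map_mul, map_mul ρ y x, ← hcom x y, ← map_mul, ← map_mul, inv_mul_cancel, map_one]
    show LinearMap.trace ℂ _ (ρ ((x * y)⁻¹ * (y * x))) = LinearMap.trace ℂ _ (ρ 1)
    rw [this, map_one ρ]
  obtain ⟨L, hL⟩ := exists_hom_of_degree_one (isCharacter_of_isIrr χ.2) hdeg
  refine ⟨L, fun n => Units.ext ?_⟩
  have := congrFun hres n
  simp only [Pi.smul_apply, smul_eq_mul, hdeg, one_mul] at this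
  rw [← this, hL]

/-- an invariant character extends over a cyclic quotient -/
theorem extend_cyclic {θ : N → ℂ} (hθ : IsIrrCharacter N θ) (hinv : ∀ g : G, conjN θ g = θ)
    (hcyc : IsCyclic (G ⧸ N)) : ∃ χ : G → ℂ, IsIrrCharacter G χ ∧ ∀ n : N, χ n = θ n := by
  obtain ⟨d, ρ, hirr, rfl⟩ := hθ
  haveI := hirr
  haveI := extGroup_finite ρ
  let q : extGroup ρ →* G ⧸ N := (QuotientGroup.mk' N).comp (extProj ρ)
  have hker : q.ker = extN ρ := by
    show MonoidHom.ker _ = _
    rw [← MonoidHom.comap_ker, QuotientGroup.ker_mk']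
    rfl
  have hcyc' : IsCyclic (extGroup ρ ⧸ extN ρ) :=
    isCyclic_of_injective ((QuotientGroup.kerLift q).comp
      (QuotientGroup.quotientMulEquivOfEq hker.symm).toMonoidHom)
      ((QuotientGroup.kerLift_injective q).comp (MulEquiv.injective _))
  obtain ⟨L, hL⟩ := extend_linear_cyclic (extLam ρ) (extLam_inv ρ) hcyc'
  obtain ⟨σ, hσ⟩ := extension_of_extLam ρ hinv L hL
  exact exists_extension_of_rep σ hσ

end criteria

section degree

variable [Fintype G] {N : Subgroup G} [hN : N.Normal] [Fintype N]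

/-- the ramification index divides the index -/
theorem ramification_dvd_index {χ : G → ℂ} (hχ : IsIrrCharacter G χ) {θ : N → ℂ}
    (hθ : IsIrrCharacter N θ) (hinv : ∀ g : G, conjN θ g = θ)
    (hc : classInner (fun n : N => χ n) θ ≠ 0) :
    ∃ e : ℕ, classInner (fun n : N => χ n) θ = e ∧ e ∣ N.index := by
  obtain ⟨e, he⟩ := inner_char_irr (isCharacter_restrict N (isCharacter_of_isIrr hχ)) hθ
  refine ⟨e, he, ?_⟩
  obtain ⟨d, ρ, hirr, rfl⟩ := hθ
  haveI := hirr
  haveI := extGroup_finite ρ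
  haveI := Fintype.ofFinite (extGroup ρ)
  let R := (extEmb ρ).range
  haveI : R.Normal := normal_extEmb_range ρ
  haveI := Fintype.ofFinite R
  let eR : N ≃* R := MonoidHom.ofInjective (extEmb_injective ρ)
  have heR : ∀ r : R, extProj ρ (r : extGroup ρ) = (eR.symm r : G) := fun r => by
    conv_lhs => rw [← eR.apply_symm_apply r]
    rfl
  have hsurj := extProj_surjective ρ hinv
  have hW : IsCharacter (extGroup ρ) (extRep ρ).character := isCharacter_of_rep _
  have hWres : ∀ r : R, (extRep ρ).character r = (ρ.character ∘ eR.symm) r := fun r => by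
    conv_lhs => rw [← eR.apply_symm_apply r]
    rfl
  have hχ' := irr_comp (extProj ρ) hsurj hχ
  have hθ' : IsIrrCharacter R (ρ.character ∘ eR.symm) := irr_mulEquiv eR.symm ⟨d, ρ, hirr, rfl⟩
  have hresχ : (fun r : R => (χ ∘ extProj ρ) r) = (fun n : N => χ n) ∘ eR.symm := by
    ext r; simp [heR]
  have hcon : classInner (fun r : R => (χ ∘ extProj ρ) r) (ρ.character ∘ eR.symm) = e := by
    rw [hresχ, classInner_mulEquiv, he]
  have he0 : (e : ℂ) ≠ 0 := by rw [← he]; exact hc
  obtain ⟨β, ⟨hβ, hβR⟩, hβeq⟩ := (gallagher hθ' hW hWres).surjOn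
    (⟨hχ', by rw [hcon]; exact he0⟩ : χ ∘ extProj ρ ∈
      {ψ : extGroup ρ → ℂ | IsIrrCharacter _ ψ ∧
        classInner (fun r : R => ψ r) (ρ.character ∘ eR.symm) ≠ 0})
  -- degree of `β`
  have hβ1 : β 1 = e := by
    have h1 : (fun r : R => (χ ∘ extProj ρ) r) = β 1 • (ρ.character ∘ eR.symm) := by
      ext r
      rw [← congrFun hβeq (r : extGroup ρ)]
      show β r * (extRep ρ).character r = _
      rw [hβR, hWres]
      rfl
    rw [h1, classInner_smul_left, irr_inner_self hθ', mul_one] at hcon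
    exact hcon
  haveI := Fintype.ofFinite (extGroup ρ ⧸ R)
  obtain ⟨β', hβ', hcomp⟩ := irr_descend (QuotientGroup.mk' R) (QuotientGroup.mk'_surjective R) hβ
    fun k hk => hβR ⟨k, (QuotientGroup.eq_one_iff k).mp hk⟩
  have hdeg : charDegree β' = e := charDegree_eq (by
    rw [← hβ1, ← hcomp, Function.comp_apply, map_one])
  have hcentral : (extProj ρ).ker ≤ Subgroup.center (extGroup ρ) := by
    intro z hz
    refine Subgroup.mem_center_iff.mpr fun y => ?_
    obtain ⟨c, hcz⟩ := schur_scalar ρ (extRep ρ z) fun n v => by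
      have h := LinearMap.congr_fun (extRep_comm ρ z n) v
      simp only [Module.End.mul_apply] at h
      rw [h]
      congr 2
      exact Subtype.ext (by simp [MonoidHom.mem_ker.mp hz])
    refine Subtype.ext (Prod.ext ?_ (Units.ext ?_))
    · show extProj ρ y * extProj ρ z = extProj ρ z * extProj ρ y
      rw [MonoidHom.mem_ker.mp hz, mul_one, one_mul]
    · show extRep ρ y * extRep ρ z = extRep ρ z * extRep ρ y
      rw [hcz, mul_smul_comm, smul_mul_assoc, ← Module.End.one_eq_id, mul_one, one_mul]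
  have hbound := degree_dvd_index_central hβ' ((extProj ρ).ker.map (QuotientGroup.mk' R)) (by
    rintro _ ⟨z, hz, rfl⟩
    refine Subgroup.mem_center_iff.mpr fun q => ?_
    obtain ⟨y, rfl⟩ := QuotientGroup.mk'_surjective R q
    rw [← map_mul, ← map_mul, Subgroup.mem_center_iff.mp (hcentral hz) y])
  rw [hdeg, Subgroup.index_map, QuotientGroup.ker_mk',
    MonoidHom.range_eq_top.mpr (QuotientGroup.mk'_surjective R), Subgroup.index_top, mul_one] at hbound
  have hsup : (extProj ρ).ker ⊔ R = extN ρ := by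
    refine le_antisymm (sup_le (fun z hz => ?_) ?_) fun x hx => ?_
    · show extProj ρ z ∈ N
      rw [MonoidHom.mem_ker.mp hz]; exact N.one_mem
    · rintro _ ⟨n, rfl⟩
      exact n.2
    · refine (Subgroup.mem_sup_of_normal_right).mpr ⟨x * (extEmb ρ ⟨extProj ρ x, hx⟩)⁻¹, ?_,
        extEmb ρ ⟨extProj ρ x, hx⟩, ⟨_, rfl⟩, inv_mul_cancel_right _ _⟩
      rw [MonoidHom.mem_ker, map_mul, map_inv, extProj_emb, mul_inv_cancel]
  rwa [hsup, show (extN ρ).index = N.index from Subgroup.index_comap_of_surjective _ hsurj]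
    at hbound

/-- degree quotient theorem -/
theorem degree_quotient {χ : G → ℂ} (hχ : IsIrrCharacter G χ) {θ : N → ℂ}
    (hθ : IsIrrCharacter N θ) (hc : classInner (fun n : N => χ n) θ ≠ 0) :
    ∃ k : ℕ, χ 1 = (k : ℂ) * θ 1 ∧ k ∣ N.index := by
  classical
  haveI := Fintype.ofFinite (inertia θ)
  have hle := le_inertia (classFun_of_irr hθ)
  obtain ⟨ψ, hψ, hψχ, hψc⟩ := clifford_exists hθ (T := inertia θ) (fun g => Iff.rfl) hle hχ hc
  haveI : (N.subgroupOf (inertia θ)).Normal := hN.subgroupOf _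
  haveI := Fintype.ofFinite (N.subgroupOf (inertia θ))
  let e : N.subgroupOf (inertia θ) ≃* N := Subgroup.subgroupOfEquivOfLe hle
  have hres : (fun x : N.subgroupOf (inertia θ) => ψ x) = (fun n : N => ψ ⟨n, hle n.2⟩) ∘ e := rfl
  have hinv : ∀ t : inertia θ, conjN (θ ∘ e) t = θ ∘ e := fun t => by
    ext n
    simp only [conjN, Function.comp_apply]
    exact (congrArg θ (Subtype.ext rfl)).trans (congrFun (mem_inertia.mp t.2) (e n))
  obtain ⟨r, hr, hrdvd⟩ := ramification_dvd_index hψ (irr_mulEquiv e hθ) hinv (by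
    rw [hres, classInner_mulEquiv, hψc]; exact hc)
  have hψ1 : ψ 1 = (r : ℂ) * θ 1 := by
    have h := res_homogeneous hψ (irr_mulEquiv e hθ) (by
      rw [hres, classInner_mulEquiv, hψc]; exact hc) hinv
    have h1 := congrFun h 1
    rw [hr] at h1
    simpa using h1
  refine ⟨(inertia θ).index * r, ?_, ?_⟩
  · rw [← hψχ, indFun_one, hψ1, Nat.cast_mul, mul_assoc]
  · rw [← Subgroup.relIndex_mul_index hle, mul_comm]
    exact Nat.mul_dvd_mul_right hrdvd _

end degree

end CfsgLib.Char
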