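import Cfsg.Agent.Char.Brauer
import Cfsg.Agent.Char.Classes
import Cfsg.Agent.Char.Central
import Mathlib.GroupTheory.Sylow

/-! The `n`-part map `x ↦ x ^ l` and class functions factoring through it. -/

set_option linter.unusedSectionVars false
set_option linter.style.haveILetI false

namespace CfsgLib.PowerPart

open Cfsg CfsgLib.Char
open scoped ComplexConjugate CfsgLib.Char

universe u

variable {G : Type u} [Group G]

/-- the exponent: `0` modulo `m`, `1` modulo `n` -/
structure IsExp (G : Type u) [Group G] (m n l : ℕ) : Prop where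
  card : Nat.card G = m * n
  cop : Nat.Coprime m n
  dvd : m ∣ l
  mod : l % n = 1 % n

theorem exists_isExp [Finite G] {m n : ℕ} (hc : Nat.card G = m * n) (hmn : Nat.Coprime m n) :
    ∃ l, IsExp G m n l := by
  obtain ⟨l, h0, h1⟩ := Nat.chineseRemainder hmn 0 1
  exact ⟨l, hc, hmn, Nat.modEq_zero_iff_dvd.1 h0, h1⟩

variable {m n l : ℕ}

theorem IsExp.pow_of_dvd_m (h : IsExp G m n l) {x : G} (hx : orderOf x ∣ m) : x ^ l = 1 :=
  orderOf_dvd_iff_pow_eq_one.1 (hx.trans h.dvd)

theorem IsExp.pow_of_dvd_n (h : IsExp G m n l) {x : G} (hx : orderOf x ∣ n) : x ^ l = x := by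
  conv_rhs => rw [← pow_one x]
  rw [← pow_mod_orderOf x l, ← pow_mod_orderOf x 1, ← Nat.mod_mod_of_dvd l hx, h.mod,
    Nat.mod_mod_of_dvd _ hx]

theorem IsExp.pow_fix (h : IsExp G m n l) [Finite G] {x : G} (hx : Nat.Coprime (orderOf x) m) :
    x ^ l = x :=
  h.pow_of_dvd_n (hx.dvd_of_dvd_mul_left (h.card ▸ orderOf_dvd_natCard x))

theorem IsExp.order_pow (h : IsExp G m n l) [Finite G] (x : G) : orderOf (x ^ l) ∣ n := by
  rw [orderOf_dvd_iff_pow_eq_one, ← pow_mul, ← orderOf_dvd_iff_pow_eq_one]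
  exact (orderOf_dvd_natCard x).trans (h.card ▸ Nat.mul_dvd_mul_right h.dvd n)

theorem IsExp.pow_pow (h : IsExp G m n l) [Finite G] (x : G) : (x ^ l) ^ l = x ^ l :=
  h.pow_of_dvd_n (h.order_pow x)

theorem IsExp.rest (h : IsExp G m n l) [Finite G] (x : G) : orderOf (x * (x ^ l)⁻¹) ∣ m := by
  have hc : Commute x (x ^ l)⁻¹ := ((Commute.refl x).pow_right l).inv_right
  have h0 : x ^ m = (x ^ m) ^ l :=
    (h.pow_of_dvd_n (orderOf_dvd_iff_pow_eq_one.2 (by
      rw [← pow_mul, ← h.card]; exact pow_card_eq_one'))).symm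
  rw [orderOf_dvd_iff_pow_eq_one, hc.mul_pow, inv_pow, ← pow_mul, mul_comm l m, pow_mul, ← h0,
    mul_inv_cancel]

theorem IsExp.eq_part (h : IsExp G m n l) [Finite G] {x u v : G} (hx : x = u * v)
    (hc : Commute u v) (hu : Nat.Coprime (orderOf u) n) (hv : Nat.Coprime (orderOf v) m) :
    x ^ l = v := by
  rw [hx, hc.mul_pow, h.pow_of_dvd_m (hu.dvd_of_dvd_mul_right (h.card ▸ orderOf_dvd_natCard u)),
    h.pow_fix hv, one_mul]

theorem isElementary_zpowers [Finite G] (v : G) :
    ∃ p : ℕ, p.Prime ∧ IsElementary p (Subgroup.zpowers v) := by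
  obtain ⟨p, hp, hprime⟩ := Nat.exists_infinite_primes (orderOf v + 1)
  refine ⟨p, hprime, ⟨v, Subgroup.mem_zpowers v⟩, ?_, ?_, 0, ?_⟩
  · refine Subgroup.mem_center_iff.2 fun w => Subtype.ext ?_
    obtain ⟨i, hi⟩ := Subgroup.mem_zpowers_iff.1 w.2
    show (w : G) * v = v * (w : G)
    rw [← hi]
    exact ((Commute.refl v).zpow_left i).eq
  · rw [Subgroup.orderOf_mk]
    exact (hprime.coprime_iff_not_dvd.2 fun hd =>
      absurd (Nat.le_of_dvd (orderOf_pos v) hd) (by omega)).symm
  · rw [pow_zero, Subgroup.index_eq_one, Subgroup.eq_top_iff']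
    intro w
    obtain ⟨i, hi⟩ := Subgroup.mem_zpowers_iff.1 w.2
    exact Subgroup.mem_zpowers_iff.2 ⟨i, Subtype.ext (by simpa using hi)⟩

/-- on an elementary subgroup, taking the `n`-part is a homomorphism -/
theorem IsExp.exists_hom (h : IsExp G m n l) [Finite G] {p : ℕ} (hp : p.Prime) (E : Subgroup G)
    (hE : IsElementary p E) :
    ∃ f : E →* E, (∀ e, f e = e ^ l) ∧ Nat.card f.range ∣ n := by
  haveI : Fact p.Prime := ⟨hp⟩
  obtain ⟨x, hx, hcop, k, hk⟩ := hE
  set C := Subgroup.zpowers x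
  have hCc : C ≤ Subgroup.center E := Subgroup.zpowers_le.2 hx
  haveI : C.Normal := normal_of_le_center hCc
  have P : Sylow p E := Classical.arbitrary _
  have hCP : C ⊔ (P : Subgroup E) = ⊤ := by
    rw [← Subgroup.index_eq_one]
    refine Nat.eq_one_of_dvd_coprimes ?_ (Subgroup.index_dvd_of_le le_sup_left)
      (Subgroup.index_dvd_of_le le_sup_right)
    rw [hk]
    exact Nat.Coprime.pow_left _ (hp.coprime_iff_not_dvd.mpr P.not_dvd_index)
  have hPd : ∀ a : E, a ∈ (P : Subgroup E) → orderOf a ∣ Nat.card (P : Subgroup E) := fun a ha =>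
    Subgroup.orderOf_dvd_natCard _ ha
  have hPG : Nat.card (P : Subgroup E) ∣ m * n :=
    h.card ▸ (Subgroup.card_subgroup_dvd_card _).trans (Subgroup.card_subgroup_dvd_card E)
  obtain ⟨j, hj⟩ := IsPGroup.iff_card.1 P.isPGroup'
  have hcase : (∀ a ∈ (P : Subgroup E), a ^ l = 1) ∨ ∀ a ∈ (P : Subgroup E), a ^ l = a := by
    by_cases hpm : p ∣ m
    · left
      intro a ha
      have hd : Nat.card (P : Subgroup E) ∣ m := by
        refine Nat.Coprime.dvd_of_dvd_mul_right ?_ hPG
        rw [hj]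
        exact Nat.Coprime.pow_left _ (h.cop.coprime_dvd_left hpm)
      exact Subtype.ext (h.pow_of_dvd_m (Subgroup.orderOf_coe a ▸ (hPd a ha).trans hd))
    · right
      intro a ha
      have hd : Nat.card (P : Subgroup E) ∣ n := by
        refine Nat.Coprime.dvd_of_dvd_mul_left ?_ hPG
        rw [hj]
        exact Nat.Coprime.pow_left _ (hp.coprime_iff_not_dvd.mpr hpm)
      exact Subtype.ext (h.pow_of_dvd_n (Subgroup.orderOf_coe a ▸ (hPd a ha).trans hd))
  have hmul : ∀ e e' : E, (e * e') ^ l = e ^ l * e' ^ l := by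
    intro e e'
    have hdec : ∀ w : E, ∃ c ∈ C, ∃ a ∈ (P : Subgroup E), w = c * a := fun w => by
      have hw : w ∈ C ⊔ (P : Subgroup E) := hCP ▸ Subgroup.mem_top w
      rw [← SetLike.mem_coe, Subgroup.normal_mul, Set.mem_mul] at hw
      obtain ⟨c, hc, a, ha, rfl⟩ := hw
      exact ⟨c, hc, a, ha, rfl⟩
    obtain ⟨c, hc, a, ha, rfl⟩ := hdec e
    obtain ⟨c', hc', a', ha', rfl⟩ := hdec e'
    have hz : ∀ {z : E}, z ∈ C → ∀ w, Commute z w := fun hz w =>
      (Subgroup.mem_center_iff.1 (hCc hz) w).symm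
    have h4 : c * a * (c' * a') = c * c' * (a * a') := by
      rw [mul_assoc, ← mul_assoc a, ← (hz hc' a).eq, mul_assoc c', ← mul_assoc c]
    have hp' : (a * a') ^ l = a ^ l * a' ^ l := by
      rcases hcase with h1 | h1 <;>
        rw [h1 _ ha, h1 _ ha', h1 _ ((P : Subgroup E).mul_mem ha ha')]
      rw [mul_one]
    rw [h4, (hz (C.mul_mem hc hc') _).mul_pow, (hz hc a).mul_pow, (hz hc' a').mul_pow,
      (hz hc c').mul_pow, hp', mul_assoc (c ^ l) (a ^ l), ← mul_assoc (a ^ l),
      ← ((hz hc' a).pow_pow l l).eq, mul_assoc (c' ^ l), ← mul_assoc (c ^ l)]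
  refine ⟨MonoidHom.mk' (fun e => e ^ l) hmul, fun e => rfl, ?_⟩
  have hd : Nat.card (MonoidHom.mk' (fun e : E => e ^ l) hmul).range ∣ m * n :=
    h.card ▸ (Subgroup.card_subgroup_dvd_card _).trans (Subgroup.card_subgroup_dvd_card E)
  refine Nat.Coprime.dvd_of_dvd_mul_left (Nat.coprime_of_dvd fun q hq hqR hqm => ?_) hd
  haveI : Fact q.Prime := ⟨hq⟩
  obtain ⟨⟨y, e, rfl⟩, hy⟩ := exists_prime_orderOf_dvd_card' q hqR
  replace hy : orderOf (e ^ l) = q := (Subgroup.orderOf_coe _).trans hy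
  have hqn : q ∣ n := by
    have := h.order_pow (e : G)
    rw [← SubmonoidClass.coe_pow, Subgroup.orderOf_coe] at this
    exact hy ▸ this
  exact hq.one_lt.ne' (Nat.dvd_one.1 ((Nat.Coprime.gcd_eq_one h.cop) ▸ Nat.dvd_gcd hqm hqn))

/-- `n` times a class function of the `n`-parts with integral values -/
theorem integral_inner [Fintype G] (h : IsExp G m n l) {δ : G → ℂ} (hδc : IsClassFunction G δ)
    (hδ : ∀ x, IsIntegral ℤ (δ x)) {χ : G → ℂ} (hχ : IsCharacter G χ) :
    IsIntegral ℤ (classInner (fun x => (n : ℂ) * δ (x ^ l)) χ) := by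
  classical
  set F : G → ℂ := fun x => (n : ℂ) * δ (x ^ l) with hF
  have hFc : IsClassFunction G F := fun x y => by
    simp only [hF]
    rw [conj_pow, hδc]
  let A : AddSubgroup (G → ℂ) :=
    { carrier := {f | IsIntegral ℤ (classInner F f)}
      zero_mem' := by simp [classInner_zero_right, isIntegral_zero]
      add_mem' := fun {a b} ha hb => by
        show IsIntegral ℤ (classInner F (a + b))
        rw [classInner_add_right]
        exact ha.add hb
      neg_mem' := fun {a} ha => by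
        show IsIntegral ℤ (classInner F (-a))
        rw [classInner_neg_right]
        exact ha.neg }
  suffices hle : elemSpanAll G ≤ A from hle (char_mem_elemSpanAll hχ)
  refine iSup_le fun p => (AddSubgroup.closure_le _).mpr ?_
  rintro _ ⟨E, ψ, hE, hψ, rfl⟩
  show IsIntegral ℤ (classInner F (indFun E ψ))
  rw [frobenius' E ψ hFc]
  obtain ⟨f, hf, hR⟩ := h.exists_hom p.2 E hE
  let δR : f.range → ℂ := fun r => δ ((r : E) : G)
  have hδR : IsClassFunction f.range δR := fun r s => hδc ((r : E) : G) ((s : E) : G)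
  have hexp := classFun_eq_sum hδR
  have hres : (fun e : E => F e) = ∑ φ : IrrCharacter f.range,
      ((n : ℂ) * classInner δR φ.1) • (fun e : E => φ.1 (f.rangeRestrict e)) := by
    ext e
    have := congrFun hexp (f.rangeRestrict e)
    simp only [δR, MonoidHom.coe_rangeRestrict, hf, SubmonoidClass.coe_pow, Finset.sum_apply,
      Pi.smul_apply, smul_eq_mul] at this
    simp only [hF, Finset.sum_apply, Pi.smul_apply, smul_eq_mul, this, Finset.mul_sum, mul_assoc]
    rfl
  rw [hres, classInner_sum_left]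
  refine IsIntegral.sum _ fun φ _ => ?_
  rw [classInner_smul_left]
  refine IsIntegral.mul ?_ ?_
  · obtain ⟨c, hc⟩ := hR
    have hne := natCard_ne_zero f.range
    rw [classInner_def, hc, Nat.cast_mul]
    rw [show ((Nat.card f.range : ℂ) * c) * ((Nat.card f.range : ℂ)⁻¹ *
        ∑ r : f.range, δR r * conj (φ.1 r)) = (c : ℂ) * ∑ r : f.range, δR r * conj (φ.1 r) from by
      field_simp]
    refine ((isIntegral_algebraMap (A := ℂ) (x := (c : ℤ)))).mul
      (IsIntegral.sum _ fun r _ => (hδ _).mul ?_) |> fun t => by simpa using t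
    exact (char_isIntegral (isCharacter_of_isIrr φ.2) r).map (starRingEnd ℂ).toIntAlgHom
  · obtain ⟨k, hk⟩ := inner_char_char
      (isCharacter_comp f.rangeRestrict (isCharacter_of_isIrr φ.2)) hψ
    rw [show (fun e : E => φ.1 (f.rangeRestrict e)) = φ.1 ∘ f.rangeRestrict from rfl, hk]
    exact map_natCast (algebraMap ℤ ℂ) k ▸ isIntegral_algebraMap

end CfsgLib.PowerPart
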