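import Cfsg.Agent.Char.Brauer

/-! Artin's induction theorem and list forms of the induction theorems. -/

set_option linter.unusedSectionVars false
set_option linter.style.haveILetI false

namespace CfsgLib.Char

open Module Cfsg
open scoped ComplexConjugate

universe u v

theorem exists_list_of_closure {ι : Type v} {M : Type u} [AddCommGroup M] [Module ℂ M] (F : ι → M)
    (Good : ι → Prop) {f : M} (hf : f ∈ AddSubgroup.closure {x | ∃ i, Good i ∧ F i = x}) :
    ∃ l : List (ι × ℤ), (∀ t ∈ l, Good t.1) ∧ f = (l.map fun t => (t.2 : ℂ) • F t.1).sum := by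
  induction hf using AddSubgroup.closure_induction with
  | mem x hx =>
    obtain ⟨i, hi, rfl⟩ := hx
    exact ⟨[(i, 1)], by simpa using hi, by simp⟩
  | zero => exact ⟨[], by simp, by simp⟩
  | add a b _ _ ha hb =>
    obtain ⟨l, hl, rfl⟩ := ha
    obtain ⟨l', hl', rfl⟩ := hb
    exact ⟨l ++ l', fun t ht => (List.mem_append.mp ht).elim (hl t) (hl' t), by simp⟩
  | neg a _ ha =>
    obtain ⟨l, hl, rfl⟩ := ha
    refine ⟨l.map fun t => (t.1, -t.2), fun t ht => ?_, ?_⟩
    · obtain ⟨s, hs, rfl⟩ := List.mem_map.mp ht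
      exact hl s hs
    · rw [List.map_map, List.sum_neg, List.map_map]
      congr 1
      refine List.map_congr_left fun t _ => ?_
      simp

theorem indFun_eq_of_indFun_monomial {G : Type u} [Group G] [Fintype G] (E : Subgroup G) [Fintype E]
    (H : Subgroup E) (lam : H →* ℂˣ) :
    ∃ μ : H.map E.subtype →* ℂˣ,
      indFun E (indFun H (fun h => (lam h : ℂ))) =
        indFun (H.map E.subtype) (fun h => (μ h : ℂ)) :=
  ⟨lam.comp (Subgroup.equivMapOfInjective H E.subtype E.subtype_injective).symm.toMonoidHom,
    indFun_indFun E H _⟩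

/-- monomial characters from elementary subgroups -/
theorem char_mem_monomialSpan {G : Type u} [Group G] [Fintype G] {χ : G → ℂ} (hχ : IsCharacter G χ) :
    χ ∈ AddSubgroup.closure {x : G → ℂ | ∃ i : (E : Subgroup G) × (E →* ℂˣ),
      (∃ p : ℕ, p.Prime ∧ IsElementary p i.1) ∧ indFun i.1 (fun e => (i.2 e : ℂ)) = x} := by
  refine (iSup_le fun p => (AddSubgroup.closure_le _).mpr ?_) (char_mem_elemSpanAll hχ)
  rintro f ⟨E, φ, hE, hφ, rfl⟩
  haveI := Fintype.ofFinite E
  haveI := isNilpotent_of_elementary p.2 hE
  obtain ⟨l, hl⟩ := exists_list_irr hφ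
  rw [SetLike.mem_coe, hl]
  clear hl
  induction l with
  | nil => simp only [List.map_nil, List.sum_nil]; rw [indFun_zero]; exact AddSubgroup.zero_mem _
  | cons a t iht =>
    rw [List.map_cons, List.sum_cons, indFun_add]
    refine AddSubgroup.add_mem _ ?_ iht
    obtain ⟨H, lam, heq⟩ := monomial_of_nilpotent a.2
    obtain ⟨μ, hμ⟩ := indFun_eq_of_indFun_monomial E H lam
    rw [heq, hμ]
    refine AddSubgroup.subset_closure ⟨⟨H.map E.subtype, μ⟩, ⟨p.1, p.2, ?_⟩, rfl⟩
    exact isElementary_of_le p.2 (Subgroup.map_subtype_le H) hE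

open Classical in
/-- `|A|` on the generators of the whole group, zero elsewhere -/
noncomputable def genFun (A : Type u) [Group A] : A → ℂ :=
  fun a => if Subgroup.zpowers a = ⊤ then (Nat.card A : ℂ) else 0

open Classical in
theorem sum_indFun_genFun {G : Type u} [Group G] [Fintype G] :
    ∑ A : Subgroup G, indFun A (genFun A) = (fun _ => (Nat.card G : ℂ)) := by
  ext g
  simp only [Finset.sum_apply, indFun_apply, Finset.mul_sum]
  rw [Finset.sum_comm]
  have hone : ∀ x : G, ∑ A : Subgroup G,
      (Nat.card A : ℂ)⁻¹ * extendByZero A (genFun A) (x⁻¹ * g * x) = 1 := by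
    intro x
    set y := x⁻¹ * g * x
    rw [Finset.sum_eq_single (Subgroup.zpowers y)]
    · rw [extendByZero_mem' _ _ (Subgroup.mem_zpowers y), genFun, if_pos ?_,
        inv_mul_cancel₀ (natCard_ne_zero _)]
      refine (Subgroup.eq_top_iff' _).mpr fun z => ?_
      obtain ⟨i, hi⟩ := Subgroup.mem_zpowers_iff.mp z.2
      exact Subgroup.mem_zpowers_iff.mpr ⟨i, Subtype.ext (by simpa using hi)⟩
    · intro A _ hA
      by_cases hy : y ∈ A
      · rw [extendByZero_mem' _ _ hy, genFun, if_neg ?_, mul_zero]
        intro htop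
        refine hA (le_antisymm (fun z hz => ?_) (Subgroup.zpowers_le.mpr hy))
        obtain ⟨i, hi⟩ := Subgroup.mem_zpowers_iff.mp
          (htop ▸ Subgroup.mem_top (⟨z, hz⟩ : A) : (⟨z, hz⟩ : A) ∈ Subgroup.zpowers (⟨y, hy⟩ : A))
        exact Subgroup.mem_zpowers_iff.mpr ⟨i, by simpa using congrArg Subtype.val hi⟩
      · rw [extendByZero_not_mem _ _ hy, mul_zero]
    · exact fun h => absurd (Finset.mem_univ _) h
  rw [Finset.sum_congr rfl fun x _ => hone x, Finset.sum_const, Finset.card_univ, nsmul_one,
    Fintype.card_eq_nat_card]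

theorem isGeneralized_genFun (A : Type u) [Group A] [Finite A] :
    IsGeneralizedCharacter A (genFun A) := by
  induction hn : Nat.card A using Nat.strong_induction_on generalizing A with
  | _ N ih =>
    classical
    haveI := Fintype.ofFinite A
    have hcl : IsClassFunction A (genFun A) := by
      intro g h
      have : Subgroup.zpowers (h * g * h⁻¹) = (Subgroup.zpowers g).map (MulAut.conj h).toMonoidHom :=
        (MonoidHom.map_zpowers (MulAut.conj h).toMonoidHom g).symm
      simp only [genFun, this]
      congr 1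
      apply propext
      refine ⟨fun ht => ?_, fun ht => by rw [ht, Subgroup.map_top_of_surjective _ (MulAut.conj h).surjective]⟩
      exact Subgroup.map_injective (f := (MulAut.conj h).toMonoidHom) (MulAut.conj h).injective
        (by rw [ht, Subgroup.map_top_of_surjective _ (MulAut.conj h).surjective])
    have hsum := sum_indFun_genFun (G := A)
    rw [← Finset.sum_erase_add _ _ (Finset.mem_univ (⊤ : Subgroup A))] at hsum
    have htop : indFun (⊤ : Subgroup A) (genFun (⊤ : Subgroup A)) = genFun A := by
      have hfun : genFun (⊤ : Subgroup A) = fun h : (⊤ : Subgroup A) => genFun A h := by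
        ext h
        have hz : Subgroup.zpowers h = ⊤ ↔ Subgroup.zpowers (h : A) = ⊤ := by
          have hm : (Subgroup.zpowers h).map (⊤ : Subgroup A).subtype = Subgroup.zpowers (h : A) :=
            MonoidHom.map_zpowers _ h
          rw [← hm]
          refine ⟨fun he => by rw [he, ← MonoidHom.range_eq_map, Subgroup.range_subtype], fun he => ?_⟩
          exact Subgroup.map_injective (Subgroup.subtype_injective _)
            (by rw [he, ← MonoidHom.range_eq_map, Subgroup.range_subtype])
        simp only [genFun, hz, Nat.card_congr Subgroup.topEquiv.toEquiv]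
      rw [hfun, indFun_top hcl]
    rw [htop] at hsum
    rw [eq_sub_of_add_eq' hsum]
    have hconst : IsGeneralizedCharacter A (fun _ => (Nat.card A : ℂ)) :=
      ⟨_, 0, isCharacter_natMul (Nat.card A) isCharacter_one, isCharacter_zero, by ext; simp⟩
    have hrest : IsGeneralizedCharacter A
        (∑ B ∈ Finset.univ.erase (⊤ : Subgroup A), indFun B (genFun B)) := by
      refine Finset.sum_induction _ (IsGeneralizedCharacter A) ?_
        ⟨0, 0, isCharacter_zero, isCharacter_zero, by simp⟩ fun B hB => ?_
      · rintro a b ⟨x, y, hx, hy, rfl⟩ ⟨x', y', hx', hy', rfl⟩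
        exact ⟨x + x', y + y', isCharacter_add hx hx', isCharacter_add hy hy', by abel⟩
      · apply gen_indFun
        refine ih (Nat.card B) ?_ B rfl
        subst hn
        exact lt_of_le_of_ne B.card_le_card_group
          fun e => (Finset.mem_erase.mp hB).1 (Subgroup.eq_top_of_card_eq B e)
    obtain ⟨x, y, hx, hy, hxy⟩ := hconst
    obtain ⟨x', y', hx', hy', hxy'⟩ := hrest
    exact ⟨x + y', y + x', isCharacter_add hx hy', isCharacter_add hy hx', by rw [hxy, hxy']; abel⟩

/-- Artin's induction theorem -/
theorem artin {G : Type u} [Group G] [Fintype G] {χ : G → ℂ} (hχ : IsCharacter G χ) :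
    (Nat.card G : ℂ) • χ ∈ AddSubgroup.closure {x : G → ℂ | ∃ i : (A : Subgroup G) × (A →* ℂˣ),
      IsCyclic i.1 ∧ indFun i.1 (fun a => (i.2 a : ℂ)) = x} := by
  classical
  have h : (Nat.card G : ℂ) • χ = ∑ A : Subgroup G, indFun A (fun a => genFun A a * χ a) := by
    rw [Finset.sum_congr rfl fun A _ => (indFun_mul A (genFun A) (classFun_of_char hχ)).symm,
      ← Finset.sum_mul, sum_indFun_genFun]
    rfl
  rw [h]
  refine AddSubgroup.sum_mem _ fun A _ => ?_
  by_cases hA : IsCyclic A
  swap
  · have : (fun a : A => genFun A a * χ a) = 0 := by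
      ext a
      have : Subgroup.zpowers a ≠ ⊤ := fun e =>
        hA (isCyclic_iff_exists_zpowers_eq_top.mpr ⟨a, e⟩)
      simp [genFun, this]
    rw [this, indFun_zero]
    exact AddSubgroup.zero_mem _
  haveI := Fintype.ofFinite A
  haveI := hA
  letI : CommGroup A := IsCyclic.commGroup
  obtain ⟨x, y, hx, hy, hxy⟩ := isGeneralized_genFun A
  have key : ∀ φ : A → ℂ, IsCharacter A φ → indFun A φ ∈
      AddSubgroup.closure {x : G → ℂ | ∃ i : (A : Subgroup G) × (A →* ℂˣ),
        IsCyclic i.1 ∧ indFun i.1 (fun a => (i.2 a : ℂ)) = x} := by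
    intro φ hφ
    obtain ⟨l, rfl⟩ := exists_list_irr hφ
    clear hφ
    induction l with
    | nil => simp only [List.map_nil, List.sum_nil]; rw [indFun_zero]; exact AddSubgroup.zero_mem _
    | cons a t iht =>
      rw [List.map_cons, List.sum_cons, indFun_add]
      refine AddSubgroup.add_mem _ ?_ iht
      obtain ⟨μ, hμ⟩ := exists_hom_of_degree_one (isCharacter_of_isIrr a.2)
        (irr_degree_one_of_comm (fun c d => mul_comm c d) a.2)
      rw [hμ]
      exact AddSubgroup.subset_closure ⟨⟨A, μ⟩, hA, rfl⟩
  have hsplit : (fun a : A => genFun A a * χ a) =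
      x * (fun a : A => χ a) - y * (fun a : A => χ a) := by
    ext a
    have := congrFun hxy a
    simp only [Pi.sub_apply] at this
    simp only [Pi.sub_apply, Pi.mul_apply, this, sub_mul]
  rw [hsplit, indFun_sub]
  exact AddSubgroup.sub_mem _ (key _ (isCharacter_mul hx (isCharacter_restrict A hχ)))
    (key _ (isCharacter_mul hy (isCharacter_restrict A hχ)))

end CfsgLib.Char
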