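import Cfsg.Agent.Char.Monomial
import Cfsg.Agent.Char.Linear
import Mathlib.Analysis.InnerProductSpace.PiL2
import Mathlib.Analysis.SpecialFunctions.Complex.Arg

/-! Blichfeldt's theorem on elements with concentrated eigenvalues. -/

set_option autoImplicit false
set_option linter.unusedSectionVars false
set_option linter.style.haveILetI false

namespace CfsgLib.Char

open Module Cfsg Finset
open scoped ComplexConjugate InnerProductSpace

universe u

variable {G : Type u} [Group G] [Fintype G] {n : ℕ} (ρ : Representation ℂ G (Fin n → ℂ))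

/-- the averaged embedding into a Euclidean space -/
noncomputable def uEmb : (Fin n → ℂ) →ₗ[ℂ] EuclideanSpace ℂ (G × Fin n) where
  toFun v := WithLp.toLp 2 (fun x : G × Fin n => ρ x.1 v x.2)
  map_add' v w := by ext x; simp
  map_smul' c v := by ext x; simp

theorem uEmb_apply (v : Fin n → ℂ) (x : G × Fin n) : uEmb ρ v x = ρ x.1 v x.2 := rfl

theorem uEmb_inner (h : G) (v w : Fin n → ℂ) :
    ⟪uEmb ρ (ρ h v), uEmb ρ (ρ h w)⟫_ℂ = ⟪uEmb ρ v, uEmb ρ w⟫_ℂ := by
  rw [PiLp.inner_apply, PiLp.inner_apply]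
  refine Fintype.sum_equiv (Equiv.prodCongr (Equiv.mulRight h) (Equiv.refl _)) _ _ fun x => ?_
  simp [uEmb_apply, map_mul, Module.End.mul_apply]

theorem uEmb_norm (h : G) (v : Fin n → ℂ) : ‖uEmb ρ (ρ h v)‖ = ‖uEmb ρ v‖ := by
  rw [@norm_eq_sqrt_re_inner ℂ, @norm_eq_sqrt_re_inner ℂ, uEmb_inner]

theorem uEmb_eq_zero {v : Fin n → ℂ} (h : uEmb ρ v = 0) : v = 0 := by
  funext i
  have := congrArg (fun z : EuclideanSpace ℂ (G × Fin n) => z (1, i)) h
  simpa [uEmb_apply] using this

/-- eigenvalues near the real number `α` -/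
def Near (α c : ℝ) (g : G) : Prop :=
  ∀ v, ‖uEmb ρ (ρ g v) - (α : ℂ) • uEmb ρ v‖ ≤ c * ‖uEmb ρ v‖

variable {ρ}

theorem near_conj {α c : ℝ} {g : G} (h : Near ρ α c g) (x : G) : Near ρ α c (x * g * x⁻¹) := by
  intro v
  have h1 := h (ρ x⁻¹ v)
  rw [uEmb_norm] at h1
  refine le_trans (le_of_eq ?_) h1
  have key : ρ x (ρ g (ρ x⁻¹ v) - (α : ℂ) • ρ x⁻¹ v) = ρ (x * g * x⁻¹) v - (α : ℂ) • v := by
    simp [map_sub, map_smul, ← Module.End.mul_apply, ← map_mul, mul_assoc]
  rw [← map_smul, ← map_sub, ← map_smul, ← map_sub, ← key, uEmb_norm]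

theorem near_comm {α β c d : ℝ} {a b : G} (ha : Near ρ α c a) (hb : Near ρ β d b) (hc : 0 ≤ c)
    (hd : 0 ≤ d) : Near ρ 1 (2 * c * d) (a * b * a⁻¹ * b⁻¹) := by
  intro v
  set w := ρ (a⁻¹ * b⁻¹) v with hw
  have hv : v = ρ (b * a) w := by
    rw [hw, ← Module.End.mul_apply, ← map_mul,
      show b * a * (a⁻¹ * b⁻¹) = 1 by group, map_one, Module.End.one_apply]
  have he : ρ (a * b * a⁻¹ * b⁻¹) v = ρ (a * b) w := by
    rw [hw, ← Module.End.mul_apply, ← map_mul]; group
  have hn : ‖uEmb ρ w‖ = ‖uEmb ρ v‖ := by rw [hw, uEmb_norm]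
  rw [he, ← hn, Complex.ofReal_one, one_smul]
  conv_lhs => rw [hv]
  let X := ρ b w - (β : ℂ) • w
  let Y := ρ a w - (α : ℂ) • w
  have hkey : uEmb ρ (ρ (a * b) w) - uEmb ρ (ρ (b * a) w) =
      uEmb ρ (ρ a X - (α : ℂ) • X) - uEmb ρ (ρ b Y - (β : ℂ) • Y) := by
    simp only [X, Y, map_mul, Module.End.mul_apply, map_sub, map_smul, smul_sub, smul_smul]
    rw [mul_comm (α : ℂ) (β : ℂ)]
    abel
  rw [hkey]
  refine (norm_sub_le _ _).trans ?_
  have hX : ‖uEmb ρ X‖ ≤ d * ‖uEmb ρ w‖ := by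
    simpa only [X, map_sub, map_smul] using hb w
  have hY : ‖uEmb ρ Y‖ ≤ c * ‖uEmb ρ w‖ := by
    simpa only [Y, map_sub, map_smul] using ha w
  have h1 : ‖uEmb ρ (ρ a X - (α : ℂ) • X)‖ ≤ c * (d * ‖uEmb ρ w‖) := by
    rw [map_sub, map_smul]
    exact (ha X).trans (mul_le_mul_of_nonneg_left hX hc)
  have h2 : ‖uEmb ρ (ρ b Y - (β : ℂ) • Y)‖ ≤ d * (c * ‖uEmb ρ w‖) := by
    rw [map_sub, map_smul]
    exact (hb Y).trans (mul_le_mul_of_nonneg_left hY hd)
  linarith

theorem inner_ne_zero_of_near {β d : ℝ} {b : G} (hb : Near ρ β d b) (hd : 0 ≤ d) (hdβ : d < β)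
    {v : Fin n → ℂ} (hv : v ≠ 0) : ⟪uEmb ρ (ρ b v), uEmb ρ v⟫_ℂ ≠ 0 := by
  intro h0
  have hpos : 0 < ‖uEmb ρ v‖ := norm_pos_iff.mpr fun e => hv (uEmb_eq_zero ρ e)
  have h1 := mul_self_le_mul_self (norm_nonneg _) (hb v)
  rw [← pow_two, ← pow_two, @norm_sub_sq ℂ, inner_smul_right, h0, mul_zero, map_zero, mul_zero, sub_zero,
    uEmb_norm, norm_smul, Complex.norm_real, Real.norm_eq_abs, mul_pow, sq_abs] at h1
  have h2 : d ^ 2 < 1 + β ^ 2 := by nlinarith [sq_nonneg β, sq_nonneg (β - d)]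
  nlinarith [mul_pos hpos hpos]

theorem commute_of_near_comm {β d : ℝ} {a b : G} (hb : Near ρ β d b) (hd : 0 ≤ d) (hdβ : d < β)
    (hab : Commute a (a * b * a⁻¹ * b⁻¹)) : ρ (a * b) = ρ (b * a) := by
  have hc2 : Commute a (b * a * b⁻¹) := by
    have h1 : Commute a (a⁻¹ * (a * b * a⁻¹ * b⁻¹)) :=
      (Commute.inv_right (Commute.refl a)).mul_right hab
    have h2 := h1.inv_right
    simpa [mul_assoc] using h2
  obtain ⟨B, ζ, hζ, hB⟩ := exists_eigenbasis ρ a
  have hkey : ∀ i, ρ a (ρ b⁻¹ (B i)) = ρ b⁻¹ (ρ a (B i)) := by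
    intro i
    set z := ζ i with hz
    have hai : ρ a (B i) = z • B i := hB i
    set w := ρ b⁻¹ (B i) with hw
    set w' := ρ a w - z • w with hw'
    rw [hai, map_smul]
    refine sub_eq_zero.mp ?_
    show w' = 0
    by_contra hne
    refine inner_ne_zero_of_near hb hd hdβ hne ?_
    -- `ρ b w'` is an eigenvector of `a`
    have hbw : ρ a (ρ b w') = z • ρ b w' := by
      have hbw0 : ρ b w' = ρ (b * a * b⁻¹) (B i) - z • B i := by
        simp only [hw', hw, map_sub, map_smul, map_mul, Module.End.mul_apply]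
        rw [← Module.End.mul_apply (ρ b) (ρ b⁻¹), ← map_mul, mul_inv_cancel, map_one,
          Module.End.one_apply]
      rw [hbw0, map_sub, map_smul, ← Module.End.mul_apply, ← map_mul, hc2.eq, map_mul,
        Module.End.mul_apply, hai, map_smul, smul_sub]
    have hz1 : ‖z‖ = 1 := norm_root (orderOf_pos a).ne' (hζ i)
    have e1 : ⟪uEmb ρ (ρ b w'), uEmb ρ (ρ a w)⟫_ℂ = z * ⟪uEmb ρ (ρ b w'), uEmb ρ w⟫_ℂ := by
      have h3 := uEmb_inner ρ a (ρ b w') w
      rw [hbw, map_smul, inner_smul_left] at h3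
      rw [← h3, ← mul_assoc, Complex.mul_conj, Complex.normSq_eq_norm_sq, hz1]
      simp
    rw [hw', map_sub (uEmb ρ), inner_sub_right, map_smul (uEmb ρ), inner_smul_right, ← hw', e1, sub_self]
  have h4 : ρ (a * b⁻¹) = ρ (b⁻¹ * a) := B.ext fun i => by
    rw [map_mul, map_mul, Module.End.mul_apply, Module.End.mul_apply, hkey]
  have h5 := congrArg (fun T => ρ b * T * ρ b) h4
  simp only [← map_mul] at h5
  rw [show b * (a * b⁻¹) * b = b * a by group, show b * (b⁻¹ * a) * b = a * b by group] at h5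
  exact h5.symm

theorem eq_one_of_near_tendsto (hfaith : Function.Injective ρ) {α c d : ℝ} (_hα : α = 1)
    (g : ℕ → G) (hc : 0 ≤ c) (hc1 : c < 1) (hg : ∀ k, Near ρ α (c ^ k * d) (g k)) :
    ∃ k, g k = 1 := by
  classical
  subst _hα
  by_contra hcon
  push Not at hcon
  have hx : ∀ x : G, x ≠ 1 → ∃ v, 0 < ‖uEmb ρ (ρ x v) - uEmb ρ v‖ := by
    intro x hx
    by_contra h
    push Not at h
    refine hx (hfaith ?_)
    rw [map_one]
    refine LinearMap.ext fun v => ?_
    have := norm_le_zero_iff.mp (h v)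
    rw [← map_sub] at this
    exact sub_eq_zero.mp (uEmb_eq_zero ρ this)
  choose v hv using hx
  have hev : ∀ x : G, ∀ᶠ k in Filter.atTop, ∀ hx : x ≠ 1,
      c ^ k * d * ‖uEmb ρ (v x hx)‖ < ‖uEmb ρ (ρ x (v x hx)) - uEmb ρ (v x hx)‖ := by
    intro x
    by_cases hx : x = 1
    · exact Filter.Eventually.of_forall fun k h => absurd hx h
    · have ht : Filter.Tendsto (fun k : ℕ => c ^ k * d * ‖uEmb ρ (v x hx)‖) Filter.atTop (nhds 0) := by
        simpa using ((tendsto_pow_atTop_nhds_zero_of_lt_one hc hc1).mul_const d).mul_const _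
      filter_upwards [ht.eventually (gt_mem_nhds (hv x hx))] with k hk h
      exact hk
  obtain ⟨k, hk⟩ := (Filter.eventually_all.mpr hev).exists
  have h1 := hk (g k) (hcon k)
  have h2 := hg k (v (g k) (hcon k))
  rw [Complex.ofReal_one, one_smul] at h2
  linarith

/-- Blichfeldt: two elements with concentrated eigenvalues commute -/
theorem commute_of_near (hfaith : Function.Injective ρ) {α c d : ℝ} {a b : G} (hc : 0 ≤ c)
    (hd : 0 ≤ d) (hc2 : c < 1 / 2) (hdα : d < α) (hd1 : d < 1) (ha : Near ρ α c a)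
    (hb : Near ρ α d b) : Commute a b := by
  let step : G → G := fun x => a * x * a⁻¹ * x⁻¹
  have hnear : ∀ k, Near ρ 1 ((2 * c) ^ k * (2 * c * d)) (step^[k + 1] b) := by
    intro k
    induction k with
    | zero => simpa using near_comm ha hb hc hd
    | succ k ih =>
      rw [Function.iterate_succ_apply']
      have := near_comm ha ih hc (by positivity)
      rw [show (2 * c) ^ (k + 1) * (2 * c * d) = 2 * c * ((2 * c) ^ k * (2 * c * d)) by ring]
      exact this
  obtain ⟨K, hK⟩ := eq_one_of_near_tendsto hfaith rfl (fun k => step^[k + 1] b) (by linarith)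
    (by linarith) hnear
  have hdown : ∀ j ≤ K + 1, Commute a (step^[K + 1 - j] b) := by
    intro j
    induction j with
    | zero => intro _; rw [Nat.sub_zero, hK]; exact Commute.one_right a
    | succ j ih =>
      intro hj
      have h1 := ih (by omega)
      rw [show K + 1 - j = (K + 1 - (j + 1)) + 1 by omega, Function.iterate_succ_apply'] at h1
      set x := step^[K + 1 - (j + 1)] b with hx
      obtain ⟨β, e, he0, heβ, hxn⟩ : ∃ β e : ℝ, 0 ≤ e ∧ e < β ∧ Near ρ β e x := by
        by_cases h0 : K + 1 - (j + 1) = 0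
        · refine ⟨α, d, hd, hdα, ?_⟩
          rw [hx, h0]; exact hb
        · obtain ⟨i, hi⟩ := Nat.exists_eq_succ_of_ne_zero h0
          refine ⟨1, (2 * c) ^ i * (2 * c * d), by positivity, ?_, ?_⟩
          · have : (2 * c) ^ i ≤ 1 := pow_le_one₀ (by linarith) (by linarith)
            have h2 : 2 * c * d ≤ d := mul_le_of_le_one_left hd (by linarith)
            have h3 := mul_le_of_le_one_left (by positivity : 0 ≤ 2 * c * d) this
            linarith
          · rw [hx, hi]; exact hnear i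
      exact hfaith (commute_of_near_comm hxn he0 heβ h1)
  simpa using hdown (K + 1) le_rfl

/-- eigenvalue criterion for `Near` -/
theorem near_of_eigen {α c : ℝ} (hc : 0 ≤ c) {g : G} {B : Basis (Fin (finrank ℂ (Fin n → ℂ))) ℂ (Fin n → ℂ)}
    {ζ : Fin (finrank ℂ (Fin n → ℂ)) → ℂ} (hζ : ∀ i, ‖ζ i‖ = 1) (hB : ∀ i, ρ g (B i) = ζ i • B i)
    (hcl : ∀ i, ‖ζ i - (α : ℂ)‖ ≤ c) : Near ρ α c g := by
  classical
  intro v
  let S := Finset.univ.image ζ
  let x : ℂ → EuclideanSpace ℂ (G × Fin n) := fun z =>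
    uEmb ρ (∑ i ∈ Finset.univ.filter (fun i => ζ i = z), B.repr v i • B i)
  have hx : ∀ z ∈ S, uEmb ρ (ρ g (∑ i ∈ Finset.univ.filter (fun i => ζ i = z), B.repr v i • B i)) =
      z • x z := by
    intro z _
    rw [map_sum, ← map_smul]
    refine congrArg _ ?_
    rw [Finset.smul_sum]
    refine Finset.sum_congr rfl fun i hi => ?_
    rw [map_smul, hB, (Finset.mem_filter.mp hi).2, smul_comm]
  have horth : ∀ z ∈ S, ∀ z' ∈ S, z ≠ z' → ⟪x z, x z'⟫_ℂ = 0 := by
    intro z hz z' hz' hne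
    have h1 := uEmb_inner ρ g (∑ i ∈ Finset.univ.filter (fun i => ζ i = z), B.repr v i • B i)
      (∑ i ∈ Finset.univ.filter (fun i => ζ i = z'), B.repr v i • B i)
    rw [hx z hz, hx z' hz', inner_smul_left, inner_smul_right, ← mul_assoc] at h1
    by_contra h0
    have h2 : conj z * z' = 1 := mul_right_cancel₀ h0 (h1.trans (one_mul _).symm)
    obtain ⟨i, -, rfl⟩ := Finset.mem_image.mp hz
    apply hne
    calc ζ i = ζ i * (conj (ζ i) * z') := by rw [h2, mul_one]
      _ = z' := by rw [← mul_assoc, Complex.mul_conj, Complex.normSq_eq_norm_sq, hζ i]; simp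
  have hsq : ∀ a : ℂ → ℂ, ‖∑ z ∈ S, a z • x z‖ ^ 2 = ∑ z ∈ S, ‖a z‖ ^ 2 * ‖x z‖ ^ 2 := by
    intro a
    have h1 : ⟪∑ z ∈ S, a z • x z, ∑ z ∈ S, a z • x z⟫_ℂ =
        ∑ z ∈ S, ((‖a z‖ : ℂ) ^ 2 * (‖x z‖ : ℂ) ^ 2) := by
      rw [sum_inner]
      refine Finset.sum_congr rfl fun z hz => ?_
      rw [inner_sum, Finset.sum_eq_single z]
      · rw [inner_smul_left, inner_smul_right, inner_self_eq_norm_sq_to_K, ← mul_assoc, Complex.conj_mul']
        rfl
      · intro z' hz' hne
        rw [inner_smul_left, inner_smul_right, horth z hz z' hz' (Ne.symm hne), mul_zero, mul_zero]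
      · exact fun h => absurd hz h
    rw [inner_self_eq_norm_sq_to_K] at h1
    apply Complex.ofReal_injective
    push_cast
    exact h1
  have hdec : v = ∑ z ∈ S, ∑ i ∈ Finset.univ.filter (fun i => ζ i = z), B.repr v i • B i := by
    rw [Finset.sum_fiberwise_of_maps_to (fun i _ => Finset.mem_image.mpr ⟨i, Finset.mem_univ _, rfl⟩)]
    exact (B.sum_repr v).symm
  have h1 : uEmb ρ v = ∑ z ∈ S, (1 : ℂ) • x z := by
    conv_lhs => rw [hdec]
    simp [x]
  have h2 : uEmb ρ (ρ g v) - (α : ℂ) • uEmb ρ v = ∑ z ∈ S, (z - (α : ℂ)) • x z := by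
    conv_lhs => rw [hdec]
    rw [map_sum, map_sum, map_sum, Finset.smul_sum, ← Finset.sum_sub_distrib]
    refine Finset.sum_congr rfl fun z hz => ?_
    rw [hx z hz, sub_smul]
  refine (sq_le_sq₀ (norm_nonneg _) (by positivity)).mp ?_
  rw [h2, hsq, mul_pow, h1, hsq, Finset.mul_sum]
  refine Finset.sum_le_sum fun z hz => ?_
  obtain ⟨i, -, rfl⟩ := Finset.mem_image.mp hz
  rw [norm_one, one_pow, one_mul]
  exact mul_le_mul_of_nonneg_right ((sq_le_sq₀ (norm_nonneg _) hc).mpr (hcl i)) (sq_nonneg _)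

/-- eigenvalues are read off a list with the same power sums -/
theorem mem_of_powSums {ι κ : Type} [Fintype ι] [Fintype κ] {m : ℕ} (hm : m ≠ 0) (a : ι → ℂ)
    (b : κ → ℂ) (ha : ∀ i, a i ^ m = 1) (hb : ∀ j, b j ^ m = 1)
    (h : ∀ k : ℕ, ∑ i, a i ^ k = ∑ j, b j ^ k) (i : ι) : ∃ j, b j = a i := by
  classical
  have hcount : ∀ {α : Type} [Fintype α] (c : α → ℂ), (∀ i, c i ^ m = 1) → ∀ z : ℂ, z ^ m = 1 →
      ((Finset.univ.filter fun i => c i = z).card : ℂ) * (m : ℂ) =
        ∑ k ∈ Finset.range m, (z ^ k)⁻¹ * ∑ i, c i ^ k := by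
    intro α _ c hc z hz
    have hz0 : z ≠ 0 := fun e => by simp [e, zero_pow hm] at hz
    simp only [Finset.mul_sum]
    rw [Finset.sum_comm, Finset.card_eq_sum_ones, Nat.cast_sum, Finset.sum_mul, Finset.sum_filter]
    refine Finset.sum_congr rfl fun i _ => ?_
    have hk : ∀ k, (z ^ k)⁻¹ * c i ^ k = (z⁻¹ * c i) ^ k := fun k => by rw [mul_pow, inv_pow]
    simp only [hk]
    split_ifs with he
    · simp [he, inv_mul_cancel₀ hz0]
    · have hne : z⁻¹ * c i ≠ 1 := fun e => he (by
        rw [inv_mul_eq_iff_eq_mul₀ hz0, mul_one] at e; exact e)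
      rw [geom_sum_eq hne, mul_pow, hc, inv_pow, hz, inv_one, one_mul, sub_self, zero_div]
  by_contra hne
  push Not at hne
  have h1 := hcount a ha (a i) (ha i)
  have h2 := hcount b hb (a i) (ha i)
  simp only [← h] at h2
  rw [← h1, Finset.filter_false_of_mem (fun j _ => hne j), Finset.card_empty, Nat.cast_zero, zero_mul,
    eq_comm, mul_eq_zero] at h2
  rcases h2 with h2 | h2
  · have : i ∈ Finset.univ.filter (fun x => a x = a i) := by simp
    rw [Nat.cast_eq_zero, Finset.card_eq_zero] at h2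
    rw [h2] at this
    exact absurd this (Finset.notMem_empty i)
  · exact hm (Nat.cast_eq_zero.mp h2)

/-- the arc of a unit complex number -/
noncomputable def arcBox (z : ℂ) : Fin 12 :=
  ⟨(⌈6 * Complex.arg z / Real.pi⌉ + 5).toNat, by
    have hpi := Real.pi_pos
    have h1 : ⌈6 * Complex.arg z / Real.pi⌉ ≤ 6 :=
      Int.ceil_le.mpr (by rw [div_le_iff₀ hpi]; have := Complex.arg_le_pi z; push_cast; linarith)
    omega⟩

theorem arcBox_close {z w : ℂ} (hz : ‖z‖ = 1) (hw : ‖w‖ = 1) (h : arcBox z = arcBox w) :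
    ‖z * conj w - ((Real.sqrt 3 / 2 : ℝ) : ℂ)‖ < 1 / 2 := by
  have hpi := Real.pi_pos
  have hlo : ∀ u : ℂ, -6 < ⌈6 * Complex.arg u / Real.pi⌉ := fun u =>
    Int.lt_ceil.mpr (by rw [lt_div_iff₀ hpi]; have := Complex.neg_pi_lt_arg u; push_cast; linarith)
  have he : ⌈6 * Complex.arg z / Real.pi⌉ = ⌈6 * Complex.arg w / Real.pi⌉ := by
    have h1 := congrArg Fin.val h
    simp only [arcBox] at h1
    have := hlo z; have := hlo w
    omega
  have hd : |Complex.arg z - Complex.arg w| < Real.pi / 6 := by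
    have a1 := Int.le_ceil (6 * Complex.arg z / Real.pi)
    have a2 := Int.ceil_lt_add_one (6 * Complex.arg z / Real.pi)
    have b1 := Int.le_ceil (6 * Complex.arg w / Real.pi)
    have b2 := Int.ceil_lt_add_one (6 * Complex.arg w / Real.pi)
    rw [he] at a1 a2
    have e1 : 6 * Complex.arg z / Real.pi - 6 * Complex.arg w / Real.pi =
        (Complex.arg z - Complex.arg w) * (6 / Real.pi) := by ring
    have h6 : (0 : ℝ) < 6 / Real.pi := by positivity
    rw [abs_lt]
    constructor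
    · refine lt_of_mul_lt_mul_right ?_ h6.le
      rw [← e1, show -(Real.pi / 6) * (6 / Real.pi) = -1 by field_simp]
      linarith
    · refine lt_of_mul_lt_mul_right ?_ h6.le
      rw [← e1, show Real.pi / 6 * (6 / Real.pi) = 1 by field_simp]
      linarith
  set t := Complex.arg z - Complex.arg w with ht
  have hcos : Real.sqrt 3 / 2 < Real.cos t := by
    rw [← Real.cos_pi_div_six, ← Real.cos_abs t]
    exact Real.cos_lt_cos_of_nonneg_of_le_pi (abs_nonneg _) (by linarith) hd
  have hzw : z * conj w = Complex.exp (t * Complex.I) := by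
    conv_lhs => rw [← Complex.norm_mul_exp_arg_mul_I z, ← Complex.norm_mul_exp_arg_mul_I w, hz, hw]
    simp only [Complex.ofReal_one, one_mul, ← Complex.exp_conj, map_mul, Complex.conj_ofReal, Complex.conj_I,
      ← Complex.exp_add, ht]
    congr 1
    push_cast; ring
  refine (pow_lt_pow_iff_left₀ (norm_nonneg _) (by norm_num) two_ne_zero).mp ?_
  rw [hzw, Complex.sq_norm, Complex.normSq_apply]
  simp only [Complex.sub_re, Complex.sub_im, Complex.exp_ofReal_mul_I_re, Complex.exp_ofReal_mul_I_im,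
    Complex.ofReal_re, Complex.ofReal_im, sub_zero]
  have hs : Real.sqrt 3 * Real.sqrt 3 = 3 := Real.mul_self_sqrt (by norm_num)
  nlinarith [Real.sin_sq_add_cos_sq t, Real.sqrt_nonneg (3 : ℝ)]

/-- Blichfeldt's abelian normal subgroup -/
theorem blichfeldt {G : Type u} [Group G] [Finite G] (χ : G → ℂ) (hχ : IsCharacter G χ)
    (hfaith : ∀ g : G, χ g = χ 1 → g = 1) (n : ℕ) (hn : charDegree χ = n) :
    ∃ A : Subgroup G, A.Normal ∧ (∀ x ∈ A, ∀ y ∈ A, x * y = y * x) ∧
      ∀ H : Subgroup G, (∀ x ∈ H, ∀ y ∈ H, x * y = y * x) → (A.subgroupOf H).index ≤ 12 ^ n := by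
  classical
  haveI := Fintype.ofFinite G
  obtain ⟨d, ρ, rfl⟩ := hχ
  have hdn : d = n := by
    rw [← hn, charDegree_eq (n := d) (by simp)]
  subst hdn
  have hinj : Function.Injective ρ := fun x y hxy => by
    refine inv_mul_eq_one.mp (hfaith (x⁻¹ * y) ?_)
    have h1 : ρ (x⁻¹ * y) = ρ 1 := by rw [map_mul, ← hxy, ← map_mul, inv_mul_cancel]
    simp only [Representation.character, h1]
  set α := Real.sqrt 3 / 2 with hα
  have hs : Real.sqrt 3 * Real.sqrt 3 = 3 := Real.mul_self_sqrt (by norm_num)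
  have hαlo : 1 / 2 < α := by rw [hα]; nlinarith [Real.sqrt_nonneg (3 : ℝ)]
  let X : Set G := {g | ∃ c, 0 ≤ c ∧ c < 1 / 2 ∧ Near ρ α c g}
  refine ⟨Subgroup.closure X, ⟨fun x hx g => ?_⟩, ?_, fun H hH => ?_⟩
  · induction hx using Subgroup.closure_induction with
    | mem y hy =>
      obtain ⟨c, h0, h1, h2⟩ := hy
      exact Subgroup.subset_closure ⟨c, h0, h1, near_conj h2 g⟩
    | one => simp
    | mul a b _ _ ha hb =>
      rw [show g * (a * b) * g⁻¹ = (g * a * g⁻¹) * (g * b * g⁻¹) by group]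
      exact mul_mem ha hb
    | inv a _ ha =>
      rw [← conj_inv]
      exact inv_mem ha
  · intro x hx y hy
    have key : ∀ a ∈ X, ∀ b ∈ X, Commute a b := by
      rintro a ⟨c, hc0, hc1, hc2⟩ b ⟨e, he0, he1, he2⟩
      exact commute_of_near hinj hc0 he0 hc1 (by linarith) (by linarith) hc2 he2
    haveI := Subgroup.isMulCommutative_closure key
    exact congrArg Subtype.val (mul_comm' (⟨x, hx⟩ : Subgroup.closure X) ⟨y, hy⟩)
  · haveI := Fintype.ofFinite H
    obtain ⟨l, hl⟩ := exists_list_irr (isCharacter_comp H.subtype ⟨d, ρ, rfl⟩ :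
      IsCharacter H (ρ.character ∘ H.subtype))
    have hone : ∀ ψ : IrrCharacter H, ∃ L : H →* ℂˣ, (ψ : H → ℂ) = fun h => (L h : ℂ) := by
      intro ψ
      obtain ⟨L, hL⟩ := exists_hom_of_degree_one (isCharacter_of_isIrr ψ.2)
        (irr_degree_one_of_comm (fun a b => Subtype.ext (hH a a.2 b b.2)) ψ.2)
      exact ⟨L, hL⟩
    choose L hL using hone
    have hlen : l.length = d := by
      have h1 := congrFun hl 1
      have hgen : ∀ t : List (IrrCharacter H),
          (t.map fun ψ : IrrCharacter H => (ψ : H → ℂ)).sum 1 = (t.length : ℂ) := by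
        intro t
        induction t with
        | nil => simp
        | cons a t ih =>
          rw [List.map_cons, List.sum_cons, Pi.add_apply, ih, hL a]
          simp [add_comm]
      rw [hgen] at h1
      simp at h1
      exact_mod_cast h1.symm
    have hval : ∀ h : H, ρ.character (h : G) = ∑ j : Fin l.length, (L (l.get j) h : ℂ) := by
      intro h
      have h1 := congrFun hl h
      simp only [Function.comp_apply, Subgroup.coe_subtype] at h1
      rw [h1]
      have hgen : ∀ t : List (IrrCharacter H),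
          (t.map fun ψ : IrrCharacter H => (ψ : H → ℂ)).sum h =
            ∑ j : Fin t.length, (L (t.get j) h : ℂ) := by
        intro t
        induction t with
        | nil => simp
        | cons a t ih =>
          simp only [List.map_cons, List.sum_cons, Pi.add_apply, List.length_cons, Fin.sum_univ_succ]
          rw [ih, hL a]
          rfl
      exact hgen l
    let box : H → Fin l.length → Fin 12 := fun h j => arcBox (L (l.get j) h : ℂ)
    have hbox : ∀ h h' : H, box h = box h' → h'⁻¹ * h ∈ (Subgroup.closure X).subgroupOf H := by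
      intro h h' he
      refine Subgroup.mem_subgroupOf.mpr (Subgroup.subset_closure ?_)
      set y := ((h'⁻¹ * h : H) : G) with hy
      obtain ⟨B, ζ, hζ, hB⟩ := exists_eigenbasis ρ y
      have hclose : ∀ i, ‖ζ i - (α : ℂ)‖ < 1 / 2 := by
        intro i
        have hmG : Nat.card G ≠ 0 := Nat.card_pos.ne'
        obtain ⟨j, hj⟩ := mem_of_powSums hmG ζ (fun j : Fin l.length => (L (l.get j) (h'⁻¹ * h) : ℂ))
          (fun i => by
            obtain ⟨q, hq⟩ := orderOf_dvd_natCard y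
            rw [hq, pow_mul, hζ, one_pow])
          (fun j => by
            rw [← Units.val_pow_eq_pow_val, ← map_pow,
              show (h'⁻¹ * h) ^ Nat.card G = 1 from Subtype.ext (by simp [pow_card_eq_one']), map_one,
              Units.val_one])
          (fun k => by
            rw [← trace_of_eigen (eigen_pow hB k)]
            show ρ.character (y ^ k) = _
            rw [show y ^ k = (((h'⁻¹ * h) ^ k : H) : G) by simp [hy], hval]
            exact Finset.sum_congr rfl fun j _ => by rw [map_pow, Units.val_pow_eq_pow_val]) i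
        rw [← hj, map_mul, map_inv, mul_comm, Units.val_mul, Units.val_inv_eq_inv_val,
          ← conj_root (orderOf_pos h').ne' (linear_root (L (l.get j)) h')]
        exact arcBox_close (norm_root (orderOf_pos h).ne' (linear_root _ h))
          (norm_root (orderOf_pos h').ne' (linear_root _ h')) (congrFun he j)
      by_cases hd0 : finrank ℂ (Fin d → ℂ) = 0
      · refine ⟨0, le_rfl, by norm_num, near_of_eigen le_rfl (fun i => norm_root (orderOf_pos y).ne' (hζ i)) hB
          fun i => absurd i.2 (by omega)⟩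
      haveI : Nonempty (Fin (finrank ℂ (Fin d → ℂ))) := ⟨⟨0, by omega⟩⟩
      obtain ⟨i₀, hi₀⟩ := Finite.exists_max (fun i => ‖ζ i - (α : ℂ)‖)
      exact ⟨‖ζ i₀ - (α : ℂ)‖, norm_nonneg _, hclose i₀, near_of_eigen (norm_nonneg _)
        (fun i => norm_root (orderOf_pos y).ne' (hζ i)) hB hi₀⟩
    rw [Subgroup.index_eq_card]
    have hf : Function.Injective (fun q : H ⧸ (Subgroup.closure X).subgroupOf H => box q.out) := by
      intro q q' hqq
      rw [← QuotientGroup.out_eq' q, ← QuotientGroup.out_eq' q', eq_comm, QuotientGroup.eq]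
      exact hbox _ _ hqq
    refine (Nat.card_le_card_of_injective _ hf).trans (le_of_eq ?_)
    simp [Nat.card_eq_fintype_card, hlen]

end CfsgLib.Char
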