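import Cfsg.Agent.Char.Clifford
import Cfsg.Agent.Char.Central
import Cfsg.Agent.Char.Exceptional
import Cfsg.Agent.S0898
import Mathlib

/-! Faithful characters of groups with a Sylow subgroup whose nontrivial elements have one centralizer. -/

set_option autoImplicit false
set_option linter.unusedSectionVars false
set_option linter.style.haveILetI false

namespace CfsgLib.CCSylow

open Cfsg CfsgLib.Char
open scoped ComplexConjugate CfsgLib.Char

universe u

theorem card_le_degree {C : Type u} [Group C] [Fintype C] {φ : C → ℂ} (hφ : IsCharacter C φ)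
    (U : Finset (IrrCharacter C)) (hU : ∀ κ ∈ U, classInner φ (κ : C → ℂ) ≠ 0) {d : ℕ} (hd : φ 1 = d) :
    U.card ≤ d := by
  classical
  choose m hm using fun κ : IrrCharacter C => inner_char_irr hφ κ.2
  choose δ hδ0 hδ using fun κ : IrrCharacter C => irr_deg κ.2
  have h := congrFun (classFun_eq_sum (classFun_of_char hφ)) 1
  simp only [hd, Finset.sum_apply, Pi.smul_apply, smul_eq_mul, hm, hδ] at h
  have h' : d = ∑ κ : IrrCharacter C, m κ * δ κ := by exact_mod_cast h
  rw [h', Finset.card_eq_sum_ones]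
  refine (Finset.sum_le_sum fun κ hκ => ?_).trans (Finset.sum_le_sum_of_subset (Finset.subset_univ U))
  have : m κ ≠ 0 := fun h0 => hU κ hκ (by rw [hm κ, h0, Nat.cast_zero])
  exact Nat.one_le_iff_ne_zero.2 (mul_ne_zero this (hδ0 κ).ne')

/-- the `P`-weight of an irreducible character, for a central subgroup `P` -/
theorem exists_wt {C : Type u} [Group C] [Fintype C] (P : Subgroup C) (hP : P ≤ Subgroup.center C)
    {κ : C → ℂ} (hκ : IsIrrCharacter C κ) :
    ∃ w : P →* ℂˣ, ∀ (z : P) (g : C), κ ((z : C) * g) = (w z : ℂ) * κ g := by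
  have h1 := irr_one_ne_zero hκ
  choose ω hω hωg using fun z : P => Cfsg.Agent.S0898.central_mul hκ (hP z.2)
  have hω0 : ∀ z, ω z ≠ 0 := fun z h => by simpa [h] using hω z
  have hval : ∀ z : P, κ (z : C) = ω z * κ 1 := fun z => by simpa using hωg z 1
  refine ⟨{ toFun := fun z => Units.mk0 (ω z) (hω0 z), map_one' := ?_, map_mul' := ?_ }, fun z g => hωg z g⟩
  · ext
    refine mul_right_cancel₀ h1 ?_
    show ω 1 * κ 1 = ((1 : ℂˣ) : ℂ) * κ 1
    rw [← hval 1]; simp
  · intro y z
    ext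
    refine mul_right_cancel₀ h1 ?_
    show ω (y * z) * κ 1 = ω y * ω z * κ 1
    rw [← hval (y * z), Subgroup.coe_mul, hωg y, hval z, mul_assoc]

theorem wt_eq_of_inner {C : Type u} [Group C] [Fintype C] {P : Subgroup C}
    {φ κ : C → ℂ} {s w : P →* ℂˣ} (hs : ∀ (z : P) (g : C), φ ((z : C) * g) = (s z : ℂ) * φ g)
    (hw : ∀ (z : P) (g : C), κ ((z : C) * g) = (w z : ℂ) * κ g) (h : classInner φ κ ≠ 0) : s = w := by
  ext z
  have e : classInner φ κ = (s z : ℂ) * conj (w z : ℂ) * classInner φ κ := by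
    simp only [classInner_def]
    rw [mul_left_comm]
    congr 1
    rw [Finset.mul_sum]
    refine (Fintype.sum_equiv (Equiv.mulLeft (z : C)) _ _ fun g => ?_).symm
    rw [Equiv.coe_mulLeft, hs, hw, map_mul]
    ring
  have e1 : (s z : ℂ) * conj (w z : ℂ) = 1 := (mul_eq_right₀ h).1 e.symm
  have e2 : (w z : ℂ) * conj (w z : ℂ) = 1 := by
    rw [Complex.mul_conj', norm_root (orderOf_pos z).ne' (linear_root w z)]; simp
  exact mul_right_cancel₀ (right_ne_zero_of_mul_eq_one e2) (e1.trans e2.symm)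

section main

variable {G : Type u} [Group G] [Fintype G] {p : ℕ} [Fact p.Prime] (P : Sylow p G)

/-- the centralizer of the Sylow subgroup -/
abbrev C : Subgroup G := Subgroup.centralizer ((P : Subgroup G) : Set G)
/-- its normalizer -/
abbrev N : Subgroup G := Subgroup.normalizer ((P : Subgroup G) : Set G)
/-- the Sylow subgroup inside its centralizer -/
abbrev Pc : Subgroup (C P) := (P : Subgroup G).subgroupOf (C P)

theorem C_le_N : C P ≤ N P := Subgroup.centralizer_le_normalizer _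

theorem conj_mem_C (x : N P) {c : G} (hc : c ∈ C P) : (x : G)⁻¹ * c * x ∈ C P := by
  refine Subgroup.mem_centralizer_iff.2 fun z hz => ?_
  have h := Subgroup.mem_centralizer_iff.1 hc _ ((Subgroup.mem_normalizer_iff.1 x.2 z).1 hz)
  calc z * ((x : G)⁻¹ * c * x) = (x : G)⁻¹ * ((x : G) * z * (x : G)⁻¹ * c) * x := by group
    _ = (x : G)⁻¹ * c * x * z := by rw [h]; group

/-- conjugation of a function on the centralizer by an element of the normalizer -/
def cj (x : N P) (f : C P → ℂ) : C P → ℂ := fun c => f ⟨_, conj_mem_C P x c.2⟩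

/-- conjugation as an automorphism -/
def cjEquiv (x : N P) : C P ≃* C P where
  toFun c := ⟨_, conj_mem_C P x c.2⟩
  invFun c := ⟨(x : G) * c * (x : G)⁻¹, by simpa using conj_mem_C P x⁻¹ c.2⟩
  left_inv c := Subtype.ext (by simp [mul_assoc])
  right_inv c := Subtype.ext (by simp [mul_assoc])
  map_mul' a b := Subtype.ext (by simp [mul_assoc])

noncomputable scoped instance instC : Fintype (C P) := Fintype.ofFinite _
noncomputable scoped instance instN : Fintype (N P) := Fintype.ofFinite _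

theorem cj_irr (x : N P) {f : C P → ℂ} (hf : IsIrrCharacter (C P) f) : IsIrrCharacter (C P) (cj P x f) :=
  irr_mulEquiv (cjEquiv P x) hf

theorem cj_mul (x y : N P) (f : C P → ℂ) : cj P (x * y) f = cj P x (cj P y f) := by
  funext c
  exact congrArg f (Subtype.ext (by simp [mul_assoc]))

theorem cj_of_mem {f : C P → ℂ} (hf : IsClassFunction (C P) f) {x : N P} (hx : (x : G) ∈ C P) : cj P x f = f := by
  funext c
  refine Eq.trans (congrArg f (Subtype.ext ?_)) (hf c ⟨(x : G)⁻¹, inv_mem hx⟩)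
  simp

/-- index of the Sylow subgroup in the centralizer -/
noncomputable def j : ℕ := (Pc P).index

variable (hall : ∀ Q : Sylow p G, ∀ x ∈ (Q : Subgroup G), x ≠ 1 →
  Subgroup.centralizer ({x} : Set G) = Subgroup.centralizer ((Q : Subgroup G) : Set G))
include hall

theorem comm_P : ∀ a ∈ (P : Subgroup G), ∀ b ∈ (P : Subgroup G), a * b = b * a := by
  intro a ha b hb
  rcases eq_or_ne a 1 with rfl | h1
  · simp
  have : a ∈ C P := by rw [C, ← hall P a ha h1]; exact Subgroup.mem_centralizer_singleton_iff.2 rfl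
  exact (Subgroup.mem_centralizer_iff.1 this b hb).symm

theorem P_le_C : (P : Subgroup G) ≤ C P := fun a ha =>
  Subgroup.mem_centralizer_iff.2 fun b hb => comm_P P hall b hb a ha

theorem Pc_center : Pc P ≤ Subgroup.center (C P) := fun z hz =>
  Subgroup.mem_center_iff.2 fun g => Subtype.ext (Subgroup.mem_centralizer_iff.1 g.2 z hz).symm

theorem card_Pc : Nat.card (Pc P) = Nat.card P :=
  Nat.card_congr (Subgroup.subgroupOfEquivOfLe (P_le_C P hall)).toEquiv

theorem j_coprime : (Nat.card P).Coprime (j P) := by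
  obtain ⟨n, hn⟩ := IsPGroup.iff_card.1 P.isPGroup'
  rw [show Nat.card P = p ^ n from hn]
  refine Nat.Coprime.pow_left _ ((Fact.out : p.Prime).coprime_iff_not_dvd.2 fun h => P.not_dvd_index ?_)
  exact h.trans (Subgroup.relIndex_dvd_index_of_le (P_le_C P hall))

theorem pow_j (c : C P) : ((c : G) ^ j P) ∈ (P : Subgroup G) := by
  haveI : (Pc P).Normal := ⟨fun n hn g => by
    rw [Subgroup.mem_center_iff.1 (Pc_center P hall hn) g]; simpa using hn⟩
  exact Subgroup.mem_subgroupOf.1 ((Pc P).pow_index_mem c)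

theorem pmem {y : G} (hy : y ∈ N P) (hp : ∃ k, orderOf y = p ^ k) : y ∈ (P : Subgroup G) := by
  obtain ⟨k, hk⟩ := hp
  have hz : IsPGroup p (Subgroup.zpowers y) := IsPGroup.of_card (n := k) (by rw [Nat.card_zpowers, hk])
  have h := hz.to_sup_of_normal_right' P.isPGroup' (Subgroup.zpowers_le.2 hy)
  exact (P.is_maximal' h le_sup_right).le (Subgroup.mem_sup_left (Subgroup.mem_zpowers y))

theorem order_of_mem {y : G} (hy : y ∈ (P : Subgroup G)) : ∃ k, orderOf y = p ^ k := by
  obtain ⟨k, hk⟩ := (IsPGroup.iff_orderOf.1 P.isPGroup') ⟨y, hy⟩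
  exact ⟨k, by rwa [Subgroup.orderOf_mk] at hk⟩

theorem ti {g x : G} (hx : x ∈ (P : Subgroup G)) (hx1 : x ≠ 1) (h : g * x * g⁻¹ ∈ (P : Subgroup G)) : g ∈ N P := by
  have hy1 : g * x * g⁻¹ ≠ 1 := fun e => hx1 (conj_eq_one_iff.1 e)
  have hle : (P : Subgroup G).map (MulAut.conj g).toMonoidHom ≤ C P := by
    rintro _ ⟨b, hb, rfl⟩
    show g * b * g⁻¹ ∈ C P
    rw [C, ← hall P _ h hy1, Subgroup.mem_centralizer_singleton_iff]
    calc g * b * g⁻¹ * (g * x * g⁻¹) = g * (b * x) * g⁻¹ := by group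
      _ = g * (x * b) * g⁻¹ := by rw [comm_P P hall b hb x hx]
      _ = g * x * g⁻¹ * (g * b * g⁻¹) := by group
  refine Subgroup.mem_normalizer_iff.2 fun b => ⟨fun hb => pmem P hall (C_le_N P (hle ⟨b, hb, rfl⟩))
    (by
      obtain ⟨k, hk⟩ := order_of_mem P hall hb
      exact ⟨k, by rw [← hk]; exact MulEquiv.orderOf_eq (MulAut.conj g) b⟩), fun hb => ?_⟩
  have hM : (P : Subgroup G).map (MulAut.conj g).toMonoidHom = (P : Subgroup G) := by
    have hsub : (P : Subgroup G).map (MulAut.conj g).toMonoidHom ≤ (P : Subgroup G) := fun y hy =>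
      pmem P hall (C_le_N P (hle hy)) (by
        obtain ⟨b, hb, rfl⟩ := hy
        obtain ⟨k, hk⟩ := order_of_mem P hall hb
        exact ⟨k, by rw [← hk]; exact MulEquiv.orderOf_eq (MulAut.conj g) b⟩)
    exact Subgroup.eq_of_le_of_card_ge hsub (le_of_eq (Subgroup.card_map_of_injective (MulAut.conj g).injective).symm)
  rw [← hM] at hb
  obtain ⟨b', hb', e⟩ := hb
  simp only [MulEquiv.coe_toMonoidHom, MulAut.conj_apply, mul_left_inj, mul_right_inj] at e
  exact e ▸ hb'

theorem S1 {c : C P} (hc : (c : G) ^ j P ≠ 1) {x : G} (hm : x⁻¹ * (c : G) * x ∈ C P) : x ∈ N P := by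
  have h1 := pow_j P hall c
  have h2 : x⁻¹ * (c : G) ^ j P * x ∈ (P : Subgroup G) := by
    have := pow_j P hall ⟨_, hm⟩
    have e := conj_pow (i := j P) (a := x⁻¹) (b := (c : G))
    rw [inv_inv] at e
    rw [← e]
    simpa using this
  have h3 := ti P hall (g := x⁻¹) h1 hc (by simpa using h2)
  simpa using inv_mem h3

theorem S2 {v x : G} (hv : v ∈ N P) (hm : x⁻¹ * v * x ∈ C P) (hne : (x⁻¹ * v * x) ^ j P ≠ 1) :
    v ∈ C P ∧ v ^ j P ≠ 1 := by
  have e : v ^ j P = x * (x⁻¹ * v * x) ^ j P * x⁻¹ := by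
    rw [← conj_pow]; congr 1; group
  have h1 := pow_j P hall ⟨_, hm⟩
  have hne' : v ^ j P ≠ 1 := fun h => hne (by rw [e] at h; exact conj_eq_one_iff.1 h)
  refine ⟨?_, hne'⟩
  have hmem : v ^ j P ∈ (P : Subgroup G) := by
    refine pmem P hall (pow_mem hv _) ?_
    obtain ⟨k, hk⟩ := order_of_mem P hall h1
    exact ⟨k, by rw [e, ← hk]; exact MulEquiv.orderOf_eq (MulAut.conj x) _⟩
  rw [C, ← hall P _ hmem hne', Subgroup.mem_centralizer_singleton_iff]
  exact (Commute.self_pow v _).eq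

/-- the restriction of a function induced from the centralizer -/
theorem res_ind {f : C P → ℂ} (hf : ∀ c : C P, (c : G) ^ j P = 1 → f c = 0) (c : C P) :
    indFun (C P) f (c : G) = (Nat.card (C P) : ℂ)⁻¹ * ∑ x : N P, cj P x f c := by
  classical
  rw [indFun_apply]
  congr 1
  rw [sum_subgroup (N P) _ fun x hx => ?_]
  · exact Finset.sum_congr rfl fun x _ => extendByZero_mem' _ _ _
  · by_cases hm : x⁻¹ * (c : G) * x ∈ C P
    · rw [extendByZero_mem' _ _ hm]
      refine hf _ ?_
      by_contra hne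
      exact hx (S1 P hall (S2 P hall (C_le_N P c.2) hm hne).2 hm)
    · exact extendByZero_not_mem _ _ hm

open Classical in
theorem stab {a : C P → ℂ} (ha : IsIrrCharacter (C P) a) {w : Pc P →* ℂˣ}
    (hw : ∀ (z : Pc P) (g : C P), a ((z : C P) * g) = (w z : ℂ) * a g) (hw1 : w ≠ 1) {x : N P}
    (hx : cj P x a = a) : (x : G) ∈ C P := by
  by_contra hxC
  refine hw1 ?_
  let F : Pc P → Pc P := fun z => ⟨⟨_, conj_mem_C P x (z : C P).2⟩ * (z : C P)⁻¹,
    mul_mem (Subgroup.mem_subgroupOf.2 (by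
      have := (Subgroup.mem_normalizer_iff.1 (inv_mem x.2) ((z : C P) : G)).1 z.2
      simpa using this)) (inv_mem z.2)⟩
  have hinj : Function.Injective F := by
    intro y z h
    have h' : (x : G)⁻¹ * ((y : C P) : G) * x * ((y : C P) : G)⁻¹ = (x : G)⁻¹ * ((z : C P) : G) * x * ((z : C P) : G)⁻¹ :=
      congrArg (fun t : Pc P => ((t : C P) : G)) h
    by_contra hne
    set d := ((z : C P) : G)⁻¹ * (y : C P) with hd
    have hdP : d ∈ (P : Subgroup G) := mul_mem (inv_mem (Subgroup.mem_subgroupOf.1 z.2)) (Subgroup.mem_subgroupOf.1 y.2)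
    have hd1 : d ≠ 1 := fun e => hne (Subtype.ext (Subtype.ext (inv_mul_eq_one.1 e).symm))
    refine hxC ?_
    rw [C, ← hall P d hdP hd1, Subgroup.mem_centralizer_singleton_iff]
    have h2 : (x : G)⁻¹ * d * x = d := by
      have e1 : (x : G)⁻¹ * d * x = ((x : G)⁻¹ * ((z : C P) : G) * x)⁻¹ * ((x : G)⁻¹ * ((y : C P) : G) * x) := by
        rw [hd]; group
      have e3 : (x : G)⁻¹ * ((y : C P) : G) * x = (x : G)⁻¹ * ((z : C P) : G) * x * ((z : C P) : G)⁻¹ * (y : C P) := by
        rw [← h']; group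
      rw [e1, e3, hd]; group
    calc (x : G) * d = (x : G) * ((x : G)⁻¹ * d * x) := by rw [h2]
      _ = d * x := by group
  obtain hsur := (Finite.injective_iff_bijective.1 hinj).surjective
  ext t
  obtain ⟨z, rfl⟩ := hsur t
  have hz' : (⟨_, conj_mem_C P x (z : C P).2⟩ : C P) ∈ Pc P := by
    have := mul_mem (F z).2 z.2
    simpa [F] using this
  have h2 : (w ⟨_, hz'⟩ : ℂ) * a 1 = (w z : ℂ) * a 1 := by
    have h := congrFun hx ((z : C P))
    have e1 := hw ⟨_, hz'⟩ 1
    have e2 := hw z 1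
    rw [mul_one] at e1 e2
    rw [← e1, ← e2]
    exact h
  have h3 : w ⟨_, hz'⟩ = w z := Units.ext (mul_right_cancel₀ (irr_one_ne_zero ha) h2)
  rw [show F z = ⟨_, hz'⟩ * z⁻¹ from Subtype.ext rfl, map_mul, map_inv, h3, mul_inv_cancel]
  simp

/-- the sum of the conjugates -/
noncomputable def orb (a : C P → ℂ) : C P → ℂ := (Nat.card (C P) : ℂ)⁻¹ • ∑ x : N P, cj P x a

open Classical in
theorem inner_orb {a b : C P → ℂ} (ha : IsIrrCharacter (C P) a) (hb : IsIrrCharacter (C P) b)
    {w : Pc P →* ℂˣ} (hw : ∀ (z : Pc P) (g : C P), a ((z : C P) * g) = (w z : ℂ) * a g) (hw1 : w ≠ 1) :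
    classInner (orb P a) b = if ∃ x, cj P x a = b then 1 else 0 := by
  rw [orb, classInner_smul_left, classInner_sum_left]
  simp only [irr_inner (cj_irr P _ ha) hb]
  rw [Finset.sum_boole]
  split_ifs with h
  · obtain ⟨x₀, hx₀⟩ := h
    have : (Finset.univ.filter fun x : N P => cj P x a = b).card = Nat.card (C P) := by
      rw [Nat.card_eq_fintype_card, ← Finset.card_univ]
      refine (Finset.card_bij (fun (c : C P) _ => x₀ * ⟨(c : G), C_le_N P c.2⟩) ?_ ?_ ?_).symm
      · intro c _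
        refine Finset.mem_filter.2 ⟨Finset.mem_univ _, ?_⟩
        rw [cj_mul, cj_of_mem P (classFun_of_irr ha) c.2, hx₀]
      · intro c _ c' _ hcc
        exact Subtype.ext (congrArg (fun t : N P => (t : G)) (mul_left_cancel hcc))
      · intro x hx
        have hx' : cj P (x₀⁻¹ * x) a = a := by
          rw [cj_mul, (Finset.mem_filter.1 hx).2, ← hx₀, ← cj_mul, inv_mul_cancel]
          exact cj_of_mem P (classFun_of_irr ha) (one_mem _)
        exact ⟨⟨_, stab P hall ha hw hw1 hx'⟩, Finset.mem_univ _, by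
          exact Subtype.ext (by simp)⟩
    rw [this, inv_mul_cancel₀ (natCard_ne_zero _)]
  · rw [Finset.filter_eq_empty_iff.2 fun x _ hx => h ⟨x, hx⟩, Finset.card_empty, Nat.cast_zero, mul_zero]

/-- twisting by linear characters prescribed on the Sylow subgroup -/
theorem exists_twist (μ : Pc P →* ℂˣ) : ∃ τ : C P →* ℂˣ, (∀ z : Pc P, τ (z : C P) = μ z) ∧
    ∀ c : C P, (c : G) ^ j P = 1 → τ c = 1 := by
  classical
  have hq : ∀ z : Pc P, z ^ Nat.card (Pc P) = 1 := fun z => pow_card_eq_one'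
  have hμq : μ ^ Nat.card (Pc P) = 1 := by
    ext z; rw [MonoidHom.pow_apply, ← map_pow, hq, map_one]; rfl
  have hcop : (Nat.card (Pc P)).Coprime (j P) := by rw [card_Pc P hall]; exact j_coprime P hall
  obtain ⟨m, hm⟩ := exists_pow_eq_self_of_coprime (n := j P) (x := μ)
    (Nat.Coprime.coprime_dvd_right (orderOf_dvd_of_pow_eq_one hμq) hcop.symm)
  set ν := μ ^ m
  have hνj : ∀ z, ν z ^ j P = μ z := fun z => by
    rw [MonoidHom.pow_apply, ← pow_mul, mul_comm, pow_mul]
    exact DFunLike.congr_fun hm z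
  refine ⟨MonoidHom.transfer ν, fun z => ?_, fun c hc => ?_⟩
  · have hz : ∀ g : C P, g * (z : C P) = (z : C P) * g := Subgroup.mem_center_iff.1 (Pc_center P hall z.2)
    rw [MonoidHom.transfer_eq_pow ν (z : C P) (fun k g₀ _ => by
      have hk : g₀ * (z : C P) ^ k = (z : C P) ^ k * g₀ := (Commute.pow_right (hz g₀) k).eq
      rw [mul_assoc, ← hk, inv_mul_cancel_left])]
    rw [show (⟨(z : C P) ^ (Pc P).index, _⟩ : Pc P) = z ^ (Pc P).index from Subtype.ext rfl, map_pow]
    exact hνj z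
  · have h1 : MonoidHom.transfer ν c ^ j P = 1 := by
      rw [← map_pow, show c ^ j P = 1 from Subtype.ext (by simpa using hc), map_one]
    have h2 : MonoidHom.transfer ν c ^ Nat.card (Pc P) = 1 := by
      letI := (Pc P).fintypeQuotientOfFiniteIndex
      rw [MonoidHom.transfer_eq_prod_quotient_orbitRel_zpowers_quot, ← Finset.prod_pow]
      exact Finset.prod_eq_one fun q _ => by rw [← map_pow, hq, map_one]
    exact orderOf_eq_one_iff.1 (Nat.eq_one_of_dvd_coprimes hcop.symm (orderOf_dvd_of_pow_eq_one h1)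
      (orderOf_dvd_of_pow_eq_one h2))

open Classical in
/-- two irreducible characters of the centralizer with the same values off the singular set -/
theorem exists_diff {u v : C P → ℂ} (hu : IsIrrCharacter (C P) u) (hv : IsIrrCharacter (C P) v)
    {wu wv : Pc P →* ℂˣ} (hwu : ∀ (z : Pc P) (g : C P), u ((z : C P) * g) = (wu z : ℂ) * u g)
    (hwv : ∀ (z : Pc P) (g : C P), v ((z : C P) * g) = (wv z : ℂ) * v g) (hu1 : wu ≠ 1) (hv1 : wv ≠ 1)
    (hoff : ∀ c : C P, (c : G) ^ j P = 1 → u c = v c) (hno : ∀ x, cj P x u ≠ v) :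
    ∃ A B : IrrCharacter G, A ≠ B ∧ indFun (C P) (u - v) = (A : G → ℂ) - (B : G → ℂ) ∧
      ∀ c : C P, (A : G → ℂ) (c : G) - (B : G → ℂ) (c : G) = orb P u c - orb P v c := by
  have hres : ∀ c : C P, indFun (C P) (u - v) (c : G) = orb P u c - orb P v c := by
    intro c
    rw [res_ind P hall (fun c hc => by rw [Pi.sub_apply, hoff c hc, sub_self]) c]
    simp only [orb, Pi.smul_apply, Finset.sum_apply, smul_eq_mul, ← mul_sub, ← Finset.sum_sub_distrib]
    rfl
  have hone : ((1 : C P) : G) ^ j P = 1 := by simp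
  have hinner : classInner (indFun (C P) (u - v)) (indFun (C P) (u - v)) = 2 := by
    rw [frobenius' _ _ (indFun_classFun _ _),
      show (fun c : C P => indFun (C P) (u - v) (c : G)) = orb P u - orb P v from funext hres,
      classInner_sub_left, classInner_sub_right, classInner_sub_right, inner_orb P hall hu hu hwu hu1,
      inner_orb P hall hv hv hwv hv1, inner_orb P hall hu hv hwu hu1, inner_orb P hall hv hu hwv hv1]
    have e1 : ∃ x : N P, cj P x u = u := ⟨1, cj_of_mem P (classFun_of_irr hu) (one_mem _)⟩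
    have e2 : ∃ x : N P, cj P x v = v := ⟨1, cj_of_mem P (classFun_of_irr hv) (one_mem _)⟩
    have e3 : ¬ ∃ x : N P, cj P x u = v := fun ⟨x, hx⟩ => hno x hx
    have e4 : ¬ ∃ x : N P, cj P x v = u := fun ⟨x, hx⟩ => hno x⁻¹ (by
      rw [← hx, ← cj_mul, inv_mul_cancel]; exact cj_of_mem P (classFun_of_irr hv) (one_mem _))
    rw [if_pos e1, if_pos e2, if_neg e3, if_neg e4]
    norm_num
  obtain ⟨A, B, hAB, h⟩ := exists_sub_of_norm_two
    (gen_indFun (C P) ⟨_, _, isCharacter_of_isIrr hu, isCharacter_of_isIrr hv, rfl⟩)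
    (by rw [indFun_one, Pi.sub_apply, hoff 1 hone, sub_self, mul_zero]) hinner
  exact ⟨A, B, hAB, h, fun c => by rw [← hres c, h]; rfl⟩

end main

end CfsgLib.CCSylow
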