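import Cfsg.Agent.Char.CCSylow
import Mathlib

/-! The counting and exceptional-character argument for groups with uniform centralizers on a Sylow subgroup. -/

set_option autoImplicit false
set_option linter.unusedSectionVars false
set_option linter.style.haveILetI false

namespace CfsgLib.CCSylow

open Cfsg CfsgLib.Char
open scoped ComplexConjugate CfsgLib.Char

universe u

theorem deg_le {G : Type u} [Group G] [Fintype G] {φ R : G → ℂ} (hφ : IsCharacter G φ) (hR : IsIrrCharacter G R)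
    (h : classInner φ R ≠ 0) {n r : ℕ} (hn : φ 1 = n) (hr : R 1 = r) : r ≤ n := by
  obtain ⟨s, hs⟩ := charDegree_aux (isCharacter_sub_constituent hφ hR h)
  rw [Pi.sub_apply, hn, hr, sub_eq_iff_eq_add] at hs
  have : n = s + r := by exact_mod_cast hs
  omega

theorem inner_mono {G : Type u} [Group G] [Fintype G] {H : Subgroup G} [Fintype H] {φ R : G → ℂ}
    (hφ : IsCharacter G φ) (hR : IsIrrCharacter G R) (h : classInner φ R ≠ 0) {κ : H → ℂ}
    (hκ : IsCharacter H κ) (hne : classInner (fun c : H => R c) κ ≠ 0) :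
    classInner (fun c : H => φ c) κ ≠ 0 := fun h0 =>
  hne (inner_zero_of_summand (isCharacter_restrict H (isCharacter_of_isIrr hR))
    (isCharacter_restrict H (isCharacter_sub_constituent hφ hR h)) hκ
    (by convert h0 using 2; funext c; simp))

theorem exists_over {G : Type u} [Group G] [Fintype G] {H : Subgroup G} [Fintype H] {φ : G → ℂ}
    (hφ : IsClassFunction G φ) {κ : H → ℂ} (hne : classInner (fun c : H => φ c) κ ≠ 0) :
    ∃ R : IrrCharacter G, classInner φ (R : G → ℂ) ≠ 0 ∧ classInner (fun c : H => (R : G → ℂ) c) κ ≠ 0 := by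
  by_contra hc
  push Not at hc
  refine hne ?_
  have e : (fun c : H => φ c) = ∑ R : IrrCharacter G, classInner φ (R : G → ℂ) • (fun c : H => (R : G → ℂ) c) := by
    funext c
    simpa using congrFun (classFun_eq_sum hφ) (c : G)
  rw [e, classInner_sum_left]
  refine Finset.sum_eq_zero fun R _ => ?_
  rw [classInner_smul_left]
  rcases eq_or_ne (classInner φ (R : G → ℂ)) 0 with h | h
  · rw [h, zero_mul]
  · rw [hc R h, mul_zero]

theorem hom_shift {X : Type u} [MulOneClass X] (o t : X →* ℂˣ) : t * (o * t⁻¹) = o := by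
  ext z; simp

theorem hom_self {X : Type u} [MulOneClass X] (t : X →* ℂˣ) : t * t⁻¹ = 1 := by
  ext z; simp

theorem hom_eq_of {X : Type u} [MulOneClass X] {o t : X →* ℂˣ} (h : o * t⁻¹ = 1) : o = t := by
  ext z
  have := DFunLike.congr_fun h z
  simp only [MonoidHom.mul_apply, MonoidHom.inv_apply, MonoidHom.one_apply, mul_inv_eq_one] at this
  rw [this]

section main

variable {G : Type u} [Group G] [Fintype G] {p : ℕ} [Fact p.Prime] (P : Sylow p G)

/-- conjugation on irreducible characters -/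
def cjI (x : N P) (κ : IrrCharacter (C P)) : IrrCharacter (C P) := ⟨cj P x (κ : C P → ℂ), cj_irr P x κ.2⟩

/-- twisting of irreducible characters -/
def tw (κ : IrrCharacter (C P)) (τ : C P →* ℂˣ) : IrrCharacter (C P) := ⟨_, irr_mul_linear κ.2 τ⟩

theorem inner_tw (τ : C P →* ℂˣ) (f g : C P → ℂ) :
    classInner (fun c => f c * (τ c : ℂ)) (fun c => g c * (τ c : ℂ)) = classInner f g := by
  rw [classInner_def, classInner_def]
  congr 1
  refine Finset.sum_congr rfl fun c _ => ?_
  have : (τ c : ℂ) * conj (τ c : ℂ) = 1 := by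
    rw [Complex.mul_conj', norm_root (orderOf_pos c).ne' (linear_root τ c)]; simp
  simp only [map_mul]
  linear_combination f c * conj (g c) * this

theorem inner_cj {F : G → ℂ} (hF : IsClassFunction G F) (s : N P) (κ : C P → ℂ) :
    classInner (fun c : C P => F c) (cj P s κ) = classInner (fun c : C P => F c) κ := by
  rw [classInner_def, classInner_def]
  congr 1
  refine Fintype.sum_equiv (cjEquiv P s).toEquiv _ _ fun c => ?_
  show F c * conj (κ ⟨_, _⟩) = F ((s : G)⁻¹ * c * s) * conj (κ ⟨_, _⟩)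
  rw [show F ((s : G)⁻¹ * c * s) = F c by simpa using hF (c : G) (s : G)⁻¹]

theorem cj_apply_one (s : N P) (f : C P → ℂ) : cj P s f 1 = f 1 :=
  congrArg f (Subtype.ext (by simp))

theorem orb_cj (s : N P) (f : C P → ℂ) : orb P (cj P s f) = orb P f := by
  rw [orb, orb]
  congr 1
  refine Fintype.sum_equiv (Equiv.mulRight s) _ _ fun t => ?_
  rw [Equiv.coe_mulRight, cj_mul]

theorem orb_mul_inner (a b κ : C P → ℂ) :
    classInner (fun c => orb P a c * conj (orb P b c)) κ = (Nat.card (C P) : ℂ)⁻¹ * (Nat.card (C P) : ℂ)⁻¹ *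
      ∑ s : N P, ∑ t : N P, classInner (fun c => cj P s a c * conj (cj P t b c)) κ := by
  have e : (fun c => orb P a c * conj (orb P b c)) = ((Nat.card (C P) : ℂ)⁻¹ * (Nat.card (C P) : ℂ)⁻¹) •
      ∑ s : N P, ∑ t : N P, (fun c => cj P s a c * conj (cj P t b c)) := by
    funext c
    simp only [orb, Pi.smul_apply, Finset.sum_apply, smul_eq_mul, map_mul, map_inv₀, Complex.conj_natCast, map_sum]
    rw [mul_mul_mul_comm, Finset.sum_mul_sum]
  rw [e, classInner_smul_left, classInner_sum_left]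
  simp only [classInner_sum_left]

theorem orb_mul_term {a b : C P → ℂ} (ha : IsIrrCharacter (C P) a) (hb : IsIrrCharacter (C P) b) (κ : IrrCharacter (C P)) :
    classInner (fun c => orb P a c * conj (orb P b c)) (κ : C P → ℂ) ≠ 0 ↔
      ∃ s t, classInner (fun c => cj P s a c * conj (cj P t b c)) (κ : C P → ℂ) ≠ 0 := by
  choose n hn using fun s t => inner_char_irr
    (isCharacter_mul (isCharacter_of_isIrr (cj_irr P s ha)) (isCharacter_conj (isCharacter_of_isIrr (cj_irr P t hb)))) κ.2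
  have hn' : ∀ s t, classInner (fun c => cj P s a c * conj (cj P t b c)) (κ : C P → ℂ) = (n s t : ℂ) := hn
  simp only [orb_mul_inner, hn', mul_ne_zero_iff, inv_ne_zero (natCard_ne_zero (C P)), not_false_eq_true,
    ne_eq, and_self, true_and, ← Nat.cast_sum, Nat.cast_eq_zero, Finset.sum_eq_zero_iff, Finset.mem_univ,
    true_implies, not_forall]

variable (hall : ∀ Q : Sylow p G, ∀ x ∈ (Q : Subgroup G), x ≠ 1 →
  Subgroup.centralizer ({x} : Set G) = Subgroup.centralizer ((Q : Subgroup G) : Set G))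
include hall

open Classical in
set_option maxHeartbeats 1600000 in
theorem core (hnormal : ∀ M : Subgroup G, M.Normal → (P : Subgroup G) ≤ M → M = ⊤)
    (hZ : (P : Subgroup G) ⊓ Subgroup.center G = ⊥)
    (hone : ∀ g : G, g ∉ Subgroup.center G → ∀ a b : G,
      Subgroup.centralizer ({g} : Set G) ⊓ (P : Subgroup G).map (MulAut.conj a).toMonoidHom ≠ ⊥ →
      Subgroup.centralizer ({g} : Set G) ⊓ (P : Subgroup G).map (MulAut.conj b).toMonoidHom ≠ ⊥ →
      (P : Subgroup G).map (MulAut.conj a).toMonoidHom = (P : Subgroup G).map (MulAut.conj b).toMonoidHom)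
    {χ₁ : G → ℂ} (hχ : IsIrrCharacter G χ₁) {d : ℕ} (hd : χ₁ 1 = d) (hd2 : 2 ≤ d)
    (hdq : d ^ 2 + 2 ≤ Nat.card P) : False := by
  haveI := Fintype.ofFinite (P : Subgroup G)
  haveI := Fintype.ofFinite (Pc P)
  set q := Nat.card P with hqdef
  have hab := comm_P P hall
  -- weights
  choose w hw using fun κ : IrrCharacter (C P) => exists_wt (Pc P) (Pc_center P hall) κ.2
  have huniq : ∀ (κ : IrrCharacter (C P)) (s : Pc P →* ℂˣ),
      (∀ (z : Pc P) (g : C P), (κ : C P → ℂ) ((z : C P) * g) = (s z : ℂ) * (κ : C P → ℂ) g) → w κ = s :=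
    fun κ s hs => wt_eq_of_inner (hw κ) hs (by rw [irr_inner_self κ.2]; exact one_ne_zero)
  have hval : ∀ (κ : IrrCharacter (C P)) (z : Pc P), (κ : C P → ℂ) (z : C P) = (w κ z : ℂ) * (κ : C P → ℂ) 1 :=
    fun κ z => by simpa using hw κ z 1
  have htrans : ∀ (κ : IrrCharacter (C P)) (s : N P) (z : Pc P), ∃ z' : Pc P, ((z' : C P) : G) = (s : G) * ((z : C P) : G) * (s : G)⁻¹ ∧
      w κ z = w (cjI P s κ) z' := by
    intro κ s z
    have hm : (s : G) * ((z : C P) : G) * (s : G)⁻¹ ∈ (P : Subgroup G) :=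
      (Subgroup.mem_normalizer_iff.1 s.2 _).1 (Subgroup.mem_subgroupOf.1 z.2)
    refine ⟨⟨⟨_, P_le_C P hall hm⟩, Subgroup.mem_subgroupOf.2 hm⟩, rfl, Units.ext (mul_right_cancel₀ (irr_one_ne_zero κ.2) ?_)⟩
    rw [← hval, show (κ : C P → ℂ) 1 = (cjI P s κ : C P → ℂ) 1 from (cj_apply_one P s _).symm, ← hval]
    exact congrArg (κ : C P → ℂ) (Subtype.ext (by simp [mul_assoc]))
  have hwt1 : ∀ (κ : IrrCharacter (C P)) (s : N P), w (cjI P s κ) = 1 → w κ = 1 := by
    intro κ s h
    ext z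
    obtain ⟨z', -, hz'⟩ := htrans κ s z
    rw [hz', h]; rfl
  have hwtcj : ∀ (κ μ : IrrCharacter (C P)) (s : N P), w (cjI P s κ) = w (cjI P s μ) → w κ = w μ := by
    intro κ μ s h
    ext z
    obtain ⟨z', hz1, hz'⟩ := htrans κ s z
    obtain ⟨z'', hz2, hz''⟩ := htrans μ s z
    rw [hz', hz'', h, show z'' = z' from Subtype.ext (Subtype.ext (hz2.trans hz1.symm))]
  -- twists
  choose τ0 hτ0 hτ0' using exists_twist P hall
  let τ : (Pc P →* ℂˣ) → (C P →* ℂˣ) := fun μ => if μ = 1 then 1 else τ0 μ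
  have hτ : ∀ μ (z : Pc P), τ μ (z : C P) = μ z := fun μ z => by
    simp only [τ]; split_ifs with h
    · rw [h]; rfl
    · exact hτ0 μ z
  have hτ' : ∀ μ (c : C P), (c : G) ^ j P = 1 → τ μ c = 1 := fun μ c hc => by
    simp only [τ]; split_ifs with h
    · rfl
    · exact hτ0' μ c hc
  have hwtw : ∀ κ μ, w (tw P κ (τ μ)) = w κ * μ := fun κ μ => huniq _ _ fun z g => by
    show (κ : C P → ℂ) ((z : C P) * g) * (τ μ ((z : C P) * g) : ℂ) = _ * ((κ : C P → ℂ) g * (τ μ g : ℂ))
    rw [hw κ z g, map_mul, Units.val_mul, hτ, MonoidHom.mul_apply, Units.val_mul]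
    ring
  have hcardHom : Nat.card (Pc P →* ℂˣ) = q := by
    letI : CommGroup (Pc P) := { (inferInstance : Group (Pc P)) with
      mul_comm := fun a b => Subtype.ext (Subgroup.mem_center_iff.1 (Pc_center P hall b.2) a) }
    rw [CommGroup.card_monoidHom_of_hasEnoughRootsOfUnity]
    exact card_Pc P hall
  haveI : Finite (Pc P →* ℂˣ) := Nat.finite_of_card_ne_zero (by rw [hcardHom]; omega)
  haveI := Fintype.ofFinite (Pc P →* ℂˣ)
  -- sums over the Sylow subgroup
  let res : (G → ℂ) → (C P → ℂ) := fun φ c => φ c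
  let S : (C P → ℂ) → ℂ := fun φ => ∑ z : Pc P, φ (z : C P)
  have hsum : ∀ φ, IsClassFunction (C P) φ → S φ =
      ∑ κ : IrrCharacter (C P), classInner φ (κ : C P → ℂ) * (if w κ = 1 then (q : ℂ) * (κ : C P → ℂ) 1 else 0) := by
    intro φ hφ
    simp only [S]
    refine (Finset.sum_congr rfl fun (z : Pc P) _ => congrFun (classFun_eq_sum hφ) (z : C P)).trans ?_
    simp only [Finset.sum_apply, Pi.smul_apply, smul_eq_mul]
    rw [Finset.sum_comm]
    refine Finset.sum_congr rfl fun κ _ => ?_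
    rw [← Finset.mul_sum]
    congr 1
    rw [Finset.sum_congr rfl fun z _ => hval κ z, ← Finset.sum_mul]
    split_ifs with h
    · simp only [h, MonoidHom.one_apply, Units.val_one, Finset.sum_const, Finset.card_univ, nsmul_eq_mul, mul_one]
      rw [← Nat.card_eq_fintype_card, card_Pc P hall]
    · have : (Units.coeHom ℂ).comp (w κ) ≠ 1 := fun e => h (MonoidHom.ext fun z => Units.ext (DFunLike.congr_fun e z))
      rw [show ∑ z : Pc P, (w κ z : ℂ) = ∑ z : Pc P, ((Units.coeHom ℂ).comp (w κ)) z from rfl,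
        sum_hom_units_eq_zero _ this, zero_mul]
  have hS0 : ∀ φ, IsCharacter (C P) φ → S φ = 0 → ∀ κ : IrrCharacter (C P), w κ = 1 → classInner φ (κ : C P → ℂ) = 0 := by
    intro φ hφ h0 κ hκ
    choose m hm using fun κ : IrrCharacter (C P) => inner_char_irr hφ κ.2
    choose δ hδ0 hδ using fun κ : IrrCharacter (C P) => irr_deg κ.2
    have h := hsum φ (classFun_of_char hφ)
    rw [h0] at h
    have h' : (0 : ℂ) = ((∑ κ : IrrCharacter (C P), m κ * (if w κ = 1 then q * δ κ else 0) : ℕ) : ℂ) := by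
      push_cast
      refine h.trans (Finset.sum_congr rfl fun κ _ => ?_)
      rw [hm]; split_ifs <;> simp [hδ]
    have h'' := Finset.sum_eq_zero_iff.1 (Nat.cast_eq_zero.1 h'.symm) κ (Finset.mem_univ _)
    rw [if_pos hκ] at h''
    rw [hm]
    have : q * δ κ ≠ 0 := mul_ne_zero (by omega) (hδ0 κ).ne'
    rw [(Nat.mul_eq_zero.1 h'').resolve_right this, Nat.cast_zero]
  have hS0' : ∀ φ, IsClassFunction (C P) φ → (∀ κ : IrrCharacter (C P), w κ = 1 → classInner φ (κ : C P → ℂ) = 0) → S φ = 0 := by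
    intro φ hφ h
    rw [hsum φ hφ]
    refine Finset.sum_eq_zero fun κ _ => ?_
    split_ifs with hk
    · rw [h κ hk, zero_mul]
    · rw [mul_zero]
  let eP : Pc P ≃ (P : Subgroup G) := (Subgroup.subgroupOfEquivOfLe (P_le_C P hall)).toEquiv
  have hSP : ∀ φ : G → ℂ, S (res φ) = ∑ z : (P : Subgroup G), φ z := fun φ =>
    Fintype.sum_equiv eP _ _ fun z => rfl
  -- kernels
  have hker : ∀ φ : IrrCharacter G, (φ : G → ℂ) ≠ (fun _ => 1) → ∃ a ∈ (P : Subgroup G), (φ : G → ℂ) a ≠ (φ : G → ℂ) 1 := by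
    intro φ hφ
    by_contra hno
    push Not at hno
    obtain ⟨K, hKn, hK, -⟩ := exists_kernel (isCharacter_of_isIrr φ.2)
    have hKtop := hnormal K hKn fun a ha => (hK a).2 (hno a ha)
    have hconst : ∀ g, (φ : G → ℂ) g = (φ : G → ℂ) 1 := fun g => (hK g).1 (hKtop ▸ Subgroup.mem_top g)
    have := irr_inner_ne φ.2 isIrr_one hφ
    simp [classInner_def, hconst, natCard_ne_zero, irr_one_ne_zero φ.2] at this
  have hχne : χ₁ ≠ fun _ => 1 := fun h => by
    rw [h] at hd
    have : ((d : ℕ) : ℂ) = ((1 : ℕ) : ℂ) := by rw [Nat.cast_one]; exact hd.symm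
    have := Nat.cast_injective this
    omega
  -- no weight one in the restriction
  have hchar : IsCharacter (C P) (res χ₁) := isCharacter_restrict (C P) (isCharacter_of_isIrr hχ)
  have hnow : ∀ κ : IrrCharacter (C P), w κ = 1 → classInner (res χ₁) (κ : C P → ℂ) = 0 := by
    refine hS0 _ hchar ?_
    have h := (Cfsg.Agent.S0898.result (P : Subgroup G) hab hZ hone χ₁ hχ (hker ⟨χ₁, hχ⟩ hχne)).1
    obtain ⟨c, hc⟩ := inner_char_char (isCharacter_restrict (P : Subgroup G) (isCharacter_of_isIrr hχ))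
      (isCharacter_one (G := (P : Subgroup G)))
    rw [hc, hd, Complex.natCast_re, Complex.natCast_re] at h
    have h' : Nat.card P * c ^ 2 < d ^ 2 := by exact_mod_cast h
    have hc0 : c = 0 := by
      by_contra hne
      have := Nat.one_le_pow 2 c (Nat.pos_of_ne_zero hne)
      nlinarith
    rw [hc0, Nat.cast_zero, classInner_def] at hc
    rw [hSP]
    simpa [natCard_ne_zero] using hc
  -- the inequality
  set cC := Nat.card (C P) with hcC
  set cN := Nat.card (N P) with hcN
  set cG := Nat.card G with hcG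
  set cZ := Nat.card (Subgroup.center G) with hcZ
  set k := cN / cC with hk
  have hkN : cN = cC * k := (Nat.mul_div_cancel' (Subgroup.card_dvd_of_le (C_le_N P))).symm
  have hqZ : q * cZ ≤ cC := by
    rw [hqdef, hcC, hcZ, ← Nat.card_prod]
    refine Nat.card_le_card_of_injective
      (fun r : P × Subgroup.center G => (⟨(r.1 : G) * r.2, mul_mem (P_le_C P hall r.1.2)
        (Subgroup.center_le_centralizer _ r.2.2)⟩ : C P)) fun r s h => ?_
    have h0 : (r.1 : G) * r.2 = s.1 * s.2 := congrArg Subtype.val h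
    have h2 : (s.1 : G)⁻¹ * r.1 = (s.2 : G) * (r.2 : G)⁻¹ := by
      calc (s.1 : G)⁻¹ * r.1 = (s.1 : G)⁻¹ * ((r.1 : G) * r.2) * (r.2 : G)⁻¹ := by group
        _ = _ := by rw [h0]; group
    have h3 : (s.1 : G)⁻¹ * r.1 ∈ (P : Subgroup G) ⊓ Subgroup.center G :=
      Subgroup.mem_inf.2 ⟨mul_mem (inv_mem s.1.2) r.1.2, h2 ▸ mul_mem s.2.2 (inv_mem r.2.2)⟩
    rw [hZ, Subgroup.mem_bot] at h3
    rw [h3] at h2
    exact Prod.ext (Subtype.ext (inv_mul_eq_one.1 h3).symm) (Subtype.ext (mul_inv_eq_one.1 h2.symm).symm)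
  obtain ⟨nC, hnC⟩ := inner_char_char hchar hchar
  have hcount : nC ≤ k := by
    set A : Finset (C P) := Finset.univ.filter fun c => (c : G) ∉ Subgroup.center G with hA
    let T : Finset (G × C P) := Finset.univ ×ˢ A
    let fmap : G × C P → G := fun r => r.1 * (r.2 : G) * r.1⁻¹
    have h0 : (cG : ℝ) * ∑ g ∈ A, ‖χ₁ g‖ ^ 2 = ∑ r ∈ T, ‖χ₁ (fmap r)‖ ^ 2 := by
      rw [Finset.sum_product, Finset.sum_congr rfl fun x _ => Finset.sum_congr rfl fun (g : C P) _ => by
        rw [show χ₁ (fmap (x, g)) = χ₁ (g : G) from classFun_of_irr hχ (g : G) x],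
        Finset.sum_const, Finset.card_univ, nsmul_eq_mul, hcG, Nat.card_eq_fintype_card]
    set B : Finset G := Finset.univ.filter fun y : G => y ∉ Subgroup.center G
    have hmaps : ∀ r ∈ T, fmap r ∈ B := by
      intro r hr
      refine Finset.mem_filter.2 ⟨Finset.mem_univ _, fun hmem => (Finset.mem_filter.1 (Finset.mem_product.1 hr).2).2 ?_⟩
      have := (inferInstance : (Subgroup.center G).Normal).conj_mem _ hmem r.1⁻¹
      simpa [fmap, mul_assoc] using this
    have hineq : (cG : ℝ) * ∑ g ∈ A, ‖χ₁ g‖ ^ 2 ≤ (cN : ℝ) * ∑ y ∈ B, ‖χ₁ y‖ ^ 2 := by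
      rw [h0, ← Finset.sum_fiberwise_of_maps_to hmaps, Finset.mul_sum]
      refine Finset.sum_le_sum fun y hy => ?_
      rw [Finset.sum_congr rfl (g := fun _ => ‖χ₁ y‖ ^ 2) fun r hr => by rw [(Finset.mem_filter.1 hr).2],
        Finset.sum_const, nsmul_eq_mul]
      refine mul_le_mul_of_nonneg_right (Nat.cast_le.2 ?_) (by positivity)
      by_cases he : (T.filter fun r => fmap r = y) = ∅
      · rw [he]; simp
      obtain ⟨r₀, hr₀⟩ := Finset.nonempty_iff_ne_empty.2 he
      rw [hcN, Nat.card_eq_fintype_card, ← Finset.card_univ]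
      have hyZ : y ∉ Subgroup.center G := (Finset.mem_filter.1 hy).2
      have hmeet : ∀ r ∈ T.filter (fun r => fmap r = y),
          Subgroup.centralizer ({y} : Set G) ⊓ (P : Subgroup G).map (MulAut.conj r.1).toMonoidHom ≠ ⊥ := by
        intro r hr hbot
        obtain ⟨-, rfl⟩ := Finset.mem_filter.1 hr
        haveI : Nontrivial (P : Subgroup G) := Finite.one_lt_card_iff_nontrivial.1 (show 1 < q by omega)
        obtain ⟨z, hz⟩ := exists_ne (1 : (P : Subgroup G))
        have hzc : (z : G) * r.2 = (r.2 : G) * z := Subgroup.mem_centralizer_iff.1 r.2.2 z z.2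
        have hmem : r.1 * (z : G) * r.1⁻¹ ∈
            Subgroup.centralizer ({fmap r} : Set G) ⊓ (P : Subgroup G).map (MulAut.conj r.1).toMonoidHom := by
          refine ⟨Subgroup.mem_centralizer_singleton_iff.2 ?_, ⟨z, z.2, rfl⟩⟩
          calc r.1 * (z : G) * r.1⁻¹ * fmap r = r.1 * ((z : G) * r.2) * r.1⁻¹ := by simp only [fmap]; group
            _ = fmap r * (r.1 * z * r.1⁻¹) := by rw [hzc]; simp only [fmap]; group
        rw [hbot, Subgroup.mem_bot, conj_eq_one_iff] at hmem
        exact hz (Subtype.ext hmem)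
      have hmemN : ∀ r ∈ T.filter (fun r => fmap r = y), r₀.1⁻¹ * r.1 ∈ N P := by
        intro r hr
        have h := hone y hyZ r.1 r₀.1 (hmeet r hr) (hmeet r₀ hr₀)
        refine Subgroup.mem_normalizer_iff.2 fun x => ?_
        constructor
        · intro hx
          have : r.1 * x * r.1⁻¹ ∈ (P : Subgroup G).map (MulAut.conj r₀.1).toMonoidHom := h ▸ ⟨x, hx, rfl⟩
          obtain ⟨x', hx', e'⟩ := this
          simp only [MulEquiv.coe_toMonoidHom, MulAut.conj_apply] at e'
          have : r₀.1⁻¹ * r.1 * x * (r₀.1⁻¹ * r.1)⁻¹ = x' := by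
            calc _ = r₀.1⁻¹ * (r.1 * x * r.1⁻¹) * r₀.1 := by group
              _ = x' := by rw [← e']; group
          rw [this]; exact hx'
        · intro hx
          have hx2 : r.1 * x * r.1⁻¹ ∈ (P : Subgroup G).map (MulAut.conj r₀.1).toMonoidHom :=
            ⟨r₀.1⁻¹ * r.1 * x * (r₀.1⁻¹ * r.1)⁻¹, hx, by simp [mul_assoc]⟩
          rw [← h] at hx2
          obtain ⟨x', hx', e'⟩ := hx2
          simp only [MulEquiv.coe_toMonoidHom, MulAut.conj_apply, mul_left_inj, mul_right_inj] at e'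
          exact e' ▸ hx'
      refine Finset.card_le_card_of_injOn (fun r => if h : r₀.1⁻¹ * r.1 ∈ N P then ⟨_, h⟩ else 1)
        (fun _ _ => Finset.mem_univ _) ?_
      intro r hr s hs hrs
      simp only [Finset.mem_coe] at hr hs
      simp only [dif_pos (hmemN r hr), dif_pos (hmemN s hs)] at hrs
      have h1 : r.1 = s.1 := mul_left_cancel (congrArg Subtype.val hrs)
      have h2 : fmap r = fmap s := (Finset.mem_filter.1 hr).2.trans (Finset.mem_filter.1 hs).2.symm
      simp only [fmap, h1, mul_left_inj, mul_right_inj] at h2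
      exact Prod.ext h1 (Subtype.ext h2)
    have hZval : ∀ z ∈ Subgroup.center G, ‖χ₁ z‖ ^ 2 = (d : ℝ) ^ 2 := by
      intro z hz
      obtain ⟨ω, hω, hωx⟩ := Cfsg.Agent.S0898.central_mul hχ hz
      rw [← mul_one z, hωx, norm_mul, hω, one_mul, hd]
      simp
    have hB : ∑ y ∈ B, ‖χ₁ y‖ ^ 2 = (cG : ℝ) - cZ * (d : ℝ) ^ 2 := by
      have hG : ∑ y : G, ‖χ₁ y‖ ^ 2 = cG := by
        have h := classInner_self_re χ₁
        rw [irr_inner_self hχ, Complex.one_re] at h
        have : (Nat.card G : ℝ) ≠ 0 := by exact_mod_cast Nat.card_pos.ne'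
        field_simp at h
        rw [hcG]; linarith
      rw [eq_sub_iff_add_eq, ← hG, ← Finset.sum_filter_add_sum_filter_not Finset.univ
        (fun y : G => y ∉ Subgroup.center G) (fun y => ‖χ₁ y‖ ^ 2)]
      congr 1
      rw [Finset.sum_congr rfl fun z hz => hZval z (not_not.1 (Finset.mem_filter.1 hz).2), Finset.sum_const,
        nsmul_eq_mul]
      congr 2
      rw [hcZ, Nat.card_eq_fintype_card, Fintype.card_subtype]
      congr 1; ext z; simp
    have hA' : ∑ g ∈ A, ‖χ₁ g‖ ^ 2 = (cC : ℝ) * nC - cZ * (d : ℝ) ^ 2 := by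
      have hC : ∑ g : C P, ‖χ₁ g‖ ^ 2 = (cC : ℝ) * nC := by
        have h := classInner_self_re (res χ₁)
        rw [hnC, Complex.natCast_re] at h
        have : (Nat.card (C P) : ℝ) ≠ 0 := by exact_mod_cast Nat.card_pos.ne'
        rw [h, hcC]; field_simp; rfl
      rw [eq_sub_iff_add_eq, ← hC, ← Finset.sum_filter_add_sum_filter_not Finset.univ
        (fun g : C P => (g : G) ∉ Subgroup.center G) (fun g => ‖χ₁ g‖ ^ 2)]
      congr 1
      rw [Finset.sum_congr rfl fun (g : C P) hg => hZval (g : G) (not_not.1 (Finset.mem_filter.1 hg).2),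
        Finset.sum_const, nsmul_eq_mul]
      congr 2
      rw [hcZ, Nat.card_eq_fintype_card, ← Finset.card_univ]
      refine Finset.card_bij (fun (z : Subgroup.center G) _ => (⟨(z : G), Subgroup.center_le_centralizer _ z.2⟩ : C P)) ?_ ?_ ?_
      · exact fun z _ => Finset.mem_filter.2 ⟨Finset.mem_univ _, not_not.2 z.2⟩
      · exact fun a _ b _ h => Subtype.ext (congrArg (fun r : C P => (r : G)) h)
      · exact fun g hg => ⟨⟨g, not_not.1 (Finset.mem_filter.1 hg).2⟩, Finset.mem_univ _, rfl⟩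
    rw [hB, hA'] at hineq
    have hZpos : (0 : ℝ) < cZ := by rw [hcZ]; exact_mod_cast Nat.card_pos
    have hGpos : (0 : ℝ) < cG := by rw [hcG]; exact_mod_cast Nat.card_pos
    have hNpos : (0 : ℝ) < cN := by rw [hcN]; exact_mod_cast Nat.card_pos
    have hdR : (0 : ℝ) < (d : ℝ) ^ 2 := by positivity
    have h2 : (cC : ℝ) * nC - cZ * (d : ℝ) ^ 2 < cN := by
      by_contra hle
      push Not at hle
      nlinarith [mul_le_mul_of_nonneg_left hle hGpos.le, mul_pos hNpos (mul_pos hZpos hdR)]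
    have h3 : ((cC * nC : ℕ) : ℝ) < ((cC * k + cC : ℕ) : ℝ) := by
      have h4 : ((cZ * d ^ 2 : ℕ) : ℝ) ≤ (cC : ℝ) := Nat.cast_le.2 (le_trans (by nlinarith) hqZ)
      rw [hkN] at h2
      push_cast at h2 h4 ⊢
      linarith
    have h5 : cC * nC < cC * (k + 1) := by rw [mul_add, mul_one]; exact_mod_cast h3
    exact Nat.lt_succ_iff.1 (Nat.lt_of_mul_lt_mul_left h5)
  -- the restriction is one orbit
  have hres0 : res χ₁ ≠ 0 := fun h => by
    have := congrFun h 1
    simp [res, hd] at this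
    omega
  obtain ⟨a, ha⟩ := exists_constituent hchar hres0
  have hwa : ∀ κ : IrrCharacter (C P), classInner (res χ₁) (κ : C P → ℂ) ≠ 0 → w κ ≠ 1 := fun κ h e => h (hnow κ e)
  have hcjn : ∀ (φ : G → ℂ) (s : N P) (κ : IrrCharacter (C P)), IsClassFunction G φ →
      classInner (res φ) (cjI P s κ : C P → ℂ) = classInner (res φ) (κ : C P → ℂ) := fun φ s κ hφ => inner_cj P hφ s _
  have horbit : res χ₁ = orb P (a : C P → ℂ) := by
    obtain ⟨m, hm⟩ := inner_char_irr hchar a.2
    have hm1 : 1 ≤ m := Nat.one_le_iff_ne_zero.2 fun h => ha (by rw [hm, h, Nat.cast_zero])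
    have hc0 := natCard_ne_zero (C P)
    have e1 : classInner (res χ₁) (orb P (a : C P → ℂ)) = ((k * m : ℕ) : ℂ) := by
      rw [orb, classInner_smul_right, classInner_sum_right]
      rw [Finset.sum_congr rfl (g := fun _ => (m : ℂ)) fun s _ => (show classInner (res χ₁) (cj P s (a : C P → ℂ)) = (m : ℂ) from (hcjn χ₁ s a (classFun_of_irr hχ)).trans hm),
        Finset.sum_const, Finset.card_univ, ← Nat.card_eq_fintype_card, nsmul_eq_mul, ← hcN, hkN, map_inv₀,
        Complex.conj_natCast, hcC]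
      push_cast
      field_simp
    have e2 : classInner (orb P (a : C P → ℂ)) (orb P (a : C P → ℂ)) = (k : ℂ) := by
      conv_lhs => arg 2; rw [orb]
      rw [classInner_smul_right, classInner_sum_right]
      rw [Finset.sum_congr rfl (g := fun _ => (1 : ℂ)) fun s _ => by
          rw [inner_orb P hall a.2 (cj_irr P s a.2) (hw a) (hwa a ha), if_pos ⟨s, rfl⟩],
        Finset.sum_const, Finset.card_univ, ← Nat.card_eq_fintype_card, nsmul_eq_mul, ← hcN, hkN, map_inv₀,
        Complex.conj_natCast, hcC]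
      push_cast
      field_simp
    have e3 : classInner (orb P (a : C P → ℂ)) (res χ₁) = ((k * m : ℕ) : ℂ) := by
      rw [← classInner_conj, e1, Complex.conj_natCast]
    have e4 : classInner (res χ₁ - orb P (a : C P → ℂ)) (res χ₁ - orb P (a : C P → ℂ)) =
        (((nC : ℤ) - 2 * (k * m) + k : ℤ) : ℂ) := by
      rw [classInner_sub_left, classInner_sub_right, classInner_sub_right, hnC, e1, e2, e3]
      push_cast; ring
    have e5 := classInner_self_re (res χ₁ - orb P (a : C P → ℂ))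
    rw [e4, Complex.intCast_re] at e5
    have e6 : (0 : ℤ) ≤ (nC : ℤ) - 2 * (k * m) + k := by
      have : (0 : ℝ) ≤ (((nC : ℤ) - 2 * (k * m) + k : ℤ) : ℝ) := by rw [e5]; positivity
      exact_mod_cast this
    have e7 : (nC : ℤ) - 2 * (k * m) + k ≤ 0 := by
      have : (k : ℤ) * 1 ≤ (k : ℤ) * m := mul_le_mul_of_nonneg_left (by exact_mod_cast hm1) (by positivity)
      have : (nC : ℤ) ≤ k := by exact_mod_cast hcount
      linarith
    rw [le_antisymm e7 e6, Int.cast_zero] at e4
    exact sub_eq_zero.1 (classInner_self_eq_zero e4)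
  -- a constituent of the square with a fixed point on the Sylow subgroup
  set φ : G → ℂ := χ₁ * fun g => conj (χ₁ g) with hφdef
  have hφc : IsCharacter G φ := isCharacter_mul (isCharacter_of_isIrr hχ) (isCharacter_conj (isCharacter_of_isIrr hχ))
  have hφ1 : φ 1 = ((d * d : ℕ) : ℂ) := by simp [φ, hd]
  obtain ⟨ψ, hψne, hψ, hψP⟩ : ∃ R : IrrCharacter G, (R : G → ℂ) ≠ (fun _ => 1) ∧ classInner φ (R : G → ℂ) ≠ 0 ∧
      S (res (R : G → ℂ)) ≠ 0 := by
    by_contra hno
    push Not at hno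
    let one : IrrCharacter G := ⟨fun _ => 1, isIrr_one⟩
    have hm1 : classInner φ (one : G → ℂ) = 1 := by
      rw [← irr_inner_self hχ]; simp [classInner_def, φ, one]
    have hS : S (res φ) = (q : ℂ) := by
      have e : ∀ z : Pc P, res φ (z : C P) = ∑ R : IrrCharacter G, classInner φ (R : G → ℂ) * res (R : G → ℂ) (z : C P) :=
        fun z => by simpa [res] using congrFun (classFun_eq_sum (classFun_of_char hφc)) ((z : C P) : G)
      show ∑ z : Pc P, _ = _
      rw [Finset.sum_congr rfl fun z _ => e z, Finset.sum_comm, Finset.sum_eq_single one]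
      · rw [hm1]
        simp [res, one, ← Nat.card_eq_fintype_card, card_Pc P hall, q]
      · intro R _ hR
        rw [← Finset.mul_sum]
        rcases eq_or_ne (classInner φ (R : G → ℂ)) 0 with h | h
        · rw [h, zero_mul]
        · rw [show ∑ z : Pc P, res (R : G → ℂ) (z : C P) = 0 from hno R (fun e => hR (Subtype.ext e)) h, mul_zero]
      · simp
    have hn1 : classInner (fun z : (P : Subgroup G) => χ₁ z) (fun z : (P : Subgroup G) => χ₁ z) = 1 := by
      rw [hSP] at hS
      rw [classInner_def, show ∑ z : (P : Subgroup G), χ₁ z * conj (χ₁ z) = (q : ℂ) from hS]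
      exact inv_mul_cancel₀ (natCard_ne_zero _)
    have := irr_degree_one_of_comm (fun x y : (P : Subgroup G) => Subtype.ext (hab _ x.2 _ y.2))
      (isIrr_of_char_norm (isCharacter_restrict _ (isCharacter_of_isIrr hχ)) hn1)
    simp [hd] at this
    omega
  have hψc : IsCharacter (C P) (res (ψ : G → ℂ)) := isCharacter_restrict (C P) (isCharacter_of_isIrr ψ.2)
  obtain ⟨θ, hθ, hθw⟩ : ∃ κ : IrrCharacter (C P), classInner (res (ψ : G → ℂ)) (κ : C P → ℂ) ≠ 0 ∧ w κ ≠ 1 := by
    by_contra hno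
    push Not at hno
    obtain ⟨z, hz, hzne⟩ := hker ψ hψne
    have e := classFun_eq_sum (classFun_of_char hψc)
    refine hzne ?_
    have e1 := congrFun e ((eP.symm ⟨z, hz⟩ : Pc P) : C P)
    have e2 := congrFun e 1
    simp only [res, Finset.sum_apply, Pi.smul_apply, smul_eq_mul] at e1 e2
    rw [show ((((eP.symm ⟨z, hz⟩ : Pc P)) : C P) : G) = z from rfl] at e1
    rw [show ((1 : C P) : G) = 1 from rfl] at e2
    rw [e1, e2]
    refine Finset.sum_congr rfl fun κ _ => ?_
    rcases eq_or_ne (classInner (res (ψ : G → ℂ)) (κ : C P → ℂ)) 0 with h | h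
    · simp only [res] at h
      rw [h, zero_mul, zero_mul]
    · rw [hval, hno κ h]; simp
  obtain ⟨δψ, -, hδψ⟩ := irr_deg ψ.2
  have hδψd : δψ ≤ d * d := deg_le hφc ψ.2 hψ hφ1 hδψ
  have hφres : res φ = fun c => orb P (a : C P → ℂ) c * conj (orb P (a : C P → ℂ) c) := by
    funext c; rw [← horbit]; rfl
  obtain ⟨x, y, hxy⟩ : ∃ x y : N P,
      classInner (fun c => cj P x (a : C P → ℂ) c * conj (cj P y (a : C P → ℂ) c)) (θ : C P → ℂ) ≠ 0 := by
    refine (orb_mul_term P a.2 a.2 θ).1 ?_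
    rw [← hφres]
    exact inner_mono hφc ψ.2 hψ (isCharacter_of_isIrr θ.2) hθ
  -- the shift
  set a1 := cjI P x a
  have ha1 : classInner (res χ₁) (a1 : C P → ℂ) ≠ 0 := by rw [hcjn χ₁ x a (classFun_of_irr hχ)]; exact ha
  set U := Finset.univ.filter fun κ : IrrCharacter (C P) => classInner (res χ₁) (κ : C P → ℂ) ≠ 0 with hU
  have hUd : U.card ≤ d := card_le_degree hchar U (fun κ hκ => (Finset.mem_filter.1 hκ).2) (by simp [res, hd])
  obtain ⟨ν, hν⟩ : ∃ ν : Pc P →* ℂˣ, ν ∉ insert 1 (U.image w) := by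
    by_contra hno
    push Not at hno
    have h1 := Finset.card_le_card (fun ν (_ : ν ∈ Finset.univ) => hno ν)
    rw [Finset.card_univ, ← Nat.card_eq_fintype_card, hcardHom] at h1
    have h2 := (Finset.card_insert_le (1 : Pc P →* ℂˣ) (U.image w))
    have h3 := Finset.card_image_le (s := U) (f := w)
    nlinarith
  simp only [Finset.mem_insert, Finset.mem_image, not_or, not_exists, not_and] at hν
  set μ := ν * (w a1)⁻¹ with hμ
  set a' := tw P a1 (τ μ) with ha'
  have hwa' : w a' = ν := by rw [ha', hwtw, hμ]; exact hom_shift _ _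
  have hno' : ∀ s, cj P s (a1 : C P → ℂ) ≠ (a' : C P → ℂ) := by
    intro s hs
    refine hν.2 a' (Finset.mem_filter.2 ⟨Finset.mem_univ _, ?_⟩) hwa'
    rw [show (a' : C P → ℂ) = (cjI P s a1 : C P → ℂ) from hs.symm, hcjn χ₁ s a1 (classFun_of_irr hχ)]
    exact ha1
  obtain ⟨A, B, -, hAB, hABres⟩ := exists_diff P hall a1.2 a'.2 (hw a1) (hw a') (hwa a1 ha1)
    (hwa' ▸ hν.1) (fun c hc => by show _ = _ * (τ μ c : ℂ); rw [hτ' μ c hc, Units.val_one, mul_one]) hno'
  have hinner : classInner χ₁ ((A : G → ℂ) - (B : G → ℂ)) = 1 := by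
    rw [← hAB, frobenius' _ _ (classFun_of_irr hχ), classInner_sub_right]
    have e1 : classInner (res χ₁) (a1 : C P → ℂ) = 1 := by
      rw [hcjn χ₁ x a (classFun_of_irr hχ), horbit, inner_orb P hall a.2 a.2 (hw a) (hwa a ha),
        if_pos ⟨1, cj_of_mem P (classFun_of_irr a.2) (one_mem _)⟩]
    have e2 : classInner (res χ₁) (a' : C P → ℂ) = 0 := by
      by_contra h
      exact hν.2 a' (Finset.mem_filter.2 ⟨Finset.mem_univ _, h⟩) hwa'
    show classInner (res χ₁) _ - classInner (res χ₁) _ = 1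
    rw [e1, e2, sub_zero]
  have hA : (A : G → ℂ) = χ₁ := by
    by_contra hne
    rw [classInner_sub_right, irr_inner_ne hχ A.2 (Ne.symm hne), irr_inner hχ B.2] at hinner
    split_ifs at hinner <;> norm_num at hinner
  have horb1 : orb P (a1 : C P → ℂ) = orb P (a : C P → ℂ) := orb_cj P x _
  have hBres : res (B : G → ℂ) = orb P (a' : C P → ℂ) := by
    funext c
    have h := hABres c
    rw [hA, horb1, ← horbit] at h
    simpa [res] using h
  have hB1 : (B : G → ℂ) 1 = d := by
    have h1 : res (B : G → ℂ) 1 = res χ₁ 1 := by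
      rw [hBres, horbit]
      simp only [orb, Pi.smul_apply, Finset.sum_apply, cj_apply_one, smul_eq_mul]
      congr 1
      refine Finset.sum_congr rfl fun s _ => ?_
      show cj P x (a : C P → ℂ) 1 * (τ μ 1 : ℂ) = _
      rw [cj_apply_one, map_one, Units.val_one, mul_one]
    exact h1.trans hd
  set φ' : G → ℂ := (B : G → ℂ) * fun g => conj (χ₁ g) with hφ'
  have hφ'c : IsCharacter G φ' := isCharacter_mul (isCharacter_of_isIrr B.2) (isCharacter_conj (isCharacter_of_isIrr hχ))
  have hφ'res : res φ' = fun c => orb P (a' : C P → ℂ) c * conj (orb P (a : C P → ℂ) c) := by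
    funext c; rw [← horbit, ← hBres]; rfl
  have hnow' : ∀ κ : IrrCharacter (C P), classInner (res φ') (κ : C P → ℂ) ≠ 0 → w κ ≠ 1 := by
    intro κ hκ hκ1
    rw [hφ'res] at hκ
    obtain ⟨s, t, hst⟩ := (orb_mul_term P a'.2 a.2 κ).1 hκ
    have h := wt_eq_of_inner (s := w (cjI P s a') * (w (cjI P t a))⁻¹) (fun z g => by
      have e1 := hw (cjI P s a') z g
      have e2 := hw (cjI P t a) z g
      simp only [cjI] at e1 e2 ⊢
      rw [e1, e2, MonoidHom.mul_apply, MonoidHom.inv_apply, Units.val_mul, Units.val_inv_eq_inv_val, map_mul,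
        conj_root (orderOf_pos z).ne' (linear_root _ z)]
      ring) (hw κ) hst
    rw [hκ1] at h
    replace h := hom_eq_of h
    have hs : w a' = w (cjI P (s⁻¹ * t) a) := by
      refine hwtcj _ _ s (h.trans (congrArg w (Subtype.ext ?_)))
      show cj P t (a : C P → ℂ) = cj P s (cj P (s⁻¹ * t) (a : C P → ℂ))
      rw [← cj_mul, mul_inv_cancel_left]
    refine hν.2 (cjI P (s⁻¹ * t) a) (Finset.mem_filter.2 ⟨Finset.mem_univ _, ?_⟩) (hs.symm.trans hwa')
    rw [hcjn χ₁ _ a (classFun_of_irr hχ)]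
    exact ha
  set θ3 := tw P θ (τ μ) with hθ3
  have hθ3in : classInner (res φ') (θ3 : C P → ℂ) ≠ 0 := by
    rw [hφ'res]
    refine (orb_mul_term P a'.2 a.2 θ3).2 ⟨1, y, ?_⟩
    rw [cj_of_mem P (classFun_of_irr a'.2) (one_mem (C P))]
    have e : (fun c => (a' : C P → ℂ) c * conj (cj P y (a : C P → ℂ) c)) =
        fun c => cj P x (a : C P → ℂ) c * conj (cj P y (a : C P → ℂ) c) * (τ μ c : ℂ) := by
      funext c
      show cj P x (a : C P → ℂ) c * (τ μ c : ℂ) * _ = _
      ring
    rw [e]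
    show classInner _ (fun c => (θ : C P → ℂ) c * (τ μ c : ℂ)) ≠ 0
    rw [inner_tw]
    exact hxy
  obtain ⟨R, hR, hRθ⟩ := exists_over (H := C P) (classFun_of_char hφ'c) hθ3in
  have hRP : S (res (R : G → ℂ)) = 0 :=
    hS0' _ (classFun_of_char (isCharacter_restrict (C P) (isCharacter_of_isIrr R.2))) fun κ hκ => by
      by_contra hne
      exact hnow' κ (inner_mono hφ'c R.2 hR (isCharacter_of_isIrr κ.2) hne) hκ
  obtain ⟨δR, -, hδR⟩ := irr_deg R.2
  have hδRd : δR ≤ d * d := deg_le hφ'c R.2 hR (by simp [φ', hB1, hd]) hδR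
  -- the family
  let fam : (Pc P →* ℂˣ) → IrrCharacter (C P) := fun o => tw P θ (τ (o * (w θ)⁻¹))
  have hwfam : ∀ o, w (fam o) = o := fun o => by
    simp only [fam]; rw [hwtw]; exact hom_shift _ _
  have hfamθ : (fam (w θ) : C P → ℂ) = (θ : C P → ℂ) := by
    funext c
    show (θ : C P → ℂ) c * (τ (w θ * (w θ)⁻¹) c : ℂ) = _
    rw [hom_self]; simp [τ]
  have hfamθ3 : fam (w θ * μ) = θ3 := by
    simp only [fam, θ3]; congr 2; ext z; simp
  have hθ3w : w θ * μ ≠ 1 := by
    rw [← hwfam (w θ * μ), hfamθ3]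
    exact hnow' θ3 hθ3in
  have hkey : ∀ o o', o ≠ 1 → o' ≠ 1 →
      classInner (res (ψ : G → ℂ)) (fam o : C P → ℂ) ≠ classInner (res (ψ : G → ℂ)) (fam o' : C P → ℂ) →
      classInner (res (R : G → ℂ)) (fam o : C P → ℂ) = classInner (res (R : G → ℂ)) (fam o' : C P → ℂ) := by
    intro o o' ho ho' hne
    have hno : ∀ s, cj P s (fam o : C P → ℂ) ≠ (fam o' : C P → ℂ) := by
      intro s hs
      refine hne ?_
      rw [show (fam o' : C P → ℂ) = (cjI P s (fam o) : C P → ℂ) from hs.symm, hcjn _ s _ (classFun_of_irr ψ.2)]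
    obtain ⟨A', B', -, hAB', hres'⟩ := exists_diff P hall (fam o).2 (fam o').2 (hw (fam o)) (hw (fam o'))
      (by rw [hwfam]; exact ho) (by rw [hwfam]; exact ho')
      (fun c hc => by show _ * (τ _ c : ℂ) = _ * (τ _ c : ℂ); rw [hτ' _ c hc, hτ' _ c hc]) hno
    have hfr : ∀ T : IrrCharacter G, classInner (T : G → ℂ) (A' : G → ℂ) - classInner (T : G → ℂ) (B' : G → ℂ) =
        classInner (res (T : G → ℂ)) (fam o : C P → ℂ) - classInner (res (T : G → ℂ)) (fam o' : C P → ℂ) := by
      intro T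
      rw [← classInner_sub_right, ← hAB', frobenius' _ _ (classFun_of_irr T.2), classInner_sub_right]
    have hψAB : ψ = A' ∨ ψ = B' := by
      by_contra hh
      push Not at hh
      refine hne (sub_eq_zero.1 ?_)
      rw [← hfr ψ, irr_inner_ne ψ.2 A'.2 (fun e => hh.1 (Subtype.ext e)),
        irr_inner_ne ψ.2 B'.2 (fun e => hh.2 (Subtype.ext e)), sub_zero]
    have hSorb : ∀ u : IrrCharacter (C P), w u ≠ 1 → S (orb P (u : C P → ℂ)) = 0 := by
      intro u hu
      refine hS0' _ ?_ fun κ hκ => ?_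
      · intro c e
        simp only [orb, Pi.smul_apply, Finset.sum_apply, classFun_of_irr (cj_irr P _ u.2) c e]
      · rw [inner_orb P hall u.2 κ.2 (hw u) hu, if_neg]
        rintro ⟨s, hs⟩
        refine hu (hwt1 u s ?_)
        rw [show cjI P s u = κ from Subtype.ext hs, hκ]
    have hSAB : S (res (A' : G → ℂ)) = S (res (B' : G → ℂ)) := by
      rw [← sub_eq_zero]
      calc S (res (A' : G → ℂ)) - S (res (B' : G → ℂ))
          = S (orb P (fam o : C P → ℂ)) - S (orb P (fam o' : C P → ℂ)) := by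
            simp only [S, ← Finset.sum_sub_distrib]
            exact Finset.sum_congr rfl fun z _ => hres' _
        _ = 0 := by rw [hSorb _ (by rw [hwfam]; exact ho), hSorb _ (by rw [hwfam]; exact ho'), sub_zero]
    have hSA : S (res (A' : G → ℂ)) ≠ 0 := by
      rcases hψAB with h | h <;> rw [h] at hψP
      · exact hψP
      · rwa [hSAB]
    refine sub_eq_zero.1 ?_
    rw [← hfr R, irr_inner_ne R.2 A'.2 (fun e => hSA (by rw [← e]; exact hRP)),
      irr_inner_ne R.2 B'.2 (fun e => hSA (by rw [hSAB, ← e]; exact hRP)), sub_zero]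
  set I := (Finset.univ : Finset (Pc P →* ℂˣ)).erase 1 with hI
  have hIcard : I.card = q - 1 := by
    rw [hI, Finset.card_erase_of_mem (Finset.mem_univ _), Finset.card_univ, ← Nat.card_eq_fintype_card, hcardHom]
  have hfinj : Function.Injective fam := fun o o' h => by rw [← hwfam o, h, hwfam]
  obtain ⟨o₀, ho₀, hψ0⟩ : ∃ o ∈ I, classInner (res (ψ : G → ℂ)) (fam o : C P → ℂ) = 0 := by
    by_contra hno
    push Not at hno
    have h := card_le_degree hψc (I.image fam) (by
      intro κ hκ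
      obtain ⟨o, ho, rfl⟩ := Finset.mem_image.1 hκ
      exact hno o ho) (d := δψ) (by simp [res, hδψ])
    rw [Finset.card_image_of_injective _ hfinj, hIcard] at h
    nlinarith [Nat.sub_add_cancel (show 1 ≤ q by omega)]
  have ho₀1 : o₀ ≠ 1 := (Finset.mem_erase.1 ho₀).1
  have hθψ : classInner (res (ψ : G → ℂ)) (fam (w θ) : C P → ℂ) ≠ 0 := by rw [hfamθ]; exact hθ
  have hmid := hkey (w θ) o₀ hθw ho₀1 (by rw [hψ0]; exact hθψ)
  have hconstR : ∀ o, o ≠ 1 → classInner (res (R : G → ℂ)) (fam o : C P → ℂ) =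
      classInner (res (R : G → ℂ)) (fam o₀ : C P → ℂ) := by
    intro o ho
    by_cases hz : classInner (res (ψ : G → ℂ)) (fam o : C P → ℂ) = 0
    · rw [hkey o (w θ) ho hθw (by rw [hz]; exact Ne.symm hθψ), hmid]
    · exact hkey o o₀ ho ho₀1 (by rw [hψ0]; exact hz)
  have hall' : ∀ o ∈ I, classInner (res (R : G → ℂ)) (fam o : C P → ℂ) ≠ 0 := by
    intro o ho
    rw [hconstR o (Finset.mem_erase.1 ho).1, ← hconstR _ hθ3w, hfamθ3]
    exact hRθ
  have h := card_le_degree (isCharacter_restrict (C P) (isCharacter_of_isIrr R.2)) (I.image fam) (by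
    intro κ hκ
    obtain ⟨o, ho, rfl⟩ := Finset.mem_image.1 hκ
    exact hall' o ho) (d := δR) (by simp [hδR])
  rw [Finset.card_image_of_injective _ hfinj, hIcard] at h
  nlinarith [Nat.sub_add_cancel (show 1 ≤ q by omega)]

end main

end CfsgLib.CCSylow
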