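import Cfsg.Agent.Char.CCSylowCore
import Mathlib

/-! A small faithful character forces a Sylow subgroup with uniform centralizers to be normal. -/

set_option autoImplicit false
set_option linter.unusedSectionVars false
set_option linter.style.haveILetI false

namespace CfsgLib.CCSylow

open Cfsg CfsgLib.Char
open scoped ComplexConjugate CfsgLib.Char

universe u

theorem hall_of_star {G : Type u} [Group G] [Finite G] {p : ℕ} [Fact p.Prime] (P : Sylow p G)
    (h : ∀ x ∈ (P : Subgroup G), x ≠ 1 →
      Subgroup.centralizer ({x} : Set G) = Subgroup.centralizer ((P : Subgroup G) : Set G)) :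
    ∀ Q : Sylow p G, ∀ x ∈ (Q : Subgroup G), x ≠ 1 →
      Subgroup.centralizer ({x} : Set G) = Subgroup.centralizer ((Q : Subgroup G) : Set G) := by
  intro Q x hx hx1
  obtain ⟨g, rfl⟩ := MulAction.exists_smul_eq G P Q
  have hmem : ∀ y, y ∈ ((g • P : Sylow p G) : Subgroup G) ↔ g⁻¹ * y * g ∈ (P : Subgroup G) := by
    intro y
    rw [Sylow.coe_subgroup_smul, Subgroup.mem_pointwise_smul_iff_inv_smul_mem]
    simp [MulAut.smul_def, mul_assoc]
  refine le_antisymm (fun y hy => Subgroup.mem_centralizer_iff.2 fun z hz => ?_) fun y hy => ?_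
  · have h0 : g⁻¹ * y * g ∈ Subgroup.centralizer ({g⁻¹ * x * g} : Set G) := by
      rw [Subgroup.mem_centralizer_singleton_iff] at hy ⊢
      calc g⁻¹ * y * g * (g⁻¹ * x * g) = g⁻¹ * (y * x) * g := by group
        _ = g⁻¹ * (x * y) * g := by rw [hy]
        _ = g⁻¹ * x * g * (g⁻¹ * y * g) := by group
    rw [h _ ((hmem x).1 hx) (fun e => hx1 (by
      calc x = g * (g⁻¹ * x * g) * g⁻¹ := by group
        _ = 1 := by rw [e]; group))] at h0
    have h2 := Subgroup.mem_centralizer_iff.1 h0 _ ((hmem z).1 hz)
    calc z * y = g * (g⁻¹ * z * g * (g⁻¹ * y * g)) * g⁻¹ := by group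
      _ = g * (g⁻¹ * y * g * (g⁻¹ * z * g)) * g⁻¹ := by rw [h2]
      _ = y * z := by group
  · exact Subgroup.mem_centralizer_singleton_iff.2 (Subgroup.mem_centralizer_iff.1 hy x hx).symm

theorem main (p : ℕ) [Fact p.Prime] : ∀ (n : ℕ) (G : Type u) [Group G] [Finite G] (P : Sylow p G),
    Nat.card G ≤ n →
    (∀ Q : Sylow p G, ∀ x ∈ (Q : Subgroup G), x ≠ 1 →
      Subgroup.centralizer ({x} : Set G) = Subgroup.centralizer ((Q : Subgroup G) : Set G)) →
    ∀ χ : G → ℂ, IsCharacter G χ → (∀ g, χ g = χ 1 → g = 1) → ∀ x : ℕ, χ 1 = x →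
    x ^ 2 + 2 ≤ Nat.card P → (P : Subgroup G).Normal := by
  intro n
  induction n with
  | zero =>
    intro G _ _ P h
    exact absurd h (Nat.not_le.2 Nat.card_pos)
  | succ n ih =>
    intro G _ _ P hG hall χ hχ hfaith x hx hxq
    classical
    haveI := Fintype.ofFinite G
    by_contra hP
    have hM : ∀ (M : Subgroup G), M ≠ ⊤ → ∀ Q : Sylow p G, (Q : Subgroup G) ≤ M →
        M ≤ Subgroup.normalizer ((Q : Subgroup G) : Set G) := by
      intro M hMne Q hQM
      have hlt : Nat.card M < Nat.card G := by
        refine lt_of_le_of_ne (Subgroup.card_le_card_group M) fun e => hMne ?_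
        exact Subgroup.eq_top_of_card_eq M e
      have hfac : p ^ (Nat.card M).factorization p = p ^ (Nat.card G).factorization p := by
        rw [← (Q.subtype hQM).card_eq_multiplicity, ← Q.card_eq_multiplicity]
        exact Nat.card_congr (Subgroup.subgroupOfEquivOfLe hQM).toEquiv
      have hhall : ∀ R : Sylow p M, ∀ y ∈ (R : Subgroup M), y ≠ 1 →
          Subgroup.centralizer ({y} : Set M) = Subgroup.centralizer ((R : Subgroup M) : Set M) := by
        intro R y hy hy1
        let R' : Sylow p G := Sylow.ofCard ((R : Subgroup M).map M.subtype) (by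
          rw [Subgroup.card_map_of_injective M.subtype_injective, R.card_eq_multiplicity, hfac])
        have h := hall R' (y : G) ⟨y, hy, rfl⟩ (fun e => hy1 (Subtype.ext e))
        refine le_antisymm (fun c hc => Subgroup.mem_centralizer_iff.2 fun z hz => ?_) fun c hc => ?_
        · have h1 : (c : G) ∈ Subgroup.centralizer ({(y : G)} : Set G) :=
            Subgroup.mem_centralizer_singleton_iff.2
              (congrArg Subtype.val (Subgroup.mem_centralizer_singleton_iff.1 hc))
          rw [h] at h1
          exact Subtype.ext (Subgroup.mem_centralizer_iff.1 h1 (z : G) ⟨z, hz, rfl⟩)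
        · exact Subgroup.mem_centralizer_singleton_iff.2 (Subgroup.mem_centralizer_iff.1 hc y hy).symm
      haveI : ((Q.subtype hQM : Sylow p M) : Subgroup M).Normal := by
        refine ih M (Q.subtype hQM) (by omega) hhall (fun g : M => χ g) (isCharacter_restrict M hχ)
          (fun g hg => Subtype.ext (hfaith _ hg)) x (by simpa using hx) ?_
        rw [(Q.subtype hQM).card_eq_multiplicity, hfac, ← P.card_eq_multiplicity]
        exact hxq
      have hn : ((Q : Subgroup G).subgroupOf M).Normal := by rw [← Sylow.coe_subtype Q hQM]; infer_instance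
      exact (Subgroup.normal_subgroupOf_iff_le_normalizer hQM).1 hn
    have hnormal : ∀ M : Subgroup G, M.Normal → (P : Subgroup G) ≤ M → M = ⊤ := by
      intro M hMn hPM
      by_contra hne
      refine hP ⟨fun b hb g => ?_⟩
      refine pmem P hall (hM M hne P hPM (hMn.conj_mem b (hPM hb) g)) ?_
      obtain ⟨k, hk⟩ := order_of_mem P hall hb
      exact ⟨k, by rw [← hk]; exact MulEquiv.orderOf_eq (MulAut.conj g) b⟩
    have hq2 : 2 ≤ Nat.card P := by omega
    have hZ : (P : Subgroup G) ⊓ Subgroup.center G = ⊥ := by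
      refine (Subgroup.eq_bot_iff_forall _).2 fun z hz => ?_
      by_contra hz1
      have hcen : Subgroup.centralizer ((P : Subgroup G) : Set G) = ⊤ := by
        rw [← hall P z hz.1 hz1, eq_top_iff]
        intro g _
        exact Subgroup.mem_centralizer_singleton_iff.2 (Subgroup.mem_center_iff.1 hz.2 g)
      refine hP ⟨fun b hb g => ?_⟩
      have := Subgroup.mem_centralizer_iff.1 (show g ∈ Subgroup.centralizer ((P : Subgroup G) : Set G) by
        rw [hcen]; trivial) b hb
      rw [← this, mul_inv_cancel_right]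
      exact hb
    have hPne : (P : Subgroup G) ≠ ⊥ := fun h => by
      have : Nat.card (P : Subgroup G) = 1 := Subgroup.card_eq_one.2 h
      omega
    have hone : ∀ g : G, g ∉ Subgroup.center G → ∀ a b : G,
        Subgroup.centralizer ({g} : Set G) ⊓ (P : Subgroup G).map (MulAut.conj a).toMonoidHom ≠ ⊥ →
        Subgroup.centralizer ({g} : Set G) ⊓ (P : Subgroup G).map (MulAut.conj b).toMonoidHom ≠ ⊥ →
        (P : Subgroup G).map (MulAut.conj a).toMonoidHom = (P : Subgroup G).map (MulAut.conj b).toMonoidHom := by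
      intro g hg a b ha hb
      have hcard : ∀ c : G, Nat.card ((P : Subgroup G).map (MulAut.conj c).toMonoidHom) = Nat.card P := fun c =>
        Subgroup.card_map_of_injective (MulAut.conj c).injective
      let S : G → Sylow p G := fun c => Sylow.ofCard ((P : Subgroup G).map (MulAut.conj c).toMonoidHom)
        (by rw [hcard, P.card_eq_multiplicity])
      have hle : ∀ c, Subgroup.centralizer ({g} : Set G) ⊓ (P : Subgroup G).map (MulAut.conj c).toMonoidHom ≠ ⊥ →
          ((S c : Sylow p G) : Subgroup G) ≤ Subgroup.centralizer ({g} : Set G) := by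
        intro c hc
        obtain ⟨y, hy, hy1⟩ := (Subgroup.bot_or_exists_ne_one _).resolve_left hc
        have h0 : g ∈ Subgroup.centralizer ({y} : Set G) :=
          Subgroup.mem_centralizer_singleton_iff.2 (Subgroup.mem_centralizer_singleton_iff.1 hy.1).symm
        rw [hall (S c) y hy.2 hy1] at h0
        intro z hz
        exact Subgroup.mem_centralizer_singleton_iff.2 (Subgroup.mem_centralizer_iff.1 h0 z hz)
      have hne : Subgroup.centralizer ({g} : Set G) ≠ ⊤ := by
        intro h
        refine hg (Subgroup.mem_center_iff.2 fun z => ?_)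
        exact Subgroup.mem_centralizer_singleton_iff.1 (h ▸ Subgroup.mem_top z)
      have hsub : ((S b : Sylow p G) : Subgroup G) ≤ ((S a : Sylow p G) : Subgroup G) := fun z hz =>
        pmem (S a) hall (hM _ hne (S a) (hle a ha) (hle b hb hz)) (order_of_mem (S b) hall hz)
      exact (Subgroup.eq_of_le_of_card_ge hsub (le_of_eq ((hcard a).trans (hcard b).symm))).symm
    obtain ⟨χ₁, hχ₁, d, hd, hd2⟩ : ∃ R : IrrCharacter G, classInner χ (R : G → ℂ) ≠ 0 ∧
        ∃ d : ℕ, (R : G → ℂ) 1 = d ∧ 2 ≤ d := by
      by_contra hno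
      push Not at hno
      have hlin : ∀ R : IrrCharacter G, classInner χ (R : G → ℂ) ≠ 0 → ∀ a b : G,
          (R : G → ℂ) (a * b * a⁻¹ * b⁻¹) = (R : G → ℂ) 1 := by
        intro R hR a b
        obtain ⟨δ, hδ0, hδ⟩ := irr_deg R.2
        have hδ1 : δ = 1 := by have := hno R hR δ hδ; omega
        obtain ⟨μ, hμ⟩ := exists_hom_of_degree_one (isCharacter_of_isIrr R.2) (by rw [hδ, hδ1, Nat.cast_one])
        rw [hμ]
        simp only [map_mul, map_inv, map_one]
        rw [mul_comm (μ a) (μ b)]
        simp
      have hcomm : ∀ a b : G, a * b = b * a := by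
        intro a b
        have h1 : a * b * a⁻¹ * b⁻¹ = 1 := by
          refine hfaith _ ?_
          have e := classFun_eq_sum (classFun_of_char hχ)
          rw [congrFun e (a * b * a⁻¹ * b⁻¹), congrFun e 1]
          simp only [Finset.sum_apply, Pi.smul_apply, smul_eq_mul]
          refine Finset.sum_congr rfl fun R _ => ?_
          rcases eq_or_ne (classInner χ (R : G → ℂ)) 0 with h | h
          · rw [h, zero_mul, zero_mul]
          · rw [hlin R h]
        calc a * b = a * b * a⁻¹ * b⁻¹ * (b * a) := by group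
          _ = b * a := by rw [h1, one_mul]
      refine hPne ?_
      rw [← hZ, left_eq_inf]
      exact fun z _ => Subgroup.mem_center_iff.2 fun g => hcomm g z
    have hdx : d ≤ x := deg_le hχ χ₁.2 hχ₁ hx hd
    exact core P hall hnormal hZ hone χ₁.2 hd hd2 (by nlinarith)

end CfsgLib.CCSylow
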