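import Cfsg.Agent.Char.Classes
import Cfsg.Agent.Char.Central

/-! Products of two conjugacy classes and character values. -/

set_option linter.unusedSectionVars false

namespace CfsgLib.Char

open Module Cfsg

universe u

variable {G : Type u} [Group G] [Fintype G]

/-- if `χ` is constant on the product of two classes it is multiplicative there -/
theorem irr_mul_of_const {χ : G → ℂ} (hχ : IsIrrCharacter G χ) (u v : G)
    (hc : ∀ x y : G, IsConj u x → IsConj v y → χ (x * y) = χ (u * v)) :
    χ u * χ v = χ 1 * χ (u * v) := by
  classical
  have h := centralChar_mul hχ u v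
  rw [Finset.sum_congr rfl fun x hx => Finset.sum_congr rfl fun y hy =>
    hc x y (Finset.mem_filter.mp hx).2 (Finset.mem_filter.mp hy).2] at h
  simp only [Finset.sum_const, nsmul_eq_mul, card_filter_isConj, centralChar] at h
  have hd := irr_one_ne_zero hχ
  have hu : ((Subgroup.centralizer ({u} : Set G)).index : ℂ) ≠ 0 := by
    exact_mod_cast Subgroup.index_ne_zero_of_finite
  have hv : ((Subgroup.centralizer ({v} : Set G)).index : ℂ) ≠ 0 := by
    exact_mod_cast Subgroup.index_ne_zero_of_finite
  field_simp at h
  exact h

end CfsgLib.Char
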