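import Cfsg.Agent.Char.Clifford
import Cfsg.Agent.Char.Gallagher
import Cfsg.Agent.Char.Classes
import Mathlib.GroupTheory.Sylow

/-! Faithful irreducible characters of prime codegree. -/

set_option linter.unusedSectionVars false

namespace CfsgLib.Char

open Module Cfsg

universe u

variable {G : Type u} [Group G] [Finite G]

/-- a group with a faithful irreducible character of prime codegree has a normal self-centralising
subgroup of that order -/
theorem structure_of_codegree_prime {χ : G → ℂ} (hχ : IsIrrCharacter G χ)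
    (hfaith : ∀ g : G, χ g = χ 1 → g = 1) {p : ℕ} (hp : p.Prime)
    (hcard : Nat.card G = p * charDegree χ) :
    ∃ P : Subgroup G, P.Normal ∧ Nat.card P = p ∧ P.index = charDegree χ ∧ charDegree χ < p ∧
      ∀ g : G, (∀ x ∈ P, g * x = x * g) → g ∈ P := by
  classical
  haveI := Fintype.ofFinite G
  haveI : Fact p.Prime := ⟨hp⟩
  set d := charDegree χ with hd
  have hd0 : 0 < d := charDegree_pos hχ
  have hdp : d < p := by
    have hne : (⟨χ, hχ⟩ : IrrCharacter G) ≠ ⟨_, isIrr_one⟩ := fun h => by
      haveI : Subsingleton G := ⟨fun a b => by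
        rw [hfaith a (by rw [show χ = fun _ => (1 : ℂ) from congrArg Subtype.val h]),
          hfaith b (by rw [show χ = fun _ => (1 : ℂ) from congrArg Subtype.val h])]⟩
      rw [Nat.card_of_subsingleton (1 : G)] at hcard
      exact hp.ne_one (Nat.eq_one_of_mul_eq_one_right hcard.symm)
    have h1 : ∀ ψ : IrrCharacter G,
        (ψ : G → ℂ) 1 ^ 2 = ((charDegree (ψ : G → ℂ) ^ 2 : ℕ) : ℂ) := fun ψ => by
      rw [irr_one_eq ψ.2]; push_cast; ring
    have h := sum_degree_sq (G := G)
    rw [Finset.sum_congr rfl fun ψ _ => h1 ψ, ← Nat.cast_sum, Nat.cast_inj] at h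
    have hle := Finset.sum_le_sum_of_subset
      (f := fun ψ : IrrCharacter G => charDegree (ψ : G → ℂ) ^ 2)
      (Finset.subset_univ {(⟨χ, hχ⟩ : IrrCharacter G), ⟨_, isIrr_one⟩})
    rw [h, Finset.sum_pair hne] at hle
    have hone : charDegree (fun _ : G => (1 : ℂ)) = 1 := charDegree_eq (n := 1) (by simp)
    simp only [hone, ← hd] at hle
    rw [hcard] at hle
    by_contra hlt
    have hpd : p * d ≤ d * d := Nat.mul_le_mul_right d (not_lt.mp hlt)
    rw [pow_two] at hle
    omega
  obtain ⟨P⟩ := (inferInstance : Nonempty (Sylow p G))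
  have hPcard : Nat.card (P : Subgroup G) = p := by
    rw [P.card_eq_multiplicity, hcard, Nat.factorization_mul hp.ne_zero hd0.ne', Finsupp.add_apply,
      hp.factorization_self, Nat.factorization_eq_zero_of_lt hdp, pow_one]
  have hidx : (P : Subgroup G).index = d := by
    have h := (P : Subgroup G).card_mul_index
    rw [hPcard, hcard] at h
    exact Nat.eq_of_mul_eq_mul_left hp.pos h
  haveI hPn : (P : Subgroup G).Normal := by
    rw [← Subgroup.normalizer_eq_top_iff, ← Subgroup.index_eq_one]
    refine P.card_eq_index_normalizer.symm.trans ?_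
    have h1 : Nat.card (Sylow p G) ≤ d := Nat.le_of_dvd hd0 (hidx ▸ P.card_dvd_index)
    have h2 : Nat.card (Sylow p G) % p = 1 % p := card_sylow_modEq_one p G
    rwa [Nat.mod_eq_of_lt (h1.trans_lt hdp), Nat.mod_eq_of_lt hp.one_lt] at h2
  refine ⟨P, hPn, hPcard, hidx, hdp, fun g hg => ?_⟩
  haveI : Fintype (P : Subgroup G) := Fintype.ofFinite _
  obtain ⟨lam, hlam, hne⟩ := exists_constituent_res (N := (P : Subgroup G)) hχ
  haveI : IsCyclic (P : Subgroup G) := isCyclic_of_prime_card hPcard
  letI : CommGroup (P : Subgroup G) := IsCyclic.commGroup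
  have hl1 : charDegree lam = 1 := by
    have := degree_dvd_index_central hlam ⊤ (fun x _ => Subgroup.mem_center_iff.mpr fun y => mul_comm y x)
    rwa [Subgroup.index_top, Nat.dvd_one] at this
  have hind : indFun (P : Subgroup G) lam = χ := by
    have hc := isCharacter_indFun (P : Subgroup G) (isCharacter_of_isIrr hlam)
    have hin : classInner (indFun (P : Subgroup G) lam) χ ≠ 0 := by
      rw [frobenius _ _ (classFun_of_irr hχ), ← classInner_conj]
      exact fun h => hne (by simpa using h)
    refine sub_eq_zero.mp ((char_eq_zero_iff (isCharacter_sub_constituent hc hχ hin)).mp ?_)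
    rw [Pi.sub_apply, indFun_one, irr_one_eq hlam, hl1, hidx, irr_one_eq hχ, ← hd]
    simp
  have hnorm := norm_indFun (G := G) hlam
  rw [hind, irr_inner_self hχ, eq_comm, div_eq_one_iff_eq (natCard_ne_zero _), Nat.cast_inj] at hnorm
  have hI : (P : Subgroup G) = inertia lam :=
    Subgroup.eq_of_le_of_card_ge (le_inertia (classFun_of_irr hlam)) hnorm.le
  rw [hI, mem_inertia']
  intro n
  congr 1
  exact Subtype.ext (show g * (n : G) * g⁻¹ = n by rw [hg n n.2, mul_inv_cancel_right])

end CfsgLib.Char
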