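import Cfsg.Agent.Char.Central
import Cfsg.Agent.Char.Induce
import Mathlib.GroupTheory.OrderOfElement

/-! Kernel, degree and codegree of an irreducible character. -/

set_option linter.unusedSectionVars false

namespace CfsgLib.Char

open Module Cfsg

universe u

variable {G : Type u} [Group G] [Finite G]

/-- the kernel, with the degree dividing its index -/
theorem irr_kernel {χ : G → ℂ} (hχ : IsIrrCharacter G χ) :
    ∃ K : Subgroup G, K.Normal ∧ (∀ g, g ∈ K ↔ χ g = χ 1) ∧ charDegree χ ∣ K.index ∧
      Nat.card {g : G // χ g = χ 1} = Nat.card K ∧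
      Nat.card G / (Nat.card {g : G // χ g = χ 1} * charDegree χ) * charDegree χ = K.index := by
  haveI := Fintype.ofFinite G
  obtain ⟨K, hK, hmem, -⟩ := exists_kernel (isCharacter_of_isIrr hχ)
  haveI := hK
  haveI := Fintype.ofFinite (G ⧸ K)
  obtain ⟨χ', hχ', hcomp⟩ := irr_descend (QuotientGroup.mk' K) (QuotientGroup.mk'_surjective K) hχ
    fun k hk => (hmem k).mp ((QuotientGroup.eq_one_iff k).mp hk)
  have hdeg : charDegree χ' = charDegree χ := by
    simp only [charDegree, ← hcomp, Function.comp_apply, map_one]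
  have hdvd : charDegree χ ∣ K.index := by
    rw [← hdeg, Subgroup.index_eq_card]
    exact degree_dvd_card hχ'
  have hcard : Nat.card {g : G // χ g = χ 1} = Nat.card K :=
    Nat.card_congr (Equiv.subtypeEquivRight fun g => (hmem g).symm)
  refine ⟨K, hK, hmem, hdvd, hcard, ?_⟩
  rw [hcard, ← Nat.div_div_eq_div_mul, ← K.card_mul_index,
    Nat.mul_div_cancel_left _ Nat.card_pos, Nat.div_mul_cancel hdvd]

/-- an element of prime-power order outside a normal subgroup makes the prime divide the index -/
theorem dvd_index_of_not_mem {K : Subgroup G} [K.Normal] {p j : ℕ} (hp : p.Prime) {g : G}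
    (hg : g ^ p ^ j = 1) (hnot : g ∉ K) : p ∣ K.index := by
  by_contra hdvd
  have h1 : orderOf (QuotientGroup.mk' K g) ∣ p ^ j :=
    orderOf_dvd_of_pow_eq_one (by rw [← map_pow, hg, map_one])
  have h2 : orderOf (QuotientGroup.mk' K g) ∣ K.index := by
    rw [Subgroup.index_eq_card]; exact orderOf_dvd_natCard _
  have h3 := Nat.eq_one_of_dvd_coprimes ((hp.coprime_iff_not_dvd.mpr hdvd).pow_left j) h1 h2
  rw [orderOf_eq_one_iff] at h3
  exact hnot ((QuotientGroup.eq_one_iff g).mp h3)

end CfsgLib.Char
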