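import Cfsg.Agent.Char.Central

/-! Convolution of an irreducible character with itself, and the class product formula. -/

set_option linter.unusedSectionVars false

namespace CfsgLib.Char

open Module Cfsg
open scoped ComplexConjugate

universe u

variable {G : Type u} [Group G] [Fintype G]

/-- `Σ χ(x⁻¹) χ(x z) = |G| χ(z)/χ(1)` -/
theorem irr_convolution {χ : G → ℂ} (hχ : IsIrrCharacter G χ) (z : G) :
    ∑ x : G, χ x⁻¹ * χ (x * z) = (Nat.card G : ℂ) * χ z / χ 1 := by
  have hinn : ∑ x : G, conj (χ x) * χ x = (Nat.card G : ℂ) := by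
    have := irr_inner_self hχ
    rw [classInner_def, inv_mul_eq_one₀ (natCard_ne_zero G)] at this
    rw [this]
    exact Finset.sum_congr rfl fun x _ => mul_comm _ _
  have hcl : IsClassFunction G (fun x => conj (χ x)) := fun x k => by
    simp only [classFun_of_irr hχ x k]
  have hinv : ∀ x : G, χ x⁻¹ = conj (χ x) := fun x => char_conj_eq (isCharacter_of_isIrr hχ) x
  obtain ⟨n, ρ, hirr, rfl⟩ := hχ
  haveI := hirr
  have h := congrArg (LinearMap.trace ℂ (Fin n → ℂ))
    (congrArg (· * ρ z) (classFun_scalar ρ hcl))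
  simp only [Finset.sum_mul, smul_mul_assoc, ← map_mul, map_sum, map_smul, smul_eq_mul,
    ← Module.End.one_eq_id, one_mul] at h
  rw [hinn] at h
  simp only [hinv]
  rw [Representation.char_one]
  exact h.trans (div_mul_eq_mul_div _ _ _)

/-- left translate form -/
theorem irr_convolution' {χ : G → ℂ} (hχ : IsIrrCharacter G χ) (z : G) :
    ∑ x : G, χ x * χ (x⁻¹ * z) = (Nat.card G : ℂ) * χ z / χ 1 := by
  rw [← irr_convolution hχ z]
  refine Fintype.sum_equiv (Equiv.inv G) _ _ fun x => ?_
  simp

end CfsgLib.Char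

namespace CfsgLib.Char

open Module Cfsg
open scoped ComplexConjugate

universe v

variable {G : Type v} [Group G] [Fintype G]

/-- distinct irreducible characters convolve to zero -/
theorem irr_convolution_ne {χ ψ : G → ℂ} (hχ : IsIrrCharacter G χ) (hψ : IsIrrCharacter G ψ)
    (hne : χ ≠ ψ) (z : G) : ∑ x : G, χ x * ψ (x⁻¹ * z) = 0 := by
  have hinn : ∑ x : G, conj (χ x) * ψ x = 0 := by
    have := irr_inner_ne hψ hχ hne.symm
    rw [classInner_def, mul_eq_zero] at this
    rw [← this.resolve_left (inv_ne_zero (natCard_ne_zero G))]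
    exact Finset.sum_congr rfl fun x _ => mul_comm _ _
  have hcl : IsClassFunction G (fun x => conj (χ x)) := fun x k => by
    simp only [classFun_of_irr hχ x k]
  have hinv : ∀ x : G, χ x⁻¹ = conj (χ x) := fun x => char_conj_eq (isCharacter_of_isIrr hχ) x
  obtain ⟨n, ρ, hirr, rfl⟩ := hψ
  haveI := hirr
  have h := congrArg (LinearMap.trace ℂ (Fin n → ℂ))
    (congrArg (· * ρ z) (classFun_scalar ρ hcl))
  simp only [Finset.sum_mul, smul_mul_assoc, ← map_mul, map_sum, map_smul, smul_eq_mul,
    ← Module.End.one_eq_id, one_mul] at h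
  rw [hinn, zero_div, zero_mul] at h
  refine Eq.trans (Fintype.sum_equiv (Equiv.inv G) _ (fun x => conj (χ x) * ρ.character (x * z))
    fun x => ?_) h
  show χ x * ρ.character (x⁻¹ * z) = conj (χ x⁻¹) * ρ.character (x⁻¹ * z)
  rw [hinv, Complex.conj_conj]

end CfsgLib.Char
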