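import Mathlib.GroupTheory.Coset.Card
import Mathlib.GroupTheory.OrderOfElement
import Mathlib.GroupTheory.Subgroup.Centralizer
import Mathlib.Data.Nat.ModEq
import Mathlib.Tactic.Group
import Mathlib.Data.Nat.ChineseRemainder

/-! A coset `H g` with `g` of order coprime to `H`: every element is `H`-conjugate to `c g`,
`c` in the centraliser of `g`. -/

set_option autoImplicit false
set_option linter.unusedSectionVars false

namespace CfsgLib.Char

universe u

variable {G : Type u} [Group G] [Finite G]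

theorem coset_pow_eq (H : Subgroup G) (g : G) (hcop : Nat.Coprime (orderOf g) (Nat.card H)) :
    ∃ k : ℕ, ∀ c ∈ H, c * g = g * c → (c * g) ^ k = g := by
  obtain ⟨k, hk1, hk0⟩ := Nat.chineseRemainder hcop 1 0
  refine ⟨k, fun c hc hcg => ?_⟩
  rw [(show Commute c g from hcg).mul_pow, orderOf_dvd_iff_pow_eq_one.1
    ((Subgroup.orderOf_dvd_natCard _ hc).trans (Nat.modEq_zero_iff_dvd.1 hk0)), one_mul]
  conv_rhs => rw [← pow_one g]
  exact pow_eq_pow_iff_modEq.2 hk1

theorem coset_conj (H : Subgroup G) {g : G} (hg : g ∈ Subgroup.normalizer (H : Set G))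
    (hcop : Nat.Coprime (orderOf g) (Nat.card H)) {h : G} (hh : h ∈ H) :
    ∃ x ∈ H, ∃ c ∈ H, c * g = g * c ∧ x * (h * g) * x⁻¹ = c * g := by
  obtain ⟨k, hk⟩ := coset_pow_eq H g hcop
  let C : Subgroup G := H ⊓ Subgroup.centralizer ({g} : Set G)
  let f : (H ⧸ C.subgroupOf H) × C → H := fun p =>
    ⟨(p.1.out : G) * (p.2 * g) * (p.1.out : G)⁻¹ * g⁻¹, by
      have h1 : g * (p.1.out : G)⁻¹ * g⁻¹ ∈ H :=
        (Subgroup.mem_normalizer_iff.1 hg _).1 (inv_mem p.1.out.2)
      simpa [mul_assoc] using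
        mul_mem (mul_mem p.1.out.2 (Subgroup.mem_inf.1 p.2.2).1) h1⟩
  have hinj : Function.Injective f := by
    rintro ⟨q, c⟩ ⟨q', c'⟩ e
    have e1 : (q.out : G) * (c * g) * (q.out : G)⁻¹ = (q'.out : G) * (c' * g) * (q'.out : G)⁻¹ :=
      mul_right_cancel (congrArg Subtype.val e)
    have e2 := congrArg (· ^ k) e1
    simp only [conj_pow, hk _ (Subgroup.mem_inf.1 c.2).1
      (Subgroup.mem_centralizer_singleton_iff.1 (Subgroup.mem_inf.1 c.2).2),
      hk _ (Subgroup.mem_inf.1 c'.2).1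
      (Subgroup.mem_centralizer_singleton_iff.1 (Subgroup.mem_inf.1 c'.2).2)] at e2
    have hq : q = q' := by
      rw [← QuotientGroup.out_eq' q, ← QuotientGroup.out_eq' q', QuotientGroup.eq,
        Subgroup.mem_subgroupOf, Subgroup.mem_inf, Subgroup.mem_centralizer_singleton_iff]
      refine ⟨(q.out⁻¹ * q'.out).2, ?_⟩
      push_cast
      calc (q.out : G)⁻¹ * q'.out * g
          = (q.out : G)⁻¹ * ((q'.out : G) * g * (q'.out : G)⁻¹) * q'.out := by group
        _ = g * ((q.out : G)⁻¹ * q'.out) := by rw [← e2]; group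
    subst hq
    simp only [mul_left_inj, mul_right_inj] at e1
    exact Prod.ext rfl (Subtype.ext e1)
  have hcard : Nat.card ((H ⧸ C.subgroupOf H) × C) = Nat.card H := by
    rw [Nat.card_prod, Subgroup.card_eq_card_quotient_mul_card_subgroup (C.subgroupOf H),
      Nat.card_congr (Subgroup.subgroupOfEquivOfLe (inf_le_left : C ≤ H)).toEquiv]
  obtain ⟨⟨q, c⟩, e⟩ := ((Nat.bijective_iff_injective_and_card f).2 ⟨hinj, hcard⟩).2 ⟨h, hh⟩
  refine ⟨(q.out : G)⁻¹, inv_mem q.out.2, c, (Subgroup.mem_inf.1 c.2).1,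
    Subgroup.mem_centralizer_singleton_iff.1 (Subgroup.mem_inf.1 c.2).2, ?_⟩
  rw [show h = (q.out : G) * (c * g) * (q.out : G)⁻¹ * g⁻¹ from (congrArg Subtype.val e).symm]
  group

/-- an element of a normal subgroup whose class is fixed by a coprime element has a conjugate
commuting with that element -/
theorem exists_commute_conj (K : Subgroup G) [hK : K.Normal] {x : G}
    (hcop : Nat.Coprime (orderOf x) (Nat.card K)) {h₀ m : G} (hm : m ∈ K)
    (e : x * h₀ * x⁻¹ = m * h₀ * m⁻¹) : ∃ s ∈ K, x * (s * h₀ * s⁻¹) = s * h₀ * s⁻¹ * x := by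
  obtain ⟨s, hs, c, hc, hcx, e'⟩ := coset_conj K (g := x)
    (by rw [Subgroup.normalizer_eq_top_iff.2 hK]; exact Subgroup.mem_top x) hcop (inv_mem hm)
  obtain ⟨k, hk⟩ := coset_pow_eq K x hcop
  have h1 : Commute (c * x) (s * h₀ * s⁻¹) := by
    have h0 : Commute (m⁻¹ * x) h₀ :=
      calc m⁻¹ * x * h₀ = m⁻¹ * (x * h₀ * x⁻¹) * x := by group
        _ = h₀ * (m⁻¹ * x) := by rw [e]; group
    rw [← e']
    exact h0.conj s
  exact ⟨s, hs, ((hk c hc hcx ▸ h1.pow_left k) : Commute x _).eq⟩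

end CfsgLib.Char
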