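import Cfsg.Agent.Char.Orth
import Cfsg.Agent.Char.Central

/-! Sign patterns of rational power sums of roots of unity. -/

set_option linter.style.haveILetI false

namespace CfsgLib.Char

open Finset

theorem powSum_congr_prime {ι : Type} (s : Finset ι) (z : ι → ℂ) (hz : ∀ i, IsIntegral ℤ (z i))
    {p : ℕ} (hp : p.Prime) :
    ∃ r : ℂ, IsIntegral ℤ r ∧ (∑ i ∈ s, z i) ^ p = (∑ i ∈ s, z i ^ p) + p * r := by
  classical
  let A := integralClosure ℤ ℂ
  let w : ι → A := fun i => ⟨z i, hz i⟩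
  have key : ∀ t : Finset ι, ∃ r : A, (∑ i ∈ t, w i) ^ p = (∑ i ∈ t, w i ^ p) + p * r := by
    intro t
    induction t using Finset.induction_on with
    | empty => exact ⟨0, by simp [zero_pow hp.ne_zero]⟩
    | insert a t ha ih =>
      obtain ⟨r, hr⟩ := ih
      obtain ⟨r', hr'⟩ := exists_add_pow_prime_eq hp (w a) (∑ i ∈ t, w i)
      refine ⟨r + w a * (∑ i ∈ t, w i) * r', ?_⟩
      rw [Finset.sum_insert ha, Finset.sum_insert ha, hr', hr]
      ring
  obtain ⟨r, hr⟩ := key s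
  refine ⟨r, r.2, ?_⟩
  have := congrArg Subtype.val hr
  simpa [w] using this

theorem exists_pair_family {ι : Type} (s : Finset ι) (z : ι → ℂ) (hz : ∀ i, IsIntegral ℤ (z i)) :
    ∃ w : List ℂ, (∀ x ∈ w, IsIntegral ℤ x) ∧
      (∑ i ∈ s, z i) ^ 2 = (∑ i ∈ s, z i ^ 2) + 2 * w.sum ∧
      (∑ i ∈ s, z i ^ 2) ^ 2 = (∑ i ∈ s, z i ^ 4) + 2 * (w.map (· ^ 2)).sum := by
  classical
  induction s using Finset.induction_on with
  | empty => exact ⟨[], by simp, by simp, by simp⟩
  | insert a t ha ih =>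
    obtain ⟨w, hw, h1, h2⟩ := ih
    refine ⟨w ++ t.toList.map (fun i => z a * z i), ?_, ?_, ?_⟩
    · intro x hx
      rcases List.mem_append.mp hx with hx | hx
      · exact hw x hx
      · obtain ⟨i, -, rfl⟩ := List.mem_map.mp hx
        exact (hz a).mul (hz i)
    · rw [List.sum_append, Finset.sum_map_toList, Finset.sum_insert ha, Finset.sum_insert ha,
        add_sq, h1, ← Finset.mul_sum]
      ring
    · rw [List.map_append, List.sum_append, List.map_map, Finset.sum_map_toList,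
        Finset.sum_insert ha, Finset.sum_insert ha, add_sq, h2]
      simp only [Function.comp_apply, mul_pow, ← Finset.mul_sum]
      ring

theorem int_dvd_of_eq_mul {p : ℕ} (hp : p ≠ 0) {a : ℤ} {r : ℂ} (hr : IsIntegral ℤ r)
    (h : (a : ℂ) = p * r) : (p : ℤ) ∣ a := by
  obtain ⟨m, hm⟩ := exists_int_of_isIntegral_rat hr ((a : ℚ) / p) (by
    push_cast
    rw [h, mul_comm, mul_div_assoc, div_self (Nat.cast_ne_zero.mpr hp), mul_one])
  exact ⟨m, by rw [hm] at h; exact_mod_cast h⟩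

section signs

variable {d n : ℕ} (ω : Fin d → ℂ)

theorem sum_pow_mod (hω : ∀ i, ω i ^ n = 1) (k : ℕ) : ∑ i, ω i ^ (k + n) = ∑ i, ω i ^ k :=
  Finset.sum_congr rfl fun i _ => by rw [pow_add, hω, mul_one]

theorem signs_of_powSums (hn : n ≠ 0) (hω : ∀ i, ω i ^ n = 1)
    (hA : ∀ k, ¬ n ∣ k → ∑ i, ω i ^ k = 0 ∨ ∑ i, ω i ^ k = 1 ∨ ∑ i, ω i ^ k = -1) :
    (∑ i, ω i ^ 1 = 0 → ∀ k, ¬ n ∣ k → ∑ i, ω i ^ k = 0) ∧
    (∀ ε₀ : ℤ, (ε₀ = 1 ∨ ε₀ = -1) → (n = 1 ∨ ∑ i, ω i ^ 1 = (ε₀ : ℂ)) →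
      ∃ ε σ : ℤ, (ε = 1 ∨ ε = -1) ∧ (σ = 1 ∨ σ = -1) ∧ σ ^ n = 1 ∧ (n = 1 → ε = ε₀) ∧
        ∀ k, ¬ n ∣ k → ∑ i, ω i ^ k = ((ε * σ ^ k : ℤ) : ℂ)) := by
  have hint : ∀ i, IsIntegral ℤ (ω i) := fun i => isIntegral_root hn (hω i)
  have hval : ∀ k, ¬ n ∣ k → ∃ a : ℤ, (a = 0 ∨ a = 1 ∨ a = -1) ∧ ∑ i, ω i ^ k = (a : ℂ) := by
    intro k hk
    rcases hA k hk with h | h | h
    · exact ⟨0, Or.inl rfl, by simp [h]⟩
    · exact ⟨1, Or.inr (Or.inl rfl), by simp [h]⟩
    · exact ⟨-1, Or.inr (Or.inr rfl), by simp [h]⟩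
  have hstep : ∀ p : ℕ, p.Prime → ∀ j, ¬ n ∣ p * j → ∀ a b : ℤ,
      ∑ i, ω i ^ j = (a : ℂ) → ∑ i, ω i ^ (p * j) = (b : ℂ) → (p : ℤ) ∣ a ^ p - b := by
    intro p hp j _ a b ha hb
    obtain ⟨r, hr, he⟩ := powSum_congr_prime Finset.univ (fun i => ω i ^ j)
      (fun i => (hint i).pow j) hp
    refine int_dvd_of_eq_mul hp.ne_zero hr ?_
    simp only [← pow_mul] at he
    rw [ha, show ∑ i, ω i ^ (j * p) = (b : ℂ) by rw [mul_comm j p]; exact hb] at he
    push_cast
    rw [he]; ring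
  refine ⟨fun h0 k => ?_, fun ε₀ hε₀ h1 => ?_⟩
  · induction k using Nat.strong_induction_on with
    | _ k ih =>
      intro hk
      have hk0 : k ≠ 0 := fun e => hk (e ▸ dvd_zero n)
      by_cases hk1 : k = 1
      · rw [hk1]; exact h0
      obtain ⟨p, hp, j, rfl⟩ := Nat.exists_prime_and_dvd hk1
      have hj : ¬ n ∣ j := fun h => hk (h.mul_left p)
      have hj0 : j ≠ 0 := fun e => hk0 (by rw [e, mul_zero])
      obtain ⟨b, hb, hbe⟩ := hval _ hk
      have hd := hstep p hp j hk 0 b (by rw [ih j (lt_mul_left (Nat.pos_of_ne_zero hj0) hp.one_lt) hj]; simp) hbe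
      rw [zero_pow hp.ne_zero, zero_sub, dvd_neg] at hd
      have h2 := hp.two_le
      have : b = 0 := by
        rcases hb with rfl | rfl | rfl
        · rfl
        · have := Int.le_of_dvd one_pos hd; omega
        · have := Int.le_of_dvd one_pos (dvd_neg.mpr hd); omega
      rw [hbe, this, Int.cast_zero]
  by_cases hn1 : n = 1
  · exact ⟨ε₀, 1, hε₀, Or.inl rfl, one_pow _, fun _ => rfl, fun k hk => absurd (hn1 ▸ one_dvd k) hk⟩
  replace h1 : ∑ i, ω i ^ 1 = (ε₀ : ℂ) := h1.resolve_left hn1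
  have hnd1 : ¬ n ∣ 1 := fun h => hn1 (Nat.dvd_one.mp h)
  -- odd primes preserve the sign
  have hodd : ∀ p : ℕ, p.Prime → p ≠ 2 → ∀ j, ¬ n ∣ p * j → ∀ a : ℤ, (a = 1 ∨ a = -1) →
      ∑ i, ω i ^ j = (a : ℂ) → ∑ i, ω i ^ (p * j) = (a : ℂ) := by
    intro p hp hp2 j hpj a ha hae
    obtain ⟨b, hb, hbe⟩ := hval _ hpj
    have hd := hstep p hp j hpj a b hae hbe
    have hap : a ^ p = a := by
      rcases ha with rfl | rfl
      · exact one_pow p
      · exact (hp.odd_of_ne_two hp2).neg_one_pow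
    rw [hap] at hd
    have h3 : 3 ≤ p := by have := hp.two_le; omega
    have : a - b = 0 := by
      refine Int.eq_zero_of_abs_lt_dvd hd ?_
      rcases ha with rfl | rfl <;> rcases hb with rfl | rfl | rfl <;> norm_num <;> omega
    rw [hbe, show b = a by omega]
  have hfour : ∀ j, ¬ n ∣ 4 * j → ∀ a b : ℤ, (a = 1 ∨ a = -1) → (b = 1 ∨ b = -1) →
      ∑ i, ω i ^ j = (a : ℂ) → ∑ i, ω i ^ (2 * j) = (b : ℂ) →
      ∑ i, ω i ^ (4 * j) = (b : ℂ) := by
    intro j hj a b ha hb hae hbe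
    obtain ⟨c, hc, hce⟩ := hval _ hj
    obtain ⟨w, hw, e1, e2⟩ := exists_pair_family Finset.univ (fun i => ω i ^ j) fun i => (hint i).pow j
    simp only [← pow_mul] at e1 e2
    rw [mul_comm j 2, hae, hbe] at e1
    rw [mul_comm j 2, mul_comm j 4, hbe, hce] at e2
    obtain ⟨r, hr, he⟩ := powSum_congr_prime Finset.univ (fun i : Fin w.length => w.get i)
      (fun i => hw _ (List.get_mem w i)) Nat.prime_two
    have s1 : ∑ i : Fin w.length, w.get i = w.sum := by
      rw [← List.sum_ofFn, List.ofFn_get]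
    have s2 : ∑ i : Fin w.length, w.get i ^ 2 = (w.map (· ^ 2)).sum := by
      rw [← List.sum_ofFn]
      congr 1
      conv_rhs => rw [← List.ofFn_get w, List.map_ofFn]
      rfl
    rw [s1, s2] at he
    have ha2 : ((a : ℂ)) ^ 2 = 1 := by rcases ha with rfl | rfl <;> norm_num
    have hb2 : ((b : ℂ)) ^ 2 = 1 := by rcases hb with rfl | rfl <;> norm_num
    have hdiv : (8 : ℤ) ∣ (1 - b) ^ 2 - 2 * (1 - c) := by
      refine int_dvd_of_eq_mul (p := 8) (by norm_num) hr ?_
      push_cast at e1 e2 he ⊢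
      rw [ha2] at e1
      rw [hb2] at e2
      have hs : w.sum = (1 - (b : ℂ)) / 2 := by linear_combination -(1 / 2 : ℂ) * e1
      have ht : (w.map (· ^ 2)).sum = (1 - (c : ℂ)) / 2 := by linear_combination -(1 / 2 : ℂ) * e2
      rw [hs, ht] at he
      linear_combination 4 * he
    rcases hb with rfl | rfl <;> rcases hc with rfl | rfl | rfl <;> norm_num at hdiv <;>
      first | exact hce | omega
  have hnz : ∀ k, ¬ n ∣ k → ∀ a : ℤ, ∑ i, ω i ^ k = (a : ℂ) → a = 0 ∨ a = 1 ∨ a = -1 := by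
    intro k hk a ha
    obtain ⟨b, hb, hbe⟩ := hval k hk
    have : a = b := by exact_mod_cast ha.symm.trans hbe
    rw [this]; exact hb
  by_cases hn2 : n ∣ 2
  · -- only odd exponents occur
    refine ⟨ε₀, 1, hε₀, Or.inl rfl, one_pow _, fun h => absurd h hn1, fun k hk => ?_⟩
    have hn2' : n = 2 := (Nat.dvd_prime Nat.prime_two).mp hn2 |>.resolve_left hn1
    subst hn2'
    obtain ⟨j, rfl⟩ := Nat.odd_iff.mpr (Nat.two_dvd_ne_zero.mp hk)
    rw [one_pow, mul_one, ← h1]
    refine Finset.sum_congr rfl fun i _ => ?_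
    rw [pow_succ, pow_mul, hω, one_pow, one_mul, pow_one]
  obtain ⟨a₂, ha₂, ha₂e⟩ := hval 2 hn2
  have ha₂' : a₂ = 1 ∨ a₂ = -1 := by
    rcases ha₂ with rfl | h
    · exfalso
      have hd := hstep 2 Nat.prime_two 1 (by simpa using hn2) ε₀ 0 h1 (by simpa using ha₂e)
      rcases hε₀ with rfl | rfl <;> norm_num at hd
    · exact h
  have main : ∀ k, ¬ n ∣ k → ∑ i, ω i ^ k = ((if Even k then a₂ else ε₀ : ℤ) : ℂ) := by
    intro k
    induction k using Nat.strong_induction_on with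
    | _ k ih =>
      intro hk
      have hk0 : k ≠ 0 := fun e => hk (e ▸ dvd_zero n)
      by_cases hp : ∃ p, p.Prime ∧ p ≠ 2 ∧ p ∣ k
      · obtain ⟨p, hp, hp2, j, rfl⟩ := hp
        have hj : ¬ n ∣ j := fun h => hk (h.mul_left p)
        have hj0 : j ≠ 0 := fun e => hk0 (by rw [e, mul_zero])
        have hev : Even (p * j) ↔ Even j := by
          rw [Nat.even_mul]
          simp [Nat.not_even_iff_odd.mpr (hp.odd_of_ne_two hp2)]
        simp only [hev]
        refine hodd p hp hp2 j hk _ ?_ (ih j (lt_mul_left (Nat.pos_of_ne_zero hj0) hp.one_lt) hj)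
        split_ifs
        · exact ha₂'
        · exact hε₀
      push Not at hp
      by_cases h4 : 4 ∣ k
      · obtain ⟨j, rfl⟩ := h4
        have hj0 : j ≠ 0 := fun e => hk0 (by rw [e, mul_zero])
        have hj : ¬ n ∣ j := fun h => hk (h.mul_left 4)
        have h2j : ¬ n ∣ 2 * j := fun h => hk (by
          rw [show 4 * j = 2 * (2 * j) by ring]; exact h.mul_left 2)
        have hb := ih (2 * j) (by omega) h2j
        rw [if_pos (even_two_mul j)] at hb
        rw [if_pos ⟨2 * j, by ring⟩]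
        refine hfour j hk _ a₂ ?_ ha₂' (ih j (by omega) hj) hb
        split_ifs
        · exact ha₂'
        · exact hε₀
      · rcases Nat.even_or_odd k with he | ho
        · obtain ⟨j, rfl⟩ := even_iff_two_dvd.mp he
          have : j = 1 := by
            by_contra hj
            obtain ⟨p, hp', hpd⟩ := Nat.exists_prime_and_dvd hj
            have := hp p hp'
            by_cases hp2 : p = 2
            · subst hp2; exact h4 (by obtain ⟨i, rfl⟩ := hpd; exact ⟨i, by ring⟩)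
            · exact this hp2 (hpd.mul_left 2)
          subst this
          rw [if_pos (even_two_mul 1)]
          exact ha₂e
        · have : k = 1 := by
            by_contra hk1
            obtain ⟨p, hp', hpd⟩ := Nat.exists_prime_and_dvd hk1
            by_cases hp2 : p = 2
            · subst hp2; exact (Nat.not_even_iff_odd.mpr ho) (even_iff_two_dvd.mpr hpd)
            · exact hp p hp' hp2 hpd
          subst this
          simpa using h1
  refine ⟨a₂, ε₀ * a₂, ha₂', ?_, ?_, fun h => absurd h hn1, fun k hk => ?_⟩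
  · rcases hε₀ with rfl | rfl <;> rcases ha₂' with rfl | rfl <;> simp
  · have hsq : (ε₀ * a₂) * (ε₀ * a₂) = 1 := by
      rcases hε₀ with rfl | rfl <;> rcases ha₂' with rfl | rfl <;> norm_num
    rcases Nat.even_or_odd n with ⟨m, rfl⟩ | ho
    · rw [← two_mul, pow_mul, sq, hsq, one_pow]
    · have hne : ¬ n ∣ 1 + n := fun h => hnd1 ((Nat.dvd_add_left (dvd_refl n)).mp h)
      have h2 := main (1 + n) hne
      rw [if_pos (odd_one.add_odd ho), sum_pow_mod ω hω, h1] at h2
      have : ε₀ = a₂ := by exact_mod_cast h2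
      rw [this]
      rcases ha₂' with rfl | rfl <;> norm_num
  · rw [main k hk]
    congr 1
    split_ifs with he
    · obtain ⟨j, rfl⟩ := he
      rcases hε₀ with rfl | rfl <;> rcases ha₂' with rfl | rfl <;> simp [← two_mul, pow_mul]
    · obtain ⟨j, rfl⟩ := Nat.not_even_iff_odd.mp he
      rcases hε₀ with rfl | rfl <;> rcases ha₂' with rfl | rfl <;> simp [pow_succ, pow_mul]

end signs

end CfsgLib.Char
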