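import Cfsg.Prelude.Def_OddOrderChar
import Cfsg.Agent.Char.Orth

/-! The Dade set-up: conjugates of the cosets, the counting formula, the isometry. -/

set_option autoImplicit false
set_option linter.style.haveILetI false
set_option linter.unusedSectionVars false

namespace CfsgLib.Dade

open Cfsg CfsgLib.Char
open scoped ComplexConjugate

universe u

variable {G : Type u} [Group G] [Finite G] {A : Set G} {L : Subgroup G} {H : G → Subgroup G}
  (hD : DadeHypothesis A L H)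
include hD

theorem commute_of_mem {a u : G} (ha : a ∈ A) (hu : u ∈ H a) : Commute a u :=
  (Subgroup.mem_centralizer_singleton_iff.1 (hD.le_centralizer a ha hu)).symm

theorem self_mem_cL {a : G} (ha : a ∈ A) : a ∈ L ⊓ Subgroup.centralizer ({a} : Set G) :=
  Subgroup.mem_inf.2 ⟨hD.subset ha, Subgroup.mem_centralizer_singleton_iff.2 rfl⟩

theorem exists_factor {a c : G} (ha : a ∈ A) (hc : c ∈ Subgroup.centralizer ({a} : Set G)) :
    ∃ u ∈ H a, ∃ l ∈ L ⊓ Subgroup.centralizer ({a} : Set G), c = u * l := by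
  have hle : L ⊓ Subgroup.centralizer ({a} : Set G) ≤ Subgroup.normalizer (H a : Set G) := fun l hl =>
    Subgroup.mem_normalizer_iff.2 fun u => ⟨fun hu => hD.conj_mem_H a ha l (Subgroup.mem_inf.1 hl).2 u hu,
      fun hu => by
        have := hD.conj_mem_H a ha l⁻¹ (inv_mem (Subgroup.mem_inf.1 hl).2) _ hu
        simpa [mul_assoc] using this⟩
  rw [← hD.sup_eq a ha, ← SetLike.mem_coe, Subgroup.coe_mul_of_right_le_normalizer_left _ _ hle] at hc
  obtain ⟨u, hu, l, hl, rfl⟩ := Set.mem_mul.1 hc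
  exact ⟨u, hu, l, hl, rfl⟩

theorem mem_H_of_pow {b y : G} (hb : b ∈ A) (hy : y ∈ Subgroup.centralizer ({b} : Set G)) {n : ℕ}
    (hn : y ^ n = 1) (hcop : n.Coprime (Nat.card ↥(L ⊓ Subgroup.centralizer ({b} : Set G)))) :
    y ∈ H b := by
  obtain ⟨u, hu, l, hl, rfl⟩ := exists_factor hD hb hy
  have key : ∀ k : ℕ, ∃ u' ∈ H b, (u * l) ^ k = u' * l ^ k := by
    intro k
    induction k with
    | zero => exact ⟨1, one_mem _, by simp⟩
    | succ k ih =>
      obtain ⟨u', hu', e⟩ := ih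
      refine ⟨u' * (l ^ k * u * (l ^ k)⁻¹),
        mul_mem hu' (hD.conj_mem_H b hb _ (pow_mem (Subgroup.mem_inf.1 hl).2 k) u hu), ?_⟩
      rw [pow_succ, e, pow_succ]; group
  obtain ⟨u', hu', e⟩ := key n
  rw [hn] at e
  have h1 : l ^ n ∈ H b := by rw [eq_inv_of_mul_eq_one_right e.symm]; exact inv_mem hu'
  have h2 : l ^ n = 1 := by
    have := Subgroup.mem_inf.2 ⟨h1, pow_mem hl n⟩
    rwa [hD.inf_eq_bot b hb, Subgroup.mem_bot] at this
  have h3 : l = 1 := orderOf_eq_one_iff.1 (Nat.eq_one_of_dvd_coprimes hcop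
    (orderOf_dvd_of_pow_eq_one h2) (Subgroup.orderOf_dvd_natCard _ hl))
  rw [h3, mul_one]; exact hu

theorem conj_H_mem {a x u : G} (ha : a ∈ A) (hx : x ∈ L) (hu : u ∈ H a) :
    x * u * x⁻¹ ∈ H (x * a * x⁻¹) := by
  have hb := hD.conj_mem x hx a ha
  refine mem_H_of_pow hD hb ?_ (n := Nat.card (H a)) ?_ (hD.coprime a ha _ hb)
  · rw [Subgroup.mem_centralizer_singleton_iff]
    calc x * u * x⁻¹ * (x * a * x⁻¹) = x * (u * a) * x⁻¹ := by group
      _ = x * a * x⁻¹ * (x * u * x⁻¹) := by rw [← (commute_of_mem hD ha hu).eq]; group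
  · rw [conj_pow, orderOf_dvd_iff_pow_eq_one.1 (Subgroup.orderOf_dvd_natCard _ hu)]; group

theorem H_conj {a x : G} (ha : a ∈ A) (hx : x ∈ L) :
    H (x * a * x⁻¹) = (H a).map (MulAut.conj x).toMonoidHom := by
  ext y
  constructor
  · intro hy
    have h := conj_H_mem hD (hD.conj_mem x hx a ha) (inv_mem hx) hy
    rw [show x⁻¹ * (x * a * x⁻¹) * x⁻¹⁻¹ = a by group] at h
    exact ⟨_, h, by simp [mul_assoc]⟩
  · rintro ⟨u, hu, rfl⟩
    simpa using conj_H_mem hD ha hx hu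

/-- A conjugacy between cosets comes from one between their leading terms. -/
theorem conj_eq_of_coset {a b u v g : G} (ha : a ∈ A) (hb : b ∈ A) (hu : u ∈ H a) (hv : v ∈ H b)
    (e : g * (a * u) * g⁻¹ = b * v) : g * a * g⁻¹ = b := by
  set h₁ := Nat.card (H a) * Nat.card (H b)
  set h₂ := orderOf a * orderOf b
  have hcop : h₁.Coprime h₂ := by
    have hc : ∀ c ∈ A, ∀ d ∈ A, (Nat.card (H c)).Coprime (orderOf d) := fun c hc d hd =>
      (hD.coprime c hc d hd).coprime_dvd_right (Subgroup.orderOf_dvd_natCard _ (self_mem_cL hD hd))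
    exact Nat.Coprime.mul_left (Nat.Coprime.mul_right (hc a ha a ha) (hc a ha b hb))
      (Nat.Coprime.mul_right (hc b hb a ha) (hc b hb b hb))
  obtain ⟨k, hk0, hk1⟩ := Nat.chineseRemainder hcop 0 1
  have hz : ∀ c w : G, w ∈ H c → c ∈ A → orderOf c ∣ h₂ → Nat.card (H c) ∣ h₁ →
      (c * w) ^ k = c := by
    intro c w hw hc hd1 hd2
    rw [(commute_of_mem hD hc hw).mul_pow,
      orderOf_dvd_iff_pow_eq_one.1 (((Subgroup.orderOf_dvd_natCard _ hw).trans hd2).trans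
        (Nat.modEq_zero_iff_dvd.1 hk0)), mul_one]
    conv_rhs => rw [← pow_one c]
    exact pow_eq_pow_iff_modEq.2 (hk1.of_dvd hd1)
  have h := congrArg (· ^ k) e
  simp only [conj_pow] at h
  rwa [hz a u hu ha (Dvd.intro _ rfl) (Dvd.intro _ rfl),
    hz b v hv hb (Dvd.intro_left _ rfl) (Dvd.intro_left _ rfl)] at h

theorem normalizer_coset {a : G} (ha : a ∈ A) :
    Subgroup.normalizer ((fun u : G => a * u) '' (H a : Set G)) = Subgroup.centralizer ({a} : Set G) := by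
  ext g
  constructor
  · intro hg
    have h1 : g * (a * 1) * g⁻¹ ∈ (fun u : G => a * u) '' (H a : Set G) :=
      ((Subgroup.mem_set_normalizer_iff.1 hg) _).1 ⟨1, one_mem (H a), rfl⟩
    obtain ⟨v, hv, e⟩ := h1
    have := conj_eq_of_coset hD ha ha (one_mem (H a)) hv e.symm
    exact Subgroup.mem_centralizer_singleton_iff.2 (mul_inv_eq_iff_eq_mul.1 this)
  · intro hg
    have key : ∀ g ∈ Subgroup.centralizer ({a} : Set G), ∀ y ∈ (fun u : G => a * u) '' (H a : Set G),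
        g * y * g⁻¹ ∈ (fun u : G => a * u) '' (H a : Set G) := by
      rintro g hg _ ⟨u, hu, rfl⟩
      refine ⟨g * u * g⁻¹, hD.conj_mem_H a ha g hg u hu, ?_⟩
      show a * (g * u * g⁻¹) = g * (a * u) * g⁻¹
      calc a * (g * u * g⁻¹) = a * g * u * g⁻¹ := by group
        _ = g * a * u * g⁻¹ := by rw [← Subgroup.mem_centralizer_singleton_iff.1 hg]
        _ = g * (a * u) * g⁻¹ := by group
    refine Subgroup.mem_set_normalizer_iff.2 fun y => ⟨key g hg y, fun hy => ?_⟩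
    have := key g⁻¹ (inv_mem hg) _ hy
    simpa [mul_assoc] using this

theorem dade_apply {α : L → ℂ} (hα : IsClassFunction L α) {g x u : G} {a : L} (ha : (a : G) ∈ A)
    (hu : u ∈ H (a : G)) (e : x * g * x⁻¹ = (a : G) * u) : dadeIsometry A L H α g = α a := by
  have h : ∃ b : L, (b : G) ∈ A ∧ ∃ y : G, ∃ v ∈ H (b : G), y * g * y⁻¹ = (b : G) * v :=
    ⟨a, ha, x, u, hu, e⟩
  rw [dadeIsometry, dif_pos h]
  obtain ⟨hb, y, v, hv, e'⟩ := Classical.choose_spec h
  set b := Classical.choose h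
  have e2 : y * x⁻¹ * ((a : G) * u) * (y * x⁻¹)⁻¹ = (b : G) * v := by
    rw [← e, ← e']; group
  have e3 := conj_eq_of_coset hD ha hb hu hv e2
  obtain ⟨l, hl, e4⟩ := hD.fusion _ ha (y * x⁻¹) (e3 ▸ hb)
  rw [show b = ⟨l, hl⟩ * a * (⟨l, hl⟩ : L)⁻¹ from Subtype.ext (e3.symm.trans e4.symm)]
  exact hα a _

theorem dade_off {α : L → ℂ} {g : G}
    (h : ¬ ∃ a : L, (a : G) ∈ A ∧ ∃ x : G, ∃ u ∈ H (a : G), x * g * x⁻¹ = (a : G) * u) :
    dadeIsometry A L H α g = 0 := dif_neg h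

theorem dade_classFun {α : L → ℂ} (hα : IsClassFunction L α) :
    IsClassFunction G (dadeIsometry A L H α) := by
  intro g y
  by_cases h : ∃ a : L, (a : G) ∈ A ∧ ∃ x : G, ∃ u ∈ H (a : G), x * g * x⁻¹ = (a : G) * u
  · obtain ⟨a, ha, x, u, hu, e⟩ := h
    rw [dade_apply hD hα ha hu e, dade_apply hD hα (g := y * g * y⁻¹) (x := x * y⁻¹) ha hu
      (by rw [← e]; group)]
  · rw [dade_off hD h, dade_off hD]
    rintro ⟨a, ha, x, u, hu, e⟩
    exact h ⟨a, ha, x * y, u, hu, by rw [← e]; group⟩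

open Classical in
/-- The counting formula. -/
theorem card_mul_sum [Fintype G] [Fintype L] (F : G → ℂ) (hF : IsClassFunction G F) :
    (Nat.card G : ℂ) * ∑ a ∈ (Finset.univ : Finset L).filter (fun a : L => (a : G) ∈ A),
        (Nat.card (H (a : G)) : ℂ)⁻¹ * ∑ᶠ u ∈ (H (a : G) : Set G), F ((a : G) * u) =
      (Nat.card L : ℂ) * ∑ g ∈ Finset.univ.filter
        (fun g : G => ∃ a ∈ A, ∃ u ∈ H a, ∃ x : G, x * g * x⁻¹ = a * u), F g := by
  set S := Finset.univ.filter (fun g : G => ∃ a ∈ A, ∃ u ∈ H a, ∃ x : G, x * g * x⁻¹ = a * u)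
  set T := (Finset.univ : Finset (L × G × G)).filter
    (fun t => (t.1 : G) ∈ A ∧ t.2.1 ∈ H (t.1 : G))
  have hT : ∀ t, t ∈ T ↔ (t.1 : G) ∈ A ∧ t.2.1 ∈ H (t.1 : G) := fun t => by simp [T]
  let f : L × G × G → G := fun t => t.2.2⁻¹ * ((t.1 : G) * t.2.1) * t.2.2
  let w : L × G × G → ℂ := fun t => (Nat.card (H (t.1 : G)) : ℂ)⁻¹
  have hmaps : ∀ t ∈ T, f t ∈ S := fun t ht => Finset.mem_filter.2 ⟨Finset.mem_univ _,
    _, ((hT t).1 ht).1, _, ((hT t).1 ht).2, t.2.2, by simp [f, mul_assoc]⟩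
  have h1 : ∑ t ∈ T, w t * F (f t) =
      (Nat.card G : ℂ) * ∑ a ∈ (Finset.univ : Finset L).filter (fun a : L => (a : G) ∈ A),
        (Nat.card (H (a : G)) : ℂ)⁻¹ * ∑ᶠ u ∈ (H (a : G) : Set G), F ((a : G) * u) := by
    have hfa : ∀ t, w t * F (f t) = w t * F ((t.1 : G) * t.2.1) := fun t => by
      congr 1
      simpa [f, mul_assoc] using (hF ((t.1 : G) * t.2.1) t.2.2⁻¹)
    rw [Finset.sum_congr rfl fun t _ => hfa t, Finset.sum_filter, Fintype.sum_prod_type,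
      Finset.sum_filter, Finset.mul_sum]
    refine Finset.sum_congr rfl fun a _ => ?_
    rw [Fintype.sum_prod_type]
    by_cases ha : (a : G) ∈ A
    · simp only [ha, true_and, if_true, Finset.sum_const, Finset.card_univ, nsmul_eq_mul, w]
      rw [finsum_mem_eq_finite_toFinset_sum _ (H (a : G) : Set G).toFinite, Finset.mul_sum,
        Finset.mul_sum, Nat.card_eq_fintype_card (α := G),
        show (H (a : G) : Set G).toFinite.toFinset = Finset.univ.filter (fun u => u ∈ H (a : G)) by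
          ext u; simp, Finset.sum_filter]
      exact Finset.sum_congr rfl fun u _ => by split_ifs <;> simp
    · simp [ha]
  rw [← h1, ← Finset.sum_fiberwise_of_maps_to hmaps, Finset.mul_sum]
  refine Finset.sum_congr rfl fun g hg => ?_
  rw [Finset.sum_congr rfl (g := fun t => w t * F g)
    (fun t ht => by rw [(Finset.mem_filter.1 ht).2]), ← Finset.sum_mul]
  congr 1
  obtain ⟨a₀, ha₀, u₀, hu₀, x₀, e₀⟩ := (Finset.mem_filter.1 hg).2
  set K := H a₀
  have hcardH : ∀ t ∈ T.filter (fun t => f t = g), Nat.card (H (t.1 : G)) = Nat.card K := by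
    intro t ht
    obtain ⟨htT, hft⟩ := Finset.mem_filter.1 ht
    obtain ⟨hta, htu⟩ := (hT t).1 htT
    have e2 : t.2.2 * x₀⁻¹ * (a₀ * u₀) * (t.2.2 * x₀⁻¹)⁻¹ = (t.1 : G) * t.2.1 := by
      rw [← e₀, ← hft]; simp [f, mul_assoc]
    have e3 := conj_eq_of_coset hD ha₀ hta hu₀ htu e2
    obtain ⟨l, hl, e4⟩ := hD.fusion _ ha₀ _ (e3 ▸ hta)
    rw [← e3, ← e4, H_conj hD ha₀ hl]
    exact Subgroup.card_map_of_injective (MulAut.conj l).injective
  rw [Finset.sum_congr rfl (g := fun _ => (Nat.card K : ℂ)⁻¹) (fun t ht => by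
    simp only [w]; rw [hcardH t ht]), Finset.sum_const, nsmul_eq_mul]
  have hfib : (T.filter (fun t => f t = g)).card = Nat.card L * Nat.card K := by
    rw [← Nat.card_prod, Nat.card_eq_fintype_card, ← Finset.card_univ]
    symm
    have hce : ∀ c : L × K, ∀ h : G, h = c.2 → ((c.1 : G) * h) * a₀ * ((c.1 : G) * h)⁻¹ =
        (c.1 : G) * a₀ * (c.1 : G)⁻¹ := by
      rintro c h rfl
      calc (c.1 : G) * c.2 * a₀ * ((c.1 : G) * c.2)⁻¹ = (c.1 : G) * ((c.2 : G) * a₀ * (c.2 : G)⁻¹) * (c.1 : G)⁻¹ := by group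
        _ = _ := by rw [← (commute_of_mem hD ha₀ c.2.2).eq]; group
    refine Finset.card_bij (fun c _ => ((c.1 * ⟨a₀, hD.subset ha₀⟩ * c.1⁻¹,
      (c.1 : G) * ((c.2 : G) * u₀ * (c.2 : G)⁻¹) * (c.1 : G)⁻¹, (c.1 : G) * c.2 * x₀) : L × G × G))
      ?_ ?_ ?_
    · intro c _
      refine Finset.mem_filter.2 ⟨(hT _).2 ⟨hD.conj_mem _ c.1.2 _ ha₀, conj_H_mem hD ha₀ c.1.2
        (mul_mem (mul_mem c.2.2 hu₀) (inv_mem c.2.2))⟩, ?_⟩
      show ((c.1 : G) * c.2 * x₀)⁻¹ * (((c.1 : G) * a₀ * (c.1 : G)⁻¹) *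
        ((c.1 : G) * ((c.2 : G) * u₀ * (c.2 : G)⁻¹) * (c.1 : G)⁻¹)) * ((c.1 : G) * c.2 * x₀) = g
      rw [← hce c c.2 rfl]
      have hg0 : g = x₀⁻¹ * (a₀ * u₀) * x₀ := by rw [← e₀]; group
      rw [hg0]; group
    · intro c _ c' _ e
      simp only [Prod.mk.injEq] at e
      have e5 : (c'.1 : G)⁻¹ * c.1 = (c'.2 : G) * (c.2 : G)⁻¹ := by
        have := mul_right_cancel e.2.2
        rw [inv_mul_eq_iff_eq_mul, ← mul_assoc, eq_mul_inv_iff_mul_eq, this]
      have h6 : (c'.1 : G)⁻¹ * c.1 ∈ H a₀ ⊓ (L ⊓ Subgroup.centralizer ({a₀} : Set G)) :=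
        Subgroup.mem_inf.2 ⟨e5 ▸ mul_mem c'.2.2 (inv_mem c.2.2), Subgroup.mem_inf.2
          ⟨mul_mem (inv_mem c'.1.2) c.1.2,
          hD.le_centralizer a₀ ha₀ (e5 ▸ mul_mem c'.2.2 (inv_mem c.2.2))⟩⟩
      rw [hD.inf_eq_bot a₀ ha₀, Subgroup.mem_bot] at h6
      rw [h6] at e5
      exact Prod.ext (Subtype.ext (inv_mul_eq_one.1 h6).symm) (Subtype.ext (mul_inv_eq_one.1 e5.symm).symm)
    · intro t ht
      obtain ⟨htT, hft⟩ := Finset.mem_filter.1 ht
      obtain ⟨hta, htu⟩ := (hT t).1 htT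
      set c := t.2.2 * x₀⁻¹ with hc
      have e2 : c * (a₀ * u₀) * c⁻¹ = (t.1 : G) * t.2.1 := by
        rw [← e₀, ← hft]; simp [f, hc, mul_assoc]
      have e3 := conj_eq_of_coset hD ha₀ hta hu₀ htu e2
      obtain ⟨l, hl, e4⟩ := hD.fusion _ ha₀ _ (e3 ▸ hta)
      have hcent : l⁻¹ * c ∈ Subgroup.centralizer ({a₀} : Set G) := by
        rw [Subgroup.mem_centralizer_singleton_iff]
        calc l⁻¹ * c * a₀ = l⁻¹ * (c * a₀ * c⁻¹) * c := by group
          _ = a₀ * (l⁻¹ * c) := by rw [← e4]; group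
      obtain ⟨k, hk, l', hl', e5⟩ := exists_factor hD ha₀ hcent
      obtain ⟨hl'L, hl'C⟩ := Subgroup.mem_inf.1 hl'
      refine ⟨(⟨l * l', mul_mem hl hl'L⟩, ⟨l'⁻¹ * k * l', by
        simpa using hD.conj_mem_H a₀ ha₀ l'⁻¹ (inv_mem hl'C) k hk⟩), Finset.mem_univ _, ?_⟩
      have hcc : l * l' * (l'⁻¹ * k * l') = c := by
        rw [show l * l' * (l'⁻¹ * k * l') = l * (k * l') by group, ← e5]; group
      refine Prod.ext (Subtype.ext ?_) (Prod.ext ?_ ?_)
      · show l * l' * a₀ * (l * l')⁻¹ = (t.1 : G)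
        calc l * l' * a₀ * (l * l')⁻¹ = l * (l' * a₀ * l'⁻¹) * l⁻¹ := by group
          _ = l * a₀ * l⁻¹ := by rw [Subgroup.mem_centralizer_singleton_iff.1 hl'C, mul_inv_cancel_right]
          _ = (t.1 : G) := e4.trans e3
      · show l * l' * ((l'⁻¹ * k * l') * u₀ * (l'⁻¹ * k * l')⁻¹) * (l * l')⁻¹ = t.2.1
        rw [show l * l' * ((l'⁻¹ * k * l') * u₀ * (l'⁻¹ * k * l')⁻¹) * (l * l')⁻¹ =
          l * l' * (l'⁻¹ * k * l') * u₀ * (l * l' * (l'⁻¹ * k * l'))⁻¹ by group, hcc]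
        refine mul_left_cancel (a := (t.1 : G)) ?_
        rw [← e2, ← e3]; group
      · show l * l' * (l'⁻¹ * k * l') * x₀ = t.2.2
        rw [hcc, hc]; group
  rw [hfib, Nat.cast_mul, mul_assoc, mul_inv_cancel₀ (natCard_ne_zero K), mul_one]

open Classical in
theorem inner_dade [Fintype G] [Fintype L] {α : L → ℂ} (hα : IsClassFunction L α)
    (hαA : ∀ x : L, (x : G) ∉ A → α x = 0) (χ : G → ℂ) (ψ : L → ℂ) (hχ : IsClassFunction G χ)
    (hψ : ∀ a : L, (a : G) ∈ A →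
      ψ a = (Nat.card (H (a : G)) : ℂ)⁻¹ * ∑ᶠ u ∈ (H (a : G) : Set G), χ ((a : G) * u)) :
    classInner (dadeIsometry A L H α) χ = classInner α ψ := by
  have hF : IsClassFunction G (fun g => dadeIsometry A L H α g * conj (χ g)) := fun g h => by
    show dadeIsometry A L H α _ * conj (χ _) = _
    rw [dade_classFun hD hα g h, hχ g h]
  have hc := card_mul_sum hD _ hF
  rw [classInner_def, classInner_def]
  have e1 : ∑ g : G, dadeIsometry A L H α g * conj (χ g) = ∑ g ∈ Finset.univ.filter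
      (fun g : G => ∃ a ∈ A, ∃ u ∈ H a, ∃ x : G, x * g * x⁻¹ = a * u),
      dadeIsometry A L H α g * conj (χ g) := by
    refine (Finset.sum_filter_of_ne fun g _ hne => ?_).symm
    by_contra hn
    refine hne (by rw [dade_off hD, zero_mul]; rintro ⟨a, ha, x, u, hu, e⟩; exact hn ⟨_, ha, u, hu, x, e⟩)
  have e2 : ∑ x : L, α x * conj (ψ x) = ∑ a ∈ (Finset.univ : Finset L).filter (fun a : L => (a : G) ∈ A),
      (Nat.card (H (a : G)) : ℂ)⁻¹ * ∑ᶠ u ∈ (H (a : G) : Set G),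
        dadeIsometry A L H α ((a : G) * u) * conj (χ ((a : G) * u)) := by
    rw [Finset.sum_filter]
    refine Finset.sum_congr rfl fun a _ => ?_
    split_ifs with ha
    · rw [hψ a ha, finsum_mem_eq_finite_toFinset_sum _ (H (a : G) : Set G).toFinite,
        finsum_mem_eq_finite_toFinset_sum _ (H (a : G) : Set G).toFinite, map_mul, map_inv₀,
        Complex.conj_natCast, map_sum, mul_left_comm, Finset.mul_sum]
      refine congrArg _ (Finset.sum_congr rfl fun u hu => ?_)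
      rw [dade_apply hD hα (x := 1) (g := (a : G) * u) ha (by simpa using hu) (by simp)]
    · rw [hαA a ha, zero_mul]
  rw [e1, e2]
  have key : ∀ X Y a b : ℂ, a ≠ 0 → b ≠ 0 → a * Y = b * X → a⁻¹ * X = b⁻¹ * Y :=
    fun X Y a b ha hb h => by field_simp; linear_combination -h
  exact key _ _ _ _ (natCard_ne_zero G) (natCard_ne_zero L) hc

end CfsgLib.Dade
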