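import Mathlib

/-! Derived series and solvable quotients. -/

namespace CfsgLib.Char

theorem exists_derived_le_of_solvable_quotient {G : Type*} [Group G] (N : Subgroup G) [N.Normal]
    (h : Group.IsSolvable (G ⧸ N)) : ∃ k, derivedSeries G k ≤ N := by
  obtain ⟨n, hn⟩ := h.solvable
  refine ⟨n, ?_⟩
  rw [← QuotientGroup.ker_mk' N, ← Subgroup.map_eq_bot_iff,
    map_derivedSeries_eq (QuotientGroup.mk'_surjective N), hn]

end CfsgLib.Char
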