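import Cfsg.Agent.Char.Orth

/-! Representations with equal characters are equivalent. -/

set_option autoImplicit false
set_option linter.style.haveILetI false
set_option linter.unusedSectionVars false

namespace CfsgLib.Char

open Cfsg Module

universe u v w

variable {G : Type u} [Group G] [Finite G]

theorem exists_linearEquiv_of_char : ∀ (n : ℕ) {V : Type v} {W : Type w} [AddCommGroup V] [Module ℂ V]
    [FiniteDimensional ℂ V] [AddCommGroup W] [Module ℂ W] [FiniteDimensional ℂ W]
    (ρ : Representation ℂ G V) (σ : Representation ℂ G W), finrank ℂ V = n →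
    ρ.character = σ.character → ∃ e : V ≃ₗ[ℂ] W, ∀ g v, e (ρ g v) = σ g (e v) := by
  intro n
  induction n using Nat.strong_induction_on with
  | _ n ih =>
  intro V W _ _ _ _ _ _ ρ σ hn h
  haveI := Fintype.ofFinite G
  classical
  have hd : finrank ℂ V = finrank ℂ W := by
    have := congrFun h 1
    rw [Representation.char_one, Representation.char_one] at this
    exact_mod_cast this
  rcases Nat.eq_zero_or_pos (finrank ℂ V) with h0 | hpos
  · haveI : Subsingleton W := finrank_zero_iff.1 (hd ▸ h0)
    exact ⟨LinearEquiv.ofFinrankEq V W hd, fun g v => Subsingleton.elim _ _⟩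
  have hexU : ∃ k, ∃ U : Subrepresentation ρ, U.toSubmodule ≠ ⊥ ∧ finrank ℂ U.toSubmodule = k :=
    ⟨_, ⟨⊤, fun _ _ _ => Submodule.mem_top⟩, fun e => by
      haveI := finrank_pos_iff (R := ℂ) (M := V).1 hpos
      exact bot_ne_top e.symm, rfl⟩
  obtain ⟨U, hU0, hUk⟩ := Nat.find_spec hexU
  have hmin : ∀ U' : Subrepresentation ρ, U'.toSubmodule ≠ ⊥ →
      finrank ℂ U.toSubmodule ≤ finrank ℂ U'.toSubmodule := fun U' h' =>
    hUk ▸ Nat.find_le ⟨U', h', rfl⟩
  have hinner := inner_eq_finrank U.toRepresentation σ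
  rw [← h, inner_eq_finrank U.toRepresentation ρ, Nat.cast_inj] at hinner
  let inc : U.toRepresentation.IntertwiningMap ρ :=
    U.toSubmodule.subtype.intertwiningMap_of_isIntertwiningMap U.toRepresentation ρ fun g x => rfl
  have hinc : inc ≠ 0 := fun e => hU0 (by
    rw [Submodule.eq_bot_iff]
    intro x hx
    exact LinearMap.congr_fun (congrArg Representation.IntertwiningMap.toLinearMap e) ⟨x, hx⟩)
  haveI : Nontrivial (U.toRepresentation.IntertwiningMap σ) := finrank_pos_iff (R := ℂ).1
    (hinner ▸ (finrank_pos_iff (R := ℂ)).2 ⟨⟨inc, 0, hinc⟩⟩)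
  obtain ⟨f, hf⟩ := exists_ne (0 : U.toRepresentation.IntertwiningMap σ)
  have hfg : ∀ g (x : U.toSubmodule), f.toLinearMap (U.toRepresentation g x) = σ g (f.toLinearMap x) :=
    fun g x => f.isIntertwining _ _ g x
  have hinj : Function.Injective f.toLinearMap := by
    rw [← LinearMap.ker_eq_bot]
    by_contra hk
    have hKinv : ∀ g : G, ∀ v ∈ f.toLinearMap.ker.map U.toSubmodule.subtype,
        ρ g v ∈ f.toLinearMap.ker.map U.toSubmodule.subtype := by
      rintro g _ ⟨x, hx, rfl⟩
      refine ⟨U.toRepresentation g x, ?_, rfl⟩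
      rw [SetLike.mem_coe, LinearMap.mem_ker, hfg, LinearMap.mem_ker.1 hx, map_zero]
    have hle := hmin ⟨_, hKinv⟩ (by
      intro e
      refine hk ((Submodule.eq_bot_iff _).2 fun x hx => Subtype.ext ?_)
      exact (Submodule.eq_bot_iff _).1 e _ ⟨x, hx, rfl⟩)
    rw [← LinearEquiv.finrank_eq (Submodule.equivMapOfInjective U.toSubmodule.subtype
      U.toSubmodule.subtype_injective f.toLinearMap.ker)] at hle
    have htop : f.toLinearMap.ker = ⊤ := Submodule.eq_top_of_finrank_eq
      (le_antisymm (Submodule.finrank_le _) hle)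
    exact hf (Representation.IntertwiningMap.ext_iff.2 (LinearMap.ker_eq_top.1 htop))
  let U' : Subrepresentation σ := ⟨f.toLinearMap.range, by
    rintro g _ ⟨x, rfl⟩
    exact ⟨_, hfg g x⟩⟩
  let eU : U.toSubmodule ≃ₗ[ℂ] U'.toSubmodule := LinearEquiv.ofInjective f.toLinearMap hinj
  have heU : ∀ g x, eU (U.toRepresentation g x) = U'.toRepresentation g (eU x) := fun g x =>
    Subtype.ext (hfg g x)
  obtain ⟨C, hC⟩ := exists_compl ρ U
  obtain ⟨C', hC'⟩ := exists_compl σ U'
  have hchU : U.toRepresentation.character = U'.toRepresentation.character := funext fun g => by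
    unfold Representation.character
    rw [← LinearMap.trace_conj' (U.toRepresentation g) eU]
    congr 1
    ext y
    obtain ⟨x, rfl⟩ := eU.surjective y
    simp [LinearEquiv.conj_apply, heU]
  have hlt : finrank ℂ C.toSubmodule < n := by
    have h1 := Submodule.finrank_add_eq_of_isCompl (isCompl_toSubmodule hC)
    have h2 : finrank ℂ U.toSubmodule ≠ 0 := fun e => hU0 (Submodule.finrank_eq_zero.1 e)
    omega
  obtain ⟨eC, heC⟩ := ih _ hlt C.toRepresentation C'.toRepresentation rfl (funext fun g => by
    have h1 := congrFun h g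
    rw [char_of_isCompl hC g, char_of_isCompl hC' g, hchU] at h1
    exact add_left_cancel h1)
  let P := Submodule.prodEquivOfIsCompl _ _ (isCompl_toSubmodule hC)
  let Q := Submodule.prodEquivOfIsCompl _ _ (isCompl_toSubmodule hC')
  refine ⟨P.symm.trans ((eU.prodCongr eC).trans Q), fun g x => ?_⟩
  obtain ⟨⟨a, b⟩, rfl⟩ := P.surjective x
  have hP : ρ g (P (a, b)) = P (U.toRepresentation g a, C.toRepresentation g b) := by
    simp [P, Submodule.coe_prodEquivOfIsCompl', Subrepresentation.toRepresentation]
  rw [hP]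
  simp only [LinearEquiv.trans_apply, LinearEquiv.symm_apply_apply, LinearEquiv.prodCongr_apply, heU, heC]
  simp [Q, Submodule.coe_prodEquivOfIsCompl', Subrepresentation.toRepresentation]

end CfsgLib.Char
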