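import Cfsg.Agent.Char.Gallagher

/-! The representation group of an invariant irreducible character and extension criteria. -/

set_option linter.unusedSectionVars false
set_option linter.style.haveILetI false

namespace CfsgLib.Char

open Module Cfsg
open scoped ComplexConjugate

universe u v w

variable {G : Type u} [Group G] [Finite G]

section lifting

variable {N : Subgroup G} [hN : N.Normal] {d : ℕ} (ρ : Representation ℂ N (Fin d → ℂ))

/-- pairs `(g, T)` with `T` intertwining `ρ` and its conjugate by `g` -/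
def extGroup : Subgroup (G × (Module.End ℂ (Fin d → ℂ))ˣ) where
  carrier := {x | (∀ n : N, (x.2 : Module.End ℂ (Fin d → ℂ)) * ρ n =
      ρ ⟨x.1 * n * x.1⁻¹, hN.conj_mem n n.2 x.1⟩ * (x.2 : Module.End ℂ (Fin d → ℂ))) ∧
    LinearMap.det (x.2 : Module.End ℂ (Fin d → ℂ)) ^ Nat.card G = 1}
  one_mem' := ⟨fun n => by simp, by simp⟩
  mul_mem' := by
    rintro ⟨g, S⟩ ⟨h, T⟩ ⟨hS, hS'⟩ ⟨hT, hT'⟩
    refine ⟨fun n => ?_, by simp [mul_pow, hS', hT']⟩
    simp only [Prod.fst_mul, Prod.snd_mul, Units.val_mul] at hT hS ⊢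
    rw [mul_assoc, hT n, ← mul_assoc, hS, mul_assoc]
    congr 2
    exact Subtype.ext (by simp [mul_assoc])
  inv_mem' := by
    rintro ⟨g, S⟩ ⟨hS, hS'⟩
    refine ⟨fun n => ?_, ?_⟩
    · simp only [Prod.fst_inv, Prod.snd_inv] at hS ⊢
      have h := hS ⟨g⁻¹ * n * g⁻¹⁻¹, hN.conj_mem n n.2 g⁻¹⟩
      have he : (⟨g * (g⁻¹ * n * g⁻¹⁻¹) * g⁻¹, hN.conj_mem _ (hN.conj_mem n n.2 g⁻¹) g⟩ : N) = n :=
        Subtype.ext (by simp [mul_assoc])
      rw [he] at h
      rw [Units.eq_mul_inv_iff_mul_eq, mul_assoc, Units.inv_mul_eq_iff_eq_mul]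
      exact h.symm
    · have h1 : LinearMap.det ((S⁻¹ : (Module.End ℂ (Fin d → ℂ))ˣ) : Module.End ℂ (Fin d → ℂ)) *
          LinearMap.det (S : Module.End ℂ (Fin d → ℂ)) = 1 := by
        rw [← map_mul, Units.inv_mul, map_one]
      have h2 := congrArg (· ^ Nat.card G) h1
      simp only [mul_pow, hS', mul_one, one_pow] at h2
      exact h2

/-- the projection to `G` -/
def extProj : extGroup ρ →* G := (MonoidHom.fst _ _).comp (extGroup ρ).subtype

/-- the tautological representation -/
def extRep : Representation ℂ (extGroup ρ) (Fin d → ℂ) :=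
  (Units.coeHom _).comp ((MonoidHom.snd _ _).comp (extGroup ρ).subtype)

/-- the copy of `N` -/
noncomputable def extEmb : N →* extGroup ρ :=
  MonoidHom.codRestrict ((N.subtype).prod ρ.toHomUnits) (extGroup ρ) fun n => by
    refine ⟨fun m => ?_, ?_⟩
    · simp only [MonoidHom.prod_apply, MonoidHom.coe_toHomUnits, Subgroup.coe_subtype, ← map_mul]
      congr 1
      exact Subtype.ext (by simp)
    · simp only [MonoidHom.prod_apply, MonoidHom.coe_toHomUnits]
      rw [← map_pow, ← map_pow]
      have : n ^ Nat.card G = 1 := Subtype.ext (by simp [pow_card_eq_one'])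
      rw [this, map_one, map_one]

theorem extProj_emb (n : N) : extProj ρ (extEmb ρ n) = (n : G) := rfl

theorem extRep_emb (n : N) : extRep ρ (extEmb ρ n) = ρ n := rfl

theorem extRep_comm (x : extGroup ρ) (n : N) : extRep ρ x * ρ n =
    ρ ⟨extProj ρ x * n * (extProj ρ x)⁻¹, hN.conj_mem n n.2 _⟩ * extRep ρ x := x.2.1 n

theorem extEmb_injective : Function.Injective (extEmb ρ) := fun a b h =>
  Subtype.ext (by rw [← extProj_emb ρ a, h, extProj_emb])

instance normal_extEmb_range : (extEmb ρ).range.Normal := by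
  refine ⟨?_⟩
  rintro _ ⟨n, rfl⟩ x
  refine ⟨⟨extProj ρ x * n * (extProj ρ x)⁻¹, hN.conj_mem n n.2 _⟩, ?_⟩
  rw [eq_mul_inv_iff_mul_eq]
  refine Subtype.ext (Prod.ext ?_ (Units.ext ?_))
  · show extProj ρ x * n * (extProj ρ x)⁻¹ * extProj ρ x = extProj ρ x * n
    group
  · exact (extRep_comm ρ x n).symm

variable [ρ.IsIrreducible]

theorem extProj_surjective (hinv : ∀ g : G, conjN (ρ.character) g = ρ.character) :
    Function.Surjective (extProj ρ) := by
  haveI := Fintype.ofFinite N
  intro g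
  let σ : Representation ℂ N (Fin d → ℂ) := ρ.comp (MulAut.conjNormal g : MulAut N).toMonoidHom
  have hchar : σ.character = ρ.character := by
    conv_rhs => rw [← hinv g, conjN_eq_comp]
    rfl
  haveI : σ.IsIrreducible := by
    obtain ⟨n', τ, hτ, hτc⟩ : IsIrrCharacter N σ.character := by
      rw [hchar]; exact ⟨d, ρ, ‹_›, rfl⟩
    by_contra hirr
    have h1 := inner_eq_finrank σ σ
    rw [hchar, irr_inner_self ⟨d, ρ, ‹_›, rfl⟩] at h1
    obtain ⟨W, W', hWW, hlt, hlt'⟩ := exists_split_of_not_irreducible σ (finrank_pos_of_irreducible ρ) hirr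
    have hsum : σ.character = W.toRepresentation.character + W'.toRepresentation.character :=
      funext fun g => char_of_isCompl hWW g
    have hWc := isCharacter_of_rep W.toRepresentation
    have hW'c := isCharacter_of_rep W'.toRepresentation
    obtain ⟨a, ha⟩ := inner_char_char hWc hWc
    obtain ⟨b, hb⟩ := inner_char_char hW'c hW'c
    obtain ⟨c, hc⟩ := inner_char_char hWc hW'c
    obtain ⟨c', hc'⟩ := inner_char_char hW'c hWc
    have hn : classInner σ.character σ.character = 1 := by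
      rw [hchar]; exact irr_inner_self ⟨d, ρ, ‹_›, rfl⟩
    rw [hsum, classInner_add_left, classInner_add_right, classInner_add_right, ha, hb, hc, hc'] at hn
    have hn' : a + c + (c' + b) = 1 := by exact_mod_cast hn
    have hsum' := Submodule.finrank_add_eq_of_isCompl (isCompl_toSubmodule hWW)
    have hdeg : ∀ U : Subrepresentation σ, classInner U.toRepresentation.character
        U.toRepresentation.character = 0 → finrank ℂ U.toSubmodule = 0 := fun U h0 => by
      have := congrFun (classInner_self_eq_zero h0) 1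
      rw [Representation.char_one, Pi.zero_apply] at this
      exact_mod_cast this
    rcases Nat.eq_zero_or_pos a with ha0 | ha0
    · have := hdeg W (by rw [ha, ha0, Nat.cast_zero]); omega
    · have := hdeg W' (by rw [hb, show b = 0 by omega, Nat.cast_zero]); omega
  obtain ⟨e, he⟩ := exists_equiv_of_char_eq ρ σ hchar.symm
  have hd : d ≠ 0 := by
    have := finrank_pos_of_irreducible ρ
    simp at this; omega
  obtain ⟨c, hc⟩ := IsAlgClosed.exists_pow_nat_eq (LinearMap.det (e : (Fin d → ℂ) →ₗ[ℂ] _))⁻¹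
    (Nat.pos_of_ne_zero hd)
  have hdet : LinearMap.det (c • (e : (Fin d → ℂ) →ₗ[ℂ] _)) = 1 := by
    rw [LinearMap.det_smul, finrank_fin_fun, hc, inv_mul_cancel₀]
    exact (LinearEquiv.isUnit_det' e).ne_zero
  have hu : IsUnit (c • (e : (Fin d → ℂ) →ₗ[ℂ] _) : Module.End ℂ (Fin d → ℂ)) := by
    refine (LinearMap.isUnit_iff_isUnit_det _).mpr ?_; rw [hdet]; exact isUnit_one
  refine ⟨⟨(g, hu.unit), fun n => ?_, by rw [IsUnit.unit_spec, hdet, one_pow]⟩, rfl⟩
  rw [IsUnit.unit_spec]
  refine LinearMap.ext fun v => ?_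
  simp only [Module.End.mul_apply, LinearMap.smul_apply, LinearEquiv.coe_coe, map_smul]
  rw [he n v]
  rfl

theorem extGroup_finite : Finite (extGroup ρ) := by
  have hd : d ≠ 0 := by
    have := finrank_pos_of_irreducible ρ
    simp at this; omega
  haveI : NeZero d := ⟨hd⟩
  have key : ∀ x : extGroup ρ, extProj ρ x = 1 → ∃ c : ℂ, c ^ (d * Nat.card G) = 1 ∧
      extRep ρ x = c • LinearMap.id := by
    intro x hx
    obtain ⟨c, hc⟩ := schur_scalar ρ (extRep ρ x) fun n v => by
      have h := LinearMap.congr_fun (extRep_comm ρ x n) v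
      simp only [Module.End.mul_apply] at h
      rw [h]
      congr 2
      exact Subtype.ext (by simp [hx])
    refine ⟨c, ?_, hc⟩
    have h := x.2.2
    change LinearMap.det (extRep ρ x) ^ Nat.card G = 1 at h
    rw [hc, LinearMap.det_smul, LinearMap.det_id, mul_one, finrank_fin_fun, ← pow_mul] at h
    exact h
  choose! c hc using key
  haveI : Finite (extProj ρ).ker := by
    haveI : Finite {c : ℂ // c ^ (d * Nat.card G) = 1} :=
      (Polynomial.nthRootsFinset (d * Nat.card G) (1 : ℂ)).finite_toSet.subset (fun z hz => by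
        rw [Finset.mem_coe, Polynomial.mem_nthRootsFinset (Nat.mul_pos (Nat.pos_of_ne_zero hd)
          Nat.card_pos)]
        exact hz) |>.to_subtype
    refine Finite.of_injective
      (fun x : (extProj ρ).ker => (⟨c x.1, (hc x.1 x.2).1⟩ : {c : ℂ // c ^ (d * Nat.card G) = 1})) ?_
    intro x y h
    have h' : c x.1 = c y.1 := congrArg Subtype.val h
    refine Subtype.ext (Subtype.ext (Prod.ext ?_ (Units.ext ?_)))
    · exact (x.2 : extProj ρ x.1 = 1).trans (y.2 : extProj ρ y.1 = 1).symm
    · show extRep ρ x.1 = extRep ρ y.1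
      rw [(hc x.1 x.2).2, (hc y.1 y.2).2, h']
  haveI : Finite (extGroup ρ ⧸ (extProj ρ).ker) :=
    Finite.of_injective _ (QuotientGroup.kerLift_injective (extProj ρ))
  exact Finite.of_equiv _ (Subgroup.groupEquivQuotientProdSubgroup (s := (extProj ρ).ker)).symm

/-- the preimage of `N` -/
def extN : Subgroup (extGroup ρ) := N.comap (extProj ρ)

instance normal_extN : (extN ρ).Normal := hN.comap _

include ρ in
theorem eq_of_smul_rep {H : Type w} [Group H] (σ : Representation ℂ H (Fin d → ℂ)) (h : H)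
    {c c' : ℂ} (heq : c • σ h = c' • σ h) : c = c' := by
  haveI : NeZero d := ⟨fun hd => by
    have := finrank_pos_of_irreducible ρ
    simp [hd] at this⟩
  have h1 := congrArg (fun T => σ h⁻¹ * T) heq
  simp only [mul_smul_comm, ← map_mul, inv_mul_cancel, map_one] at h1
  simpa using congrFun (LinearMap.congr_fun h1 (fun _ => 1)) 0

/-- an element intertwining like `σ h` is a multiple of it -/
theorem scalar_of_intertwine {H : Type w} [Group H] (σ : Representation ℂ H (Fin d → ℂ)) (h : H)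
    (T : Module.End ℂ (Fin d → ℂ))
    (hT : ∀ m : N, ∃ m' : N, T * ρ m = ρ m' * T ∧ σ h * ρ m = ρ m' * σ h) :
    ∃ c : ℂ, T = c • σ h := by
  obtain ⟨c, hc⟩ := schur_scalar ρ (σ h⁻¹ * T) fun m v => by
    obtain ⟨m', h1, h2⟩ := hT m
    have h3 : σ h⁻¹ * ρ m' = ρ m * σ h⁻¹ := by
      have h4 := congrArg (fun U => σ h⁻¹ * U * σ h⁻¹) h2
      simp only [← mul_assoc, ← map_mul, inv_mul_cancel, map_one, one_mul] at h4
      rw [h4, mul_assoc _ (σ h), ← map_mul, mul_inv_cancel, map_one, mul_one]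
    have h5 : σ h⁻¹ * T * ρ m = ρ m * (σ h⁻¹ * T) := by
      rw [mul_assoc, h1, ← mul_assoc, h3, mul_assoc]
    exact LinearMap.congr_fun h5 v
  refine ⟨c, ?_⟩
  have h6 := congrArg (fun U => σ h * U) hc
  simp only [← mul_assoc, ← map_mul, mul_inv_cancel, map_one, one_mul] at h6
  rw [h6, mul_smul_comm, ← Module.End.one_eq_id, mul_one]

include ρ in
theorem exists_scalar_hom {R : Type v} [Group R] {H : Type w} [Group H]
    (F : Representation ℂ R (Fin d → ℂ)) (σ : Representation ℂ H (Fin d → ℂ)) (π : R →* H)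
    (hsc : ∀ x, ∃ c : ℂ, F x = c • σ (π x)) :
    ∃ L : R →* ℂˣ, ∀ x, F x = (L x : ℂ) • σ (π x) := by
  choose f hf using hsc
  let f' : R →* ℂ :=
    { toFun := f
      map_one' := eq_of_smul_rep ρ σ (π 1) (by rw [← hf, map_one, map_one, map_one, one_smul])
      map_mul' := fun x y => eq_of_smul_rep ρ σ (π (x * y)) (by
        rw [← hf, map_mul, hf x, hf y, smul_mul_smul_comm, ← map_mul, ← map_mul]) }
  exact ⟨f'.toHomUnits, fun x => hf x⟩

/-- the projection from the preimage of `N` onto `N` -/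
def extToN : extN ρ →* N :=
  ((extProj ρ).comp (extN ρ).subtype).codRestrict N fun x => x.2

theorem coe_extToN (x : extN ρ) : (extToN ρ x : G) = extProj ρ x.1 := rfl

theorem extLam_exists : ∃ L : extN ρ →* ℂˣ,
    ∀ x, extRep ρ x.1 = (L x : ℂ) • ρ (extToN ρ x) := by
  refine exists_scalar_hom ρ ((extRep ρ).comp (extN ρ).subtype) ρ (extToN ρ) fun x => ?_
  refine scalar_of_intertwine ρ ρ (extToN ρ x) _ fun m => ⟨_, extRep_comm ρ x.1 m, ?_⟩
  rw [← map_mul, ← map_mul]
  congr 1
  exact Subtype.ext (by simp [coe_extToN])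

/-- the scalar part of an element over `N` -/
noncomputable def extLam : extN ρ →* ℂˣ := (extLam_exists ρ).choose

theorem extLam_spec (x : extN ρ) : extRep ρ x.1 = (extLam ρ x : ℂ) • ρ (extToN ρ x) :=
  (extLam_exists ρ).choose_spec x

theorem extLam_eq {x : extN ρ} {c : ℂˣ} (h : extRep ρ x.1 = (c : ℂ) • ρ (extToN ρ x)) :
    extLam ρ x = c :=
  Units.ext (eq_of_smul_rep ρ ρ (extToN ρ x) ((extLam_spec ρ x).symm.trans h))

theorem extLam_inv (y : extGroup ρ) (x : extN ρ) :
    extLam ρ ⟨y * x * y⁻¹, (normal_extN ρ).conj_mem x x.2 y⟩ = extLam ρ x := by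
  refine extLam_eq ρ ?_
  show extRep ρ (y * x * y⁻¹) = _
  rw [map_mul, map_mul, extLam_spec, mul_smul_comm, smul_mul_assoc, extRep_comm, mul_assoc,
    ← map_mul, mul_inv_cancel, map_one, mul_one]
  exact congrArg (fun z : N => ((extLam ρ x : ℂ) • ρ z)) (Subtype.ext (by simp [extToN]; rfl))

/-- if the scalar character extends, so does the representation -/
theorem extension_of_extLam (hinv : ∀ g : G, conjN (ρ.character) g = ρ.character)
    (L : extGroup ρ →* ℂˣ) (hL : ∀ x : extN ρ, L x = extLam ρ x) :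
    ∃ σ : Representation ℂ G (Fin d → ℂ), ∀ n : N, σ n = ρ n := by
  choose s hs using extProj_surjective ρ hinv
  let F : extGroup ρ →* Module.End ℂ (Fin d → ℂ) :=
    { toFun := fun x => ((L x)⁻¹ : ℂˣ).val • extRep ρ x
      map_one' := by simp
      map_mul' := fun x y => by
        rw [map_mul, map_mul, mul_inv, Units.val_mul, smul_mul_smul_comm] }
  have hker : ∀ x, extProj ρ x = 1 → F x = 1 := by
    intro x hx
    have hxN : x ∈ extN ρ := by
      show extProj ρ x ∈ N
      rw [hx]; exact N.one_mem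
    show ((L x)⁻¹ : ℂˣ).val • extRep ρ x = 1
    rw [extLam_spec ρ ⟨x, hxN⟩, hL ⟨x, hxN⟩, smul_smul, Units.inv_mul, one_smul]
    have : extToN ρ ⟨x, hxN⟩ = 1 := Subtype.ext hx
    rw [this, map_one]
  have hF : ∀ a b, extProj ρ a = extProj ρ b → F a = F b := fun a b hab => by
    have h1 := hker (a⁻¹ * b) (by rw [map_mul, map_inv, hab, inv_mul_cancel])
    have h2 := congrArg (F a * ·) h1
    simpa [← map_mul] using h2.symm
  refine ⟨{ toFun := fun g => F (s g)
            map_one' := by rw [hF (s 1) 1 (by rw [hs, map_one]), map_one]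
            map_mul' := fun a b => by
              rw [← map_mul]; exact hF _ _ (by rw [hs, map_mul, hs, hs]) }, fun n => ?_⟩
  show F (s n) = ρ n
  rw [hF (s n) (extEmb ρ n) (by rw [hs, extProj_emb])]
  show ((L (extEmb ρ n))⁻¹ : ℂˣ).val • extRep ρ (extEmb ρ n) = ρ n
  have h1 : extLam ρ ⟨extEmb ρ n, n.2⟩ = 1 :=
    extLam_eq ρ (by rw [Units.val_one, one_smul]; rfl)
  rw [hL ⟨extEmb ρ n, n.2⟩, h1, inv_one, Units.val_one, one_smul, extRep_emb]

/-- an extension over `H` gives the power `|G : H|` -/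
theorem index_mem_extPow_of_extension (hinv : ∀ g : G, conjN (ρ.character) g = ρ.character)
    {H : Subgroup G} (hNH : N ≤ H) (σ : Representation ℂ H (Fin d → ℂ))
    (hσ : ∀ n : N, σ ⟨n, hNH n.2⟩ = ρ n) : (H.index : ℤ) ∈ extPow (extLam ρ) := by
  haveI := extGroup_finite ρ
  let R := H.comap (extProj ρ)
  let πH : R →* H := ((extProj ρ).comp R.subtype).codRestrict H fun x => x.2
  obtain ⟨ν, hν⟩ := exists_scalar_hom ρ ((extRep ρ).comp R.subtype) σ πH fun x => by
    refine scalar_of_intertwine ρ σ (πH x) _ fun m => ⟨_, extRep_comm ρ x.1 m, ?_⟩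
    rw [← hσ, ← hσ, ← map_mul, ← map_mul]
    congr 1
    refine Subtype.ext ?_
    show extProj ρ x.1 * m = extProj ρ x.1 * m * (extProj ρ x.1)⁻¹ * extProj ρ x.1
    group
  have h := transfer_mem_extPow (extLam ρ) (H := R) (Subgroup.comap_mono hNH) (extLam_inv ρ) ν
    fun x => (extLam_eq ρ (x := x) (c := ν ⟨x.1, Subgroup.comap_mono hNH x.2⟩) (by
      rw [← hσ]; exact hν ⟨x.1, Subgroup.comap_mono hNH x.2⟩)).symm
  rwa [Subgroup.index_comap_of_surjective _ (extProj_surjective ρ hinv)] at h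

/-- an extension of the determinant gives the power `d` -/
theorem degree_mem_extPow_of_det (μ : G →* ℂˣ) (hμ : ∀ n : N, μ n = detHom ρ n) :
    (d : ℤ) ∈ extPow (extLam ρ) := by
  refine ⟨((LinearMap.det : _ →* ℂ).comp (extRep ρ)).toHomUnits * (μ.comp (extProj ρ))⁻¹,
    fun x => Units.ext ?_⟩
  simp only [MonoidHom.mul_apply, MonoidHom.inv_apply, MonoidHom.comp_apply, zpow_natCast,
    Units.val_mul, MonoidHom.coe_toHomUnits, Units.val_pow_eq_pow_val]
  rw [extLam_spec, LinearMap.det_smul, finrank_fin_fun, ← detHom_apply,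
    ← hμ (extToN ρ x), mul_assoc, ← Units.val_mul]
  simp [coe_extToN]

end lifting

end CfsgLib.Char
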