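import Cfsg.Prelude.Def_Transfer
import Cfsg.Agent.Char.Burnside
import Cfsg.Agent.Char.Classes
import Cfsg.Agent.Char.Monomial

/-! Characters of extraspecial groups. -/

set_option autoImplicit false
set_option linter.style.haveILetI false
set_option linter.unusedSectionVars false

namespace CfsgLib.Char

open Module Cfsg
open scoped ComplexConjugate CfsgLib.Char commutatorElement

universe u

variable {P : Type u} [Group P] [Fintype P] {p n : ℕ} [Fact p.Prime]

/-- a central element is a scalar -/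
theorem exists_central_scalar {χ : P → ℂ} (hχ : IsIrrCharacter P χ) {z : P}
    (hz : z ∈ Subgroup.center P) :
    ∃ ω : ℂ, (∀ g, χ (g * z) = ω * χ g) ∧ χ z = ω * χ 1 := by
  obtain ⟨d, ρ, hirr, rfl⟩ := hχ
  haveI := hirr
  obtain ⟨c, hc⟩ := schur_scalar ρ (ρ z) fun g v => by
    rw [← Module.End.mul_apply, ← map_mul, ← Subgroup.mem_center_iff.mp hz g, map_mul,
      Module.End.mul_apply]
  have key : ∀ g, ρ.character (g * z) = c * ρ.character g := fun g => by
    simp only [Representation.character, map_mul, hc, mul_smul_comm, ← Module.End.one_eq_id,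
      mul_one, map_smul, smul_eq_mul]
  exact ⟨c, key, by simpa using key 1⟩

theorem vanish_of_extraspecial (hP : IsExtraspecial p P) {χ : P → ℂ} (hχ : IsIrrCharacter P χ)
    {z : P} (hz : z ∈ Subgroup.center P) (hne : χ z ≠ χ 1) {x : P}
    (hx : x ∉ Subgroup.center P) : χ x = 0 := by
  obtain ⟨g, hg⟩ : ∃ g, g * x ≠ x * g := by
    by_contra h
    push Not at h
    exact hx (Subgroup.mem_center_iff.2 h)
  have hc : g * x * g⁻¹ * x⁻¹ ∈ Subgroup.center P := by
    rw [← hP.1.2.2, commutator_def]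
    exact Subgroup.commutator_mem_commutator (Subgroup.mem_top g) (Subgroup.mem_top x)
  have hc1 : g * x * g⁻¹ * x⁻¹ ≠ 1 := fun e =>
    hg (mul_inv_eq_iff_eq_mul.1 (mul_inv_eq_one.1 e))
  obtain ⟨ω, hω, hω1⟩ := exists_central_scalar hχ hc
  by_contra h0
  have h1 : χ x = ω * χ x := by
    rw [← hω x, Subgroup.mem_center_iff.1 hc x, show g * x * g⁻¹ * x⁻¹ * x = g * x * g⁻¹ by group]
    exact (classFun_of_irr hχ x g).symm
  have hω' : χ (g * x * g⁻¹ * x⁻¹) = χ 1 := by
    rw [hω1, (mul_eq_right₀ h0).1 h1.symm, one_mul]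
  obtain ⟨K, -, hK, -⟩ := exists_kernel (isCharacter_of_isIrr hχ)
  have hgen : Subgroup.zpowers (g * x * g⁻¹ * x⁻¹) = Subgroup.center P :=
    Subgroup.eq_of_le_of_card_ge (Subgroup.zpowers_le.2 hc) (by
      rw [hP.2, Nat.card_zpowers]
      have := Subgroup.orderOf_dvd_natCard _ hc
      rw [hP.2] at this
      rcases (Nat.dvd_prime Fact.out).1 this with h | h
      · exact absurd (orderOf_eq_one_iff.1 h) hc1
      · omega)
  exact hne ((hK z).1 (Subgroup.zpowers_le.2 ((hK _).2 hω') (hgen ▸ hz)))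

theorem degree_of_extraspecial (hP : IsExtraspecial p P) (hcard : Nat.card P = p ^ (2 * n + 1))
    {χ : P → ℂ} (hχ : IsIrrCharacter P χ) {z : P} (hz : z ∈ Subgroup.center P) (hne : χ z ≠ χ 1) :
    χ 1 = (p : ℂ) ^ n := by
  classical
  obtain ⟨d, hd, hd1⟩ := irr_deg hχ
  have h := irr_inner_self hχ
  rw [classInner_def, inv_mul_eq_iff_eq_mul₀ (natCard_ne_zero P), mul_one,
    ← Finset.sum_filter_add_sum_filter_not Finset.univ (fun x : P => x ∈ Subgroup.center P),
    Finset.sum_eq_zero (s := Finset.univ.filter fun x : P => ¬ x ∈ Subgroup.center P)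
      (fun x hx => by
        rw [vanish_of_extraspecial hP hχ hz hne (Finset.mem_filter.1 hx).2, zero_mul]),
    add_zero, Finset.sum_congr rfl (g := fun _ => (d : ℂ) * (d : ℂ)) (fun x hx => ?_),
    Finset.sum_const, nsmul_eq_mul, ← Fintype.card_subtype, ← Nat.card_eq_fintype_card] at h
  · have h2 : p * (d * d) = p ^ (2 * n + 1) := by
      rw [← hcard]
      exact_mod_cast (show (p : ℂ) * ((d : ℂ) * d) = (Nat.card P : ℂ) by rw [← h]; rw [hP.2])
    have h3 : d ^ 2 = (p ^ n) ^ 2 := by
      rw [pow_succ', mul_comm 2 n, pow_mul] at h2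
      have := Nat.eq_of_mul_eq_mul_left (Fact.out : p.Prime).pos h2
      rw [← this]; ring
    rw [hd1, Nat.pow_left_injective (by norm_num) h3, Nat.cast_pow]
  · obtain ⟨ω, hω, hω1⟩ := exists_central_scalar hχ (Finset.mem_filter.1 hx).2
    have hn : (ω * conj ω) = 1 := by
      obtain ⟨k, ρ, hirr, hρ⟩ := hχ
      haveI := hirr
      have hx' : ‖χ x‖ = d := by
        obtain ⟨w, hw⟩ := schur_scalar ρ (ρ x) fun g v => by
          rw [← Module.End.mul_apply, ← map_mul,
            ← Subgroup.mem_center_iff.mp (Finset.mem_filter.1 hx).2 g, map_mul, Module.End.mul_apply]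
        have hk : (k : ℂ) = d := by rw [← hd1, ← hρ, Representation.char_one]; simp
        have hk0 : (k : ℂ) ≠ 0 := by rw [hk]; exact_mod_cast hd.ne'
        have hpw : w ^ orderOf x = 1 := by
          have h1 := congrArg (LinearMap.trace ℂ _) ((congrArg (· ^ orderOf x) hw).symm.trans
            (by rw [← map_pow, pow_orderOf_eq_one, map_one] : (ρ x) ^ orderOf x = 1))
          rw [smul_pow, show (LinearMap.id : Module.End ℂ (Fin k → ℂ)) = 1 from rfl, one_pow,
            map_smul, LinearMap.trace_one, smul_eq_mul] at h1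
          exact mul_right_cancel₀ (by simpa using hk0) (h1.trans (one_mul _).symm)
        rw [← hρ]
        show ‖LinearMap.trace ℂ _ (ρ x)‖ = _
        rw [hw, map_smul, LinearMap.trace_id, smul_eq_mul, norm_mul, Module.finrank_fin_fun, hk,
          norm_root (orderOf_pos x).ne' hpw, one_mul, Complex.norm_natCast]
      rw [hω1, norm_mul, hd1, Complex.norm_natCast] at hx'
      have : ‖ω‖ = 1 := (mul_eq_right₀ (by exact_mod_cast hd.ne')).1 hx'
      rw [Complex.mul_conj', this]; simp
    rw [hω1, map_mul, hd1, map_natCast]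
    linear_combination ((d : ℂ) * d) * hn

theorem degree_one_of_center_kernel (hP : IsExtraspecial p P) {χ : P → ℂ}
    (hχ : IsIrrCharacter P χ) (hker : ∀ z ∈ Subgroup.center P, χ z = χ 1) : χ 1 = 1 := by
  haveI := Fintype.ofFinite (P ⧸ Subgroup.center P)
  obtain ⟨χ', hχ', hcomp⟩ := irr_descend (QuotientGroup.mk' (Subgroup.center P))
    (QuotientGroup.mk'_surjective _) hχ fun k hk => hker k ((QuotientGroup.eq_one_iff k).1 hk)
  rw [← hcomp, Function.comp_apply, map_one]
  refine irr_degree_one_of_comm (fun a b => ?_) hχ'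
  obtain ⟨a, rfl⟩ := QuotientGroup.mk'_surjective _ a
  obtain ⟨b, rfl⟩ := QuotientGroup.mk'_surjective _ b
  rw [← map_mul, ← map_mul, QuotientGroup.mk'_apply, QuotientGroup.mk'_apply, QuotientGroup.eq,
    ← hP.1.2.2, commutator_def]
  simpa [commutatorElement_def, mul_assoc] using
    Subgroup.commutator_mem_commutator (Subgroup.mem_top b⁻¹) (Subgroup.mem_top a⁻¹)

end CfsgLib.Char
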