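import Cfsg.Agent.Char.Classes
import Cfsg.Agent.Char.Clifford

/-! Brauer's permutation lemma and real characters in odd order. -/

set_option autoImplicit false
set_option linter.style.haveILetI false
set_option linter.unusedSectionVars false

namespace CfsgLib.Char

open Cfsg
open scoped ComplexConjugate

universe u

variable {G : Type u} [Group G] [Fintype G]

theorem fun_isConj_of_irr {f : G → G} (hf : ∀ χ : IrrCharacter G, IsClassFunction G ((χ : G → ℂ) ∘ f))
    {g h : G} (hgh : IsConj g h) : IsConj (f g) (f h) :=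
  (isConj_iff_irr _ _).2 fun χ => classFun_isConj (hf χ) hgh

/-- Brauer's permutation lemma. -/
theorem card_fixed_irr_eq_classes (f : G → G)
    (hf : ∀ χ : IrrCharacter G, IsIrrCharacter G ((χ : G → ℂ) ∘ f)) :
    Nat.card {χ : IrrCharacter G // (χ : G → ℂ) ∘ f = (χ : G → ℂ)} =
      Nat.card {K : ConjClasses G // ∀ g, ConjClasses.mk g = K → ConjClasses.mk (f g) = K} := by
  classical
  haveI : Fintype (ConjClasses G) := Fintype.ofFinite _
  have h1 : ∑ χ : IrrCharacter G, classInner ((χ : G → ℂ) ∘ f) (χ : G → ℂ) =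
      (Nat.card {χ : IrrCharacter G // (χ : G → ℂ) ∘ f = (χ : G → ℂ)} : ℂ) := by
    rw [Nat.card_eq_fintype_card, Fintype.card_subtype, ← Finset.sum_boole]
    exact Finset.sum_congr rfl fun χ _ => irr_inner (hf χ) χ.2
  have h2 : ∑ χ : IrrCharacter G, classInner ((χ : G → ℂ) ∘ f) (χ : G → ℂ) =
      (Nat.card G : ℂ)⁻¹ * ∑ g : G, if IsConj (f g) g then
        (Nat.card (Subgroup.centralizer ({f g} : Set G)) : ℂ) else 0 := by
    simp only [classInner_def, ← Finset.mul_sum, Function.comp_apply]
    rw [Finset.sum_comm]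
    congr 1
    exact Finset.sum_congr rfl fun g _ => second_orth (f g) g
  have h3 : ∀ K : ConjClasses G, ∑ g ∈ Finset.univ.filter (fun g => ConjClasses.mk g = K),
      (if IsConj (f g) g then (Nat.card (Subgroup.centralizer ({f g} : Set G)) : ℂ) else 0) =
      if ∀ g, ConjClasses.mk g = K → ConjClasses.mk (f g) = K then (Nat.card G : ℂ) else 0 := by
    intro K
    split_ifs with hK
    · obtain ⟨a, rfl⟩ := ConjClasses.exists_rep K
      have hfa : IsConj (f a) a := ConjClasses.mk_eq_mk_iff_isConj.1 (hK a rfl)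
      rw [Finset.sum_congr rfl
        (g := fun _ => (Nat.card (Subgroup.centralizer ({a} : Set G)) : ℂ)) fun g hg => ?_,
        Finset.sum_const, nsmul_eq_mul, show (Finset.univ.filter fun g => ConjClasses.mk g =
          ConjClasses.mk a) = Finset.univ.filter (fun g => IsConj a g) from by
          ext g; simp only [Finset.mem_filter, Finset.mem_univ, true_and, ConjClasses.mk_eq_mk_iff_isConj]; exact isConj_comm,
        card_filter_isConj, ← Nat.cast_mul, index_mul_card_centralizer]
      have hga : ConjClasses.mk g = ConjClasses.mk a := (Finset.mem_filter.1 hg).2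
      rw [if_pos (ConjClasses.mk_eq_mk_iff_isConj.1 ((hK g hga).trans hga.symm))]
      congr 1
      have h4 : IsConj a (f g) := (ConjClasses.mk_eq_mk_iff_isConj.1 (hK g hga)).symm
      obtain ⟨c, hc⟩ := isConj_iff.1 h4
      have e1 := index_mul_card_centralizer a
      have e2 := index_mul_card_centralizer (f g)
      have e3 : (Subgroup.centralizer ({f g} : Set G)).index =
          (Subgroup.centralizer ({a} : Set G)).index := by
        rw [← card_isConj, ← card_isConj]
        exact Nat.card_congr (Equiv.subtypeEquivRight fun x =>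
          ⟨fun h => h4.trans h, fun h => h4.symm.trans h⟩)
      rw [e3] at e2
      exact Nat.eq_of_mul_eq_mul_left
        (Nat.pos_of_ne_zero Subgroup.index_ne_zero_of_finite) (e2.trans e1.symm)
    · refine Finset.sum_eq_zero fun g hg => if_neg fun hfg => hK fun g' hg' => ?_
      have hg0 := (Finset.mem_filter.1 hg).2
      rw [← hg0, ConjClasses.mk_eq_mk_iff_isConj]
      exact (fun_isConj_of_irr (fun χ => classFun_of_irr (hf χ))
        (ConjClasses.mk_eq_mk_iff_isConj.1 (hg'.trans hg0.symm))).trans hfg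
  rw [← Finset.sum_fiberwise (Finset.univ : Finset G) ConjClasses.mk, Finset.sum_congr rfl fun K _ => h3 K,
    Finset.sum_ite, Finset.sum_const_zero, add_zero, Finset.sum_const, nsmul_eq_mul, h1,
    mul_comm (Finset.card _ : ℂ), ← mul_assoc, inv_mul_cancel₀ (natCard_ne_zero G), one_mul,
    Nat.cast_inj] at h2
  rw [h2, ← Fintype.card_subtype, ← Nat.card_eq_fintype_card]

theorem irr_comp_inv (χ : IrrCharacter G) :
    IsIrrCharacter G ((χ : G → ℂ) ∘ fun g => g⁻¹) := by
  rw [show ((χ : G → ℂ) ∘ fun g => g⁻¹) = fun g => conj ((χ : G → ℂ) g) from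
    funext fun g => char_conj_eq (isCharacter_of_isIrr χ.2) g]
  exact irr_conj χ.2

theorem eq_one_of_isConj_inv_odd (hodd : Odd (Nat.card G)) {g : G} (h : IsConj g g⁻¹) : g = 1 := by
  obtain ⟨x, hx⟩ := isConj_iff.1 h
  obtain ⟨k, hk⟩ := hodd
  have hsq : Commute (x ^ 2) g := by
    have h2 : x * g⁻¹ * x⁻¹ = g := by
      rw [← conj_inv, hx, inv_inv]
    calc x ^ 2 * g = x * (x * g * x⁻¹) * x := by rw [sq]; group
      _ = x * g⁻¹ * x⁻¹ * x ^ 2 := by rw [hx, sq]; group
      _ = g * x ^ 2 := by rw [h2]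
  have hx1 : x = (x ^ 2) ^ (k + 1) := by
    rw [← pow_mul, show 2 * (k + 1) = Nat.card G + 1 by omega, pow_succ, pow_card_eq_one', one_mul]
  have hc : Commute x g := hx1 ▸ hsq.pow_left _
  rw [hc.eq, mul_inv_cancel_right] at hx
  have h2 : g ^ 2 = 1 := by rw [sq]; nth_rw 2 [hx]; exact mul_inv_cancel g
  calc g = g ^ (Nat.card G + 1) * (g ^ 2)⁻¹ ^ k * (g ^ 2)⁻¹ ^ 0 := by
        rw [h2, inv_one, one_pow, one_pow, mul_one, mul_one, pow_succ, pow_card_eq_one', one_mul]
    _ = 1 := by rw [show Nat.card G + 1 = 2 * (k + 1) by omega, pow_mul, h2]; simp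

/-- In odd order only the principal character is real. -/
theorem eq_one_of_real_odd (hodd : Odd (Nat.card G)) (χ : IrrCharacter G)
    (hreal : ∀ g : G, conj ((χ : G → ℂ) g) = (χ : G → ℂ) g) : (χ : G → ℂ) = fun _ => 1 := by
  classical
  have h := card_fixed_irr_eq_classes (fun g : G => g⁻¹) irr_comp_inv
  have h1 : Nat.card {K : ConjClasses G //
      ∀ g, ConjClasses.mk g = K → ConjClasses.mk g⁻¹ = K} = 1 := by
    rw [Nat.card_eq_one_iff_exists]
    refine ⟨⟨ConjClasses.mk 1, fun g hg => ?_⟩, ?_⟩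
    · rw [ConjClasses.mk_eq_mk_iff_isConj, isConj_one_left] at hg
      rw [hg, inv_one]
    · rintro ⟨K, hK⟩
      obtain ⟨a, rfl⟩ := ConjClasses.exists_rep K
      exact Subtype.ext (congrArg ConjClasses.mk (eq_one_of_isConj_inv_odd hodd
        (ConjClasses.mk_eq_mk_iff_isConj.1 (hK a rfl)).symm))
  rw [h1, Nat.card_eq_one_iff_exists] at h
  obtain ⟨z, hz⟩ := h
  have e1 := hz ⟨χ, funext fun g => by
    rw [Function.comp_apply, char_conj_eq (isCharacter_of_isIrr χ.2) g, hreal]⟩
  have e2 := hz ⟨⟨_, isIrr_one⟩, rfl⟩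
  exact congrArg (fun z => ((z.1 : IrrCharacter G) : G → ℂ)) (e1.trans e2.symm)

/-- A character all of whose irreducible constituents are linear is constant on `G'`. -/
theorem apply_eq_of_linear_constituents {φ : G → ℂ} (hφ : IsCharacter G φ)
    (h : ∀ χ : IrrCharacter G, classInner φ (χ : G → ℂ) ≠ 0 → (χ : G → ℂ) 1 = 1) {c : G}
    (hc : c ∈ commutator G) : φ c = φ 1 := by
  classical
  have h1 := classFun_eq_sum (classFun_of_char hφ)
  rw [congrFun h1 c, congrFun h1 1]
  simp only [Finset.sum_apply, Pi.smul_apply, smul_eq_mul]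
  refine Finset.sum_congr rfl fun χ _ => ?_
  by_cases h0 : classInner φ (χ : G → ℂ) = 0
  · rw [h0]; simp
  · obtain ⟨μ, hμ⟩ := exists_hom_of_degree_one (isCharacter_of_isIrr χ.2) (h χ h0)
    rw [hμ]
    simp [MonoidHom.mem_ker.1 (Abelianization.commutator_subset_ker μ hc)]

end CfsgLib.Char
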