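import Mathlib
import Cfsg.Agent.Char.PermLemma
import Cfsg.Agent.Char.Coherence
import Cfsg.Agent.Blk.ZStarBasic
import Cfsg.Agent.Blk.RegInd

/-! Exceptional characters of a T.I. subgroup whose normalizer is a Frobenius group. -/

set_option autoImplicit false
set_option linter.unusedSectionVars false

namespace CfsgLib.FrobTI

open Cfsg CfsgLib.Char
open scoped ComplexConjugate CfsgLib.Char

universe u

section local_group

variable {N : Type u} [Group N] [Fintype N] {H : Subgroup N} [hH : H.Normal] [Fintype H]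

/-- irreducible and nonconstant on `H` -/
def Rel (H : Subgroup N) (χ : N → ℂ) : Prop := IsIrrCharacter N χ ∧ ∃ k ∈ H, χ k ≠ χ 1

variable (hC : ∀ h ∈ H, h ≠ 1 → Subgroup.centralizer ({h} : Set N) ≤ H)
include hC

theorem indFun_irr {θ : H → ℂ} (hθ : IsIrrCharacter H θ) (hne : θ ≠ fun _ => 1) :
    IsIrrCharacter N (indFun H θ) := by
  classical
  have hin : ∀ x : N, conjN θ x = θ → x ∈ H := by
    intro x hx
    by_contra hxH
    have hb := card_fixed_irr_eq_classes (fun g : H => (⟨x * g * x⁻¹, hH.conj_mem (g : N) g.2 x⟩ : H))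
      fun φ => irr_conjN φ.2 x
    have hcl : Nat.card {C : ConjClasses H // ∀ g, ConjClasses.mk g = C →
        ConjClasses.mk (⟨x * g * x⁻¹, hH.conj_mem (g : N) g.2 x⟩ : H) = C} ≤ 1 := by
      haveI : Subsingleton {C : ConjClasses H // ∀ g, ConjClasses.mk g = C →
          ConjClasses.mk (⟨x * g * x⁻¹, hH.conj_mem (g : N) g.2 x⟩ : H) = C} := by
        have key : ∀ C : {C : ConjClasses H // ∀ g, ConjClasses.mk g = C →
            ConjClasses.mk (⟨x * g * x⁻¹, hH.conj_mem (g : N) g.2 x⟩ : H) = C},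
            C.1 = ConjClasses.mk 1 := by
          rintro ⟨C, hC'⟩
          obtain ⟨k, rfl⟩ := ConjClasses.exists_rep C
          by_contra hk
          have hk1 : (k : N) ≠ 1 := fun h => hk (congrArg ConjClasses.mk (Subtype.ext h : k = 1))
          obtain ⟨m, hm⟩ := isConj_iff.1 (ConjClasses.mk_eq_mk_iff_isConj.1 (hC' k rfl).symm)
          have e : (m : N) * k * (m : N)⁻¹ = x * k * x⁻¹ := congrArg Subtype.val hm
          have : (m : N)⁻¹ * x ∈ H := hC k k.2 hk1 (Subgroup.mem_centralizer_singleton_iff.2 (by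
            calc (m : N)⁻¹ * x * k = (m : N)⁻¹ * (x * k * x⁻¹) * x := by group
              _ = k * ((m : N)⁻¹ * x) := by rw [← e]; group))
          exact hxH (by simpa using mul_mem m.2 this)
        exact ⟨fun a b => Subtype.ext ((key a).trans (key b).symm)⟩
      exact Finite.card_le_one_iff_subsingleton.2 inferInstance
    rw [← hb] at hcl
    haveI := Finite.card_le_one_iff_subsingleton.1 hcl
    exact hne (congrArg Subtype.val (congrArg Subtype.val (Subsingleton.elim
      (⟨⟨θ, hθ⟩, hx⟩ : {φ : IrrCharacter H // (φ : H → ℂ) ∘ (fun g : H =>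
        (⟨x * g * x⁻¹, hH.conj_mem (g : N) g.2 x⟩ : H)) = (φ : H → ℂ)})
      ⟨⟨_, isIrr_one⟩, rfl⟩)))
  refine isIrr_of_char_norm (isCharacter_indFun H (isCharacter_of_isIrr hθ)) ?_
  rw [norm_indFun hθ, show inertia θ = H from le_antisymm hin (le_inertia (classFun_of_irr hθ)),
    div_self (natCard_ne_zero H)]

theorem not_rel {χ : N → ℂ} (hχ : IsIrrCharacter N χ) (h : ¬ Rel H χ) : ∀ k ∈ H, χ k = χ 1 := by
  intro k hk
  by_contra hne
  exact h ⟨hχ, k, hk, hne⟩

theorem rel_constituent {χ : N → ℂ} (hχ : Rel H χ) {θ : H → ℂ} (hθ : IsIrrCharacter H θ)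
    (hc : classInner (fun n : H => χ n) θ ≠ 0) : θ ≠ (fun _ => 1) ∧ χ = indFun H θ := by
  have hne : θ ≠ fun _ => 1 := by
    rintro rfl
    obtain ⟨k, hk, hkne⟩ := hχ.2
    have h := res_homogeneous hχ.1 hθ hc fun g => rfl
    exact hkne ((congrFun h ⟨k, hk⟩).trans (congrFun h 1).symm)
  refine ⟨hne, ?_⟩
  by_contra h
  refine hc ?_
  rw [← frobenius' H θ (classFun_of_irr hχ.1)]
  exact irr_inner_ne hχ.1 (indFun_irr hC hθ hne) h

theorem rel_vanish {χ : N → ℂ} (hχ : Rel H χ) {x : N} (hx : x ∉ H) : χ x = 0 := by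
  obtain ⟨θ, hθ, hc⟩ := exists_constituent_res (N := H) hχ.1
  rw [(rel_constituent hC hχ hθ hc).2]
  exact indFun_outside θ hx

theorem rel_indFun {θ : H → ℂ} (hθ : IsIrrCharacter H θ) (hne : θ ≠ fun _ => 1) :
    Rel H (indFun H θ) := by
  classical
  refine ⟨indFun_irr hC hθ hne, ?_⟩
  by_contra hall
  push Not at hall
  have h2 : classInner (fun n : H => indFun H θ n) θ ≠ 0 := by
    rw [inner_res_ind hθ hθ]
    refine div_ne_zero (Nat.cast_ne_zero.2 (Finset.card_ne_zero.2 ⟨1, ?_⟩)) (natCard_ne_zero H)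
    simp [conjN_one]
  refine h2 ?_
  rw [show (fun n : H => indFun H θ n) = indFun H θ 1 • (fun _ : H => (1 : ℂ)) from funext fun n => by
      simp [hall n n.2],
    classInner_smul_left, irr_inner_ne isIrr_one hθ (Ne.symm hne), mul_zero]

open Classical in
/-- Class functions on `H - {1}` orthogonal to the degree zero combinations are constant there. -/
theorem const_of_orth (f : N → ℂ) (hf : IsClassFunction N f)
    (hsupp : ∀ x, ¬ (x ∈ H ∧ x ≠ 1) → f x = 0)
    (horth : ∀ η ξ : N → ℂ, Rel H η → Rel H ξ → classInner f (ξ 1 • η - η 1 • ξ) = 0) :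
    ∃ c : ℂ, ∀ k ∈ H, k ≠ 1 → f k = c := by
  obtain ⟨lam, hlam⟩ : ∃ lam : ℂ, ∀ η : N → ℂ, Rel H η → classInner f η = η 1 * lam := by
    by_cases hex : ∃ η₀, Rel H η₀
    · obtain ⟨η₀, h0⟩ := hex
      refine ⟨classInner f η₀ / η₀ 1, fun η hη => ?_⟩
      have h := horth η η₀ hη h0
      rw [classInner_sub_right, classInner_smul_right, classInner_smul_right,
        char_one_eq (isCharacter_of_isIrr h0.1), char_one_eq (isCharacter_of_isIrr hη.1),
        Complex.conj_natCast, Complex.conj_natCast, sub_eq_zero] at h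
      rw [char_one_eq (isCharacter_of_isIrr h0.1), char_one_eq (isCharacter_of_isIrr hη.1)]
      have h0' : (charDegree η₀ : ℂ) ≠ 0 := Nat.cast_ne_zero.2 (charDegree_pos h0.1).ne'
      field_simp
      linear_combination h
    · exact ⟨0, fun η hη => absurd ⟨η, hη⟩ hex⟩
  set μ : ℂ := (Nat.card N : ℂ)⁻¹ * ∑ x : N, f x
  have hμ : ∀ φ : IrrCharacter N, ¬ Rel H (φ : N → ℂ) →
      classInner f (φ : N → ℂ) = (φ : N → ℂ) 1 * μ := by
    intro φ hφ
    simp only [classInner_def, μ, Finset.mul_sum]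
    refine Finset.sum_congr rfl fun x _ => ?_
    by_cases hx : x ∈ H
    · rw [not_rel hC φ.2 hφ x hx, char_one_eq (isCharacter_of_isIrr φ.2), Complex.conj_natCast]; ring
    · rw [hsupp x fun h => hx h.1]; ring
  set E : ℂ := ∑ φ : IrrCharacter N, if Rel H (φ : N → ℂ) then 0 else (φ : N → ℂ) 1 * (φ : N → ℂ) 1
  refine ⟨(μ - lam) * E, fun k hk hk1 => ?_⟩
  have hexp := congrFun (classFun_eq_sum hf) k
  simp only [Finset.sum_apply, Pi.smul_apply, smul_eq_mul] at hexp
  have hso : ∑ φ : IrrCharacter N, (φ : N → ℂ) k * (φ : N → ℂ) 1 = 0 := by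
    have h := second_orth k (1 : N)
    rw [if_neg fun hh => hk1 (isConj_one_left.1 hh)] at h
    rw [← h]
    exact Finset.sum_congr rfl fun φ _ => by
      rw [char_one_eq (isCharacter_of_isIrr φ.2), Complex.conj_natCast]
  rw [hexp]
  calc ∑ φ : IrrCharacter N, classInner f (φ : N → ℂ) * (φ : N → ℂ) k
      = ∑ φ : IrrCharacter N, (lam * ((φ : N → ℂ) k * (φ : N → ℂ) 1) +
          (μ - lam) * (if Rel H (φ : N → ℂ) then 0 else (φ : N → ℂ) 1 * (φ : N → ℂ) 1)) := by
        refine Finset.sum_congr rfl fun φ _ => ?_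
        split_ifs with h
        · rw [hlam _ h]; ring
        · rw [hμ φ h, not_rel hC φ.2 h k hk]; ring
    _ = (μ - lam) * E := by
        rw [Finset.sum_add_distrib, ← Finset.mul_sum, hso, mul_zero, zero_add, ← Finset.mul_sum]

end local_group

section ambient

variable {G : Type u} [Group G] [Fintype G] {K : Subgroup G}

theorem centralizer_sub (hC : ∀ k ∈ K, k ≠ 1 → Subgroup.centralizer ({k} : Set G) ≤ K) :
    ∀ h ∈ K.subgroupOf (Subgroup.normalizer (K : Set G)), h ≠ 1 →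
      Subgroup.centralizer ({h} : Set ↥(Subgroup.normalizer (K : Set G))) ≤
        K.subgroupOf (Subgroup.normalizer (K : Set G)) := by
  intro h hh h1 x hx
  refine Subgroup.mem_subgroupOf.2 (hC h (Subgroup.mem_subgroupOf.1 hh) (fun e => h1 (Subtype.ext e)) ?_)
  exact Subgroup.mem_centralizer_singleton_iff.2
    (congrArg Subtype.val (Subgroup.mem_centralizer_singleton_iff.1 hx))

variable [Fintype ↥(Subgroup.normalizer (K : Set G))]

/-- the set of relevant characters -/
def relSet (K : Subgroup G) : Set (↥(Subgroup.normalizer (K : Set G)) → ℂ) :=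
  {χ | Rel (K.subgroupOf (Subgroup.normalizer (K : Set G))) χ}

theorem relSet_eq : relSet K = {χ : ↥(Subgroup.normalizer (K : Set G)) → ℂ |
    IsIrrCharacter ↥(Subgroup.normalizer (K : Set G)) χ ∧
      ∃ k : ↥(Subgroup.normalizer (K : Set G)), (k : G) ∈ K ∧ χ k ≠ χ 1} := by
  ext χ
  simp [relSet, Rel, Subgroup.mem_subgroupOf]

theorem ind_apply (hTI : ∀ g : G, g ∉ Subgroup.normalizer (K : Set G) → ∀ k ∈ K, g * k * g⁻¹ ∈ K → k = 1)
    {α : ↥(Subgroup.normalizer (K : Set G)) → ℂ} (hα : IsClassFunction _ α)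
    (hsupp : ∀ x : ↥(Subgroup.normalizer (K : Set G)), ¬ ((x : G) ∈ K ∧ x ≠ 1) → α x = 0)
    {k : ↥(Subgroup.normalizer (K : Set G))} (hk : (k : G) ∈ K) (hk1 : k ≠ 1) :
    indFun (Subgroup.normalizer (K : Set G)) α (k : G) = α k := by
  refine CfsgLib.Blk.indFun_eq_of_ti _ hα fun g hm hne => ?_
  by_contra hg
  have hmem : g⁻¹ * (k : G) * g ∈ K := by
    by_contra h
    exact hne (hsupp _ fun hh => h hh.1)
  refine hk1 (Subtype.ext (hTI g⁻¹ (fun h => hg (by simpa using inv_mem h)) k hk ?_))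
  simpa using hmem

open Classical in
/-- A class function of `G` whose inner products with the induced degree zero combinations agree with
those of `β` differs from `β` by a constant on `K - {1}`. -/
theorem sub_const (hC : ∀ k ∈ K, k ≠ 1 → Subgroup.centralizer ({k} : Set G) ≤ K)
    {ψ : G → ℂ} (hψ : IsClassFunction G ψ) {β : ↥(Subgroup.normalizer (K : Set G)) → ℂ}
    (hβ : IsClassFunction _ β)
    (h : ∀ η ∈ relSet K, ∀ ξ ∈ relSet K,
      classInner ψ (indFun (Subgroup.normalizer (K : Set G)) (ξ 1 • η - η 1 • ξ)) =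
        classInner β (ξ 1 • η - η 1 • ξ)) :
    ∃ c : ℂ, ∀ k : ↥(Subgroup.normalizer (K : Set G)), (k : G) ∈ K → k ≠ 1 → ψ (k : G) - β k = c := by
  let f : ↥(Subgroup.normalizer (K : Set G)) → ℂ := fun x =>
    if (x : G) ∈ K ∧ x ≠ 1 then ψ (x : G) - β x else 0
  have hKn : (K.subgroupOf (Subgroup.normalizer (K : Set G))).Normal := Subgroup.normal_in_normalizer
  haveI := hKn
  have hf : IsClassFunction _ f := by
    intro x y
    simp only [f]
    refine if_congr ?_ ?_ rfl
    · refine and_congr ⟨fun hh => ?_, fun hh => ?_⟩ (not_congr conj_eq_one_iff)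
      · have := hKn.conj_mem (y * x * y⁻¹) (Subgroup.mem_subgroupOf.2 hh) y⁻¹
        simpa [Subgroup.mem_subgroupOf, mul_assoc] using this
      · exact Subgroup.mem_subgroupOf.1 (hKn.conj_mem x (Subgroup.mem_subgroupOf.2 hh) y)
    · rw [hβ x y]
      congr 1
      simpa using hψ (x : G) (y : G)
  have horth : ∀ η ξ : ↥(Subgroup.normalizer (K : Set G)) → ℂ,
      Rel (K.subgroupOf (Subgroup.normalizer (K : Set G))) η →
      Rel (K.subgroupOf (Subgroup.normalizer (K : Set G))) ξ →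
      classInner f (ξ 1 • η - η 1 • ξ) = 0 := by
    intro η ξ hη hξ
    have hα : ∀ x : ↥(Subgroup.normalizer (K : Set G)), ¬ ((x : G) ∈ K ∧ x ≠ 1) →
        (ξ 1 • η - η 1 • ξ) x = 0 := by
      intro x hx
      by_cases hxK : (x : G) ∈ K
      · obtain rfl : x = 1 := by_contra fun h1 => hx ⟨hxK, h1⟩
        simp [mul_comm]
      · have hx' : x ∉ K.subgroupOf (Subgroup.normalizer (K : Set G)) := fun h' =>
          hxK (Subgroup.mem_subgroupOf.1 h')
        simp [rel_vanish (centralizer_sub hC) hη hx', rel_vanish (centralizer_sub hC) hξ hx']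
    have e : classInner f (ξ 1 • η - η 1 • ξ) =
        classInner (fun x : ↥(Subgroup.normalizer (K : Set G)) => ψ (x : G)) (ξ 1 • η - η 1 • ξ) -
          classInner β (ξ 1 • η - η 1 • ξ) := by
      simp only [classInner_def, ← mul_sub, ← Finset.sum_sub_distrib]
      congr 1
      refine Finset.sum_congr rfl fun x _ => ?_
      by_cases hx : (x : G) ∈ K ∧ x ≠ 1
      · simp only [f, if_pos hx]; ring
      · simp only [hα x hx, map_zero, mul_zero, sub_zero]
    rw [e, ← frobenius' _ _ hψ, h η hη ξ hξ, sub_self]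
  obtain ⟨c, hc⟩ := const_of_orth (centralizer_sub hC) f hf (fun x hx => if_neg fun hh =>
      hx ⟨Subgroup.mem_subgroupOf.2 hh.1, hh.2⟩) horth
  refine ⟨c, fun k hk hk1 => ?_⟩
  rw [← hc k (Subgroup.mem_subgroupOf.2 hk) hk1]
  exact (if_pos ⟨hk, hk1⟩).symm

variable (hC : ∀ k ∈ K, k ≠ 1 → Subgroup.centralizer ({k} : Set G) ≤ K)
  {star : (↥(Subgroup.normalizer (K : Set G)) → ℂ) → (G → ℂ)}
  (hstar : IsLinearIsometryOn (zspan (relSet K)) star)
  (hext : ∀ α ∈ zspanOn (relSet K) ({1}ᶜ : Set ↥(Subgroup.normalizer (K : Set G))),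
    star α = indFun (Subgroup.normalizer (K : Set G)) α)
include hC hstar hext

theorem alpha_facts {η ξ : ↥(Subgroup.normalizer (K : Set G)) → ℂ} (hη : η ∈ relSet K)
    (hξ : ξ ∈ relSet K) : ξ 1 • η - η 1 • ξ ∈ zspan (relSet K) ∧
      indFun (Subgroup.normalizer (K : Set G)) (ξ 1 • η - η 1 • ξ) = ξ 1 • star η - η 1 • star ξ ∧
      indFun (Subgroup.normalizer (K : Set G)) (ξ 1 • η - η 1 • ξ) = star (ξ 1 • η - η 1 • ξ) := by
  have h1 := CfsgLib.Coh.mem_zspan hη
  have h2 := CfsgLib.Coh.mem_zspan hξ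
  have e1 : ∀ φ : ↥(Subgroup.normalizer (K : Set G)) → ℂ, φ ∈ relSet K → φ 1 = (charDegree φ : ℂ) :=
    fun φ hφ => char_one_eq (isCharacter_of_isIrr hφ.1)
  have hmem := CfsgLib.Coh.degZero_mem (S := relSet K) charDegree e1 hη hξ
  have heq : ξ 1 • η - η 1 • ξ = (charDegree ξ : ℤ) • η - (charDegree η : ℤ) • ξ := by
    rw [e1 ξ hξ, e1 η hη]; funext x; simp
  rw [heq]
  refine ⟨hmem.1, ?_, (hext _ hmem).symm⟩
  rw [← hext _ hmem]
  have h := hstar.1 _ hmem.1 ((charDegree η : ℤ) • ξ) (Submodule.smul_mem _ _ h2)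
  rw [sub_add_cancel, hstar.2.1 _ h1, hstar.2.1 _ h2] at h
  rw [e1 ξ hξ, e1 η hη, eq_sub_of_add_eq h.symm]
  funext x; simp

theorem star_sub_const {χ : ↥(Subgroup.normalizer (K : Set G)) → ℂ} (hχ : χ ∈ relSet K) :
    ∃ c : ℂ, ∀ k : ↥(Subgroup.normalizer (K : Set G)), (k : G) ∈ K → k ≠ 1 → star χ (k : G) - χ k = c := by
  refine sub_const hC (classFun_of_gen (hstar.2.2.2 χ (CfsgLib.Coh.mem_zspan hχ)))
    (classFun_of_irr hχ.1) fun η hη ξ hξ => ?_
  rw [(alpha_facts hC hstar hext hη hξ).2.2]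
  exact hstar.2.2.1 χ (CfsgLib.Coh.mem_zspan hχ) _ (alpha_facts hC hstar hext hη hξ).1

end ambient

end CfsgLib.FrobTI

namespace CfsgLib.FrobTI

open Cfsg CfsgLib.Char
open scoped ComplexConjugate CfsgLib.Char

theorem inner_spike {H : Type*} [Group H] [Fintype H] (F : H → ℂ) (c : ℂ) (hF : ∀ k, k ≠ 1 → F k = c)
    {θ : H → ℂ} (hθ : IsIrrCharacter H θ) :
    classInner F θ = c * classInner (fun _ : H => (1 : ℂ)) θ + (F 1 - c) * θ 1 / (Nat.card H : ℂ) := by
  classical
  have e : F = c • (fun _ : H => (1 : ℂ)) + (F 1 - c) • (fun k : H => if k = 1 then (1 : ℂ) else 0) := by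
    funext k
    by_cases hk : k = 1
    · simp [hk]
    · simp [hk, hF k hk]
  conv_lhs => rw [e]
  rw [classInner_add_left, classInner_smul_left, classInner_smul_left]
  congr 1
  rw [classInner_def, Finset.sum_eq_single (1 : H) (fun k _ hk => by simp [hk]) (by simp)]
  simp [char_one_eq (isCharacter_of_isIrr hθ)]
  ring

/-- a rational multiplier integral on every nontrivial degree is integral -/
theorem int_of_degrees {H : Type*} [Group H] [Fintype H] (h1 : ∃ h : H, h ≠ 1) (r : ℂ)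
    (h : ∀ θ : H → ℂ, IsIrrCharacter H θ → θ ≠ (fun _ => 1) → ∃ z : ℤ, r * θ 1 = z) :
    ∃ z : ℤ, r = z := by
  classical
  obtain ⟨x, hx⟩ := h1
  let one : IrrCharacter H := ⟨fun _ => 1, isIrr_one⟩
  have hso := second_orth (1 : H) 1
  rw [if_pos (IsConj.refl _), Subgroup.centralizer_eq_top_iff_subset.2
    (by simp), Subgroup.card_top] at hso
  have hsum : ∑ φ ∈ Finset.univ.erase one, (φ : H → ℂ) 1 * (φ : H → ℂ) 1 = (Nat.card H : ℂ) - 1 := by
    rw [eq_sub_iff_add_eq, ← hso]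
    rw [← Finset.sum_erase_add _ _ (Finset.mem_univ one)]
    congr 1
    · exact Finset.sum_congr rfl fun φ _ => by
        rw [char_one_eq (isCharacter_of_isIrr φ.2), Complex.conj_natCast]
    · simp [one]
  have hne : ∀ φ ∈ Finset.univ.erase one, (φ : H → ℂ) ≠ fun _ => 1 := fun φ hφ e =>
    (Finset.mem_erase.1 hφ).1 (Subtype.ext e)
  choose z hz using fun φ : {φ // φ ∈ Finset.univ.erase one} => h (φ : IrrCharacter H) φ.1.2 (hne φ φ.2)
  have hA : ∃ a : ℤ, r * ((Nat.card H : ℂ) - 1) = a := by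
    refine ⟨∑ φ : {φ // φ ∈ Finset.univ.erase one}, z φ * (charDegree ((φ : IrrCharacter H) : H → ℂ) : ℤ), ?_⟩
    rw [← hsum, Finset.mul_sum, ← Finset.sum_coe_sort, Int.cast_sum]
    refine Finset.sum_congr rfl fun φ _ => ?_
    rw [← mul_assoc, hz φ, char_one_eq (isCharacter_of_isIrr φ.1.2)]
    push_cast
    rfl
  obtain ⟨φ₀, hφ₀⟩ : ∃ φ : IrrCharacter H, φ ∈ Finset.univ.erase one := by
    by_contra hno
    push Not at hno
    have he : Finset.univ.erase one = (∅ : Finset (IrrCharacter H)) :=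
      Finset.eq_empty_of_forall_notMem hno
    rw [he, Finset.sum_empty, eq_comm, sub_eq_zero, Nat.cast_eq_one] at hsum
    exact hx ((Nat.card_eq_one_iff_unique.1 hsum).1.elim x 1)
  obtain ⟨q, hq⟩ := degree_dvd_card φ₀.2
  obtain ⟨z₀, hz₀⟩ := h _ φ₀.2 (hne φ₀ hφ₀)
  obtain ⟨a, ha⟩ := hA
  refine ⟨z₀ * q - a, ?_⟩
  push_cast
  rw [← hz₀, ← ha, hq, char_one_eq (isCharacter_of_isIrr φ₀.2)]
  push_cast
  ring

end CfsgLib.FrobTI
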