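import Cfsg.Agent.Char.Classes
import Cfsg.Agent.Char.Central
import Mathlib.LinearAlgebra.Matrix.NonsingularInverse

/-! The Frobenius–Schur indicator through invariant bilinear forms. -/

set_option autoImplicit false
set_option linter.style.haveILetI false
set_option linter.unusedSectionVars false

namespace CfsgLib.Char

open Module Cfsg Matrix
open scoped ComplexConjugate

universe u

variable {G : Type u} [Group G] [Fintype G] {n : ℕ}

/-- The indicator. -/
noncomputable def fsInd (χ : G → ℂ) : ℂ := (Nat.card G : ℂ)⁻¹ * ∑ s : G, χ (s * s)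

/-- `M ↦ Aᵀ M A`. -/
def sandwich (A : Matrix (Fin n) (Fin n) ℂ) :
    Matrix (Fin n) (Fin n) ℂ →ₗ[ℂ] Matrix (Fin n) (Fin n) ℂ where
  toFun M := Aᵀ * M * A
  map_add' M N := by rw [Matrix.mul_add, Matrix.add_mul]
  map_smul' c M := by simp [Matrix.mul_smul, Matrix.smul_mul]

theorem sandwich_apply (A M : Matrix (Fin n) (Fin n) ℂ) : sandwich A M = Aᵀ * M * A := rfl

theorem trace_sandwich (A : Matrix (Fin n) (Fin n) ℂ) :
    LinearMap.trace ℂ _ (sandwich A) = A.trace * A.trace := by
  rw [LinearMap.trace_eq_matrix_trace ℂ (Matrix.stdBasis ℂ (Fin n) (Fin n)), Matrix.trace,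
    Fintype.sum_prod_type, Matrix.trace, Finset.sum_mul_sum]
  refine Finset.sum_congr rfl fun i _ => Finset.sum_congr rfl fun j _ => ?_
  rw [Matrix.diag_apply, LinearMap.toMatrix_apply, Matrix.stdBasis_eq_single]
  simp [Matrix.stdBasis, sandwich_apply, Matrix.mul_apply, Matrix.single_apply, Matrix.diag_apply,
    ite_and, Finset.sum_ite_eq', Finset.sum_ite_eq]

theorem trace_sandwich_transpose (A : Matrix (Fin n) (Fin n) ℂ) :
    LinearMap.trace ℂ _ (sandwich A ∘ₗ (Matrix.transposeLinearEquiv (Fin n) (Fin n) ℂ ℂ).toLinearMap) =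
      (A * A).trace := by
  rw [LinearMap.trace_eq_matrix_trace ℂ (Matrix.stdBasis ℂ (Fin n) (Fin n)), Matrix.trace,
    Fintype.sum_prod_type, Matrix.trace]
  refine Finset.sum_congr rfl fun i _ => ?_
  rw [Matrix.diag_apply, Matrix.mul_apply]
  refine Finset.sum_congr rfl fun j _ => ?_
  rw [Matrix.diag_apply, LinearMap.toMatrix_apply, Matrix.stdBasis_eq_single]
  simp [Matrix.stdBasis, sandwich_apply, Matrix.mul_apply, Matrix.single_apply, Matrix.transpose_apply,
    ite_and, Finset.sum_ite_eq', Finset.sum_ite_eq, mul_comm]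

variable (ρ : Representation ℂ G (Fin n → ℂ))

/-- The matrix of `ρ g`. -/
noncomputable def repMat (g : G) : Matrix (Fin n) (Fin n) ℂ := LinearMap.toMatrix' (ρ g)

theorem repMat_mul (g h : G) : repMat ρ (g * h) = repMat ρ g * repMat ρ h := by
  rw [repMat, map_mul, Module.End.mul_eq_comp, LinearMap.toMatrix'_comp]; rfl

theorem repMat_one : repMat ρ (1 : G) = 1 := by
  rw [repMat, map_one, Module.End.one_eq_id, LinearMap.toMatrix'_id]

theorem trace_repMat (g : G) : (repMat ρ g).trace = ρ.character g := by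
  rw [Representation.character, LinearMap.trace_eq_matrix_trace ℂ (Pi.basisFun ℂ (Fin n)),
    repMat, LinearMap.toMatrix_eq_toMatrix']

/-- The projection on the invariant forms. -/
noncomputable def formAvg : Matrix (Fin n) (Fin n) ℂ →ₗ[ℂ] Matrix (Fin n) (Fin n) ℂ :=
  (Nat.card G : ℂ)⁻¹ • ∑ g : G, sandwich (repMat ρ g)

/-- `M` is an invariant form. -/
def InvForm (M : Matrix (Fin n) (Fin n) ℂ) : Prop := ∀ g : G, (repMat ρ g)ᵀ * M * repMat ρ g = M

theorem formAvg_apply (M : Matrix (Fin n) (Fin n) ℂ) :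
    formAvg ρ M = (Nat.card G : ℂ)⁻¹ • ∑ g : G, (repMat ρ g)ᵀ * M * repMat ρ g := by
  simp only [formAvg, LinearMap.smul_apply, LinearMap.coe_sum, Finset.sum_apply, sandwich_apply]

theorem formAvg_inv (M : Matrix (Fin n) (Fin n) ℂ) : InvForm ρ (formAvg ρ M) := by
  intro h
  rw [formAvg_apply, Matrix.mul_smul, Matrix.smul_mul, Matrix.mul_sum, Matrix.sum_mul]
  refine congrArg (fun X => (Nat.card G : ℂ)⁻¹ • X) ?_
  refine Fintype.sum_equiv (Equiv.mulRight h) _ _ fun g => ?_
  rw [Equiv.coe_mulRight, repMat_mul, Matrix.transpose_mul]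
  simp only [Matrix.mul_assoc]

theorem formAvg_of_inv {M : Matrix (Fin n) (Fin n) ℂ} (hM : InvForm ρ M) : formAvg ρ M = M := by
  rw [formAvg_apply, Finset.sum_congr rfl fun g _ => hM g, Finset.sum_const, Finset.card_univ,
    Fintype.card_eq_nat_card, ← Nat.cast_smul_eq_nsmul ℂ, smul_smul,
    inv_mul_cancel₀ (natCard_ne_zero G), one_smul]

theorem formAvg_transpose (M : Matrix (Fin n) (Fin n) ℂ) :
    formAvg ρ Mᵀ = (formAvg ρ M)ᵀ := by
  simp only [formAvg_apply, Matrix.transpose_smul, Matrix.transpose_sum, Matrix.transpose_mul,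
    Matrix.transpose_transpose, Matrix.mul_assoc]

theorem invForm_transpose {M : Matrix (Fin n) (Fin n) ℂ} (hM : InvForm ρ M) : InvForm ρ Mᵀ :=
  fun g => by
    conv_rhs => rw [← hM g]
    simp only [Matrix.transpose_mul, Matrix.transpose_transpose, Matrix.mul_assoc]

theorem trace_formAvg : LinearMap.trace ℂ _ (formAvg ρ) =
    classInner ρ.character (fun g => conj (ρ.character g)) := by
  rw [formAvg, map_smul, map_sum, classInner_def, smul_eq_mul]
  congr 1
  refine Finset.sum_congr rfl fun g _ => ?_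
  rw [trace_sandwich, trace_repMat, Complex.conj_conj]

theorem trace_formAvg_transpose : LinearMap.trace ℂ _
    (formAvg ρ ∘ₗ (Matrix.transposeLinearEquiv (Fin n) (Fin n) ℂ ℂ).toLinearMap) =
    fsInd ρ.character := by
  rw [formAvg, LinearMap.smul_comp, map_smul, smul_eq_mul, fsInd,
    show (∑ g : G, sandwich (repMat ρ g)) ∘ₗ
        (Matrix.transposeLinearEquiv (Fin n) (Fin n) ℂ ℂ).toLinearMap =
      ∑ g : G, sandwich (repMat ρ g) ∘ₗ
        (Matrix.transposeLinearEquiv (Fin n) (Fin n) ℂ ℂ).toLinearMap from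
      LinearMap.ext fun x => by simp only [LinearMap.comp_apply, LinearMap.coe_sum, Finset.sum_apply],
    map_sum]
  congr 1
  refine Finset.sum_congr rfl fun g _ => ?_
  rw [trace_sandwich_transpose, ← repMat_mul, trace_repMat]

theorem finrank_range_formAvg : (finrank ℂ (LinearMap.range (formAvg ρ)) : ℂ) =
    classInner ρ.character (fun g => conj (ρ.character g)) := by
  rw [← trace_formAvg]
  exact (LinearMap.IsProj.trace ⟨fun x => LinearMap.mem_range_self _ x, fun x hx => by
    obtain ⟨y, rfl⟩ := hx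
    exact formAvg_of_inv ρ (formAvg_inv ρ y)⟩).symm

/-- Non-real characters have indicator `0`. -/
theorem fsInd_eq_zero (hirr : ρ.IsIrreducible) (h : ∃ g, conj (ρ.character g) ≠ ρ.character g) :
    fsInd ρ.character = 0 := by
  have hi := isIrr_of_rep ρ hirr
  obtain ⟨g, hg⟩ := h
  have h0 := finrank_range_formAvg ρ
  rw [irr_inner_ne hi (irr_conj hi) (fun e => hg (congrFun e g).symm), Nat.cast_eq_zero,
    Submodule.finrank_eq_zero, LinearMap.range_eq_bot] at h0
  rw [← trace_formAvg_transpose, h0]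
  simp

/-- Real characters: the invariant forms and the indicator. -/
theorem fsInd_real (hirr : ρ.IsIrreducible) (h : ∀ g, conj (ρ.character g) = ρ.character g) :
    ∃ B, B ≠ 0 ∧ InvForm ρ B ∧ (∀ M, InvForm ρ M → Mᵀ = fsInd ρ.character • M) ∧
      (fsInd ρ.character = 1 ∨ fsInd ρ.character = -1) := by
  have hi := isIrr_of_rep ρ hirr
  have h0 := finrank_range_formAvg ρ
  rw [funext h, irr_inner_self hi, Nat.cast_eq_one] at h0
  obtain ⟨⟨B, hBr⟩, hB0, hBall⟩ := (finrank_eq_one_iff').1 h0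
  have hBi : InvForm ρ B := by
    obtain ⟨y, rfl⟩ := hBr
    exact formAvg_inv ρ y
  have hB0' : B ≠ 0 := fun e => hB0 (Subtype.ext e)
  have hspan : ∀ M, InvForm ρ M → ∃ c : ℂ, M = c • B := fun M hM => by
    obtain ⟨c, hc⟩ := hBall ⟨M, M, formAvg_of_inv ρ hM⟩
    exact ⟨c, (congrArg Subtype.val hc).symm⟩
  obtain ⟨ε, hε⟩ := hspan Bᵀ (invForm_transpose ρ hBi)
  have hε2 : ε * ε = 1 := by
    have h2 : B = (ε * ε) • B := by
      conv_lhs => rw [← Matrix.transpose_transpose B, hε, Matrix.transpose_smul, hε, smul_smul]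
    have h3 : (ε * ε - 1) • B = 0 := by rw [sub_smul, one_smul, ← h2, sub_self]
    exact sub_eq_zero.1 ((smul_eq_zero.1 h3).resolve_right hB0')
  have hcomp : formAvg ρ ∘ₗ (Matrix.transposeLinearEquiv (Fin n) (Fin n) ℂ ℂ).toLinearMap =
      ε • formAvg ρ := by
    refine LinearMap.ext fun M => ?_
    obtain ⟨c, hc⟩ := hspan _ (formAvg_inv ρ M)
    show formAvg ρ Mᵀ = ε • formAvg ρ M
    rw [formAvg_transpose, hc, Matrix.transpose_smul, hε, smul_comm]
  have hν : fsInd ρ.character = ε := by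
    rw [← trace_formAvg_transpose, hcomp, map_smul, trace_formAvg, funext h, irr_inner_self hi,
      smul_eq_mul, mul_one]
  refine ⟨B, hB0', hBi, fun M hM => ?_, hν ▸ mul_self_eq_one_iff.1 hε2⟩
  obtain ⟨c, rfl⟩ := hspan M hM
  rw [hν, Matrix.transpose_smul, hε, smul_comm]

/-- A real irreducible character of odd degree has indicator `1`. -/
theorem fsInd_odd (hirr : ρ.IsIrreducible) (h : ∀ g, conj (ρ.character g) = ρ.character g)
    (hodd : Odd n) : fsInd ρ.character = 1 := by
  obtain ⟨B, hB0, hBi, hBt, h1 | h1⟩ := fsInd_real ρ hirr h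
  · exact h1
  exfalso
  have hdet : B.det = 0 := by
    have h2 := congrArg Matrix.det (hBt B hBi)
    rw [h1, Matrix.det_transpose, Matrix.det_smul, Fintype.card_fin, hodd.neg_one_pow,
      neg_one_mul] at h2
    linear_combination h2 / 2
  let W : Subrepresentation ρ :=
    { toSubmodule := LinearMap.ker (Matrix.toLin' B)
      apply_mem_toSubmodule := fun g v hv => by
        rw [LinearMap.mem_ker, Matrix.toLin'_apply] at hv ⊢
        have hu : IsUnit (repMat ρ g)ᵀ := Matrix.isUnit_transpose _ |>.2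
          (IsUnit.of_mul_eq_one (repMat ρ g⁻¹) (by rw [← repMat_mul, mul_inv_cancel, repMat_one]))
        have hρ : ρ g v = repMat ρ g *ᵥ v := by
          rw [repMat, LinearMap.toMatrix'_mulVec]
        refine (Matrix.mulVec_injective_iff_isUnit.2 hu) ?_
        rw [Matrix.mulVec_zero, hρ, Matrix.mulVec_mulVec, Matrix.mulVec_mulVec, hBi g, hv] }
  rcases IsSimpleOrder.eq_bot_or_eq_top W with hW | hW
  · obtain ⟨v, hv, hv'⟩ := Matrix.exists_mulVec_eq_zero_iff.2 hdet
    refine hv ?_
    have h3 : v ∈ W.toSubmodule := by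
      show v ∈ LinearMap.ker (Matrix.toLin' B)
      rw [LinearMap.mem_ker, Matrix.toLin'_apply, hv']
    rw [hW] at h3
    exact h3
  · refine hB0 (Matrix.toLin'.injective (LinearMap.ext fun v => ?_))
    have h3 : v ∈ W.toSubmodule := by rw [hW]; exact Submodule.mem_top
    rw [map_zero]
    exact h3

end CfsgLib.Char
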