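import Cfsg.Agent.Char.ExtMore

/-! Fully ramified characters and inertia correspondence with abelian quotient. -/

set_option linter.unusedSectionVars false
set_option linter.style.haveILetI false

namespace CfsgLib.Char

open Module Cfsg
open scoped ComplexConjugate

universe u v w

variable {G : Type u} [Group G] [Fintype G] {N : Subgroup G} [hN : N.Normal] [Fintype N]

theorem indFun_eq_sum_mult {θ : N → ℂ} :
    indFun N θ = ∑ β : IrrCharacter G,
      conj (classInner (fun n : N => (β : G → ℂ) n) θ) • (β : G → ℂ) := by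
  conv_lhs => rw [classFun_eq_sum (indFun_classFun N θ)]
  refine Finset.sum_congr rfl fun β _ => ?_
  rw [frobenius N θ (classFun_of_irr β.2), classInner_conj]

theorem fully_ramified_iff {χ : G → ℂ} (hχ : IsIrrCharacter G χ) {θ : N → ℂ}
    (hθ : IsIrrCharacter N θ) (hc : classInner (fun n : N => χ n) θ ≠ 0) :
    ((∃ e : ℕ, (fun n : N => χ n) = (e : ℂ) • θ ∧ e ^ 2 = N.index) ↔
      ((∀ g : G, g ∉ N → χ g = 0) ∧ ∀ g : G, conjN θ g = θ)) ∧
    ((∃ e : ℕ, (fun n : N => χ n) = (e : ℂ) • θ ∧ e ^ 2 = N.index) ↔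
      ((∀ g : G, conjN θ g = θ) ∧ ∀ ψ : G → ℂ, IsIrrCharacter G ψ →
        classInner (indFun N θ) ψ ≠ 0 → ψ = χ)) := by
  classical
  obtain ⟨e, he⟩ := inner_char_irr (isCharacter_restrict N (isCharacter_of_isIrr hχ)) hθ
  have he0 : (e : ℂ) ≠ 0 := by rw [← he]; exact hc
  have hnorm : ∑ g : G, χ g * conj (χ g) = (Nat.card G : ℂ) := by
    have h := irr_inner_self hχ
    rwa [classInner_def, inv_mul_eq_iff_eq_mul₀ (natCard_ne_zero G), mul_one] at h
  have hsplit : ∑ g : G, χ g * conj (χ g) = (∑ n : N, χ n * conj (χ n)) +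
      ∑ g ∈ Finset.univ.filter (fun g => g ∉ N), χ g * conj (χ g) := by
    rw [← Finset.sum_filter_add_sum_filter_not Finset.univ (fun g => g ∈ N)]
    congr 1
    exact (Finset.sum_subtype (Finset.univ.filter (fun g => g ∈ N)) (by simp)
      (fun g => χ g * conj (χ g)))
  have hresnorm : ∀ a : ℕ, (fun n : N => χ n) = (a : ℂ) • θ →
      ∑ n : N, χ n * conj (χ n) = (Nat.card N : ℂ) * ((a : ℂ) * a) := by
    intro a ha
    have h : classInner (fun n : N => χ n) (fun n : N => χ n) = (a : ℂ) * a := by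
      rw [ha, classInner_smul_left, classInner_smul_right, irr_inner_self hθ, mul_one,
        Complex.conj_natCast]
    rwa [classInner_def, inv_mul_eq_iff_eq_mul₀ (natCard_ne_zero N)] at h
  have hPA : (∃ a : ℕ, (fun n : N => χ n) = (a : ℂ) • θ ∧ a ^ 2 = N.index) →
      (∀ g : G, conjN θ g = θ) ∧ (∀ g : G, g ∉ N → χ g = 0) ∧ e ^ 2 = N.index := by
    rintro ⟨a, ha, hidx⟩
    have hae : (a : ℂ) = e := by
      rw [← he, ha, classInner_smul_left, irr_inner_self hθ, mul_one]
    have hea : a = e := by exact_mod_cast hae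
    subst hea
    refine ⟨fun g => ?_, fun g hg => ?_, hidx⟩
    · funext n
      have h1 := congrFun (conjN_restrict (N := N) (classFun_of_irr hχ) g) n
      have h2 := congrFun ha n
      have h3 := congrFun ha ⟨g * n * g⁻¹, hN.conj_mem (n : G) n.2 g⟩
      simp only [conjN, Pi.smul_apply, smul_eq_mul] at h1 h2 h3 ⊢
      rw [h2, h3] at h1
      exact mul_left_cancel₀ he0 h1
    · have h0 : ∑ g ∈ Finset.univ.filter (fun g => g ∉ N), χ g * conj (χ g) = 0 := by
        rw [hnorm, hresnorm a ha, ← N.card_mul_index, ← hidx] at hsplit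
        push_cast at hsplit
        linear_combination -hsplit
      simp only [Complex.mul_conj', ← Complex.ofReal_pow, ← Complex.ofReal_sum,
        Complex.ofReal_eq_zero] at h0
      have := (Finset.sum_eq_zero_iff_of_nonneg fun i _ => sq_nonneg _).mp h0 g
        (Finset.mem_filter.mpr ⟨Finset.mem_univ _, hg⟩)
      simpa using this
  refine ⟨⟨fun h => ⟨(hPA h).2.1, (hPA h).1⟩, fun ⟨hz, hinv⟩ => ?_⟩,
    ⟨fun h => ⟨(hPA h).1, fun ψ hψ hψc => ?_⟩, fun ⟨hinv, huniq⟩ => ?_⟩⟩
  · have hres := res_homogeneous hχ hθ hc hinv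
    rw [he] at hres
    refine ⟨e, hres, ?_⟩
    have h0 : ∑ g ∈ Finset.univ.filter (fun g => g ∉ N), χ g * conj (χ g) = 0 :=
      Finset.sum_eq_zero fun g hg => by rw [hz g (Finset.mem_filter.mp hg).2, zero_mul]
    rw [hnorm, hresnorm e hres, h0, add_zero, ← N.card_mul_index, Nat.cast_mul] at hsplit
    have := mul_left_cancel₀ (natCard_ne_zero N) hsplit
    have h4 : N.index = e * e := by exact_mod_cast this
    rw [sq, h4]
  · obtain ⟨hinv, -, hidx⟩ := hPA h
    by_contra hne
    have hz : classInner (indFun N θ - (e : ℂ) • χ) (indFun N θ - (e : ℂ) • χ) = 0 := by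
      have h1 : classInner (indFun N θ) χ = (e : ℂ) := by
        rw [frobenius N θ (classFun_of_irr hχ), ← classInner_conj, he, Complex.conj_natCast]
      have h2 : classInner χ (indFun N θ) = (e : ℂ) := by
        rw [← classInner_conj, h1, Complex.conj_natCast]
      rw [classInner_sub_left, classInner_sub_right, classInner_sub_right, classInner_smul_left,
        classInner_smul_right, classInner_smul_right, classInner_smul_left, norm_indFun_inv hθ hinv,
        h1, h2, irr_inner_self hχ, ← hidx, Complex.conj_natCast]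
      push_cast
      ring
    have := sub_eq_zero.mp (classInner_self_eq_zero hz)
    apply hψc
    rw [this, classInner_smul_left, irr_inner_ne hχ hψ (fun e' => hne e'.symm), mul_zero]
  · have hres := res_homogeneous hχ hθ hc hinv
    rw [he] at hres
    refine ⟨e, hres, ?_⟩
    have hind : indFun N θ = (e : ℂ) • χ := by
      rw [indFun_eq_sum_mult, Finset.sum_eq_single (⟨χ, hχ⟩ : IrrCharacter G)]
      · rw [he, Complex.conj_natCast]
      · intro β _ hβ
        have : classInner (indFun N θ) (β : G → ℂ) = 0 := by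
          by_contra hcon
          exact hβ (Subtype.ext (huniq β β.2 hcon))
        rw [frobenius N θ (classFun_of_irr β.2)] at this
        rw [show classInner (fun n : N => (β : G → ℂ) n) θ = 0 from by
          rw [← classInner_conj, this, map_zero], map_zero, zero_smul]
      · exact fun h => absurd (Finset.mem_univ _) h
    have h := norm_indFun_inv hθ hinv
    rw [hind, classInner_smul_left, classInner_smul_right, irr_inner_self hχ, mul_one,
      Complex.conj_natCast] at h
    have h4 : e * e = N.index := by exact_mod_cast h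
    rw [sq, h4]

/-- constituents over an invariant character with abelian quotient -/
theorem exists_constituents_abelian {θ : N → ℂ} (hθ : IsIrrCharacter N θ)
    (hinv : ∀ g : G, conjN θ g = θ) (hab : ∀ a b : G, a * b * a⁻¹ * b⁻¹ ∈ N) :
    ∃ (e : ℕ) (C : Finset (IrrCharacter G)), 0 < e ∧ e ^ 2 * C.card = N.index ∧
      indFun N θ = (e : ℂ) • ∑ χ ∈ C, (χ : G → ℂ) ∧
      ∀ χ ∈ C, (fun n : N => (χ : G → ℂ) n) = (e : ℂ) • θ := by
  classical
  let C := Finset.univ.filter fun χ : IrrCharacter G =>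
    classInner (fun n : N => (χ : G → ℂ) n) θ ≠ 0
  have hne : indFun N θ ≠ 0 := fun e => by
    have := congrFun e 1
    rw [indFun_one] at this
    exact irr_one_ne_zero hθ ((mul_eq_zero.mp this).resolve_left
      (Nat.cast_ne_zero.mpr Subgroup.index_ne_zero_of_finite))
  obtain ⟨χ₀, hχ₀'⟩ := exists_constituent (isCharacter_indFun N (isCharacter_of_isIrr hθ)) hne
  have hχ₀ : classInner (fun n : N => (χ₀ : G → ℂ) n) θ ≠ 0 := fun e => hχ₀' (by
    rw [frobenius N θ (classFun_of_irr χ₀.2), ← classInner_conj, e, map_zero])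
  obtain ⟨e, he⟩ := inner_char_irr (isCharacter_restrict N (isCharacter_of_isIrr χ₀.2)) hθ
  have hres₀ := res_homogeneous χ₀.2 hθ hχ₀ hinv
  have hprod : (e : ℂ) • indFun N θ = (χ₀ : G → ℂ) * indFun N (fun _ => (1 : ℂ)) := by
    rw [mul_comm, indFun_mul N _ (classFun_of_irr χ₀.2), ← indFun_smul]
    congr 1
    funext n
    rw [one_mul, congrFun hres₀ n, he]
  have hall : ∀ χ ∈ C, classInner (fun n : N => (χ : G → ℂ) n) θ = e := by
    intro χ hχ
    have hχc : classInner ((χ₀ : G → ℂ) * indFun N (fun _ => (1 : ℂ))) (χ : G → ℂ) ≠ 0 := by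
      rw [← hprod, classInner_smul_left, frobenius N θ (classFun_of_irr χ.2), ← classInner_conj]
      refine mul_ne_zero (by rw [← he]; exact hχ₀) fun e' => (Finset.mem_filter.mp hχ).2 ?_
      rw [← Complex.conj_conj (classInner (fun n : N => (χ : G → ℂ) n) θ), e', map_zero]
    rw [classFun_eq_sum (indFun_classFun N (fun _ => (1 : ℂ))), Finset.mul_sum,
      classInner_sum_left] at hχc
    obtain ⟨β, -, hβ⟩ := Finset.exists_ne_zero_of_sum_ne_zero hχc
    rw [mul_smul_comm, classInner_smul_left] at hβ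
    obtain ⟨hβ1, hβ2⟩ := mul_ne_zero_iff.mp hβ
    have hβN := (mem_ind_one_iff β.2).mp hβ1
    haveI := Fintype.ofFinite (G ⧸ N)
    obtain ⟨β', hβ', hcomp⟩ := irr_descend (QuotientGroup.mk' N) (QuotientGroup.mk'_surjective N) β.2
      fun k hk => hβN ⟨k, (QuotientGroup.eq_one_iff k).mp hk⟩
    have hβdeg : (β : G → ℂ) 1 = 1 := by
      rw [← hcomp, Function.comp_apply, map_one]
      refine irr_degree_one_of_comm (fun p q => ?_) hβ'
      obtain ⟨x, rfl⟩ := QuotientGroup.mk_surjective p
      obtain ⟨y, rfl⟩ := QuotientGroup.mk_surjective q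
      rw [← QuotientGroup.mk_mul, ← QuotientGroup.mk_mul, QuotientGroup.eq]
      have := hab y⁻¹ x⁻¹
      simpa [mul_assoc] using this
    obtain ⟨L, hL⟩ := exists_hom_of_degree_one (isCharacter_of_isIrr β.2) hβdeg
    have hirr : IsIrrCharacter G ((χ₀ : G → ℂ) * (β : G → ℂ)) := by
      rw [hL]; exact irr_mul_linear χ₀.2 L
    have heq : (χ₀ : G → ℂ) * (β : G → ℂ) = χ.1 := by
      by_contra hne'
      exact hβ2 (irr_inner_ne hirr χ.2 hne')
    rw [← heq]
    convert he using 2
    funext n
    rw [Pi.mul_apply, hβN n, hβdeg, mul_one]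
  have hind : indFun N θ = (e : ℂ) • ∑ χ ∈ C, (χ : G → ℂ) := by
    rw [indFun_eq_sum_mult, Finset.smul_sum, Finset.sum_filter]
    refine Finset.sum_congr rfl fun β _ => ?_
    split_ifs with h
    · rw [hall β (Finset.mem_filter.mpr ⟨Finset.mem_univ _, h⟩), Complex.conj_natCast]
    · rw [not_not.mp h, map_zero, zero_smul]
  refine ⟨e, C, Nat.pos_of_ne_zero fun h0 => hχ₀ (by rw [he, h0, Nat.cast_zero]), ?_, hind,
    fun χ hχ => ?_⟩
  · have h := norm_indFun_inv hθ hinv
    rw [hind, classInner_smul_left, classInner_smul_right, classInner_sum_left] at h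
    simp only [classInner_sum_right, irrChar_inner, Finset.sum_ite_eq, Complex.conj_natCast] at h
    rw [Finset.sum_congr rfl (fun x hx => if_pos hx), Finset.sum_const, nsmul_eq_mul, mul_one,
      ← mul_assoc] at h
    have h4 : e * e * C.card = N.index := by exact_mod_cast h
    rw [sq, h4]
  · have := res_homogeneous χ.2 hθ (Finset.mem_filter.mp hχ).2 hinv
    rwa [hall χ hχ] at this

theorem exists_extension_coprime {θ : N → ℂ} (hθ : IsIrrCharacter N θ)
    (hinv : ∀ g : G, conjN θ g = θ) (hcop : Nat.Coprime (Nat.card N) N.index) :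
    ∃ χ : G → ℂ, IsIrrCharacter G χ ∧ ∀ n : N, χ n = θ n := by
  obtain ⟨d, hd0, hd⟩ := irr_deg hθ
  obtain ⟨D, hD⟩ := detChar_exists_hom (isCharacter_of_isIrr hθ)
  have h1 : detOrder θ ∣ Nat.card N := by
    rw [detOrder, hD, orderOf_coe_linear]
    refine orderOf_dvd_of_pow_eq_one (MonoidHom.ext fun n => ?_)
    rw [MonoidHom.pow_apply, ← map_pow, pow_card_eq_one', map_one]
    rfl
  have h2 : d ∣ Nat.card N := by
    rw [← charDegree_eq hd]; exact degree_dvd_card hθ
  obtain ⟨χ, ⟨hχ, hχN, -⟩, -⟩ := exists_canonical_extension hθ hinv hd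
    (Nat.Coprime.mul_right (hcop.symm.coprime_dvd_right h1) (hcop.symm.coprime_dvd_right h2))
  exact ⟨χ, hχ, hχN⟩

end CfsgLib.Char
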