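import Cfsg.Agent.Char.GlauberSolv
import Cfsg.Agent.Char.Ramified

/-! Applications of the Glauberman correspondence. -/

set_option linter.unusedSectionVars false
set_option linter.style.haveILetI false

namespace CfsgLib.Char

open Module Cfsg
open scoped ComplexConjugate

universe u v w

variable {Γ : Type u} [Group Γ]

/-- conjugation as automorphisms of a normalized subgroup -/
def actHom (G S : Subgroup Γ) (hnorm : ∀ s ∈ S, ∀ g ∈ G, s * g * s⁻¹ ∈ G) : S →* MulAut G where
  toFun s :=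
    { toFun := fun g => ⟨s * g * (s : Γ)⁻¹, hnorm s s.2 g g.2⟩
      invFun := fun g => ⟨(s : Γ)⁻¹ * g * (s : Γ),
        by simpa using hnorm _ (S.inv_mem s.2) g g.2⟩
      left_inv := fun g => Subtype.ext (by simp [mul_assoc])
      right_inv := fun g => Subtype.ext (by simp [mul_assoc])
      map_mul' := fun a b => Subtype.ext (by simp [mul_assoc]) }
  map_one' := MulEquiv.ext fun g => Subtype.ext (by simp)
  map_mul' s t := MulEquiv.ext fun g => Subtype.ext (by simp [mul_assoc])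

theorem actHom_facts [Finite Γ] (G S : Subgroup Γ) (hnorm : ∀ s ∈ S, ∀ g ∈ G, s * g * s⁻¹ ∈ G)
    (hcop : (Nat.card G).Coprime (Nat.card S)) [hs : Group.IsSolvable S] :
    Group.IsSolvable (actHom G S hnorm).range ∧
      (Nat.card G).Coprime (Nat.card (actHom G S hnorm).range) :=
  ⟨solvable_of_surjective (f := (actHom G S hnorm).rangeRestrict)
      (actHom G S hnorm).rangeRestrict_surjective,
    hcop.of_dvd_right (Subgroup.card_range_dvd _)⟩

theorem autInv_actHom (G S : Subgroup Γ) (hnorm : ∀ s ∈ S, ∀ g ∈ G, s * g * s⁻¹ ∈ G) (χ : G → ℂ) :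
    AutInv (actHom G S hnorm).range χ ↔
      ∀ s ∈ S, ∀ g g' : G, (g' : Γ) = s * g * s⁻¹ → χ g' = χ g := by
  constructor
  · intro h s hs g g' he
    rw [show g' = actHom G S hnorm ⟨s, hs⟩ g from Subtype.ext he]
    exact h _ ⟨⟨s, hs⟩, rfl⟩ g
  · rintro h _ ⟨s, rfl⟩ g
    exact h s s.2 g _ rfl

section complement

variable {G : Type u} [Group G] [Fintype G] {K H : Subgroup G} [hK : K.Normal] [Fintype K]

/-- characters of degree prime to a coprime complement -/
theorem card_coprime_degree (hKH : K ⊔ H = ⊤) (hcop : (Nat.card K).Coprime (Nat.card H)) :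
    Nat.card {χ : IrrCharacter G // (charDegree (χ : G → ℂ)).Coprime (Nat.card H)} =
      Nat.card ({θ : IrrCharacter K // ∀ g : G, conjN (θ : K → ℂ) g = θ} × (H →* ℂˣ)) := by
  classical
  have hbij : Function.Bijective ((QuotientGroup.mk' K).comp H.subtype) := by
    refine ⟨fun a b hab => ?_, fun q => ?_⟩
    · have h1 : (a : G)⁻¹ * b ∈ K := QuotientGroup.eq.mp hab
      have h2 : (a : G)⁻¹ * b ∈ H := H.mul_mem (H.inv_mem a.2) b.2
      have h3 : (a : G)⁻¹ * b ∈ K ⊓ H := ⟨h1, h2⟩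
      rw [Subgroup.inf_eq_bot_of_coprime hcop, Subgroup.mem_bot, inv_mul_eq_one] at h3
      exact Subtype.ext h3
    · obtain ⟨g, rfl⟩ := QuotientGroup.mk_surjective q
      obtain ⟨k, hk, h, hh, rfl⟩ := Subgroup.mem_sup_of_normal_left.mp
        (hKH ▸ Subgroup.mem_top g : g ∈ K ⊔ H)
      refine ⟨⟨h, hh⟩, ?_⟩
      show ((h : G) : G ⧸ K) = ((k * h : G) : G ⧸ K)
      rw [QuotientGroup.eq]
      simpa [mul_assoc] using hK.conj_mem k hk h⁻¹
  let e : H ≃* G ⧸ K := MulEquiv.ofBijective _ hbij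
  have hidx : K.index = Nat.card H := (Nat.card_congr e.toEquiv).symm
  let inf : (H →* ℂˣ) → (G →* ℂˣ) := fun L =>
    L.comp (e.symm.toMonoidHom.comp (QuotientGroup.mk' K))
  have hinfK : ∀ L, ∀ k : K, inf L k = 1 := fun L k => by
    have h1 : (QuotientGroup.mk' K) (k : G) = 1 := (QuotientGroup.eq_one_iff _).mpr k.2
    show L (e.symm ((QuotientGroup.mk' K) (k : G))) = 1
    rw [h1, map_one, map_one]
  have hinfH : ∀ L, ∀ h : H, inf L h = L h := fun L h => by
    show L (e.symm ((QuotientGroup.mk' K) (h : G))) = L h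
    congr 1
    exact e.symm_apply_apply h
  choose η hη hηres using fun θ : {θ : IrrCharacter K // ∀ g : G, conjN (θ : K → ℂ) g = θ} =>
    exists_extension_coprime θ.1.2 θ.2 (by rw [hidx]; exact hcop)
  have hdeg : ∀ θ L, IsIrrCharacter G (fun g => η θ g * (inf L g : ℂ)) ∧
      (charDegree (fun g => η θ g * (inf L g : ℂ))).Coprime (Nat.card H) := by
    intro θ L
    refine ⟨irr_mul_linear (hη θ) _, ?_⟩
    obtain ⟨d, -, hd⟩ := irr_deg θ.1.2
    rw [charDegree_eq (n := d) (by
      rw [map_one, Units.val_one, mul_one, ← hd, ← hηres θ 1]; rfl)]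
    exact hcop.of_dvd_left (by rw [← charDegree_eq hd]; exact degree_dvd_card θ.1.2)
  refine (Nat.card_eq_of_bijective
    (fun x : {θ : IrrCharacter K // ∀ g : G, conjN (θ : K → ℂ) g = θ} × (H →* ℂˣ) =>
      (⟨⟨fun g => η x.1 g * (inf x.2 g : ℂ), (hdeg x.1 x.2).1⟩, (hdeg x.1 x.2).2⟩ :
        {χ : IrrCharacter G // (charDegree (χ : G → ℂ)).Coprime (Nat.card H)}))
    ⟨fun a b hab => ?_, fun χ => ?_⟩).symm
  · have h := congrArg (fun x : {χ : IrrCharacter G // (charDegree (χ : G → ℂ)).Coprime (Nat.card H)} =>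
      ((x.1 : IrrCharacter G) : G → ℂ)) hab
    simp only at h
    have hθ : a.1 = b.1 := by
      refine Subtype.ext (Subtype.ext (funext fun k => ?_))
      have hk := congrFun h (k : G)
      rwa [hinfK, hinfK, Units.val_one, mul_one, mul_one, hηres, hηres] at hk
    refine Prod.ext hθ ?_
    rw [hθ] at h
    have hθ' : IsIrrCharacter K (fun n : K => η b.1 n) := by
      rw [funext (hηres b.1)]; exact b.1.1.2
    have hm : ∀ L, (fun g => (inf L g : ℂ)) ∈
        {β : G → ℂ | IsIrrCharacter G β ∧ ∀ n : K, β n = β 1} := fun L =>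
      ⟨isIrr_linear _, fun n => by show (inf L n : ℂ) = inf L 1; rw [hinfK, map_one]⟩
    have h2 := (gallagher hθ' (isCharacter_of_isIrr (hη b.1)) fun _ => rfl).injOn (hm a.2) (hm b.2)
      (funext fun g => by
        show (inf a.2 g : ℂ) * η b.1 g = inf b.2 g * η b.1 g
        rw [mul_comm, congrFun h g, mul_comm])
    exact MonoidHom.ext fun x => Units.ext (by
      have := congrFun h2 (x : G)
      simpa [hinfH] using this)
  · obtain ⟨θ, hθ, hc⟩ := exists_constituent_res (N := K) χ.1.2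
    obtain ⟨d, hd0, hd⟩ := irr_deg hθ
    obtain ⟨c, -, hcdeg⟩ := irr_deg χ.1.2
    obtain ⟨m, hm⟩ := inner_char_irr (isCharacter_restrict K (isCharacter_of_isIrr χ.1.2)) hθ
    have h1 := degree_clifford χ.1.2 hθ hc
    rw [hm, hcdeg, hd] at h1
    have h2 : c = m * (inertia θ).index * d := by exact_mod_cast h1
    have hccop : c.Coprime (Nat.card H) := charDegree_eq hcdeg ▸ χ.2
    have hTone : (inertia θ).index = 1 := by
      refine Nat.eq_one_of_dvd_coprimes hccop ?_ ?_
      · rw [h2]; exact (dvd_mul_left _ m).trans (dvd_mul_right _ d)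
      · rw [← hidx]; exact Subgroup.index_dvd_of_le (le_inertia (classFun_of_irr hθ))
    have hinv : ∀ g : G, conjN θ g = θ := fun g =>
      mem_inertia.mp ((Subgroup.index_eq_one.mp hTone).symm ▸ Subgroup.mem_top g)
    let θ' : {θ : IrrCharacter K // ∀ g : G, conjN (θ : K → ℂ) g = θ} := ⟨⟨θ, hθ⟩, hinv⟩
    obtain ⟨β, ⟨hβ, hβK⟩, hβeq⟩ := (gallagher hθ (isCharacter_of_isIrr (hη θ')) (hηres θ')).surjOn
      (⟨χ.1.2, hc⟩ : (χ.1 : G → ℂ) ∈
        {ψ : G → ℂ | IsIrrCharacter G ψ ∧ classInner (fun n : K => ψ n) θ ≠ 0})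
    haveI := Fintype.ofFinite (G ⧸ K)
    obtain ⟨β', hβ', hcomp⟩ := irr_descend (QuotientGroup.mk' K) (QuotientGroup.mk'_surjective K) hβ
      fun k hk => hβK ⟨k, (QuotientGroup.eq_one_iff k).mp hk⟩
    obtain ⟨b, -, hb⟩ := irr_deg hβ'
    have hbb : β 1 = b := by rw [← hcomp, Function.comp_apply, map_one, hb]
    have hb1 : b = 1 := by
      have hbd : b ∣ Nat.card H := by
        rw [Nat.card_congr e.toEquiv, ← charDegree_eq hb]; exact degree_dvd_card hβ'
      refine Nat.eq_one_of_dvd_coprimes hccop ?_ hbd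
      have h3 := congrFun hβeq 1
      simp only [Pi.mul_apply] at h3
      rw [hbb, show η θ' 1 = (d : ℂ) from (hηres θ' 1).trans hd, hcdeg] at h3
      exact ⟨d, by exact_mod_cast h3.symm⟩
    subst hb1
    obtain ⟨L', hL'⟩ := exists_hom_of_degree_one (isCharacter_of_isIrr hβ') (by rw [hb, Nat.cast_one])
    refine ⟨(θ', L'.comp e.toMonoidHom), Subtype.ext (Subtype.ext (funext fun g => ?_))⟩
    show η θ' g * (inf (L'.comp e.toMonoidHom) g : ℂ) = (χ.1 : G → ℂ) g
    have h5 : inf (L'.comp e.toMonoidHom) g = L' ((QuotientGroup.mk' K) g) := by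
      show L' (e (e.symm _)) = _
      rw [e.apply_symm_apply]
    rw [h5, ← hβeq, ← hcomp, hL']
    show _ = (L' ((QuotientGroup.mk' K) g) : ℂ) * η θ' g
    exact mul_comm _ _

end complement

end CfsgLib.Char
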