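import Cfsg.Agent.Char.GaloisTwist
import Cfsg.Agent.Char.GlauberApp
import Mathlib.GroupTheory.NoncommCoprod

/-! The correspondence for a cyclic group of coprime operators through canonical extensions. -/

set_option linter.unusedSectionVars false
set_option linter.style.haveILetI false
set_option linter.style.longLine false

namespace CfsgLib.Char

open Module Cfsg
open scoped ComplexConjugate

universe u

variable {Γ : Type u} [Group Γ] [Fintype Γ]

/-- canonical extension data for a normal subgroup generated with `s` -/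
structure CycAct (G : Subgroup Γ) (s : Γ) : Prop where
  nor : G.Normal
  cop : (Nat.card G).Coprime (orderOf s)
  top : G ⊔ Subgroup.zpowers s = ⊤

variable {G : Subgroup Γ} {s : Γ}

theorem mem_normalizer_of_conj (hnorm : ∀ g ∈ G, s * g * s⁻¹ ∈ G) :
    s ∈ Subgroup.normalizer (G : Set Γ) := by
  have hmap : G.map (MulAut.conj s).toMonoidHom = G := by
    refine Subgroup.eq_of_le_of_card_ge ?_ ?_
    · rintro _ ⟨g, hg, rfl⟩; exact hnorm g hg
    · rw [Nat.card_congr (Subgroup.equivMapOfInjective G (MulAut.conj s).toMonoidHom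
        (MulAut.conj s).injective).toEquiv]
  refine Subgroup.mem_normalizer_iff.mpr fun g => ⟨hnorm g, fun h => ?_⟩
  rw [← hmap] at h
  obtain ⟨g', hg', he⟩ := h
  exact (MulAut.conj s).injective he ▸ hg'

theorem CycAct.mk' (hnorm : ∀ g ∈ G, s * g * s⁻¹ ∈ G)
    (cop : (Nat.card G).Coprime (orderOf s)) (top : G ⊔ Subgroup.zpowers s = ⊤) : CycAct G s := by
  refine ⟨Subgroup.normalizer_eq_top_iff.mp (top_le_iff.mp (top ▸ sup_le G.le_normalizer ?_)), cop, top⟩
  rw [Subgroup.zpowers_le]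
  exact mem_normalizer_of_conj hnorm

theorem CycAct.mem_pow (h : CycAct G s) {k : ℕ} (hk : s ^ k ∈ G) : s ^ k = 1 := by
  refine orderOf_eq_one_iff.mp (Nat.eq_one_of_dvd_coprimes h.cop ?_ (orderOf_pow_dvd k))
  exact (Subgroup.orderOf_mk (s ^ k) hk) ▸ orderOf_dvd_natCard (⟨s ^ k, hk⟩ : G)

theorem CycAct.exists_decomp (h : CycAct G s) (x : Γ) :
    ∃ g ∈ G, ∃ k : ℕ, x = g * s ^ k := by
  haveI := h.nor
  obtain ⟨g, hg, z, hz, rfl⟩ := Subgroup.mem_sup_of_normal_left.mp (h.top ▸ Subgroup.mem_top x)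
  obtain ⟨k, rfl⟩ := (isOfFinOrder_of_finite s).mem_powers_iff_mem_zpowers.mpr hz
  exact ⟨g, hg, k, rfl⟩

/-- the linear character detecting the coset of `s` -/
theorem CycAct.exists_linear (h : CycAct G s) :
    ∃ μ : Γ →* ℂˣ, (∀ g ∈ G, μ g = 1) ∧ IsPrimitiveRoot (μ s : ℂ) (orderOf s) ∧
      ∀ x, μ x = μ s → ∃ g ∈ G, x = g * s := by
  haveI := h.nor
  have hgen : ∀ q : Γ ⧸ G, q ∈ Subgroup.zpowers (s : Γ ⧸ G) := fun q => by
    obtain ⟨x, rfl⟩ := QuotientGroup.mk_surjective q
    obtain ⟨g, hg, k, rfl⟩ := h.exists_decomp x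
    rw [QuotientGroup.mk_mul, (QuotientGroup.eq_one_iff g).mpr hg, one_mul]
    exact ⟨k, by simp⟩
  have hord : orderOf (s : Γ ⧸ G) = orderOf s := by
    refine Nat.dvd_antisymm (orderOf_map_dvd (QuotientGroup.mk' G) s) (orderOf_dvd_of_pow_eq_one ?_)
    exact h.mem_pow ((QuotientGroup.eq_one_iff _).mp (by
      rw [QuotientGroup.mk_pow]; exact pow_orderOf_eq_one _))
  have hn : orderOf s ≠ 0 := (orderOf_pos s).ne'
  have hz := Complex.isPrimitiveRoot_exp (orderOf s) hn
  let z : ℂˣ := (hz.isUnit hn).unit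
  have hzo : orderOf z = orderOf s := by
    rw [← orderOf_units]; exact hz.eq_orderOf.symm
  let f : Γ ⧸ G →* ℂˣ := monoidHomOfForallMemZpowers hgen (g' := z) (by rw [hzo, hord])
  have hfs : f (s : Γ ⧸ G) = z := monoidHomOfForallMemZpowers_apply_gen hgen _
  refine ⟨f.comp (QuotientGroup.mk' G), fun g hg => ?_, ?_, fun x hx => ?_⟩
  · rw [MonoidHom.comp_apply, QuotientGroup.mk'_apply, (QuotientGroup.eq_one_iff g).mpr hg, map_one]
  · show IsPrimitiveRoot ((f (s : Γ ⧸ G) : ℂˣ) : ℂ) _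
    rw [hfs]; exact hz
  · obtain ⟨g, hg, k, rfl⟩ := h.exists_decomp x
    have hx' : z ^ k = z ^ 1 := by
      simp only [MonoidHom.comp_apply, QuotientGroup.mk'_apply, QuotientGroup.mk_mul,
        (QuotientGroup.eq_one_iff g).mpr hg, one_mul, QuotientGroup.mk_pow, map_pow, hfs] at hx
      rw [pow_one]; exact hx
    rw [pow_eq_pow_iff_modEq, hzo] at hx'
    exact ⟨g, hg, by rw [pow_eq_pow_iff_modEq.mpr hx', pow_one]⟩

/-- canonical extensions -/
def IsCanon (G : Subgroup Γ) (s : Γ) (χh : Γ → ℂ) : Prop :=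
  IsIrrCharacter Γ χh ∧ IsIrrCharacter G (fun g : G => χh g) ∧ (detOrder χh).Coprime (orderOf s)

theorem CycAct.index_eq (h : CycAct G s) : G.index = orderOf s := by
  haveI := h.nor
  have hbot : G ⊓ Subgroup.zpowers s = ⊥ := by
    rw [eq_bot_iff]
    rintro x ⟨hx, hxs⟩
    obtain ⟨k, rfl⟩ := (isOfFinOrder_of_finite s).mem_powers_iff_mem_zpowers.mpr hxs
    exact Subgroup.mem_bot.mpr (h.mem_pow hx)
  rw [← Nat.card_zpowers, ← Subgroup.relIndex_top_right, ← h.top, sup_comm, Subgroup.relIndex_sup_right,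
    ← Subgroup.inf_relIndex_right, hbot, Subgroup.relIndex_bot_left]

theorem CycAct.cop_detOrder (h : CycAct G s) {θ : G → ℂ} (hθ : IsIrrCharacter G θ) :
    G.index.Coprime (detOrder θ * charDegree θ) := by
  haveI := Fintype.ofFinite G
  rw [h.index_eq]
  refine Nat.Coprime.mul_right (h.cop.symm.coprime_dvd_right ?_) (h.cop.symm.coprime_dvd_right ?_)
  · obtain ⟨D, hD⟩ := detChar_exists_hom (isCharacter_of_isIrr hθ)
    rw [detOrder, hD, orderOf_coe_linear]
    refine orderOf_dvd_of_pow_eq_one (MonoidHom.ext fun g => ?_)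
    rw [MonoidHom.pow_apply, ← map_pow, pow_card_eq_one', map_one]; rfl
  · exact degree_dvd_card hθ

theorem IsCanon.unique (h : CycAct G s) {χh χh' : Γ → ℂ} (h1 : IsCanon G s χh)
    (h2 : IsCanon G s χh') (he : ∀ g : G, χh g = χh' g) : χh = χh' := by
  haveI := h.nor
  haveI := Fintype.ofFinite G
  obtain ⟨χ₀, -, hu⟩ := exists_canonical_extension (N := G) h1.2.1
    (fun g => conjN_restrict (classFun_of_irr h1.1) g)
    (char_one_eq (χ := fun g : G => χh g) (isCharacter_of_isIrr h1.2.1)) (h.cop_detOrder h1.2.1)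
  rw [hu χh h1.1 (fun _ => rfl) (h.index_eq ▸ h1.2.2.symm),
    hu χh' h2.1 (fun g => (he g).symm) (h.index_eq ▸ h2.2.2.symm)]

theorem IsCanon.exists (h : CycAct G s) {θ : G → ℂ} (hθ : IsIrrCharacter G θ)
    (hinv : ∀ g g' : G, (g' : Γ) = s * g * s⁻¹ → θ g' = θ g) :
    ∃ χh : Γ → ℂ, IsCanon G s χh ∧ ∀ g : G, χh g = θ g := by
  haveI := h.nor
  haveI := Fintype.ofFinite G
  have hall : ∀ x : Γ, conjN θ x = θ := by
    intro x
    have hx : x ∈ inertia (G := Γ) θ := by
      refine (show (⊤ : Subgroup Γ) ≤ inertia θ from h.top ▸ sup_le (le_inertia (classFun_of_irr hθ)) ?_)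
        (Subgroup.mem_top x)
      rw [Subgroup.zpowers_le, mem_inertia']
      exact fun n => hinv n _ rfl
    exact hx
  obtain ⟨χh, ⟨h1, h2, h3⟩, -⟩ := exists_canonical_extension hθ hall (irr_one_eq hθ) (h.cop_detOrder hθ)
  refine ⟨χh, ⟨h1, by rw [show (fun g : G => χh g) = θ from funext h2]; exact hθ, ?_⟩, h2⟩
  rw [h3]
  exact (h.index_eq ▸ Nat.Coprime.coprime_dvd_right (dvd_mul_right _ _) (h.cop_detOrder hθ)).symm

/-- the value on a coset does not depend on the generator -/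
theorem IsCanon.gen_indep (h : CycAct G s) {χh : Γ → ℂ} (hc : IsCanon G s χh) {c : Γ} (hcG : c ∈ G)
    (hcs : c * s = s * c) {j : ℕ} (hj : j.Coprime (orderOf s)) :
    χh (c * s ^ j) = χh (c * s) := by
  haveI := h.nor
  obtain ⟨m, hm1, hm2⟩ := Nat.chineseRemainder h.cop 1 j
  have hmcop : m.Coprime (Nat.card Γ) := by
    rw [← G.card_mul_index, h.index_eq]
    refine Nat.Coprime.mul_right ?_ ?_
    · show Nat.gcd m (Nat.card G) = 1
      rw [hm1.gcd_eq, Nat.gcd_one_left]
    · show Nat.gcd m (orderOf s) = 1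
      rw [hm2.gcd_eq]; exact hj
  have hG : ∀ g : Γ, g ∈ G → g ^ m = g := fun g hg => by
    conv_rhs => rw [← pow_one g]
    exact pow_eq_pow_iff_modEq.mpr (hm1.of_dvd
      ((Subgroup.orderOf_mk g hg) ▸ orderOf_dvd_natCard (⟨g, hg⟩ : G)))
  have hres : (fun g : G => χh ((g : Γ) ^ m)) = fun g : G => χh g :=
    funext fun g => by rw [hG g g.2]
  have hc' : IsCanon G s (fun x => χh (x ^ m)) := by
    refine ⟨irr_pow hmcop hc.1, by show IsIrrCharacter G (fun g : G => χh ((g : Γ) ^ m)); rw [hres]; exact hc.2.1, ?_⟩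
    refine Nat.Coprime.coprime_dvd_left ?_ hc.2.2
    rw [detOrder, detOrder, show detChar (fun x => χh (x ^ m)) = detChar χh ^ m from
      funext fun x => detChar_pow hmcop hc.1 x]
    exact orderOf_pow_dvd m
  have he := congrFun (IsCanon.unique h hc' hc fun g => congrFun hres g) (c * s)
  rw [← he, (Commute.mul_pow hcs m), hG c hcG]
  congr 2
  exact (pow_eq_pow_iff_modEq.mpr hm2).symm

/-- the centralizer cosets cover the coset of `s` -/
theorem CycAct.coset_sum (h : CycAct G s) [Fintype G] (C : Subgroup Γ) [Fintype C]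
    (hC : ∀ c, c ∈ C ↔ c ∈ G ∧ c * s = s * c) (F : Γ → ℂ) (hF : IsClassFunction Γ F) :
    ∑ x : G, F (x * s) = (C.relIndex G : ℂ) * ∑ c : C, F (c * s) := by
  classical
  haveI := h.nor
  have hCG : C ≤ G := fun c hc => ((hC c).mp hc).1
  obtain ⟨e, he1, he2⟩ := Nat.chineseRemainder h.cop 0 1
  have hpow : ∀ c : Γ, c ∈ C → (c * s) ^ e = s := by
    intro c hc
    obtain ⟨hcG, hcs⟩ := (hC c).mp hc
    rw [Commute.mul_pow hcs, pow_eq_pow_iff_modEq.mpr (he1.of_dvd
      ((Subgroup.orderOf_mk c hcG) ▸ orderOf_dvd_natCard (⟨c, hcG⟩ : G))),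
      pow_eq_pow_iff_modEq.mpr he2, pow_zero, pow_one, one_mul]
  have hmem : ∀ (t : G) (c : C), (t : Γ) * (c * s) * (t : Γ)⁻¹ * s⁻¹ ∈ G := fun t c => by
    have h1 : (t : Γ) * (c * s) * (t : Γ)⁻¹ * s⁻¹ = t * c * (s * (t : Γ)⁻¹ * s⁻¹) := by group
    rw [h1]
    exact mul_mem (mul_mem t.2 (hCG c.2)) (h.nor.conj_mem _ (inv_mem t.2) s)
  let Φ : (G ⧸ C.subgroupOf G) × C → G := fun p => ⟨_, hmem p.1.out p.2⟩
  have hinj : Function.Injective Φ := by
    rintro ⟨q, c⟩ ⟨q', c'⟩ hpq
    have h0 : (q.out : Γ) * (c * s) * (q.out : Γ)⁻¹ = (q'.out : Γ) * (c' * s) * (q'.out : Γ)⁻¹ :=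
      mul_right_cancel (congrArg Subtype.val hpq)
    have h1 := congrArg (· ^ e) h0
    simp only [conj_pow, hpow _ c.2, hpow _ c'.2] at h1
    have h2 : ((q'.out : Γ)⁻¹ * q.out) ∈ C := by
      refine (hC _).mpr ⟨mul_mem (inv_mem q'.out.2) q.out.2, ?_⟩
      have := congrArg (fun z => (q'.out : Γ)⁻¹ * z * (q.out : Γ)) h1
      simpa [mul_assoc] using this
    have hq : q' = q := by
      rw [← QuotientGroup.out_eq' q, ← QuotientGroup.out_eq' q', QuotientGroup.eq]
      exact Subgroup.mem_subgroupOf.mpr h2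
    subst hq
    exact Prod.ext rfl (Subtype.ext (mul_right_cancel (mul_left_cancel (mul_right_cancel h0))))
  have hbij : Function.Bijective Φ := by
    refine (Fintype.bijective_iff_injective_and_card Φ).mpr ⟨hinj, ?_⟩
    rw [Fintype.card_prod, ← Nat.card_eq_fintype_card, ← Nat.card_eq_fintype_card,
      ← Nat.card_eq_fintype_card, ← Subgroup.index_eq_card, mul_comm,
      ← Nat.card_congr (Subgroup.subgroupOfEquivOfLe hCG).toEquiv]
    exact (C.subgroupOf G).card_mul_index
  rw [← Fintype.sum_bijective Φ hbij (fun p => F ((p.2 : Γ) * s)) (fun x : G => F (x * s)) fun p => ?_]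
  · rw [Fintype.sum_prod_type]
    show ∑ _x : G ⧸ C.subgroupOf G, ∑ y : C, F ((y : Γ) * s) = _
    rw [Finset.sum_const, Finset.card_univ, nsmul_eq_mul]
    congr 2
    rw [← Nat.card_eq_fintype_card]
    exact (Subgroup.index_eq_card _).symm
  · show F ((p.2 : Γ) * s) = F ((p.1.out : Γ) * (p.2 * s) * (p.1.out : Γ)⁻¹ * s⁻¹ * s)
    rw [inv_mul_cancel_right, hF]

/-- orthogonality on the coset of `s` -/
theorem IsCanon.coset_orth (h : CycAct G s) [Fintype G] {χh χh' : Γ → ℂ} (h1 : IsCanon G s χh)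
    (h2 : IsCanon G s χh') :
    ∑ x : G, χh (x * s) * conj (χh' (x * s)) =
      if (fun g : G => χh g) = (fun g : G => χh' g) then (Nat.card G : ℂ) else 0 := by
  classical
  haveI := h.nor
  obtain ⟨μ, hμG, hμ, hμx⟩ := h.exists_linear
  set n := orderOf s with hn
  have hn0 : n ≠ 0 := (orderOf_pos s).ne'
  set z := (μ s : ℂ) with hz
  have hz0 : z ≠ 0 := Units.ne_zero _
  -- the two evaluations
  have hinner : ∀ j < n, classInner (fun y => χh y * ((μ ^ j) y : ℂ)) χh' =
      if (fun g : G => χh g) = (fun g : G => χh' g) ∧ j = 0 then 1 else 0 := by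
    intro j hj
    have hirr := irr_mul_linear h1.1 (μ ^ j)
    have hres : ∀ g : G, ((μ ^ j) g : ℂ) = 1 := fun g => by
      rw [MonoidHom.pow_apply, hμG g g.2, one_pow, Units.val_one]
    rw [irr_inner hirr h2.1]
    by_cases hR : (fun g : G => χh g) = (fun g : G => χh' g) ∧ j = 0
    · rw [if_pos hR, if_pos]
      rw [IsCanon.unique h h1 h2 (congrFun hR.1), hR.2]
      funext y; simp
    · rw [if_neg hR, if_neg]
      intro he
      refine hR ⟨funext fun g => ?_, ?_⟩
      · have := congrFun he g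
        rwa [hres, mul_one] at this
      · have heq : χh = χh' := IsCanon.unique h h1 h2 fun g => by
          have := congrFun he g
          rwa [hres, mul_one] at this
        subst heq
        have hb := (gallagher h1.2.1 (isCharacter_of_isIrr h1.1) (fun g => rfl)).injOn
          (x₁ := fun y => ((μ ^ j) y : ℂ)) (x₂ := fun _ => (1 : ℂ))
          ⟨isIrr_linear _, fun g => by simp only [hres, map_one, Units.val_one]⟩
          ⟨isIrr_one, fun g => rfl⟩ (funext fun y => by
            have := congrFun he y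
            simp only [Pi.mul_apply, one_mul]
            rw [mul_comm]; exact this)
        have hb1 : z ^ j = 1 := by
          have := congrFun hb s
          simpa [hz] using this
        exact Nat.eq_zero_of_dvd_of_lt (hμ.dvd_of_pow_eq_one j hb1) hj
  have hgeom : ∀ y : Γ, ∑ j ∈ Finset.range n, (z⁻¹ * (μ y : ℂ)) ^ j =
      if μ y = μ s then (n : ℂ) else 0 := by
    intro y
    split_ifs with hy
    · simp [hy, hz, inv_mul_cancel₀ hz0]
    · have hne : z⁻¹ * (μ y : ℂ) ≠ 1 := fun e => hy (Units.ext (by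
        rw [inv_mul_eq_iff_eq_mul₀ hz0, mul_one] at e; exact e))
      obtain ⟨g, hg, k, rfl⟩ := h.exists_decomp y
      have hp : (μ (g * s ^ k) : ℂ) ^ n = 1 := by
        rw [map_mul, hμG g hg, one_mul, map_pow, Units.val_pow_eq_pow_val, ← pow_mul, mul_comm,
          pow_mul, ← hz, hμ.pow_eq_one, one_pow]
      rw [geom_sum_eq hne, mul_pow, inv_pow, hμ.pow_eq_one, hp, inv_one, one_mul, sub_self, zero_div]
  have hsum : (n : ℂ) * ∑ x : G, χh (x * s) * conj (χh' (x * s)) =
      ∑ j ∈ Finset.range n, (z ^ j)⁻¹ * ((Nat.card Γ : ℂ) *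
        classInner (fun y => χh y * ((μ ^ j) y : ℂ)) χh') := by
    simp only [classInner_def, ← mul_assoc, mul_inv_cancel_right₀ (natCard_ne_zero Γ)]
    simp only [Finset.mul_sum]
    rw [Finset.sum_comm]
    have : ∀ y : Γ, ∑ j ∈ Finset.range n, (z ^ j)⁻¹ * (χh y * ((μ ^ j) y : ℂ) * conj (χh' y)) =
        if μ y = μ s then (n : ℂ) * (χh y * conj (χh' y)) else 0 := by
      intro y
      calc _ = (∑ j ∈ Finset.range n, (z⁻¹ * (μ y : ℂ)) ^ j) * (χh y * conj (χh' y)) := by
            rw [Finset.sum_mul]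
            refine Finset.sum_congr rfl fun j _ => ?_
            rw [mul_pow, inv_pow, MonoidHom.pow_apply, Units.val_pow_eq_pow_val]
            ring
        _ = _ := by rw [hgeom]; split_ifs <;> simp
    rw [Finset.sum_congr rfl fun y _ => this y, ← Finset.sum_filter]
    refine Finset.sum_bij (fun (x : G) _ => (x : Γ) * s) (fun x _ => ?_) (fun a _ b _ e => ?_)
      (fun y hy => ?_) (fun x _ => rfl)
    · rw [Finset.mem_filter]
      exact ⟨Finset.mem_univ _, by rw [map_mul, hμG x x.2, one_mul]⟩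
    · exact Subtype.ext (mul_right_cancel e)
    · obtain ⟨g, hg, rfl⟩ := hμx y (Finset.mem_filter.mp hy).2
      exact ⟨⟨g, hg⟩, Finset.mem_univ _, rfl⟩
  refine mul_left_cancel₀ (Nat.cast_ne_zero.mpr hn0) (hsum.trans ?_)
  rw [Finset.sum_congr rfl fun j hj => by rw [hinner j (Finset.mem_range.mp hj)]]
  by_cases hR : (fun g : G => χh g) = (fun g : G => χh' g)
  · simp only [hR, true_and, if_true, mul_ite, mul_one, mul_zero]
    rw [Finset.sum_ite_eq' (Finset.range n) 0 _, if_pos (Finset.mem_range.mpr (Nat.pos_of_ne_zero hn0))]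
    rw [pow_zero, inv_one, one_mul, ← Nat.cast_mul, ← G.card_mul_index, h.index_eq, mul_comm]
  · simp [hR]

/-- multiplicities on a product with a cyclic factor -/
theorem prod_cyclic_mult {C : Type u} [Group C] [Fintype C] {S : Type u} [Group S] [Finite S]
    (hS : ∀ a b : S, a * b = b * a) (s : S) {φ : C × S → ℂ} (hφ : IsCharacter (C × S) φ)
    {β : C → ℂ} (hβ : IsIrrCharacter C β) :
    IsIntegral ℤ (classInner (fun c => φ (c, s)) β) ∧
      (classInner (fun c => φ (c, 1)) β = 0 → classInner (fun c => φ (c, s)) β = 0) := by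
  classical
  have hres : ∀ {ψ : C × S → ℂ}, IsCharacter (C × S) ψ →
      IsCharacter C (fun c => ψ (c, 1)) := fun {ψ} hψ =>
    isCharacter_comp (MonoidHom.inl C S) hψ
  obtain ⟨l, rfl⟩ := exists_list_irr hφ
  induction l with
  | nil =>
    have h0 : classInner (fun _ : C => (0 : ℂ)) β = 0 := by simp [classInner_def]
    simp only [List.map_nil, List.sum_nil, Pi.zero_apply, h0]
    exact ⟨isIntegral_zero, fun _ => trivial⟩
  | cons a t iht =>
    have ht : IsCharacter (C × S) (t.map fun χ : IrrCharacter (C × S) => (χ : C × S → ℂ)).sum := by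
      clear iht hφ
      induction t with
      | nil => exact isCharacter_zero
      | cons b u ih => exact isCharacter_add (isCharacter_of_isIrr b.2) ih
    obtain ⟨iht1, iht2⟩ := iht ht
    obtain ⟨d, ρ, hρ, hρc⟩ := a.2
    haveI := hρ
    obtain ⟨w, hw⟩ := schur_scalar ρ (ρ ((1 : C), s)) fun g v => by
      rw [← Module.End.mul_apply, ← map_mul, ← Module.End.mul_apply, ← map_mul]
      congr 2
      exact Prod.ext (by simp) (hS _ _)
    have hval : ∀ c, (a : C × S → ℂ) (c, s) = w * (a : C × S → ℂ) (c, 1) := fun c => by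
      rw [← hρc]
      show LinearMap.trace ℂ _ (ρ (c, s)) = w * LinearMap.trace ℂ _ (ρ (c, 1))
      rw [show ((c, s) : C × S) = ((1 : C), s) * (c, 1) from Prod.ext (by simp) (by simp),
        map_mul, hw, ← Module.End.one_eq_id, smul_mul_assoc, one_mul, map_smul, smul_eq_mul]
    have hwint : IsIntegral ℤ w := by
      refine isIntegral_root (orderOf_pos s).ne' ?_
      have h1 : ρ ((1 : C), s) ^ orderOf s = 1 := by
        rw [← map_pow, show ((1 : C), s) ^ orderOf s = 1 from
          Prod.ext (one_pow _) (pow_orderOf_eq_one s), map_one]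
      rw [hw, ← Module.End.one_eq_id, smul_pow, one_pow] at h1
      refine eq_of_smul_one ?_ h1
      have := finrank_pos_of_irreducible ρ
      simpa using this
    obtain ⟨k, hk⟩ := inner_char_irr (hres (isCharacter_of_isIrr a.2)) hβ
    obtain ⟨k', hk'⟩ := inner_char_irr (hres ht) hβ
    simp only [List.map_cons, List.sum_cons, Pi.add_apply, hval]
    rw [show (fun c => w * (a : C × S → ℂ) (c, 1) +
      (t.map fun χ : IrrCharacter (C × S) => (χ : C × S → ℂ)).sum (c, s)) =
      (w • fun c => (a : C × S → ℂ) (c, 1)) +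
        fun c => (t.map fun χ : IrrCharacter (C × S) => (χ : C × S → ℂ)).sum (c, s) from rfl,
      classInner_add_left, classInner_smul_left, hk,
      show (fun c => (a : C × S → ℂ) (c, 1) +
        (t.map fun χ : IrrCharacter (C × S) => (χ : C × S → ℂ)).sum (c, 1)) =
        (fun c => (a : C × S → ℂ) (c, 1)) +
          fun c => (t.map fun χ : IrrCharacter (C × S) => (χ : C × S → ℂ)).sum (c, 1) from rfl,
      classInner_add_left, hk, hk']
    refine ⟨(hwint.mul (by exact_mod_cast isIntegral_algebraMap (R := ℤ) (A := ℂ) (x := (k : ℤ)))).add iht1,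
      fun h0 => ?_⟩
    have h0' : k + k' = 0 := by exact_mod_cast h0
    rw [show k = 0 by omega, iht2 (by rw [hk', show k' = 0 by omega, Nat.cast_zero]), Nat.cast_zero,
      mul_zero, add_zero]
where
  eq_of_smul_one {d : ℕ} {x : ℂ} (hd : 0 < d)
      (h : x • (1 : Module.End ℂ (Fin d → ℂ)) = 1) : x = 1 := by
    have h1 := congrFun (LinearMap.congr_fun h (fun _ => 1)) ⟨0, hd⟩
    simpa using h1

/-- the correspondent of a canonical extension is irreducible up to sign -/
theorem IsCanon.value_irr (h : CycAct G s) [Fintype G] (C : Subgroup Γ) [Fintype C]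
    (hC : ∀ c, c ∈ C ↔ c ∈ G ∧ c * s = s * c) {χh : Γ → ℂ} (hc : IsCanon G s χh) :
    (∃ β : IrrCharacter C, ∃ ε : ℤ, (ε = 1 ∨ ε = -1) ∧
      (fun c : C => χh ((c : Γ) * s)) = (ε : ℂ) • (β : C → ℂ)) ∧
    ∀ β : IrrCharacter C, classInner (fun c : C => χh ((c : Γ) * s)) (β : C → ℂ) ≠ 0 →
      classInner (fun c : C => χh (c : Γ)) (β : C → ℂ) ≠ 0 := by
  classical
  haveI := h.nor
  let S := Subgroup.zpowers s
  let s' : S := ⟨s, Subgroup.mem_zpowers s⟩
  have hScomm : ∀ a b : S, a * b = b * a := fun a b => by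
    obtain ⟨i, hi⟩ := a.2
    obtain ⟨j, hj⟩ := b.2
    exact Subtype.ext (by
      show (a : Γ) * b = b * a
      rw [← hi, ← hj]; exact (Commute.refl s).zpow_zpow i j)
  let inc : C × S →* Γ :=
    MonoidHom.noncommCoprod C.subtype S.subtype fun c z => by
      obtain ⟨i, hi⟩ := z.2
      show Commute (c : Γ) (z : Γ)
      rw [← hi]
      exact Commute.zpow_right ((hC c).mp c.2).2 i
  have hD : IsCharacter (C × S) (χh ∘ inc) := isCharacter_comp inc (isCharacter_of_isIrr hc.1)
  have hval : ∀ (c : C) (z : S), (χh ∘ inc) (c, z) = χh ((c : Γ) * z) := fun c z => by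
    simp [inc, MonoidHom.noncommCoprod]
  have hf1 : (fun c : C => χh ((c : Γ) * s)) = fun c => (χh ∘ inc) (c, s') :=
    funext fun c => (hval c s').symm
  have hf0 : (fun c : C => χh (c : Γ)) = fun c => (χh ∘ inc) (c, 1) :=
    funext fun c => by rw [hval]; simp
  have hcl : IsClassFunction C (fun c : C => χh ((c : Γ) * s)) := fun a b => by
    show χh (((b * a * b⁻¹ : C) : Γ) * s) = χh ((a : Γ) * s)
    rw [show ((b * a * b⁻¹ : C) : Γ) * s = (b : Γ) * ((a : Γ) * s) * (b : Γ)⁻¹ by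
      simp only [Subgroup.coe_mul, Subgroup.coe_inv, mul_assoc]
      rw [((hC _).mp (C.inv_mem b.2)).2]]
    exact classFun_of_irr hc.1 _ _
  have hint : ∀ β : IrrCharacter C, ∃ k : ℤ,
      classInner (fun c : C => χh ((c : Γ) * s)) (β : C → ℂ) = k := by
    intro β
    have hi : IsIntegral ℤ (classInner (fun c : C => χh ((c : Γ) * s)) (β : C → ℂ)) := by
      rw [hf1]; exact (prod_cyclic_mult hScomm s' hD β.2).1
    refine int_of_fixed hi fun φ => ?_
    obtain ⟨m, hm, hφ⟩ := algHom_char_pow (C × S) φ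
    have hmC : m.Coprime (Nat.card C) :=
      hm.coprime_dvd_right (by rw [Nat.card_prod]; exact dvd_mul_right _ _)
    have hms : m.Coprime (orderOf s) :=
      hm.coprime_dvd_right (by rw [Nat.card_prod, Nat.card_zpowers]; exact dvd_mul_left _ _)
    have hb : IsCharacter (C × S) ((β : C → ℂ) ∘ (MonoidHom.fst C S)) :=
      isCharacter_comp _ (isCharacter_of_isIrr β.2)
    let u : C → QBar := fun c =>
      ⟨(χh ∘ inc) (c, s'), mem_qbar_of_integral (char_isIntegral hD _)⟩
    let v : C → QBar := fun c => ⟨((β : C → ℂ) ∘ (MonoidHom.fst C S)) (c⁻¹, 1),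
      mem_qbar_of_integral (char_isIntegral hb _)⟩
    have hX : (⟨classInner (fun c : C => χh ((c : Γ) * s)) (β : C → ℂ), mem_qbar_of_integral hi⟩ : QBar) *
        (Nat.card C : QBar) = ∑ c : C, u c * v c := by
      refine Subtype.ext ?_
      push_cast
      rw [classInner_def, mul_comm, ← mul_assoc, mul_inv_cancel₀ (natCard_ne_zero C), one_mul]
      refine Finset.sum_congr rfl fun c _ => ?_
      show χh ((c : Γ) * s) * conj ((β : C → ℂ) c) = (χh ∘ inc) (c, s') * (β : C → ℂ) c⁻¹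
      rw [hval, char_conj_eq (isCharacter_of_isIrr β.2)]
    have hsum : φ (∑ c : C, u c * v c) = ∑ c : C, χh ((c : Γ) * s) * conj ((β : C → ℂ) c) := by
      rw [map_sum]
      refine Fintype.sum_bijective _ (pow_coprime_bijective hmC) _ _ fun c => ?_
      rw [map_mul, hφ _ hD, hφ _ hb]
      show (χh ∘ inc) (c ^ m, s' ^ m) * (β : C → ℂ) (c⁻¹ ^ m) = _
      rw [hval, inv_pow, char_conj_eq (isCharacter_of_isIrr β.2)]
      congr 1
      exact IsCanon.gen_indep h hc ((hC _).mp (c ^ m).2).1 ((hC _).mp (c ^ m).2).2 hms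
    have h2 := congrArg φ hX
    rw [map_mul, map_natCast, hsum] at h2
    refine mul_right_cancel₀ (natCard_ne_zero C) (h2.trans ?_)
    rw [classInner_def, mul_comm _ (Nat.card C : ℂ), ← mul_assoc, mul_inv_cancel₀ (natCard_ne_zero C),
      one_mul]
  refine ⟨?_, fun β hne h0 => hne ?_⟩
  · have hgen : IsGeneralizedCharacter C (fun c : C => χh ((c : Γ) * s)) :=
      isGeneralized_iff.mpr ⟨hcl, hint⟩
    have hn : classInner (fun c : C => χh ((c : Γ) * s)) (fun c : C => χh ((c : Γ) * s)) = 1 := by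
      have h1 := h.coset_sum C hC (fun x => χh x * conj (χh x))
        (fun a b => by simp only [classFun_of_irr hc.1 a b])
      rw [IsCanon.coset_orth h hc hc, if_pos rfl] at h1
      have hr : (C.relIndex G : ℂ) * (Nat.card C : ℂ) = (Nat.card G : ℂ) := by
        rw [← Nat.card_congr (Subgroup.subgroupOfEquivOfLe (fun c hc' => ((hC c).mp hc').1 : C ≤ G)).toEquiv,
          ← Nat.cast_mul, mul_comm]
        exact congrArg Nat.cast (C.subgroupOf G).card_mul_index
      rw [← hr] at h1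
      have h2 := mul_left_cancel₀ (Nat.cast_ne_zero.mpr Subgroup.index_ne_zero_of_finite) h1
      rw [classInner_def, ← h2, inv_mul_cancel₀ (natCard_ne_zero C)]
    rcases isIrr_or_neg_of_norm hgen hn with hi | hi
    · exact ⟨⟨_, hi⟩, 1, Or.inl rfl, by simp⟩
    · exact ⟨⟨_, hi⟩, -1, Or.inr rfl, by funext c; simp⟩
  · rw [hf1]
    rw [hf0] at h0
    exact (prod_cyclic_mult hScomm s' hD β.2).2 h0

end CfsgLib.Char

namespace CfsgLib.Char

open Module Cfsg
open scoped ComplexConjugate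

universe v

/-- the generators of a cyclic operator group -/
theorem cyclic_setup {Γ : Type v} [Group Γ] [Fintype Γ] (G S : Subgroup Γ)
    (hnorm : ∀ s ∈ S, ∀ g ∈ G, s * g * s⁻¹ ∈ G)
    (hcop : (Nat.card G).Coprime (Nat.card S)) (htop : G ⊔ S = ⊤) (hcyc : IsCyclic S) :
    ∃ s : Γ, Subgroup.zpowers s = S ∧ orderOf s = Nat.card S ∧ CycAct G s ∧
      (∀ s' : Γ, Subgroup.zpowers s' = S → ∃ j : ℕ, j.Coprime (orderOf s) ∧ s' = s ^ j) ∧
      ∀ c : Γ, c ∈ G ⊓ Subgroup.centralizer (S : Set Γ) ↔ c ∈ G ∧ c * s = s * c := by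
  obtain ⟨s₀, hs₀⟩ := isCyclic_iff_exists_zpowers_eq_top.mp hcyc
  have hS : Subgroup.zpowers (s₀ : Γ) = S := by
    refine le_antisymm (Subgroup.zpowers_le.mpr s₀.2) fun x hx => ?_
    obtain ⟨k, hk⟩ := (hs₀ ▸ Subgroup.mem_top (⟨x, hx⟩ : S) : (⟨x, hx⟩ : S) ∈ Subgroup.zpowers s₀)
    exact ⟨k, by simpa using congrArg Subtype.val hk⟩
  have hord : orderOf (s₀ : Γ) = Nat.card S := by rw [← Nat.card_zpowers, hS]
  refine ⟨s₀, hS, hord, CycAct.mk' (hnorm s₀ s₀.2) (by rw [hord]; exact hcop) (by rw [hS]; exact htop),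
    fun s' hs' => ?_, fun c => ?_⟩
  · obtain ⟨j, hj⟩ := (isOfFinOrder_of_finite (s₀ : Γ)).mem_powers_iff_mem_zpowers.mpr
      (hS.symm ▸ (hs' ▸ Subgroup.mem_zpowers s' : s' ∈ S) : s' ∈ Subgroup.zpowers (s₀ : Γ))
    simp only at hj
    refine ⟨j, ?_, hj.symm⟩
    have h1 : orderOf ((s₀ : Γ) ^ j) = orderOf (s₀ : Γ) := by
      rw [← Nat.card_zpowers, ← Nat.card_zpowers, hj, hs', hS]
    rw [orderOf_pow] at h1
    have h2 : Nat.gcd (orderOf (s₀ : Γ)) j ∣ orderOf (s₀ : Γ) := Nat.gcd_dvd_left _ _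
    rcases (Nat.div_eq_self.mp h1) with h0 | h0
    · exact absurd h0 (orderOf_pos _).ne'
    · exact Nat.Coprime.symm h0
  · rw [Subgroup.mem_inf]
    refine and_congr_right fun _ => ⟨fun h => (h s₀ s₀.2).symm, fun h x hx => ?_⟩
    obtain ⟨k, rfl⟩ := (hS.symm ▸ hx : x ∈ Subgroup.zpowers (s₀ : Γ))
    exact ((Commute.zpow_right (h : Commute c (s₀ : Γ)) k).eq).symm

end CfsgLib.Char
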