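import Cfsg.Agent.Char.GlauberCyclic
import Cfsg.Agent.Char.CyclicSigns

/-! The canonical extension off the normal subgroup in the fixed-point-free case. -/

set_option linter.unusedSectionVars false
set_option linter.style.haveILetI false
set_option linter.style.longLine false

namespace CfsgLib.Char

open Module Cfsg
open scoped ComplexConjugate

universe u

variable {Γ : Type u} [Group Γ] [Fintype Γ]

theorem detOrder_comp_dvd {H : Type u} [Group H] [Finite H] (f : H →* Γ) {χ : Γ → ℂ}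
    (hχ : IsCharacter Γ χ) : detOrder (χ ∘ f) ∣ detOrder χ := by
  obtain ⟨n, ρ, rfl⟩ := hχ
  rw [detOrder, detOrder, detChar_eq ρ,
    show detChar (ρ.character ∘ f) = fun x => LinearMap.det (ρ (f x)) from detChar_eq (ρ.comp f)]
  refine orderOf_dvd_of_pow_eq_one (funext fun x => ?_)
  exact congrFun (pow_orderOf_eq_one (fun g => LinearMap.det (ρ g))) (f x)

/-- the value at a single operator -/
theorem exists_value {G : Subgroup Γ} [Fintype G] {s : Γ} (h : CycAct G s) (C : Subgroup Γ)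
    [Fintype C] {χh : Γ → ℂ} (hc : IsCanon G s χh) {x : Γ} (hx : x ∈ Subgroup.zpowers s)
    (hC : ∀ c, c ∈ C ↔ c ∈ G ∧ c * x = x * c) :
    ∃ β : IrrCharacter C, ∃ ε : ℤ, (ε = 1 ∨ ε = -1) ∧
      (fun c : C => χh ((c : Γ) * x)) = (ε : ℂ) • (β : C → ℂ) := by
  classical
  haveI := h.nor
  let Γ' := G ⊔ Subgroup.zpowers x
  have hGle : G ≤ Γ' := le_sup_left
  let x' : Γ' := ⟨x, Subgroup.mem_sup_right (Subgroup.mem_zpowers x)⟩
  let G' := G.subgroupOf Γ'
  have hord : orderOf x' = orderOf x := Subgroup.orderOf_mk _ _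
  have hdvd : orderOf x ∣ orderOf s := by
    obtain ⟨k, rfl⟩ := (isOfFinOrder_of_finite s).mem_powers_iff_mem_zpowers.mpr hx
    exact orderOf_pow_dvd k
  have hcard : Nat.card G' = Nat.card G := Nat.card_congr (Subgroup.subgroupOfEquivOfLe hGle).toEquiv
  have hact : CycAct G' x' := by
    refine ⟨h.nor.subgroupOf Γ', by rw [hord, hcard]; exact h.cop.coprime_dvd_right hdvd, ?_⟩
    refine top_le_iff.mp fun z _ => ?_
    obtain ⟨g, hg, y, hy, hgy⟩ := Subgroup.mem_sup_of_normal_left.mp z.2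
    obtain ⟨k, hk⟩ := hy
    have : z = (⟨g, hGle hg⟩ : Γ') * x' ^ k := Subtype.ext (by
      rw [← hgy, ← hk]; simp [x'])
    rw [this]
    exact mul_mem (Subgroup.mem_sup_left (Subgroup.mem_subgroupOf.mpr hg))
      (Subgroup.mem_sup_right ⟨k, rfl⟩)
  have hCG : C ≤ G := fun c hc => ((hC c).mp hc).1
  let e : C.subgroupOf Γ' ≃* C := Subgroup.subgroupOfEquivOfLe (hCG.trans hGle)
  haveI := Fintype.ofFinite G'
  haveI := Fintype.ofFinite Γ'
  haveI := Fintype.ofFinite (C.subgroupOf Γ')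
  let eG : G' ≃* G := Subgroup.subgroupOfEquivOfLe hGle
  have hG'irr : IsIrrCharacter G' (fun g : G' => χh ((g : Γ') : Γ)) := irr_mulEquiv eG hc.2.1
  have hres : IsCharacter Γ' (fun z : Γ' => χh z) := isCharacter_restrict Γ' (isCharacter_of_isIrr hc.1)
  have hcanon : IsCanon G' x' (fun z : Γ' => χh z) :=
    ⟨irr_of_res_irr G' hres hG'irr, hG'irr, by
      rw [hord]
      exact (hc.2.2.coprime_dvd_left (detOrder_comp_dvd Γ'.subtype (isCharacter_of_isIrr hc.1))).coprime_dvd_right hdvd⟩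
  obtain ⟨⟨β, ε, hε, he⟩, -⟩ := IsCanon.value_irr hact (C.subgroupOf Γ') (fun c => by
    rw [Subgroup.mem_subgroupOf, hC, Subgroup.mem_subgroupOf]
    exact and_congr_right fun _ => ⟨fun e => Subtype.ext e, fun e => congrArg Subtype.val e⟩) hcanon
  refine ⟨⟨(β : C.subgroupOf Γ' → ℂ) ∘ e.symm, irr_mulEquiv e.symm β.2⟩, ε, hε, funext fun c => ?_⟩
  exact congrFun he (e.symm c)

end CfsgLib.Char

namespace CfsgLib.Char

open Module Cfsg
open scoped ComplexConjugate

universe v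

/-- fixed-point-free coprime cyclic operators -/
theorem fpf_main {Γ : Type v} [Group Γ] [Fintype Γ] {G S : Subgroup Γ} [Fintype G] (C : Subgroup Γ)
    [Fintype C] {s : Γ} (hS : Subgroup.zpowers s = S) (hn : orderOf s = Nat.card S) (h : CycAct G s)
    (hC : ∀ x ∈ S, x ≠ 1 → ∀ c, c ∈ C ↔ c ∈ G ∧ c * x = x * c)
    (hcomm : ∀ x ∈ S, ∀ c ∈ C, c * x = x * c) {χh : Γ → ℂ} (hc : IsCanon G s χh)
    (β : IrrCharacter C) (ε₀ : ℤ) (hε₀ : ε₀ = 1 ∨ ε₀ = -1)
    (hβ : ∀ c : C, χh ((c : Γ) * s) = (ε₀ : ℂ) * (β : C → ℂ) c) :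
    ∃ ε : ℤ, (ε = 1 ∨ ε = -1) ∧ ∃ μ : S →* ℂˣ, (∀ x : S, (μ x : ℂ) * μ x = 1) ∧
      (∀ c : C, ∀ x : S, x ≠ 1 → χh ((c : Γ) * x) = (ε : ℂ) * (β : C → ℂ) c * μ x) ∧
      ∃ ϑ : C → ℂ, IsCharacter C ϑ ∧
        (fun c : C => χh (c : Γ)) = fun c => (Nat.card S : ℂ) * ϑ c + (ε : ℂ) * (β : C → ℂ) c := by
  classical
  haveI := Fintype.ofFinite S
  let s' : S := ⟨s, hS ▸ Subgroup.mem_zpowers s⟩
  have hsgen : ∀ x : S, ∃ k : ℕ, x = s' ^ k := fun x => by
    obtain ⟨k, hk⟩ := (isOfFinOrder_of_finite s).mem_powers_iff_mem_zpowers.mpr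
      (hS.symm ▸ x.2 : (x : Γ) ∈ Subgroup.zpowers s)
    exact ⟨k, Subtype.ext (by simpa [s'] using hk.symm)⟩
  have hScomm : ∀ a b : S, a * b = b * a := fun a b => by
    obtain ⟨i, rfl⟩ := hsgen a
    obtain ⟨j, rfl⟩ := hsgen b
    rw [← pow_add, ← pow_add, add_comm]
  set n := Nat.card S with hndef
  have hn0 : n ≠ 0 := Nat.card_pos.ne'
  have hs'n : orderOf s' = n := by rw [Subgroup.orderOf_mk]; exact hn
  have hpow1 : ∀ k : ℕ, s' ^ k = 1 ↔ n ∣ k := fun k => by rw [← hs'n, orderOf_dvd_iff_pow_eq_one]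
  let inc : C × S →* Γ :=
    MonoidHom.noncommCoprod C.subtype S.subtype fun c z => hcomm z z.2 c c.2
  have hφ : IsCharacter (C × S) (χh ∘ inc) := isCharacter_comp inc (isCharacter_of_isIrr hc.1)
  have hval : ∀ (c : C) (z : S), (χh ∘ inc) (c, z) = χh ((c : Γ) * z) := fun c z => by
    simp [inc, MonoidHom.noncommCoprod]
  let a : IrrCharacter C → S → ℂ := fun γ x => classInner (fun c : C => χh ((c : Γ) * x)) (γ : C → ℂ)
  have hac : ∀ γ, IsCharacter S (a γ) := by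
    intro γ
    refine isCharacter_iff.mpr ⟨fun g k => ?_, fun l => ?_⟩
    · rw [hScomm k g, mul_inv_cancel_right]
    · obtain ⟨m, hm⟩ := inner_char_char hφ (isCharacter_mul
        (isCharacter_comp (MonoidHom.fst C S) (isCharacter_of_isIrr γ.2))
        (isCharacter_comp (MonoidHom.snd C S) (isCharacter_of_isIrr l.2)))
      refine ⟨m, ?_⟩
      rw [← hm, classInner_def, classInner_def, Nat.card_prod, Nat.cast_mul, mul_inv,
        Fintype.sum_prod_type, Finset.sum_comm, Finset.mul_sum, Finset.mul_sum]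
      refine Finset.sum_congr rfl fun x _ => ?_
      show _ * (classInner (fun c : C => χh ((c : Γ) * x)) (γ : C → ℂ) * _) = _
      rw [classInner_def, Finset.mul_sum, Finset.sum_mul, Finset.mul_sum, Finset.mul_sum]
      refine Finset.sum_congr rfl fun c _ => ?_
      simp only [Pi.mul_apply, Function.comp_apply, MonoidHom.coe_fst, MonoidHom.coe_snd, map_mul]
      rw [show inc (c, x) = (c : Γ) * x from by simp [inc, MonoidHom.noncommCoprod]]
      ring
  have hfix : ∀ x : S, x ≠ 1 → ∃ γ₀ : IrrCharacter C, ∃ e : ℤ, (e = 1 ∨ e = -1) ∧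
      (fun c : C => χh ((c : Γ) * x)) = (e : ℂ) • (γ₀ : C → ℂ) ∧
      ∀ γ, a γ x = if γ = γ₀ then (e : ℂ) else 0 := by
    intro x hx
    obtain ⟨γ₀, e, he, heq⟩ := exists_value h C hc (x := (x : Γ)) (hS ▸ x.2)
      (hC x x.2 fun e => hx (Subtype.ext e))
    refine ⟨γ₀, e, he, heq, fun γ => ?_⟩
    show classInner _ _ = _
    rw [heq, classInner_smul_left, irr_inner γ₀.2 γ.2]
    by_cases hg : γ = γ₀
    · subst hg; simp
    · rw [if_neg hg, if_neg (fun e' => hg (Subtype.ext e'.symm)), mul_zero]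
  have hdata : ∀ γ, ∃ d, ∃ ω : Fin d → ℂ, (∀ i, ω i ^ n = 1) ∧
      ∀ k : ℕ, a γ (s' ^ k) = ∑ i, ω i ^ k := by
    intro γ
    obtain ⟨d, ρ, hρ⟩ := hac γ
    obtain ⟨ω, hω, hp, -, -⟩ := exists_roots ρ s'
    exact ⟨_, ω, fun i => hs'n ▸ hω i, fun k => by rw [← hρ]; exact hp k⟩
  have hsA : ∀ γ (d : ℕ) (ω : Fin d → ℂ), (∀ k : ℕ, a γ (s' ^ k) = ∑ i, ω i ^ k) →
      ∀ k, ¬ n ∣ k → ∑ i, ω i ^ k = 0 ∨ ∑ i, ω i ^ k = 1 ∨ ∑ i, ω i ^ k = -1 := by
    intro γ d ω hω k hk
    obtain ⟨γ₀, e, he, -, hae⟩ := hfix (s' ^ k) fun e => hk ((hpow1 k).mp e)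
    rw [← hω k, hae γ]
    split_ifs
    · rcases he with rfl | rfl <;> simp
    · simp
  have hA1 : ∀ γ : IrrCharacter C, a γ (s' ^ 1) = if γ = β then (ε₀ : ℂ) else 0 := by
    intro γ
    rw [pow_one]
    show classInner (fun c : C => χh ((c : Γ) * s)) (γ : C → ℂ) = _
    rw [show (fun c : C => χh ((c : Γ) * s)) = (ε₀ : ℂ) • (β : C → ℂ) from funext hβ,
      classInner_smul_left, irr_inner β.2 γ.2]
    by_cases hg : γ = β
    · subst hg; simp
    · rw [if_neg hg, if_neg (fun e' => hg (Subtype.ext e'.symm)), mul_zero]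
  obtain ⟨d, ω, hω, hωv⟩ := hdata β
  obtain ⟨ε, σ, hε, hσ, hσn, hone, hsign⟩ := (signs_of_powSums ω hn0 hω (hsA β d ω hωv)).2 ε₀ hε₀
    (Or.inr (by rw [← hωv, hA1, if_pos rfl]))
  have hzero : ∀ γ : IrrCharacter C, γ ≠ β → ∀ x : S, x ≠ 1 → a γ x = 0 := by
    intro γ hγ x hx
    obtain ⟨d', ω', hω', hωv'⟩ := hdata γ
    obtain ⟨k, rfl⟩ := hsgen x
    rw [hωv']
    exact (signs_of_powSums ω' hn0 hω' (hsA γ d' ω' hωv')).1 (by rw [← hωv', hA1, if_neg hγ]) k
      fun e => hx ((hpow1 k).mpr e)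
  have hsig : (σ : ℂ) * σ = 1 := by rcases hσ with rfl | rfl <;> norm_num
  let u : ℂˣ := ⟨(σ : ℂ), (σ : ℂ), hsig, hsig⟩
  have hgen : ∀ x : S, x ∈ Subgroup.zpowers s' := fun x => by
    obtain ⟨k, rfl⟩ := hsgen x
    exact ⟨k, zpow_natCast _ _⟩
  have hu : orderOf u ∣ orderOf s' := by
    rw [hs'n]
    refine orderOf_dvd_of_pow_eq_one (Units.ext ?_)
    rw [Units.val_pow_eq_pow_val, Units.val_one]
    show (σ : ℂ) ^ n = 1
    exact_mod_cast hσn
  let μ : S →* ℂˣ := monoidHomOfForallMemZpowers hgen hu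
  have hμ : ∀ k : ℕ, (μ (s' ^ k) : ℂ) = (σ : ℂ) ^ k := fun k => by
    rw [map_pow, Units.val_pow_eq_pow_val, show μ s' = u from monoidHomOfForallMemZpowers_apply_gen hgen hu]
  have hμμ : ∀ x : S, (μ x : ℂ) * μ x = 1 := fun x => by
    obtain ⟨k, rfl⟩ := hsgen x
    rw [hμ, ← mul_pow, hsig, one_pow]
  have haβ : ∀ x : S, x ≠ 1 → a β x = (ε : ℂ) * μ x := fun x hx => by
    obtain ⟨k, rfl⟩ := hsgen x
    rw [hωv, hsign k fun e => hx ((hpow1 k).mpr e), hμ]
    push_cast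
    ring
  refine ⟨ε, hε, μ, hμμ, fun c x hx => ?_, ?_⟩
  · obtain ⟨γ₀, e, -, heq, hae⟩ := hfix x hx
    have h1 := hae β
    rw [haβ x hx] at h1
    by_cases hg : β = γ₀
    · subst hg
      rw [if_pos rfl] at h1
      rw [congrFun heq c, Pi.smul_apply, smul_eq_mul, ← h1]; ring
    · rw [if_neg hg] at h1
      exact absurd h1 (mul_ne_zero (by rcases hε with rfl | rfl <;> norm_num) (Units.ne_zero _))
  -- the restriction to `C`
  refine ⟨fun c => (χh (c : Γ) - (ε : ℂ) * (β : C → ℂ) c) / (n : ℂ), ?_, ?_⟩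
  · refine isCharacter_iff.mpr ⟨fun g k => ?_, fun γ => ?_⟩
    · simp only [classFun_of_irr β.2 g k, Subgroup.coe_mul, Subgroup.coe_inv, classFun_of_irr hc.1 (g : Γ) (k : Γ)]
    · have hinner : classInner (fun c : C => (χh (c : Γ) - (ε : ℂ) * (β : C → ℂ) c) / (n : ℂ)) (γ : C → ℂ)
          = (a γ 1 - (ε : ℂ) * classInner (β : C → ℂ) (γ : C → ℂ)) / (n : ℂ) := by
        rw [show (fun c : C => (χh (c : Γ) - (ε : ℂ) * (β : C → ℂ) c) / (n : ℂ)) =
          (n : ℂ)⁻¹ • ((fun c : C => χh (c : Γ)) - (ε : ℂ) • (β : C → ℂ)) from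
          funext fun c => by simp [div_eq_inv_mul], classInner_smul_left, classInner_sub_left,
          classInner_smul_left, div_eq_inv_mul]
        simp only [a, OneMemClass.coe_one, mul_one]
      rw [hinner, irr_inner β.2 γ.2]
      obtain ⟨m, hm⟩ := inner_char_irr (isCharacter_comp C.subtype (isCharacter_of_isIrr hc.1)) γ.2
      have ha1 : a γ 1 = (m : ℂ) := by
        rw [← hm]
        simp only [a, OneMemClass.coe_one, mul_one]
        rfl
      have hsum : ∀ F : S → ℂ, ∑ x : S, F x = F 1 + ∑ x ∈ Finset.univ.erase (1 : S), F x :=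
        fun F => (Finset.add_sum_erase _ _ (Finset.mem_univ _)).symm
      by_cases hg : γ = β
      · subst hg
        rw [if_pos rfl, mul_one, ha1]
        by_cases h1 : n = 1
        · have : s' = 1 := orderOf_eq_one_iff.mp (by rw [hs'n, h1])
          have h2 := hA1 γ
          rw [if_pos rfl, pow_one, this, ha1] at h2
          exact ⟨0, by rw [hone h1, ← h2, sub_self, zero_div, Nat.cast_zero]⟩
        obtain ⟨k, hk⟩ := inner_char_irr (hac γ) (isIrr_linear μ)
        rw [classInner_def, hsum, Finset.sum_congr rfl fun x hx => by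
          rw [haβ x (Finset.mem_erase.mp hx).1, conj_root (orderOf_pos x).ne' (linear_root μ x),
            mul_assoc, mul_inv_cancel₀ (Units.ne_zero _), mul_one],
          Finset.sum_const, Finset.card_erase_of_mem (Finset.mem_univ _), Finset.card_univ,
          Fintype.card_eq_nat_card, map_one, Units.val_one, map_one, mul_one, ha1, nsmul_eq_mul,
          Nat.cast_sub (Nat.one_le_iff_ne_zero.mpr hn0), Nat.cast_one,
          inv_mul_eq_iff_eq_mul₀ (Nat.cast_ne_zero.mpr hn0)] at hk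
        have hmz : (m : ℤ) - ε = (n : ℤ) * ((k : ℤ) - ε) := by
          have h2 : ((m : ℂ) - (ε : ℂ)) = (n : ℂ) * ((k : ℂ) - (ε : ℂ)) := by linear_combination hk
          exact_mod_cast h2
        have hnn : 0 ≤ (k : ℤ) - ε := by
          by_contra hlt
          have hn2 : 2 ≤ (n : ℤ) := by omega
          have : (k : ℤ) - ε ≤ -1 := by omega
          rcases hε with rfl | rfl <;> nlinarith
        refine ⟨((k : ℤ) - ε).toNat, ?_⟩
        rw [div_eq_iff (Nat.cast_ne_zero.mpr hn0)]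
        have hcast : ((((k : ℤ) - ε).toNat : ℕ) : ℂ) = (((k : ℤ) - ε : ℤ) : ℂ) := by
          rw [← Int.cast_natCast, Int.toNat_of_nonneg hnn]
        rw [hcast]
        push_cast
        have h3 : (m : ℂ) - (ε : ℂ) = (n : ℂ) * ((k : ℂ) - (ε : ℂ)) := by exact_mod_cast hmz
        linear_combination h3
      · rw [if_neg (fun e' => hg (Subtype.ext e'.symm)), mul_zero, sub_zero]
        obtain ⟨k, hk⟩ := inner_char_irr (hac γ) (isIrr_one (G := S))
        refine ⟨k, ?_⟩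
        rw [classInner_def, hsum, Finset.sum_eq_zero fun x hx => by
          rw [hzero γ hg x (Finset.mem_erase.mp hx).1, zero_mul], map_one, mul_one, add_zero] at hk
        rw [← hk, ← div_eq_inv_mul]
  · funext c
    field_simp
    ring

end CfsgLib.Char
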