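import Cfsg.Agent.Char.Glauberman
import Cfsg.Agent.Char.Clifford
import Mathlib.GroupTheory.Solvable
import Mathlib.GroupTheory.Sylow

/-! Solvable coprime operator groups. -/

set_option linter.unusedSectionVars false
set_option linter.style.haveILetI false

namespace CfsgLib.Char

open Module Cfsg
open scoped ComplexConjugate

universe u v w

section auts

variable {G : Type u} [Group G]

/-- invariance under a group of automorphisms -/
def AutInv (A : Subgroup (MulAut G)) (χ : G → ℂ) : Prop := ∀ σ ∈ A, ∀ g, χ (σ g) = χ g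

/-- stability of a subgroup -/
def AutStable (A : Subgroup (MulAut G)) (K : Subgroup G) : Prop := ∀ σ ∈ A, ∀ g ∈ K, σ g ∈ K

/-- fixed points of automorphisms -/
def fixedSub (A : Subgroup (MulAut G)) : Subgroup G where
  carrier := {g | ∀ σ ∈ A, σ g = g}
  one_mem' := fun σ _ => map_one σ
  mul_mem' := fun {a b} ha hb σ hσ => by rw [map_mul, ha σ hσ, hb σ hσ]
  inv_mem' := fun {a} ha σ hσ => by rw [map_inv, ha σ hσ]

/-- restriction of a stabilizing automorphism group -/
def resAut (A : Subgroup (MulAut G)) (K : Subgroup G) (hK : AutStable A K) : A →* MulAut K where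
  toFun σ :=
    { toFun := fun k => ⟨(σ : MulAut G) k, hK σ σ.2 k k.2⟩
      invFun := fun k => ⟨((σ⁻¹ : A) : MulAut G) k, hK _ (σ⁻¹).2 k k.2⟩
      left_inv := fun k => Subtype.ext (by simp)
      right_inv := fun k => Subtype.ext (by simp)
      map_mul' := fun a b => Subtype.ext (map_mul (σ : MulAut G) _ _) }
  map_one' := MulEquiv.ext fun k => Subtype.ext rfl
  map_mul' σ τ := MulEquiv.ext fun k => Subtype.ext rfl

theorem coe_resAut (A : Subgroup (MulAut G)) (K : Subgroup G) (hK : AutStable A K) (σ : A) (k : K) :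
    ((resAut A K hK σ k : K) : G) = (σ : MulAut G) k := rfl

theorem fixedSub_stable {A P : Subgroup (MulAut G)}
    (hn : ∀ σ ∈ A, ∀ π ∈ P, σ⁻¹ * π * σ ∈ P) : AutStable A (fixedSub P) := by
  intro σ hσ g hg π hπ
  have h := congrArg σ (hg _ (hn σ hσ π hπ))
  simpa [MulAut.mul_apply] using h

theorem fixedEmb (P : Subgroup (MulAut G)) : IsFixedEmb P (fixedSub P).subtype :=
  ⟨Subgroup.subtype_injective _, fun g =>
    ⟨fun ⟨c, hc⟩ a => hc ▸ c.2 a a.2, fun h => ⟨⟨g, fun σ hσ => h ⟨σ, hσ⟩⟩, rfl⟩⟩⟩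

theorem exists_normal_pSubgroup (A : Type v) [Group A] [Finite A] [Group.IsSolvable A]
    (h : Nontrivial A) :
    ∃ (p : ℕ) (P : Subgroup A), p.Prime ∧ P.Normal ∧ IsPGroup p P ∧ P ≠ ⊥ := by
  obtain ⟨n, hn⟩ := Group.IsSolvable.solvable (G := A)
  have key : ∃ M : Subgroup A, M.Normal ∧ M ≠ ⊥ ∧ ∀ a ∈ M, ∀ b ∈ M, a * b = b * a := by
    classical
    let k := Nat.find (⟨n, hn⟩ : ∃ n, derivedSeries A n = ⊥)
    have hk : derivedSeries A k = ⊥ := Nat.find_spec (⟨n, hn⟩ : ∃ n, derivedSeries A n = ⊥)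
    have hk0 : k ≠ 0 := fun e => by
      rw [e, derivedSeries_zero] at hk
      exact top_ne_bot hk
    obtain ⟨j, hj⟩ := Nat.exists_eq_succ_of_ne_zero hk0
    refine ⟨derivedSeries A j, derivedSeries_normal A j,
      Nat.find_min (⟨n, hn⟩ : ∃ n, derivedSeries A n = ⊥) (by show j < k; omega), ?_⟩
    intro a ha b hb
    rw [hj, derivedSeries_succ] at hk
    have := hk ▸ Subgroup.commutator_mem_commutator ha hb
    rw [Subgroup.mem_bot, commutatorElement_eq_one_iff_mul_comm] at this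
    exact this
  obtain ⟨M, hM, hne, hab⟩ := key
  obtain ⟨p, hp, hpd⟩ := Nat.exists_prime_and_dvd
    (Subgroup.card_eq_one.not.mpr hne : Nat.card M ≠ 1)
  haveI : Fact p.Prime := ⟨hp⟩
  haveI := hM
  let P : Subgroup A :=
    { carrier := {x | x ∈ M ∧ ∃ k : ℕ, x ^ p ^ k = 1}
      one_mem' := ⟨M.one_mem, 0, one_pow _⟩
      mul_mem' := by
        rintro a b ⟨ha, i, hi⟩ ⟨hb, j, hj⟩
        refine ⟨M.mul_mem ha hb, i + j, ?_⟩
        have hc : Commute a b := hab a ha b hb
        rw [hc.mul_pow, pow_add, pow_mul, hi, one_pow, one_mul,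
          mul_comm, pow_mul, hj, one_pow]
      inv_mem' := by
        rintro a ⟨ha, i, hi⟩
        exact ⟨M.inv_mem ha, i, by rw [inv_pow, hi, inv_one]⟩ }
  refine ⟨p, P, hp, ⟨fun x ⟨hx, k, hk⟩ g => ⟨hM.conj_mem x hx g, k, by
    rw [conj_pow, hk]; simp⟩⟩, fun x => ?_, fun e => ?_⟩
  · obtain ⟨-, k, hk⟩ := x.2
    exact ⟨k, Subtype.ext hk⟩
  · obtain ⟨x, hx⟩ := exists_prime_orderOf_dvd_card' (G := M) p hpd
    have : (x : A) ∈ P := ⟨x.2, 1, by rw [pow_one, ← hx, ← Subgroup.orderOf_coe, pow_orderOf_eq_one]⟩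
    rw [e, Subgroup.mem_bot] at this
    rw [← Subgroup.orderOf_coe, this, orderOf_one] at hx
    exact hp.one_lt.ne hx

/-- the first step of a composition of coprime actions -/
theorem exists_step [Finite G] (A : Subgroup (MulAut G)) [Finite A] (hs : Group.IsSolvable A)
    (hne : A ≠ ⊥) (hcop : (Nat.card G).Coprime (Nat.card A)) :
    ∃ (p : ℕ) (P : Subgroup (MulAut G)), p.Prime ∧ IsPGroup p P ∧ P ≤ A ∧ ¬ p ∣ Nat.card G ∧
      (∀ σ ∈ A, ∀ π ∈ P, σ⁻¹ * π * σ ∈ P) ∧
      ∀ hK : AutStable A (fixedSub P),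
        Nat.card (resAut A (fixedSub P) hK).range < Nat.card A ∧
        Group.IsSolvable (resAut A (fixedSub P) hK).range ∧
        (Nat.card (fixedSub P)).Coprime (Nat.card (resAut A (fixedSub P) hK).range) := by
  haveI := hs
  haveI : Nontrivial A := (Subgroup.nontrivial_iff_ne_bot A).mpr hne
  obtain ⟨p, P₀, hp, hn, hpP, hP0⟩ := exists_normal_pSubgroup A inferInstance
  have hle : P₀.map A.subtype ≤ A := Subgroup.map_subtype_le P₀
  have hpA : p ∣ Nat.card A := by
    haveI : Fact p.Prime := ⟨hp⟩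
    obtain ⟨k, hk⟩ := IsPGroup.iff_card.mp hpP
    rcases k.eq_zero_or_pos with rfl | hk0
    · exact absurd (Subgroup.card_eq_one.mp (by simpa using hk)) hP0
    · exact (hk ▸ dvd_pow_self p hk0.ne').trans P₀.card_subgroup_dvd_card
  refine ⟨p, P₀.map A.subtype, hp, hpP.map _, hle,
    fun h => hp.not_dvd_one (hcop ▸ Nat.dvd_gcd h hpA), ?_, fun hK => ?_⟩
  · rintro σ hσ _ ⟨π, hπ, rfl⟩
    exact ⟨(⟨σ, hσ⟩ : A)⁻¹ * π * (⟨σ, hσ⟩ : A), by simpa using hn.conj_mem π hπ (⟨σ, hσ⟩ : A)⁻¹, rfl⟩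
  set f := resAut A (fixedSub (P₀.map A.subtype)) hK
  have hker : P₀ ≤ f.ker := fun π hπ => MulEquiv.ext fun k =>
    Subtype.ext (k.2 _ ⟨π, hπ, rfl⟩)
  have hcard : Nat.card f.range * Nat.card f.ker = Nat.card A := by
    rw [← Subgroup.index_ker, mul_comm, Subgroup.card_mul_index]
  refine ⟨?_, solvable_of_surjective (f := f.rangeRestrict) f.rangeRestrict_surjective, ?_⟩
  · rw [← hcard]
    refine lt_mul_right Nat.card_pos ?_
    exact lt_of_lt_of_le (Subgroup.one_lt_card_iff_ne_bot P₀ |>.mpr hP0) (Subgroup.card_le_of_le hker)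
  · exact (hcop.of_dvd_left (Subgroup.card_subgroup_dvd_card _)).of_dvd_right
      (hcard ▸ dvd_mul_right _ _)

/-- fixed points of the step are the fixed points -/
noncomputable def fixedStepEquiv {A P : Subgroup (MulAut G)} (hle : P ≤ A)
    (hK : AutStable A (fixedSub P)) :
    fixedSub (resAut A (fixedSub P) hK).range ≃* fixedSub A where
  toFun c := ⟨((c : fixedSub P) : G), fun σ hσ =>
    congrArg Subtype.val (c.2 _ ⟨⟨σ, hσ⟩, rfl⟩)⟩
  invFun c := ⟨⟨(c : G), fun π hπ => c.2 π (hle hπ)⟩, by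
    rintro _ ⟨σ, rfl⟩
    exact Subtype.ext (c.2 σ σ.2)⟩
  left_inv c := rfl
  right_inv c := rfl
  map_mul' a b := rfl

end auts

section step

variable {G : Type u} [Group G] [Fintype G] {p : ℕ} [Fact p.Prime] {A P : Subgroup (MulAut G)}
  (hP : IsPGroup p P) (hp : ¬ p ∣ Nat.card G) (hn : ∀ σ ∈ A, ∀ π ∈ P, σ⁻¹ * π * σ ∈ P) (hle : P ≤ A)
  (hK : AutStable A (fixedSub P)) [Fintype (fixedSub P)]

theorem isInv_of_autInv {χ : G → ℂ} (hle : P ≤ A) (h : AutInv A χ) : IsInv P χ :=
  fun a g => h a (hle a.2) g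

include hP hp hn in
theorem glau_equivariant {χ : G → ℂ} (hχ : IsIrrCharacter G χ) (hi : IsInv P χ) {σ : MulAut G}
    (hσ : σ ∈ A) {β : fixedSub P → ℂ} (hβ : IsIrrCharacter (fixedSub P) β)
    (hg : Glau (fixedSub P).subtype p χ β) :
    IsInv P (χ ∘ σ) ∧
      Glau (fixedSub P).subtype p (χ ∘ σ) (β ∘ resAut A (fixedSub P) hK ⟨σ, hσ⟩) := by
  refine ⟨fun π g => ?_, ?_⟩
  · have hm : σ * π * σ⁻¹ ∈ P := by simpa using hn σ⁻¹ (A.inv_mem hσ) π π.2
    have h := hi ⟨σ * π * σ⁻¹, hm⟩ (σ g)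
    show χ (σ ((π : MulAut G) g)) = χ (σ g)
    rw [← h]
    show _ = χ ((σ * π * σ⁻¹ : MulAut G) (σ g))
    simp [MulAut.mul_apply]
  · obtain ⟨m, hm, hmp⟩ := hg
    refine ⟨m, ?_, hmp⟩
    have : (χ ∘ σ) ∘ (fixedSub P).subtype =
        (χ ∘ (fixedSub P).subtype) ∘ resAut A (fixedSub P) hK ⟨σ, hσ⟩ := rfl
    rw [this, classInner_mulEquiv, hm]

include hP hp hn hle in
theorem autInv_corresp {χ : G → ℂ} (hχ : IsIrrCharacter G χ) (hi : IsInv P χ)
    {β : fixedSub P → ℂ} (hβ : IsIrrCharacter (fixedSub P) β)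
    (hg : Glau (fixedSub P).subtype p χ β) :
    AutInv A χ ↔ AutInv (resAut A (fixedSub P) hK).range β := by
  constructor
  · rintro h _ ⟨σ, rfl⟩ c
    obtain ⟨h1, h2⟩ := glau_equivariant hP hp hn hK hχ hi σ.2 hβ hg
    have hχσ : χ ∘ (σ : MulAut G) = χ := funext fun g => h σ σ.2 g
    rw [hχσ] at h2
    exact congrFun (glau_unique hP hp (fixedEmb P) hχ hi
      (irr_mulEquiv _ hβ) hβ h2 hg) c
  · intro h σ hσ g
    obtain ⟨h1, h2⟩ := glau_equivariant hP hp hn hK hχ hi hσ hβ hg
    have hβσ : β ∘ resAut A (fixedSub P) hK ⟨σ, hσ⟩ = β := funext fun c => h _ ⟨⟨σ, hσ⟩, rfl⟩ c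
    rw [hβσ] at h2
    exact congrFun (glau_inj hP hp (fixedEmb P) (irr_mulEquiv σ hχ) hχ h1 hi hβ h2 hg) g

include hP hp hn hle in
theorem card_step :
    Nat.card {χ : IrrCharacter G // AutInv A (χ : G → ℂ)} =
      Nat.card {β : IrrCharacter (fixedSub P) //
        AutInv (resAut A (fixedSub P) hK).range (β : fixedSub P → ℂ)} := by
  classical
  choose f hf using fun χ : {χ : IrrCharacter G // AutInv A (χ : G → ℂ)} =>
    glau_exists hP hp (fixedEmb P) χ.1.2 (isInv_of_autInv hle χ.2)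
  refine Nat.card_eq_of_bijective (fun χ => ⟨f χ, (autInv_corresp hP hp hn hle hK χ.1.2
    (isInv_of_autInv hle χ.2) (f χ).2 (hf χ)).mp χ.2⟩) ⟨fun a b hab => ?_, fun β => ?_⟩
  · have hfab : f a = f b := congrArg Subtype.val hab
    exact Subtype.ext (Subtype.ext (glau_inj hP hp (fixedEmb P) a.1.2 b.1.2
      (isInv_of_autInv hle a.2) (isInv_of_autInv hle b.2) (f a).2 (hf a) (hfab ▸ hf b)))
  · obtain ⟨χ, hi, hg⟩ := glau_surj hP hp (fixedEmb P) β.1.2
    have hχA := (autInv_corresp hP hp hn hle hK χ.2 hi β.1.2 hg).mpr β.2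
    exact ⟨⟨χ, hχA⟩, Subtype.ext (Subtype.ext (glau_unique hP hp (fixedEmb P) χ.2 hi
      (f ⟨χ, hχA⟩).2 β.1.2 (hf ⟨χ, hχA⟩) hg))⟩

/-- classes fixed by all automorphisms -/
def ClassFixed (A : Subgroup (MulAut G)) (K : ConjClasses G) : Prop :=
  ∀ σ ∈ A, ∀ g : G, ConjClasses.mk g = K → ConjClasses.mk (σ g) = K

include hP hp in
theorem exists_fixed_in_class {K : ConjClasses G} (hfix : ClassFixed P K) :
    ∃ c : fixedSub P, ConjClasses.mk (c : G) = K := by
  classical
  obtain ⟨g, rfl⟩ := ConjClasses.exists_rep K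
  let X := {x : G // ConjClasses.mk x = ConjClasses.mk g}
  letI : MulAction P X :=
    { smul := fun π x => ⟨(π : MulAut G) x, hfix π π.2 x x.2⟩
      one_smul := fun x => rfl
      mul_smul := fun a b x => rfl }
  have hcard : Nat.card X ∣ Nat.card G := by
    have h : Nat.card X = Nat.card {x : G // IsConj g x} :=
      Nat.card_congr (Equiv.subtypeEquivRight fun x => by
        rw [ConjClasses.mk_eq_mk_iff_isConj]; exact ⟨IsConj.symm, IsConj.symm⟩)
    rw [h, card_isConj]
    exact Subgroup.index_dvd_card _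
  obtain ⟨x, hx⟩ := hP.nonempty_fixed_point_of_prime_not_dvd_card X fun h => hp (h.trans hcard)
  exact ⟨⟨x.1, fun π hπ => congrArg Subtype.val (hx ⟨π, hπ⟩)⟩, x.2⟩

include hP hp in
theorem conj_in_fixed {a b : fixedSub P} (h : IsConj (a : G) (b : G)) : IsConj a b := by
  classical
  obtain ⟨g₀, hg₀⟩ := isConj_iff.mp h
  let X := {g : G // g * a * g⁻¹ = b}
  letI : MulAction P X :=
    { smul := fun π x => ⟨(π : MulAut G) x, by
        have := congrArg (π : MulAut G) x.2
        rwa [map_mul, map_mul, map_inv, a.2 π π.2, b.2 π π.2] at this⟩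
      one_smul := fun x => rfl
      mul_smul := fun a b x => rfl }
  have hcard : Nat.card X = Nat.card (Subgroup.centralizer ({(a : G)} : Set G)) := by
    refine Nat.card_congr
      ⟨fun x => ⟨g₀⁻¹ * x.1, Subgroup.mem_centralizer_singleton_iff.mpr ?_⟩,
        fun z => ⟨g₀ * z.1, ?_⟩, fun x => Subtype.ext (mul_inv_cancel_left g₀ x.1),
        fun z => Subtype.ext (inv_mul_cancel_left g₀ z.1)⟩
    · have h1 : g₀ * a * g₀⁻¹ = x.1 * a * x.1⁻¹ := hg₀.trans x.2.symm
      have h2 := congrArg (fun t => g₀⁻¹ * t * x.1) h1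
      simp only [mul_assoc, inv_mul_cancel_left, inv_mul_cancel, mul_one] at h2 ⊢
      exact h2.symm
    · have h1 := Subgroup.mem_centralizer_singleton_iff.mp z.2
      rw [mul_inv_rev, show g₀ * z.1 * a * (z.1⁻¹ * g₀⁻¹) = g₀ * (z.1 * a) * z.1⁻¹ * g₀⁻¹ by group,
        h1, ← hg₀]
      group
  obtain ⟨x, hx⟩ := hP.nonempty_fixed_point_of_prime_not_dvd_card X fun h' =>
    hp (h'.trans (hcard ▸ Subgroup.card_subgroup_dvd_card _))
  exact isConj_iff.mpr ⟨⟨x.1, fun π hπ => congrArg Subtype.val (hx ⟨π, hπ⟩)⟩, Subtype.ext x.2⟩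

include hP hp hle in
theorem card_classes_step :
    Nat.card {K : ConjClasses G // ClassFixed A K} =
      Nat.card {L : ConjClasses (fixedSub P) //
        ClassFixed (resAut A (fixedSub P) hK).range L} := by
  classical
  symm
  let F : ConjClasses (fixedSub P) → ConjClasses G := ConjClasses.map (fixedSub P).subtype
  have hF : ∀ c : fixedSub P, F (ConjClasses.mk c) = ConjClasses.mk (c : G) := fun c => rfl
  have hinj : Function.Injective F := fun a b hab => by
    obtain ⟨a, rfl⟩ := ConjClasses.exists_rep a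
    obtain ⟨b, rfl⟩ := ConjClasses.exists_rep b
    rw [hF, hF, ConjClasses.mk_eq_mk_iff_isConj] at hab
    exact ConjClasses.mk_eq_mk_iff_isConj.mpr (conj_in_fixed hP hp hab)
  have hequiv : ∀ L, ClassFixed (resAut A (fixedSub P) hK).range L ↔ ClassFixed A (F L) := by
    intro L
    obtain ⟨c, rfl⟩ := ConjClasses.exists_rep L
    constructor
    · intro h σ hσ g hg
      have h1 := congrArg F (h _ ⟨⟨σ, hσ⟩, rfl⟩ c rfl)
      rw [hF] at h1 hg
      rw [← h1, ConjClasses.mk_eq_mk_iff_isConj]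
      rw [ConjClasses.mk_eq_mk_iff_isConj] at hg
      exact (σ : G ≃* G).toMonoidHom.map_isConj hg
    · rintro h _ ⟨σ, rfl⟩ d hd
      apply hinj
      rw [hF]
      exact h σ σ.2 d (by rw [← hd, hF])
  refine Nat.card_eq_of_bijective (fun L => ⟨F L.1, (hequiv L.1).mp L.2⟩)
    ⟨fun a b hab => Subtype.ext (hinj (congrArg Subtype.val hab)), fun K => ?_⟩
  obtain ⟨c, hc⟩ := exists_fixed_in_class hP hp (K := K.1) fun σ hσ => K.2 σ (hle hσ)
  exact ⟨⟨ConjClasses.mk c, (hequiv _).mpr (by rw [hF, hc]; exact K.2)⟩, Subtype.ext hc⟩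

end step

theorem card_inv_irr_and_classes : ∀ (n : ℕ) {G : Type u} [Group G] [Fintype G]
    (A : Subgroup (MulAut G)) [Finite A], Nat.card A = n → Group.IsSolvable A →
    (Nat.card G).Coprime (Nat.card A) →
    Nat.card {χ : IrrCharacter G // AutInv A (χ : G → ℂ)} = Nat.card (IrrCharacter (fixedSub A)) ∧
    Nat.card {K : ConjClasses G // ClassFixed A K} = Nat.card (IrrCharacter (fixedSub A)) := by
  intro n
  induction n using Nat.strong_induction_on with
  | _ n ih =>
    intro G _ _ A _ hn hs hcop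
    classical
    haveI := Fintype.ofFinite (fixedSub A)
    by_cases hA : A = ⊥
    · subst hA
      have htop : fixedSub (⊥ : Subgroup (MulAut G)) = ⊤ := top_le_iff.mp fun g _ σ hσ => by
        rw [Subgroup.mem_bot.mp hσ]; rfl
      let e : fixedSub (⊥ : Subgroup (MulAut G)) ≃* G :=
        (MulEquiv.subgroupCongr htop).trans Subgroup.topEquiv
      have h1 : Nat.card (IrrCharacter (fixedSub (⊥ : Subgroup (MulAut G)))) =
          Nat.card (IrrCharacter G) := by
        rw [card_irr_eq_card_conjClasses, card_irr_eq_card_conjClasses]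
        exact (Nat.card_eq_of_bijective (ConjClasses.map e.toMonoidHom)
          ⟨fun a b h => by
            obtain ⟨a, rfl⟩ := ConjClasses.exists_rep a
            obtain ⟨b, rfl⟩ := ConjClasses.exists_rep b
            exact ConjClasses.mk_eq_mk_iff_isConj.mpr (by
              simpa using e.symm.toMonoidHom.map_isConj (ConjClasses.mk_eq_mk_iff_isConj.mp h)),
          ConjClasses.map_surjective e.surjective⟩)
      constructor
      · rw [h1]
        exact Nat.card_congr (Equiv.subtypeUnivEquiv fun χ σ hσ g => by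
          rw [Subgroup.mem_bot.mp hσ]; rfl)
      · rw [h1, card_irr_eq_card_conjClasses]
        exact Nat.card_congr (Equiv.subtypeUnivEquiv fun K σ hσ g hg => by
          rw [Subgroup.mem_bot.mp hσ]; exact hg)
    obtain ⟨p, P, hp, hP, hle, hpG, hnorm, hstep⟩ := exists_step A hs hA hcop
    haveI : Fact p.Prime := ⟨hp⟩
    have hK := fixedSub_stable (A := A) (P := P) hnorm
    obtain ⟨hlt, hs', hcop'⟩ := hstep hK
    haveI := Fintype.ofFinite (fixedSub P)
    haveI := Fintype.ofFinite (fixedSub (resAut A (fixedSub P) hK).range)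
    obtain ⟨h1, h2⟩ := ih _ (hn ▸ hlt) _ rfl hs' hcop'
    let e := fixedStepEquiv hle hK
    have h3 : Nat.card (IrrCharacter (fixedSub (resAut A (fixedSub P) hK).range)) =
        Nat.card (IrrCharacter (fixedSub A)) :=
      Nat.card_congr
        { toFun := fun χ => ⟨_, irr_mulEquiv e.symm χ.2⟩
          invFun := fun χ => ⟨_, irr_mulEquiv e χ.2⟩
          left_inv := fun χ => Subtype.ext (funext fun x => by simp)
          right_inv := fun χ => Subtype.ext (funext fun x => by simp) }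
    exact ⟨by rw [card_step hP hpG hnorm hle hK, h1, h3],
      by rw [card_classes_step hP hpG hle hK, h2, h3]⟩

section over

variable {G : Type u} [Group G] [Fintype G] {p : ℕ} [Fact p.Prime] {P : Subgroup (MulAut G)}
  (hP : IsPGroup p P) (hp : ¬ p ∣ Nat.card G) {N : Subgroup G} [hN : N.Normal] [Fintype N]
  (hNP : AutStable P N) [Fintype (fixedSub P)] [Fintype (N.subgroupOf (fixedSub P))]

/-- the action on an invariant subgroup -/
@[reducible] def subAction (hNP : AutStable P N) : MulDistribMulAction P N :=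
  MulDistribMulAction.compHom N (resAut P N hNP)

/-- the embedding of the fixed points of `N` -/
def subEmb : N.subgroupOf (fixedSub P) →* N :=
  ((fixedSub P).subtype.comp (N.subgroupOf (fixedSub P)).subtype).codRestrict N fun x => x.2

theorem subEmb_fixedEmb :
    letI := subAction hNP
    IsFixedEmb P (subEmb (N := N) (P := P)) := by
  letI := subAction hNP
  refine ⟨fun a b h => Subtype.ext (Subtype.ext
    (congrArg (fun z : N => (z : G)) h : ((a : fixedSub P) : G) = b)), fun g => ⟨?_, fun h => ?_⟩⟩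
  · rintro ⟨c, rfl⟩ a
    exact Subtype.ext (c.1.2 a a.2)
  · exact ⟨⟨⟨g.1, fun π hπ => congrArg Subtype.val (h ⟨π, hπ⟩)⟩, g.2⟩, rfl⟩

include hP hp hNP in
/-- the correspondence respects normal subgroups -/
theorem glau_compat {χ : G → ℂ} (hχ : IsIrrCharacter G χ) (hi : IsInv P χ) {β : fixedSub P → ℂ}
    (hβ : IsIrrCharacter (fixedSub P) β) (hg : Glau (fixedSub P).subtype p χ β) {θ : N → ℂ}
    (hθ : IsIrrCharacter N θ) (hθi : ∀ π ∈ P, ∀ n : N, ∀ h : π (n : G) ∈ N, θ ⟨π n, h⟩ = θ n)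
    (hc : classInner (fun n : N => χ n) θ ≠ 0) {δ : N.subgroupOf (fixedSub P) → ℂ}
    (hδ : IsIrrCharacter (N.subgroupOf (fixedSub P)) δ)
    (hgθ : Glau (subEmb (N := N) (P := P)) p θ δ) :
    classInner (fun x : N.subgroupOf (fixedSub P) => β x) δ ≠ 0 := by
  classical
  letI := subAction hNP
  have hemb := subEmb_fixedEmb (N := N) hNP
  have hpN : ¬ p ∣ Nat.card N := fun h => hp (h.trans N.card_subgroup_dvd_card)
  have hres : IsCharacter N (fun n : N => χ n) := isCharacter_restrict N (isCharacter_of_isIrr hχ)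
  choose a ha using fun γ : IrrCharacter N => inner_char_irr hres γ.2
  have hδc := isCharacter_of_isIrr hδ
  choose b hb using fun γ : IrrCharacter N =>
    inner_char_char (isCharacter_comp (subEmb (N := N) (P := P)) (isCharacter_of_isIrr γ.2)) hδc
  have hθinv : IsInv P θ := fun π n => hθi π π.2 n _
  obtain ⟨m, hm, hmp⟩ := hgθ
  -- the action on the characters of `N`
  letI act : MulAction P (IrrCharacter N) :=
    { smul := fun π γ => ⟨fun n => (γ : N → ℂ) (π⁻¹ • n), irr_smul γ.2 π⁻¹⟩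
      one_smul := fun γ => Subtype.ext (funext fun n => by
        show (γ : N → ℂ) ((1 : P)⁻¹ • n) = (γ : N → ℂ) n
        rw [inv_one, one_smul])
      mul_smul := fun π τ γ => Subtype.ext (funext fun n => by
        show (γ : N → ℂ) ((π * τ)⁻¹ • n) = (γ : N → ℂ) (τ⁻¹ • π⁻¹ • n)
        rw [mul_inv_rev, mul_smul]) }
  have hsmul : ∀ (π : P) (γ : IrrCharacter N) (n : N),
      (↑(π • γ) : N → ℂ) n = (γ : N → ℂ) (π⁻¹ • n) := fun π γ n => rfl
  have ha' : ∀ (π : P) (γ : IrrCharacter N), a (π • γ) = a γ := by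
    intro π γ
    have h1 := ha (π • γ)
    have h2 : (fun n : N => χ n) = (fun n : N => χ n) ∘ MulDistribMulAction.toMulEquiv N π⁻¹ :=
      funext fun n => (hi π⁻¹ n).symm
    rw [h2, show (↑(π • γ) : N → ℂ) = (γ : N → ℂ) ∘ MulDistribMulAction.toMulEquiv N π⁻¹ from rfl,
      classInner_mulEquiv, ha] at h1
    exact_mod_cast h1.symm
  have hb' : ∀ (π : P) (γ : IrrCharacter N), b (π • γ) = b γ := by
    intro π γ
    have h1 := hb (π • γ)
    rw [show (↑(π • γ) : N → ℂ) ∘ subEmb (N := N) (P := P) = (γ : N → ℂ) ∘ subEmb (N := N) (P := P) from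
      funext fun x => by simp only [Function.comp_apply, hsmul, hemb.smul], hb] at h1
    exact_mod_cast h1.symm
  -- `X` computed through `N`
  set X : ℕ := ∑ γ : IrrCharacter N, a γ * b γ with hX
  have hXval : classInner ((fun n : N => χ n) ∘ subEmb (N := N) (P := P)) δ = (X : ℂ) := by
    have h := classFun_eq_sum (classFun_of_char hres)
    conv_lhs => rw [h]
    rw [show ((∑ γ : IrrCharacter N, classInner (fun n : N => χ n) (γ : N → ℂ) • (γ : N → ℂ)) ∘
        subEmb (N := N) (P := P)) = ∑ γ : IrrCharacter N, classInner (fun n : N => χ n) (γ : N → ℂ) •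
        ((γ : N → ℂ) ∘ subEmb (N := N) (P := P)) from funext fun x => by simp [Finset.sum_apply],
      classInner_sum_left, hX]
    push_cast
    exact Finset.sum_congr rfl fun γ _ => by rw [classInner_smul_left, ha, hb]
  have hXp : PCong p (X : ℂ) ((a ⟨θ, hθ⟩ : ℂ) * (b ⟨θ, hθ⟩ : ℂ)) := by
    obtain ⟨s, hs, h⟩ := exists_fixed_finset hP (fun γ : IrrCharacter N => (a γ : ℂ) * (b γ : ℂ))
      (fun π γ => by simp only [ha', hb']) fun γ =>
        (isIntegral_natCast _).mul (isIntegral_natCast _)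
    rw [show ∑ γ : IrrCharacter N, (a γ : ℂ) * (b γ : ℂ) = (X : ℂ) by rw [hX]; push_cast; rfl] at h
    refine h.trans ?_
    have hθfix : (⟨θ, hθ⟩ : IrrCharacter N) ∈ s :=
      (hs _).mpr fun π => Subtype.ext (funext fun n => hθinv π⁻¹ n)
    rw [← Finset.add_sum_erase _ _ hθfix]
    refine (PCong.add (PCong.refl p _) ((PCong.sum (g := fun _ => (0 : ℂ)) _ fun γ hγ => ?_).trans
      (PCong.of_eq Finset.sum_const_zero))).trans (PCong.of_eq (add_zero _))
    have hγinv : IsInv P (γ : N → ℂ) := fun π n => by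
      conv_rhs => rw [← (hs γ).mp (Finset.mem_erase.mp hγ).2 π⁻¹]
      rw [hsmul, inv_inv]
    have hd : p ∣ b γ := by
      by_contra hd
      exact (Finset.mem_erase.mp hγ).1 (Subtype.ext
        (glau_inj hP hpN hemb γ.2 hθ hγinv hθinv hδ ⟨b γ, hb γ, hd⟩ ⟨m, hm, hmp⟩))
    obtain ⟨k, hk⟩ := hd
    refine ⟨(a γ : ℂ) * k, (isIntegral_natCast _).mul (isIntegral_natCast _), ?_⟩
    rw [hk]; push_cast; ring
  have haθ : ¬ p ∣ a ⟨θ, hθ⟩ := by
    intro hd
    have h1 := degree_clifford hχ hθ hc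
    obtain ⟨c, -, hc1⟩ := irr_deg hχ
    obtain ⟨d, -, hd1⟩ := irr_deg hθ
    rw [ha ⟨θ, hθ⟩, hc1, hd1] at h1
    have h2 : c = a ⟨θ, hθ⟩ * (inertia θ).index * d := by exact_mod_cast h1
    have h3 : c ∣ Nat.card G := by rw [← charDegree_eq hc1]; exact degree_dvd_card hχ
    exact hp ((hd.trans (dvd_mul_right _ _)).trans ((dvd_mul_right _ d).trans (h2 ▸ h3)))
  have hXne : ¬ p ∣ X := by
    intro hd
    have h1 := PCong.nat_modEq (Fact.out : p.Prime).ne_zero (m := X)
      (n := a ⟨θ, hθ⟩ * b ⟨θ, hθ⟩) (by push_cast; exact hXp)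
    have hbm : b ⟨θ, hθ⟩ = m := by exact_mod_cast (hb ⟨θ, hθ⟩).symm.trans hm
    rw [hbm] at h1
    have h2 : (p : ℤ) ∣ ((a ⟨θ, hθ⟩ * m : ℕ) : ℤ) :=
      (Int.modEq_zero_iff_dvd.mp (h1.symm.trans
        (Int.modEq_zero_iff_dvd.mpr (Int.natCast_dvd_natCast.mpr hd))))
    rcases (Fact.out : p.Prime).dvd_mul.mp (Int.natCast_dvd_natCast.mp h2) with h | h
    · exact haθ h
    · exact hmp h
  -- `X` computed through the fixed points
  intro h0
  apply hXne
  have hr : IsCharacter (fixedSub P) (χ ∘ (fixedSub P).subtype) :=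
    isCharacter_comp _ (isCharacter_of_isIrr hχ)
  choose u hu using fun η : IrrCharacter (fixedSub P) => inner_char_irr hr η.2
  choose v hv using fun η : IrrCharacter (fixedSub P) =>
    inner_char_char (isCharacter_restrict (N.subgroupOf (fixedSub P)) (isCharacter_of_isIrr η.2)) hδc
  have hX2 : X = ∑ η : IrrCharacter (fixedSub P), u η * v η := by
    have h1 : classInner (fun x : N.subgroupOf (fixedSub P) => (χ ∘ (fixedSub P).subtype) x) δ =
        ((∑ η : IrrCharacter (fixedSub P), u η * v η : ℕ) : ℂ) := by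
      rw [show (fun x : N.subgroupOf (fixedSub P) => (χ ∘ (fixedSub P).subtype) x) =
          ∑ η : IrrCharacter (fixedSub P), classInner (χ ∘ (fixedSub P).subtype) (η : fixedSub P → ℂ) •
            (fun x : N.subgroupOf (fixedSub P) => (η : fixedSub P → ℂ) x) from funext fun x => by
          conv_lhs => rw [classFun_eq_sum (classFun_of_char hr)]
          simp [Finset.sum_apply], classInner_sum_left]
      push_cast
      exact Finset.sum_congr rfl fun η _ => by rw [classInner_smul_left, hu, hv]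
    rw [show (fun x : N.subgroupOf (fixedSub P) => (χ ∘ (fixedSub P).subtype) x) =
      (fun n : N => χ n) ∘ subEmb (N := N) (P := P) from rfl, hXval] at h1
    exact_mod_cast h1
  rw [hX2]
  refine Finset.dvd_sum fun η _ => ?_
  by_cases hη : p ∣ u η
  · exact Dvd.dvd.mul_right hη _
  · have he := glau_unique hP hp (fixedEmb P) hχ hi η.2 hβ ⟨u η, hu η, hη⟩ hg
    have h2 := hv η
    rw [he, h0] at h2
    rw [show v η = 0 by exact_mod_cast h2.symm, mul_zero]
    exact dvd_zero p

end over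

/-- invariant characters over invariant characters of normal subgroups -/
theorem exists_inv_over : ∀ (n : ℕ) {G : Type u} [Group G] [Fintype G]
    (A : Subgroup (MulAut G)) [Finite A], Nat.card A = n → Group.IsSolvable A →
    (Nat.card G).Coprime (Nat.card A) → ∀ (N : Subgroup G) [N.Normal] [Fintype N],
    AutStable A N → ∀ θ : N → ℂ, IsIrrCharacter N θ →
    (∀ σ ∈ A, ∀ x : N, ∀ h : σ (x : G) ∈ N, θ ⟨σ x, h⟩ = θ x) →
    ∃ χ : G → ℂ, IsIrrCharacter G χ ∧ AutInv A χ ∧ classInner (fun x : N => χ x) θ ≠ 0 := by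
  intro n
  induction n using Nat.strong_induction_on with
  | _ n ih =>
    intro G _ _ A _ hn hs hcop N hN _ hNA θ hθ hθinv
    classical
    by_cases hA : A = ⊥
    · subst hA
      have hne : indFun N θ ≠ 0 := fun e => by
        have := congrFun e 1
        rw [indFun_one] at this
        exact irr_one_ne_zero hθ ((mul_eq_zero.mp this).resolve_left
          (Nat.cast_ne_zero.mpr Subgroup.index_ne_zero_of_finite))
      obtain ⟨χ, hχ⟩ := exists_constituent (isCharacter_indFun N (isCharacter_of_isIrr hθ)) hne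
      exact ⟨χ.1, χ.2, fun σ hσ g => by rw [Subgroup.mem_bot.mp hσ]; rfl, fun e => hχ (by
        rw [frobenius N θ (classFun_of_irr χ.2), ← classInner_conj, e, map_zero])⟩
    obtain ⟨p, P, hp, hP, hle, hpG, hnorm, hstep⟩ := exists_step A hs hA hcop
    haveI : Fact p.Prime := ⟨hp⟩
    have hK := fixedSub_stable (A := A) (P := P) hnorm
    obtain ⟨hlt, hs', hcop'⟩ := hstep hK
    haveI := Fintype.ofFinite (fixedSub P)
    haveI : (N.subgroupOf (fixedSub P)).Normal := hN.subgroupOf _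
    haveI := Fintype.ofFinite (N.subgroupOf (fixedSub P))
    have hNP : AutStable P N := fun σ hσ => hNA σ (hle hσ)
    letI := subAction hNP
    have hemb := subEmb_fixedEmb (N := N) hNP
    have hpN : ¬ p ∣ Nat.card N := fun h => hpG (h.trans N.card_subgroup_dvd_card)
    have hθP : IsInv P θ := fun π x => hθinv π (hle π.2) x _
    obtain ⟨δ, hgθ⟩ := glau_exists hP hpN hemb hθ hθP
    -- `δ` is invariant
    have hδinv : ∀ σ ∈ (resAut A (fixedSub P) hK).range, ∀ x : N.subgroupOf (fixedSub P),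
        ∀ h : σ (x : fixedSub P) ∈ N.subgroupOf (fixedSub P),
          (δ : N.subgroupOf (fixedSub P) → ℂ) ⟨σ x, h⟩ = δ.1 x := by
      rintro _ ⟨σ, rfl⟩ x h
      let eN : N ≃* N := resAut A N hNA σ
      let eD : N.subgroupOf (fixedSub P) ≃* N.subgroupOf (fixedSub P) :=
        { toFun := fun y => ⟨resAut A (fixedSub P) hK σ y, hNA σ σ.2 _ y.2⟩
          invFun := fun y => ⟨resAut A (fixedSub P) hK σ⁻¹ y, hNA _ (σ⁻¹).2 _ y.2⟩
          left_inv := fun y => Subtype.ext (by
            show resAut A (fixedSub P) hK σ⁻¹ (resAut A (fixedSub P) hK σ y) = y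
            rw [map_inv]; simp)
          right_inv := fun y => Subtype.ext (by
            show resAut A (fixedSub P) hK σ (resAut A (fixedSub P) hK σ⁻¹ y) = y
            rw [map_inv]; simp)
          map_mul' := fun a b => Subtype.ext (map_mul (resAut A (fixedSub P) hK σ) _ _) }
      have hθσ : θ ∘ eN = θ := funext fun y => hθinv σ σ.2 y _
      obtain ⟨m, hm, hmp⟩ := hgθ
      have h2 : Glau (subEmb (N := N) (P := P)) p θ ((δ : N.subgroupOf (fixedSub P) → ℂ) ∘ eD) := by
        refine ⟨m, ?_, hmp⟩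
        have : (θ ∘ eN) ∘ subEmb (N := N) (P := P) = (θ ∘ subEmb (N := N) (P := P)) ∘ eD :=
          funext fun y => rfl
        rw [← hθσ, this, classInner_mulEquiv, hm]
      exact congrFun (glau_unique hP hpN hemb hθ hθP (irr_mulEquiv eD δ.2) δ.2 h2 ⟨m, hm, hmp⟩) x
    obtain ⟨β, hβ, hβinv, hβδ⟩ := ih _ (hn ▸ hlt) _ rfl hs' hcop' (N.subgroupOf (fixedSub P))
      (by rintro _ ⟨σ, rfl⟩ y hy; exact hNA σ σ.2 _ hy) δ.1 δ.2 hδinv
    obtain ⟨χ, hi, hg⟩ := glau_surj hP hpG (fixedEmb P) hβ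
    refine ⟨χ.1, χ.2, (autInv_corresp hP hpG hnorm hle hK χ.2 hi hβ hg).mpr hβinv, ?_⟩
    -- an invariant constituent below
    have hres : IsCharacter N (fun x : N => (χ : G → ℂ) x) :=
      isCharacter_restrict N (isCharacter_of_isIrr χ.2)
    choose a ha using fun γ : IrrCharacter N => inner_char_irr hres γ.2
    letI act : MulAction P (IrrCharacter N) :=
      { smul := fun π γ => ⟨fun x => (γ : N → ℂ) (π⁻¹ • x), irr_smul γ.2 π⁻¹⟩
        one_smul := fun γ => Subtype.ext (funext fun x => by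
          show (γ : N → ℂ) ((1 : P)⁻¹ • x) = (γ : N → ℂ) x
          rw [inv_one, one_smul])
        mul_smul := fun π τ γ => Subtype.ext (funext fun x => by
          show (γ : N → ℂ) ((π * τ)⁻¹ • x) = (γ : N → ℂ) (τ⁻¹ • π⁻¹ • x)
          rw [mul_inv_rev, mul_smul]) }
    have hsmul : ∀ (π : P) (γ : IrrCharacter N) (x : N),
        (↑(π • γ) : N → ℂ) x = (γ : N → ℂ) (π⁻¹ • x) := fun π γ x => rfl
    have hex : ∃ γ : IrrCharacter N, a γ ≠ 0 ∧ IsInv P (γ : N → ℂ) := by
      by_contra hcon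
      push Not at hcon
      have hai : ∀ (π : P) (γ : IrrCharacter N), a (π • γ) = a γ := by
        intro π γ
        have h1 := ha (π • γ)
        have h2 : (fun x : N => (χ : G → ℂ) x) =
            (fun x : N => (χ : G → ℂ) x) ∘ MulDistribMulAction.toMulEquiv N π⁻¹ :=
          funext fun x => (hi π⁻¹ x).symm
        rw [h2, show (↑(π • γ) : N → ℂ) = (γ : N → ℂ) ∘ MulDistribMulAction.toMulEquiv N π⁻¹ from rfl,
          classInner_mulEquiv, ha] at h1
        exact_mod_cast h1.symm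
      obtain ⟨s, hs, h⟩ := exists_fixed_finset hP (fun γ : IrrCharacter N => (a γ : ℂ) * (γ : N → ℂ) 1)
        (fun π γ => by simp only [hai, hsmul, smul_one]) fun γ =>
          (isIntegral_natCast _).mul (char_isIntegral (isCharacter_of_isIrr γ.2) 1)
      rw [show ∑ γ : IrrCharacter N, (a γ : ℂ) * (γ : N → ℂ) 1 = (χ : G → ℂ) 1 from by
        have := congrFun (classFun_eq_sum (classFun_of_char hres)) 1
        simp only [OneMemClass.coe_one, Finset.sum_apply, Pi.smul_apply, smul_eq_mul, ha] at this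
        exact this.symm] at h
      rw [Finset.sum_eq_zero fun γ hγ => by
        have hγinv : IsInv P (γ : N → ℂ) := fun π x => by
          conv_rhs => rw [← (hs γ).mp hγ π⁻¹]
          rw [hsmul, inv_inv]
        by_cases h0 : a γ = 0
        · rw [h0]; simp
        · exact absurd hγinv (hcon γ h0)] at h
      obtain ⟨c, -, hc1⟩ := irr_deg χ.2
      rw [hc1] at h
      have h1 := PCong.nat_modEq hp.ne_zero (m := c) (n := 0) (by rw [Nat.cast_zero]; exact h)
      rw [Nat.cast_zero, Int.modEq_zero_iff_dvd, Int.natCast_dvd_natCast] at h1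
      exact hpG (h1.trans (by rw [← charDegree_eq hc1]; exact degree_dvd_card χ.2))
    obtain ⟨γ, hγ0, hγinv⟩ := hex
    have hγc : classInner (fun x : N => (χ : G → ℂ) x) (γ : N → ℂ) ≠ 0 := by
      rw [ha]; exact_mod_cast hγ0
    obtain ⟨ε, hgγ⟩ := glau_exists hP hpN hemb γ.2 hγinv
    have hεc := glau_compat hP hpG hNP χ.2 hi hβ hg γ.2 (fun π hπ x h => hγinv ⟨π, hπ⟩ x) hγc ε.2 hgγ
    obtain ⟨c, hc⟩ := conjugate_of_constituents hβ ε.2 δ.2 hεc hβδ
    -- `θ` is the conjugate of `γ` by `c`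
    have hconjinv : IsInv P (conjN (γ : N → ℂ) (c : G)) := fun π x => by
      show (γ : N → ℂ) _ = (γ : N → ℂ) _
      conv_rhs => rw [← hγinv π]
      refine congrArg (γ : N → ℂ) (Subtype.ext ?_)
      show (c : G) * ((π : MulAut G) x) * (c : G)⁻¹ = (π : MulAut G) ((c : G) * x * (c : G)⁻¹)
      rw [map_mul, map_mul, map_inv, c.2 π π.2]
    have hgc : Glau (subEmb (N := N) (P := P)) p (conjN (γ : N → ℂ) (c : G)) δ.1 := by
      obtain ⟨m, hm, hmp⟩ := hgγ
      refine ⟨m, ?_, hmp⟩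
      have h1 : conjN (γ : N → ℂ) (c : G) ∘ subEmb (N := N) (P := P) =
          conjN ((γ : N → ℂ) ∘ subEmb (N := N) (P := P)) c := funext fun x => rfl
      rw [h1, hc, classInner_conjN, hm]
    have heq : conjN (γ : N → ℂ) (c : G) = θ :=
      glau_inj hP hpN hemb (irr_conjN γ.2 _) hθ hconjinv hθP δ.2 hgc hgθ
    rw [← heq, inner_res_conjN (classFun_of_irr χ.2)]
    exact hγc

end CfsgLib.Char
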