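import Cfsg.Agent.Char.ModP
import Cfsg.Agent.Char.Induce
import Cfsg.Agent.Char.Burnside

/-! The Glauberman correspondence for a `p`-group of operators. -/

set_option linter.unusedSectionVars false
set_option linter.style.haveILetI false

namespace CfsgLib.Char

open Module Cfsg
open scoped ComplexConjugate

universe u v w

section fe

variable {G : Type u} [Group G] [Fintype G]

/-- the functional equation of irreducible characters -/
theorem functional_equation {χ : G → ℂ} (hχ : IsIrrCharacter G χ) (x y : G) :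
    (Nat.card G : ℂ) * χ x * χ y = χ 1 * ∑ g : G, χ (x * (g * y * g⁻¹)) := by
  obtain ⟨n, ρ, hirr, rfl⟩ := hχ
  haveI := hirr
  obtain ⟨c, hc⟩ := schur_scalar ρ (∑ g : G, ρ (g * y * g⁻¹)) fun k v => by
    have h : (∑ g : G, ρ (g * y * g⁻¹)) * ρ k = ρ k * ∑ g : G, ρ (g * y * g⁻¹) := by
      simp only [Finset.sum_mul, Finset.mul_sum, ← map_mul]
      exact Fintype.sum_equiv (Equiv.mulLeft k⁻¹) _ _ fun g => by simp [mul_assoc]
    exact LinearMap.congr_fun h v
  have htr := congrArg (LinearMap.trace ℂ (Fin n → ℂ)) hc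
  rw [map_sum, map_smul, LinearMap.trace_id, smul_eq_mul,
    Finset.sum_congr rfl (fun g _ => show LinearMap.trace ℂ _ (ρ (g * y * g⁻¹)) = ρ.character y from
      ρ.char_conj y g), Finset.sum_const, Finset.card_univ,
    nsmul_eq_mul, Fintype.card_eq_nat_card] at htr
  have hx := congrArg (fun T => LinearMap.trace ℂ (Fin n → ℂ) (ρ x * T)) hc
  simp only [Finset.mul_sum, map_sum, mul_smul_comm, map_smul, smul_eq_mul, ← map_mul] at hx
  rw [← Module.End.one_eq_id, mul_one] at hx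
  show _ = _ * ∑ g : G, LinearMap.trace ℂ _ (ρ (x * (g * y * g⁻¹)))
  rw [hx, Representation.char_one, mul_right_comm, htr]
  change c * _ * LinearMap.trace ℂ _ (ρ x) = _
  ring

/-- convolution orthogonality -/
theorem sum_mul_conj {χ ψ : G → ℂ} (hχ : IsIrrCharacter G χ) (hψ : IsIrrCharacter G ψ) (x : G) :
    ∑ y : G, χ (x * y) * conj (ψ y) =
      (Nat.card G : ℂ) * classInner χ ψ / χ 1 * χ x := by
  obtain ⟨n, ρ, hirr, rfl⟩ := hχ
  haveI := hirr
  have hcl : IsClassFunction G (fun y => conj (ψ y)) := fun g h => by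
    show conj (ψ _) = _
    rw [classFun_of_irr hψ g h]
  have h := congrArg (fun T => LinearMap.trace ℂ (Fin n → ℂ) (ρ x * T)) (classFun_scalar ρ hcl)
  simp only [Finset.mul_sum, map_sum, mul_smul_comm, map_smul, smul_eq_mul, ← map_mul] at h
  rw [← Module.End.one_eq_id, mul_one] at h
  have h2 : (Nat.card G : ℂ) * classInner ρ.character ψ =
      ∑ y : G, conj (ψ y) * ρ.character y := by
    rw [classInner_def, ← mul_assoc, mul_inv_cancel₀ (natCard_ne_zero G), one_mul]
    exact Finset.sum_congr rfl fun y _ => mul_comm _ _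
  rw [h2, Representation.char_one]
  refine Eq.trans ?_ h
  exact Finset.sum_congr rfl fun y _ => mul_comm _ _

end fe

section glauberman

variable {A : Type v} [Group A] {G : Type u} [Group G] [Fintype G] [MulDistribMulAction A G]
  {C : Type w} [Group C] [Fintype C] (ι : C →* G)

/-- invariance of a function under the operators -/
def IsInv (A : Type v) [Group A] {G : Type u} [Group G] [MulDistribMulAction A G] (χ : G → ℂ) :
    Prop :=
  ∀ (a : A) (g : G), χ (a • g) = χ g

theorem IsInv.conj_val {χ : G → ℂ} (h : IsInv A χ) : IsInv A (fun g => conj (χ g)) :=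
  fun a g => congrArg conj (h a g)

/-- `ι` identifies `C` with the fixed points -/
structure IsFixedEmb (A : Type v) [Group A] {G : Type u} [Group G] [MulDistribMulAction A G]
    {C : Type w} [Group C] (ι : C →* G) : Prop where
  inj : Function.Injective ι
  mem : ∀ g : G, (∃ c, ι c = g) ↔ ∀ a : A, a • g = g

variable {ι} {p : ℕ} [Fact p.Prime]

theorem IsFixedEmb.smul (hι : IsFixedEmb A ι) (a : A) (c : C) : a • ι c = ι c :=
  (hι.mem _).mp ⟨c, rfl⟩ a

theorem pcong_sum_emb (hA : IsPGroup p A) (hι : IsFixedEmb A ι) (F : G → ℂ) (hF : IsInv A F)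
    (hint : ∀ g, IsIntegral ℤ (F g)) : PCong p (∑ g, F g) (∑ c, F (ι c)) := by
  classical
  refine (pcong_sum_fixed hA F hF hint).trans (PCong.of_eq ?_)
  refine (Finset.sum_bij (fun c _ => ι c) (fun c _ => Finset.mem_filter.mpr
    ⟨Finset.mem_univ _, (hι.mem _).mp ⟨c, rfl⟩⟩) (fun a _ b _ h => hι.inj h)
    (fun g hg => ?_) fun c _ => rfl).symm
  obtain ⟨c, hc⟩ := (hι.mem g).mpr (Finset.mem_filter.mp hg).2
  exact ⟨c, Finset.mem_univ _, hc⟩

theorem card_pcong (hA : IsPGroup p A) (hι : IsFixedEmb A ι) :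
    PCong p (Nat.card G : ℂ) (Nat.card C : ℂ) := by
  have h := pcong_sum_emb hA hι (fun _ => (1 : ℂ)) (fun _ _ => rfl) fun _ => isIntegral_one
  rwa [Finset.sum_const, Finset.sum_const, nsmul_one, nsmul_one, Finset.card_univ, Finset.card_univ,
    Fintype.card_eq_nat_card, Fintype.card_eq_nat_card] at h

theorem not_dvd_card_fixed (hp : ¬ p ∣ Nat.card G) (hι : IsFixedEmb A ι) : ¬ p ∣ Nat.card C :=
  fun h => hp (h.trans (Subgroup.card_dvd_of_injective ι hι.inj))

/-- cancel a factor prime to `p` -/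
theorem modEq_cancel {a : ℕ} (ha : ¬ p ∣ a) {x y : ℤ} (h : (a : ℤ) * x ≡ (a : ℤ) * y [ZMOD p]) :
    x ≡ y [ZMOD p] := by
  have hp : Prime (p : ℤ) := Nat.prime_iff_prime_int.mp Fact.out
  rw [Int.modEq_iff_dvd, ← mul_sub] at h
  rw [Int.modEq_iff_dvd]
  exact (hp.dvd_or_dvd h).resolve_left fun h' => ha (Int.natCast_dvd_natCast.mp h')

variable (ι) in
/-- `β` is the Glauberman correspondent of `χ` -/
def Glau (p : ℕ) (χ : G → ℂ) (β : C → ℂ) : Prop :=
  ∃ m : ℕ, classInner (χ ∘ ι) β = (m : ℂ) ∧ ¬ p ∣ m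

open Classical in
theorem inner_res_pcong (hA : IsPGroup p A) (hp : ¬ p ∣ Nat.card G) (hι : IsFixedEmb A ι)
    {χ χ' : G → ℂ} (hχ : IsIrrCharacter G χ) (hχ' : IsIrrCharacter G χ')
    (hi : IsInv A χ) (hi' : IsInv A χ') {n : ℕ} (hn : classInner (χ ∘ ι) (χ' ∘ ι) = (n : ℂ)) :
    (n : ℤ) ≡ (if χ = χ' then 1 else 0) [ZMOD p] := by
  have h := pcong_sum_emb hA hι (fun g => χ g * conj (χ' g))
    (fun a g => by show χ _ * conj (χ' _) = _; rw [hi, hi']) fun g =>
      (char_isIntegral (isCharacter_of_isIrr hχ) g).mul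
        (char_isIntegral (isCharacter_conj (isCharacter_of_isIrr hχ')) g)
  have h1 : ∑ c : C, χ (ι c) * conj (χ' (ι c)) = (Nat.card C : ℂ) * n := by
    rw [← hn, classInner_def, ← mul_assoc, mul_inv_cancel₀ (natCard_ne_zero C), one_mul]
    rfl
  have h2 : ∑ g : G, χ g * conj (χ' g) = (Nat.card G : ℂ) * (if χ = χ' then 1 else 0) := by
    rw [← irr_inner hχ hχ', classInner_def, ← mul_assoc, mul_inv_cancel₀ (natCard_ne_zero G),
      one_mul]
  rw [h1, h2] at h
  have hd : IsIntegral ℤ (if χ = χ' then (1 : ℂ) else 0) := by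
    split_ifs
    · exact isIntegral_one
    · exact isIntegral_zero
  have h3 := ((card_pcong hA hι).mul_right hd).symm.trans h
  have h4 : (Nat.card C : ℤ) * (if χ = χ' then 1 else 0) ≡ (Nat.card C : ℤ) * n [ZMOD p] := by
    apply PCong.int_modEq (Fact.out : p.Prime).ne_zero
    push_cast
    exact h3
  exact (modEq_cancel (not_dvd_card_fixed hp hι) h4).symm

theorem glau_exists (hA : IsPGroup p A) (hp : ¬ p ∣ Nat.card G) (hι : IsFixedEmb A ι)
    {χ : G → ℂ} (hχ : IsIrrCharacter G χ) (hi : IsInv A χ) :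
    ∃ β : IrrCharacter C, Glau ι p χ (β : C → ℂ) := by
  classical
  have hres : IsCharacter C (χ ∘ ι) := isCharacter_comp ι (isCharacter_of_isIrr hχ)
  choose m hm using fun β : IrrCharacter C => inner_char_irr hres β.2
  obtain ⟨n, hn⟩ := inner_char_char hres hres
  have h := inner_res_pcong hA hp hι hχ hχ hi hi hn
  rw [if_pos rfl] at h
  have hsum : n = ∑ β : IrrCharacter C, m β * m β := by
    have hexp := classFun_eq_sum (classFun_of_char hres)
    have h2 : classInner (χ ∘ ι) (χ ∘ ι) =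
        ((∑ β : IrrCharacter C, m β * m β : ℕ) : ℂ) := by
      nth_rewrite 2 [hexp]
      simp [classInner_sum_right, classInner_smul_right, hm]
    rw [hn] at h2
    exact_mod_cast h2
  by_contra hcon
  push Not at hcon
  have hdvd : p ∣ n := by
    rw [hsum]
    refine Finset.dvd_sum fun β _ => ?_
    by_cases hd : p ∣ m β
    · exact Dvd.dvd.mul_right hd _
    · exact absurd ⟨m β, hm β, hd⟩ (hcon β)
  have h0 : (n : ℤ) ≡ 0 [ZMOD p] := Int.modEq_zero_iff_dvd.mpr (Int.natCast_dvd_natCast.mpr hdvd)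
  have h01 := h.symm.trans h0
  rw [Int.modEq_zero_iff_dvd] at h01
  exact (Fact.out : p.Prime).not_dvd_one (Int.natCast_dvd_natCast.mp (by simpa using h01))

theorem glau_unique (hA : IsPGroup p A) (hp : ¬ p ∣ Nat.card G) (hι : IsFixedEmb A ι)
    {χ : G → ℂ} (hχ : IsIrrCharacter G χ) (hi : IsInv A χ) {β β' : C → ℂ}
    (hβ : IsIrrCharacter C β) (hβ' : IsIrrCharacter C β') (h : Glau ι p χ β) (h' : Glau ι p χ β') :
    β = β' := by
  classical
  by_contra hne
  obtain ⟨m, hm, hmp⟩ := h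
  obtain ⟨m', hm', hmp'⟩ := h'
  set r := χ ∘ ι with hr
  have hres : IsCharacter C r := isCharacter_comp ι (isCharacter_of_isIrr hχ)
  have hχint := char_isIntegral (isCharacter_of_isIrr hχ)
  -- multiplicativity modulo `p`
  have hE : ∀ x y : C, PCong p ((Nat.card C : ℂ) * (r x * r y))
      (χ 1 * ∑ c : C, r (x * (c * y * c⁻¹))) := by
    intro x y
    have h1 := pcong_sum_emb hA hι (fun g => χ (ι x * (g * ι y * g⁻¹)))
      (fun a g => by
        show χ (ι x * (a • g * ι y * (a • g)⁻¹)) = χ (ι x * (g * ι y * g⁻¹))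
        rw [← hi a (ι x * (g * ι y * g⁻¹)), smul_mul', smul_mul', smul_mul', smul_inv', hι.smul,
          hι.smul])
      fun g => hχint _
    have h2 : ∑ c : C, χ (ι x * (ι c * ι y * (ι c)⁻¹)) = ∑ c : C, r (x * (c * y * c⁻¹)) :=
      Finset.sum_congr rfl fun c _ => by simp [hr]
    rw [h2] at h1
    have h3 := h1.mul_left (hχint 1)
    rw [← functional_equation hχ] at h3
    refine PCong.trans ?_ h3
    have := ((card_pcong hA hι).symm.mul_right (hχint (ι x) |>.mul (hχint (ι y))))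
    simp only [hr, Function.comp_apply, mul_assoc] at this ⊢
    exact this
  have hint : ∀ {f : C → ℂ}, IsIrrCharacter C f → ∀ c, IsIntegral ℤ (conj (f c)) :=
    fun hf c => char_isIntegral (isCharacter_conj (isCharacter_of_isIrr hf)) c
  have hS : PCong p
      (∑ x : C, ∑ y : C, (Nat.card C : ℂ) * (r x * r y) * (conj (β x) * conj (β' y)))
      (∑ x : C, ∑ y : C, (χ 1 * ∑ c : C, r (x * (c * y * c⁻¹))) * (conj (β x) * conj (β' y))) :=
    PCong.sum _ fun x _ => PCong.sum _ fun y _ => (hE x y).mul_right ((hint hβ x).mul (hint hβ' y))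
  have hL : ∑ x : C, ∑ y : C, (Nat.card C : ℂ) * (r x * r y) * (conj (β x) * conj (β' y)) =
      (Nat.card C : ℂ) * ((Nat.card C : ℂ) * m) * ((Nat.card C : ℂ) * m') := by
    rw [← hm, ← hm', classInner_def, classInner_def, ← mul_assoc (Nat.card C : ℂ) _ (∑ g, r g * _),
      ← mul_assoc (Nat.card C : ℂ) _ (∑ g, r g * conj (β' g)),
      mul_inv_cancel₀ (natCard_ne_zero C), one_mul, one_mul, mul_assoc, Finset.sum_mul_sum,
      Finset.mul_sum]
    refine Finset.sum_congr rfl fun x _ => ?_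
    rw [Finset.mul_sum]
    exact Finset.sum_congr rfl fun y _ => by ring
  have hR : ∑ x : C, ∑ y : C,
      (χ 1 * ∑ c : C, r (x * (c * y * c⁻¹))) * (conj (β x) * conj (β' y)) = 0 := by
    have hin : ∀ x c : C, ∑ y : C, r (x * (c * y * c⁻¹)) * conj (β' y) =
        ∑ y : C, r (x * y) * conj (β' y) := fun x c =>
      Fintype.sum_equiv (MulAut.conj c).toEquiv _ _ fun y => by
        show _ = r (x * (c * y * c⁻¹)) * conj (β' (c * y * c⁻¹))
        rw [classFun_of_irr hβ' y c]
    have hexp : ∀ x : C, ∑ y : C, r (x * y) * conj (β' y) =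
        (m' : ℂ) * ((Nat.card C : ℂ) / β' 1 * β' x) := by
      intro x
      conv_lhs => rw [classFun_eq_sum (classFun_of_char hres)]
      simp only [Finset.sum_apply, Pi.smul_apply, smul_eq_mul, Finset.sum_mul, mul_assoc]
      rw [Finset.sum_comm, Finset.sum_eq_single (⟨β', hβ'⟩ : IrrCharacter C)]
      · rw [← Finset.mul_sum, sum_mul_conj hβ' hβ', irr_inner_self hβ', mul_one, hm']
      · intro γ _ hγ
        rw [← Finset.mul_sum, sum_mul_conj γ.2 hβ',
          irr_inner_ne γ.2 hβ' fun e => hγ (Subtype.ext e)]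
        simp
      · exact fun h => absurd (Finset.mem_univ _) h
    have hrow : ∀ x : C, ∑ y : C,
        (χ 1 * ∑ c : C, r (x * (c * y * c⁻¹))) * (conj (β x) * conj (β' y)) =
        χ 1 * (Nat.card C : ℂ) * (m' * ((Nat.card C : ℂ) / β' 1)) * (β' x * conj (β x)) := by
      intro x
      have h1 : ∀ y : C, (χ 1 * ∑ c : C, r (x * (c * y * c⁻¹))) * (conj (β x) * conj (β' y)) =
          χ 1 * conj (β x) * ∑ c : C, r (x * (c * y * c⁻¹)) * conj (β' y) := fun y => by
        rw [← Finset.sum_mul]; ring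
      rw [Finset.sum_congr rfl fun y _ => h1 y, ← Finset.mul_sum, Finset.sum_comm,
        Finset.sum_congr rfl fun c _ => (hin x c).trans (hexp x), Finset.sum_const,
        Finset.card_univ, Fintype.card_eq_nat_card, nsmul_eq_mul]
      ring
    rw [Finset.sum_congr rfl fun x _ => hrow x, ← Finset.mul_sum]
    have : ∑ x : C, β' x * conj (β x) = 0 := by
      have h0 := irr_inner_ne hβ' hβ (Ne.symm hne)
      rw [classInner_def, mul_eq_zero] at h0
      exact h0.resolve_left (inv_ne_zero (natCard_ne_zero C))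
    rw [this, mul_zero]
  rw [hL, hR] at hS
  have h4 : (Nat.card C : ℤ) * ((Nat.card C : ℤ) * m) * ((Nat.card C : ℤ) * m') ≡ 0 [ZMOD p] := by
    apply PCong.int_modEq (Fact.out : p.Prime).ne_zero
    push_cast
    exact hS
  have hp' : Prime (p : ℤ) := Nat.prime_iff_prime_int.mp Fact.out
  rw [Int.modEq_zero_iff_dvd, hp'.dvd_mul, hp'.dvd_mul, hp'.dvd_mul, hp'.dvd_mul] at h4
  have hC := not_dvd_card_fixed hp hι
  simp only [Int.natCast_dvd_natCast] at h4
  tauto

/-- distinct multiplicity vectors -/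
theorem inner_eq_prod_mult (hA : IsPGroup p A) (hp : ¬ p ∣ Nat.card G) (hι : IsFixedEmb A ι)
    {χ χ' : G → ℂ} (hχ : IsIrrCharacter G χ) (hχ' : IsIrrCharacter G χ')
    (hi : IsInv A χ) {β : C → ℂ} (hβ : IsIrrCharacter C β) {m m' : ℕ}
    (hm : classInner (χ ∘ ι) β = (m : ℂ)) (hmp : ¬ p ∣ m)
    (hm' : classInner (χ' ∘ ι) β = (m' : ℂ)) :
    ∃ n : ℕ, classInner (χ ∘ ι) (χ' ∘ ι) = (n : ℂ) ∧ (n : ℤ) ≡ (m : ℤ) * m' [ZMOD p] := by
  classical
  have hres : IsCharacter C (χ ∘ ι) := isCharacter_comp ι (isCharacter_of_isIrr hχ)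
  have hres' : IsCharacter C (χ' ∘ ι) := isCharacter_comp ι (isCharacter_of_isIrr hχ')
  choose a ha using fun γ : IrrCharacter C => inner_char_irr hres γ.2
  choose b hb using fun γ : IrrCharacter C => inner_char_irr hres' γ.2
  refine ⟨∑ γ, a γ * b γ, ?_, ?_⟩
  · nth_rewrite 1 [classFun_eq_sum (classFun_of_char hres)]
    rw [classInner_sum_left]
    push_cast
    refine Finset.sum_congr rfl fun γ _ => ?_
    rw [classInner_smul_left, ha, ← classInner_conj (χ' ∘ ι), hb, Complex.conj_natCast]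
  · push_cast
    rw [← Finset.add_sum_erase _ _ (Finset.mem_univ (⟨β, hβ⟩ : IrrCharacter C))]
    have e1 : a ⟨β, hβ⟩ = m := by exact_mod_cast (ha ⟨β, hβ⟩).symm.trans hm
    have e2 : b ⟨β, hβ⟩ = m' := by exact_mod_cast (hb ⟨β, hβ⟩).symm.trans hm'
    rw [e1, e2]
    conv_rhs => rw [← add_zero ((m : ℤ) * m')]
    refine Int.ModEq.add_left _ (Int.modEq_zero_iff_dvd.mpr (Finset.dvd_sum fun γ hγ => ?_))
    refine Dvd.dvd.mul_right ?_ _
    by_contra hd
    exact (Finset.mem_erase.mp hγ).1 (Subtype.ext (glau_unique hA hp hι hχ hi γ.2 hβ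
      ⟨a γ, ha γ, fun h => hd (Int.natCast_dvd_natCast.mpr h)⟩ ⟨m, hm, hmp⟩))

theorem glau_inj (hA : IsPGroup p A) (hp : ¬ p ∣ Nat.card G) (hι : IsFixedEmb A ι)
    {χ χ' : G → ℂ} (hχ : IsIrrCharacter G χ) (hχ' : IsIrrCharacter G χ')
    (hi : IsInv A χ) (hi' : IsInv A χ') {β : C → ℂ} (hβ : IsIrrCharacter C β)
    (h : Glau ι p χ β) (h' : Glau ι p χ' β) : χ = χ' := by
  classical
  obtain ⟨m, hm, hmp⟩ := h
  obtain ⟨m', hm', hmp'⟩ := h'
  obtain ⟨n, hn, hn'⟩ := inner_eq_prod_mult hA hp hι hχ hχ' hi hβ hm hmp hm'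
  have h1 := hn'.symm.trans (inner_res_pcong hA hp hι hχ hχ' hi hi' hn)
  by_contra hne
  rw [if_neg hne, Int.modEq_zero_iff_dvd, (Nat.prime_iff_prime_int.mp Fact.out).dvd_mul] at h1
  rcases h1 with h1 | h1
  · exact hmp (Int.natCast_dvd_natCast.mp h1)
  · exact hmp' (Int.natCast_dvd_natCast.mp h1)

theorem glau_pm_one (hA : IsPGroup p A) (hp : ¬ p ∣ Nat.card G) (hι : IsFixedEmb A ι)
    {χ : G → ℂ} (hχ : IsIrrCharacter G χ) (hi : IsInv A χ) {β : C → ℂ} (hβ : IsIrrCharacter C β)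
    {m : ℕ} (hm : classInner (χ ∘ ι) β = (m : ℂ)) (hmp : ¬ p ∣ m) :
    (m : ℤ) ≡ 1 [ZMOD p] ∨ (m : ℤ) ≡ -1 [ZMOD p] := by
  classical
  obtain ⟨n, hn, hn'⟩ := inner_eq_prod_mult hA hp hι hχ hχ hi hβ hm hmp hm
  have h1 := hn'.symm.trans (inner_res_pcong hA hp hι hχ hχ hi hi hn)
  rw [if_pos rfl] at h1
  rw [Int.modEq_comm, Int.modEq_iff_dvd,
    show (m : ℤ) * m - 1 = (m - 1) * (m + 1) by ring,
    (Nat.prime_iff_prime_int.mp Fact.out).dvd_mul] at h1
  rcases h1 with h1 | h1
  · exact Or.inl (Int.modEq_iff_dvd.mpr (by simpa using h1.neg_right))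
  · exact Or.inr (Int.modEq_iff_dvd.mpr (by simpa [sub_eq_add_neg, add_comm] using h1.neg_right))

/-- precomposition with an automorphism preserves irreducibility -/
theorem irr_smul {χ : G → ℂ} (hχ : IsIrrCharacter G χ) (a : A) :
    IsIrrCharacter G (fun g => χ (a • g)) :=
  irr_mulEquiv (MulDistribMulAction.toMulEquiv G a) hχ

theorem glau_surj (hA : IsPGroup p A) (hp : ¬ p ∣ Nat.card G) (hι : IsFixedEmb A ι)
    {β : C → ℂ} (hβ : IsIrrCharacter C β) :
    ∃ χ : IrrCharacter G, IsInv A (χ : G → ℂ) ∧ Glau ι p (χ : G → ℂ) β := by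
  classical
  haveI := Fintype.ofFinite ι.range
  let e : ι.range ≃* C := (MonoidHom.ofInjective hι.inj).symm
  set I := indFun ι.range (β ∘ e) with hI
  have hIc : IsCharacter G I :=
    isCharacter_indFun _ (isCharacter_comp e.toMonoidHom (isCharacter_of_isIrr hβ))
  choose m hm using fun χ : IrrCharacter G => inner_char_irr hIc χ.2
  have hm' : ∀ χ : IrrCharacter G, classInner ((χ : G → ℂ) ∘ ι) β = (m χ : ℂ) := by
    intro χ
    rw [← Complex.conj_conj (classInner ((χ : G → ℂ) ∘ ι) β), classInner_conj]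
    have h2 := hm χ
    rw [hI, frobenius _ _ (classFun_of_irr χ.2),
      show (fun x : ι.range => (χ : G → ℂ) x) = ((χ : G → ℂ) ∘ ι) ∘ e from funext fun x => by
        simp only [Function.comp_apply]
        exact congrArg (χ : G → ℂ) ((MonoidHom.ofInjective hι.inj).apply_symm_apply x |>
          congrArg Subtype.val).symm,
      classInner_mulEquiv] at h2
    rw [h2, Complex.conj_natCast]
  by_contra hcon
  push Not at hcon
  have hdeg : I 1 = ∑ χ : IrrCharacter G, (m χ : ℂ) * (χ : G → ℂ) 1 := by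
    conv_lhs => rw [classFun_eq_sum (classFun_of_char hIc)]
    simp [Finset.sum_apply, hm]
  letI act : MulAction A (IrrCharacter G) :=
    { smul := fun a χ => ⟨fun g => (χ : G → ℂ) (a⁻¹ • g), irr_smul χ.2 a⁻¹⟩
      one_smul := fun χ => Subtype.ext (funext fun g => by
        show (χ : G → ℂ) ((1 : A)⁻¹ • g) = (χ : G → ℂ) g
        rw [inv_one, one_smul])
      mul_smul := fun a b χ => Subtype.ext (funext fun g => by
        show (χ : G → ℂ) ((a * b)⁻¹ • g) = (χ : G → ℂ) (b⁻¹ • a⁻¹ • g)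
        rw [mul_inv_rev, mul_smul]) }
  have hsmul : ∀ (a : A) (χ : IrrCharacter G) (g : G),
      (↑(a • χ) : G → ℂ) g = (χ : G → ℂ) (a⁻¹ • g) := fun a χ g => rfl
  have hminv : ∀ (a : A) (χ : IrrCharacter G), m (a • χ) = m χ := by
    intro a χ
    have h1 : ((↑(a • χ) : G → ℂ) ∘ ι) = ((χ : G → ℂ) ∘ ι) := funext fun c => by
      simp only [Function.comp_apply, hsmul, hι.smul]
    have h2 := hm' (a • χ)
    rw [h1, hm'] at h2
    exact_mod_cast h2.symm
  have h := pcong_sum_fixed hA (fun χ : IrrCharacter G => (m χ : ℂ) * (χ : G → ℂ) 1)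
    (fun a χ => by simp only [hminv, hsmul, smul_one]) fun χ =>
      (isIntegral_natCast (m χ)).mul (char_isIntegral (isCharacter_of_isIrr χ.2) 1)
  have h0 : PCong p
      (∑ χ ∈ Finset.univ.filter (fun χ : IrrCharacter G => ∀ a : A, a • χ = χ),
        (m χ : ℂ) * (χ : G → ℂ) 1) 0 := by
    refine (PCong.sum (g := fun _ => (0 : ℂ)) _ fun χ hχ => ?_).trans
      (PCong.of_eq Finset.sum_const_zero)
    have hinv : IsInv A (χ : G → ℂ) := fun a g => by
      conv_rhs => rw [← (Finset.mem_filter.mp hχ).2 a⁻¹]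
      rw [hsmul, inv_inv]
    obtain ⟨k, hk⟩ : p ∣ m χ := by
      by_contra hd
      exact hcon χ hinv ⟨m χ, hm' χ, hd⟩
    refine ⟨(k : ℂ) * (χ : G → ℂ) 1,
      (isIntegral_natCast k).mul (char_isIntegral (isCharacter_of_isIrr χ.2) 1), ?_⟩
    rw [hk]; push_cast; ring
  have h5 := h.trans h0
  rw [← hdeg, hI, indFun_one, Function.comp_apply, map_one] at h5
  obtain ⟨d, hd0, hd⟩ := irr_deg hβ
  rw [hd, ← Nat.cast_mul] at h5
  have h6 := PCong.nat_modEq (Fact.out : p.Prime).ne_zero (m := ι.range.index * d) (n := 0) (by rw [Nat.cast_zero]; exact h5)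
  rw [Nat.cast_zero, Int.modEq_zero_iff_dvd, Int.natCast_dvd_natCast,
    (Fact.out : p.Prime).dvd_mul] at h6
  rcases h6 with h6 | h6
  · exact hp (h6.trans (ι.range.index_dvd_card))
  · have hdC : d ∣ Nat.card C := by rw [← charDegree_eq hd]; exact degree_dvd_card hβ
    exact not_dvd_card_fixed hp hι (h6.trans hdC)

end glauberman

end CfsgLib.Char
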