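import Cfsg.Agent.Char.Perm
import Mathlib.FieldTheory.Finite.Basic
import Mathlib.Data.Nat.Prime.Int

/-! Hyperelementary subgroups and Solomon's induction theorem. -/

set_option linter.unusedSectionVars false
set_option linter.style.haveILetI false

namespace CfsgLib.Char

open Module Cfsg
open scoped ComplexConjugate

universe u v

theorem exists_const_mem {S : Type v} [Finite S] (p : ℕ) (hp : p.Prime) (R : AddSubgroup (S → ℤ))
    (hmul : ∀ f ∈ R, ∀ g ∈ R, f * g ∈ R) (hR : ∀ x : S, ∃ f ∈ R, ¬ (p : ℤ) ∣ f x) :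
    ∃ m : ℤ, ¬ (p : ℤ) ∣ m ∧ (fun _ => m) ∈ R := by
  classical
  haveI := Fintype.ofFinite S
  haveI : Fact p.Prime := ⟨hp⟩
  choose f hfR hf using hR
  have hpow : ∀ (k : ℕ) (g : S → ℤ), g ∈ R → g ^ (k + 1) ∈ R := by
    intro k g hg
    induction k with
    | zero => simpa using hg
    | succ k ih => rw [pow_succ]; exact hmul _ ih _ hg
  have hk : p - 1 = p - 2 + 1 := by have := hp.two_le; omega
  let e : S → (S → ℤ) := fun x => f x ^ (p - 1)
  have he : ∀ x, e x ∈ R := fun x => by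
    show f x ^ (p - 1) ∈ R
    rw [hk]; exact hpow _ _ (hfR x)
  have hprod : ∀ s : Finset S, (∏ x ∈ s, (1 - e x)) - 1 ∈ R := by
    intro s
    induction s using Finset.induction with
    | empty => simp
    | insert a s ha ih =>
      have hrw : (∏ x ∈ insert a s, (1 - e x)) - 1 =
          ((∏ x ∈ s, (1 - e x)) - 1) - e a - e a * ((∏ x ∈ s, (1 - e x)) - 1) := by
        rw [Finset.prod_insert ha]; ring
      rw [hrw]
      exact R.sub_mem (R.sub_mem ih (he a)) (hmul _ (he a) _ ih)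
  set r : S → ℤ := (∏ x, (1 - e x)) - 1 with hr
  have hrR : r ∈ R := hprod _
  have hrp : ∀ y, ¬ (p : ℤ) ∣ r y := by
    intro y hy
    rw [← ZMod.intCast_zmod_eq_zero_iff_dvd] at hy
    have h0 : ((1 - e y y : ℤ) : ZMod p) = 0 := by
      have hne : ((f y y : ℤ) : ZMod p) ≠ 0 := by
        rw [Ne, ZMod.intCast_zmod_eq_zero_iff_dvd]; exact hf y
      simp [e, ZMod.pow_card_sub_one_eq_one hne]
    have h1 : r y = (∏ x, (1 - e x y)) - 1 := by simp [hr, Finset.prod_apply]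
    rw [h1, Int.cast_sub, Int.cast_prod,
      Finset.prod_eq_zero (Finset.mem_univ y) h0] at hy
    simp at hy
  let V : Finset ℤ := Finset.univ.image r
  have hV : ∀ s : Finset ℤ, (∏ v ∈ s, ((fun _ => v) - r)) - (fun _ => ∏ v ∈ s, v) ∈ R := by
    intro s
    induction s using Finset.induction with
    | empty =>
      have : (∏ v ∈ (∅ : Finset ℤ), ((fun _ => v) - r)) - (fun _ => ∏ v ∈ (∅ : Finset ℤ), v) =
          (0 : S → ℤ) := by ext y; simp
      rw [this]; exact R.zero_mem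
    | insert a s ha ih =>
      have hrw : (∏ v ∈ insert a s, ((fun _ => v) - r)) - (fun _ => ∏ v ∈ insert a s, v) =
          a • ((∏ v ∈ s, ((fun _ => v) - r)) - (fun _ => ∏ v ∈ s, v)) -
            r * ((∏ v ∈ s, ((fun _ => v) - r)) - (fun _ => ∏ v ∈ s, v)) -
            (∏ v ∈ s, v) • r := by
        ext y
        simp [Finset.prod_insert ha, Finset.prod_apply]
        ring
      rw [hrw]
      exact R.sub_mem (R.sub_mem (R.zsmul_mem ih a) (hmul _ hrR _ ih)) (R.zsmul_mem hrR _)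
  refine ⟨∏ v ∈ V, v, fun hd => ?_, ?_⟩
  · obtain ⟨v, hv, hdv⟩ := (Nat.prime_iff_prime_int.mp hp).exists_mem_finset_dvd hd
    obtain ⟨y, -, rfl⟩ := Finset.mem_image.mp hv
    exact hrp y hdv
  · have h := hV V
    have hz : (∏ v ∈ V, ((fun _ => v) - r)) = (0 : S → ℤ) := by
      ext y
      rw [Finset.prod_apply]
      exact Finset.prod_eq_zero (Finset.mem_image.mpr ⟨y, Finset.mem_univ _, rfl⟩) (by simp)
    rw [hz, zero_sub] at h
    exact R.neg_mem_iff.mp h

theorem exists_sep_exponents {n p : ℕ} (hn : n ≠ 0) (hp : p.Prime) :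
    ∃ a m s t : ℕ, n = p ^ a * m ∧ ¬ p ∣ m ∧ p ^ a ∣ s ∧ m ∣ t ∧ s + t ≡ 1 [MOD n] := by
  obtain ⟨a, m, hm, rfl⟩ := Nat.exists_eq_pow_mul_and_not_dvd hn p hp.ne_one
  have hcop : (p ^ a).Coprime m := Nat.Coprime.pow_left _ (hp.coprime_iff_not_dvd.mpr hm)
  obtain ⟨s, hs1, hs2⟩ := Nat.chineseRemainder hcop 0 1
  obtain ⟨t, ht1, ht2⟩ := Nat.chineseRemainder hcop 1 0
  refine ⟨a, m, s, t, rfl, hm, Nat.modEq_zero_iff_dvd.mp hs1, Nat.modEq_zero_iff_dvd.mp ht2, ?_⟩
  exact (Nat.modEq_and_modEq_iff_modEq_mul hcop).mp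
    ⟨by simpa using hs1.add ht1, by simpa using hs2.add ht2⟩

/-- decomposition into commuting p-part and p'-part, both powers of `x` -/
theorem exists_p_parts {G : Type u} [Group G] [Finite G] (x : G) (p : ℕ) (hp : p.Prime) :
    ∃ s t : ℕ, x ^ t * x ^ s = x ∧ (∃ k, orderOf (x ^ t) = p ^ k) ∧ ¬ p ∣ orderOf (x ^ s) := by
  obtain ⟨a, m, s, t, hn, hm, hs, ht, hst⟩ := exists_sep_exponents (orderOf_pos x).ne' hp
  refine ⟨s, t, ?_, ?_, ?_⟩
  · rw [← pow_add, add_comm]
    conv_rhs => rw [← pow_one x]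
    exact pow_eq_pow_iff_modEq.mpr hst
  · have h1 : orderOf (x ^ t) ∣ p ^ a := by
      apply orderOf_dvd_of_pow_eq_one
      rw [← pow_mul, ← orderOf_dvd_iff_pow_eq_one, hn, mul_comm (p ^ a) m]
      exact Nat.mul_dvd_mul_right ht _
    obtain ⟨k, -, hk⟩ := (Nat.dvd_prime_pow hp).mp h1
    exact ⟨k, hk⟩
  · have h1 : orderOf (x ^ s) ∣ m := by
      apply orderOf_dvd_of_pow_eq_one
      rw [← pow_mul, ← orderOf_dvd_iff_pow_eq_one, hn]
      exact Nat.mul_dvd_mul_right hs _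
    exact fun hd => hm (hd.trans h1)

/-- `H` is `p`-hyperelementary -/
def IsHyper {G : Type u} [Group G] (p : ℕ) (H : Subgroup G) : Prop :=
  ∃ C : Subgroup G, C ≤ H ∧ H ≤ Subgroup.normalizer (C : Set G) ∧ IsCyclic C ∧
    Nat.Coprime (Nat.card C) p ∧ ∃ k : ℕ, C.relIndex H = p ^ k

theorem normal_subgroupOf {G : Type u} [Group G] {C H : Subgroup G}
    (h : H ≤ Subgroup.normalizer (C : Set G)) : (C.subgroupOf H).Normal := by
  refine ⟨fun n hn g => ?_⟩
  rw [Subgroup.mem_subgroupOf] at hn ⊢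
  exact (Subgroup.mem_normalizer_iff.mp (h g.2) n).mp hn

theorem isHyper_of_le {G : Type u} [Group G] [Finite G] {p : ℕ} (hp : p.Prime) {H H' : Subgroup G}
    (h : IsHyper p H) (hle : H' ≤ H) : IsHyper p H' := by
  obtain ⟨C, hCH, hN, hcyc, hcop, k, hk⟩ := h
  haveI := hcyc
  haveI := normal_subgroupOf hN
  refine ⟨C ⊓ H', inf_le_right, fun x hx => ?_, ?_,
    Nat.Coprime.coprime_dvd_left (Subgroup.card_dvd_of_le inf_le_left) hcop, ?_⟩
  · refine Subgroup.mem_normalizer_iff.mpr fun y => ?_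
    have h1 := Subgroup.mem_normalizer_iff.mp (hN (hle hx)) y
    have h2 : y ∈ H' ↔ x * y * x⁻¹ ∈ H' := by
      rw [H'.mul_mem_cancel_right (H'.inv_mem hx), H'.mul_mem_cancel_left hx]
    simp [Subgroup.mem_inf, h1, h2]
  · exact isCyclic_of_injective (Subgroup.inclusion (inf_le_left : C ⊓ H' ≤ C))
      (Subgroup.inclusion_injective _)
  · have hd : (C ⊓ H').relIndex H' ∣ C.relIndex H := by
      rw [Subgroup.inf_relIndex_right, ← Subgroup.relIndex_subgroupOf (H := C) hle]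
      exact Subgroup.relIndex_dvd_index_of_normal _ _
    rw [hk] at hd
    obtain ⟨j, -, hj⟩ := (Nat.dvd_prime_pow hp).mp hd
    exact ⟨j, hj⟩

/-- a hyperelementary subgroup whose permutation character is prime to `p` at `x` -/
theorem exists_hyper_value {G : Type u} [Group G] [Fintype G] (x : G) (p : ℕ) (hp : p.Prime) :
    ∃ H : Subgroup G, IsHyper p H ∧ ¬ p ∣ Nat.card (MulAction.fixedBy (G ⧸ H) x) := by
  classical
  haveI : Fact p.Prime := ⟨hp⟩
  obtain ⟨s, t, hprod, ⟨a, hu⟩, hy⟩ := exists_p_parts x p hp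
  set u := x ^ t
  set y := x ^ s
  let C := Subgroup.zpowers y
  let Nn := Subgroup.normalizer (C : Set G)
  haveI : (C.subgroupOf Nn).Normal := normal_subgroupOf le_rfl
  have hxN : x ∈ Nn := by
    refine Subgroup.centralizer_le_normalizer _ (Subgroup.mem_centralizer_iff.mpr fun z hz => ?_)
    obtain ⟨i, rfl⟩ := Subgroup.mem_zpowers_iff.mp hz
    exact ((Commute.refl x).pow_left s).zpow_left i
  have hyN : y ∈ Nn := Subgroup.pow_mem _ hxN s
  have huN : u ∈ Nn := Subgroup.pow_mem _ hxN t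
  let u' : Nn := ⟨u, huN⟩
  have hup : IsPGroup p (Subgroup.zpowers u') := by
    refine IsPGroup.of_card (n := a) ?_
    rw [Nat.card_zpowers, ← hu]
    exact (orderOf_injective Nn.subtype Nn.subtype_injective u').symm
  obtain ⟨Q, hQ⟩ := hup.exists_le_sylow
  let H' : Subgroup Nn := (Q : Subgroup Nn) ⊔ C.subgroupOf Nn
  let H : Subgroup G := H'.map Nn.subtype
  have hCle : C ≤ Nn := Subgroup.le_normalizer
  have hH'map : H.subgroupOf Nn = H' :=
    Subgroup.comap_map_eq_self_of_injective Nn.subtype_injective H'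
  have hCH : C ≤ H := fun z hz =>
    ⟨⟨z, hCle hz⟩, Subgroup.mem_sup_right hz, rfl⟩
  have hrel : ∃ k, C.relIndex H = p ^ k := by
    have h1 : C.relIndex H = (C.subgroupOf Nn).relIndex H' := by
      rw [← hH'map, Subgroup.relIndex_subgroupOf (Subgroup.map_subtype_le H')]
    have h2 : (C.subgroupOf Nn).relIndex H' = (C.subgroupOf Nn).relIndex (Q : Subgroup Nn) :=
      Subgroup.relIndex_sup_right _ _
    obtain ⟨n, hn⟩ := IsPGroup.iff_card.mp Q.isPGroup'
    obtain ⟨j, -, hj⟩ := (Nat.dvd_prime_pow hp).mp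
      (hn ▸ (C.subgroupOf Nn).relIndex_dvd_card (Q : Subgroup Nn))
    exact ⟨j, by rw [h1, h2, hj]⟩
  have hcopC : Nat.Coprime (Nat.card C) p := by
    rw [Nat.card_zpowers]; exact (hp.coprime_iff_not_dvd.mpr hy).symm
  refine ⟨H, ⟨C, hCH, Subgroup.map_subtype_le H', inferInstance, hcopC, hrel⟩, ?_⟩
  haveI : (C.subgroupOf H).Normal := normal_subgroupOf (Subgroup.map_subtype_le H')
  have hfix : ∀ g : G, x • (g : G ⧸ H) = (g : G ⧸ H) → g ∈ Nn := by
    intro g hg
    have hg' : g⁻¹ * x * g ∈ H := by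
      have : ((x * g : G) : G ⧸ H) = (g : G ⧸ H) := hg
      rw [eq_comm, QuotientGroup.eq] at this
      simpa [mul_assoc] using this
    have hpw : g⁻¹ * y * g ∈ H := by
      have := H.pow_mem hg' s
      rwa [show (g⁻¹ * x * g) ^ s = g⁻¹ * y * g by
        conv_lhs => rw [show g⁻¹ * x * g = g⁻¹ * x * g⁻¹⁻¹ by group, conj_pow, inv_inv]] at this
    obtain ⟨k, hk⟩ := hrel
    have hy' : g⁻¹ * y * g ∈ C := by
      have hpk : (⟨g⁻¹ * y * g, hpw⟩ : H) ^ (p ^ k) ∈ C.subgroupOf H := by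
        rw [← hk]; exact Subgroup.pow_index_mem _ _
      rw [Subgroup.mem_subgroupOf, SubgroupClass.coe_pow] at hpk
      have hcp : (p ^ k).Coprime (orderOf (g⁻¹ * y * g)) := by
        refine Nat.Coprime.pow_left _ (hp.coprime_iff_not_dvd.mpr ?_)
        have hc : g⁻¹ * y * g = MulAut.conj g⁻¹ y := by simp
        rwa [hc, MulEquiv.orderOf_eq]
      obtain ⟨m, hm⟩ := exists_pow_eq_self_of_coprime hcp
      rw [← hm]
      exact C.pow_mem hpk _
    have hle : C.map (MulAut.conj g⁻¹).toMonoidHom ≤ C := by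
      rw [MonoidHom.map_zpowers]
      exact Subgroup.zpowers_le.mpr (by simpa using hy')
    have heq : C.map (MulAut.conj g⁻¹).toMonoidHom = C :=
      Subgroup.eq_of_le_of_card_ge hle
        (Subgroup.card_map_of_injective (MulAut.conj g⁻¹).injective).ge
    refine Subgroup.inv_mem_iff _ |>.mp (Subgroup.mem_normalizer_iff.mpr fun z => ?_)
    refine ⟨fun hz => ?_, fun hz => ?_⟩
    · rw [← heq]
      exact ⟨z, hz, by simp⟩
    · rw [← heq] at hz
      obtain ⟨w, hw, hwz⟩ := hz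
      simp only [MulEquiv.coe_toMonoidHom, MulAut.conj_apply, mul_left_inj, mul_right_inj] at hwz
      exact hwz ▸ hw
  let xN : Nn := ⟨x, hxN⟩
  have hcard : Nat.card (MulAction.fixedBy (G ⧸ H) x) =
      Nat.card (MulAction.fixedBy (Nn ⧸ H') xN) := by
    have hmem : ∀ z : Nn, z ∈ H' ↔ (z : G) ∈ H := fun z => by
      rw [← hH'map, Subgroup.mem_subgroupOf]
    let F : Nn ⧸ H' → G ⧸ H := fun q => Quotient.liftOn' q (fun g => ((g : G) : G ⧸ H))
      fun a b hab => by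
        rw [QuotientGroup.leftRel_apply, hmem] at hab
        exact QuotientGroup.eq.mpr hab
    have hF : Function.Injective F := by
      rintro ⟨a⟩ ⟨b⟩ hab
      refine Quotient.sound' (QuotientGroup.leftRel_apply.mpr ?_)
      rw [hmem]
      exact QuotientGroup.eq.mp (hab : ((a : G) : G ⧸ H) = ((b : G) : G ⧸ H))
    have hFeq : ∀ q, F (xN • q) = x • F q := by rintro ⟨a⟩; rfl
    refine (Nat.card_congr (Equiv.ofBijective
      (fun q : MulAction.fixedBy (Nn ⧸ H') xN =>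
        (⟨F q.1, by show x • F q.1 = F q.1; rw [← hFeq]; exact congrArg F q.2⟩ :
          MulAction.fixedBy (G ⧸ H) x)) ⟨fun a b hab => Subtype.ext (hF (congrArg Subtype.val hab)),
        ?_⟩)).symm
    rintro ⟨q, hq⟩
    obtain ⟨g, rfl⟩ := QuotientGroup.mk_surjective q
    have hgN := hfix g hq
    refine ⟨⟨((⟨g, hgN⟩ : Nn) : Nn ⧸ H'), hF ?_⟩, Subtype.ext rfl⟩
    rw [hFeq]
    exact hq
  rw [hcard]
  have hyact : ∀ q : Nn ⧸ H', (⟨y, hyN⟩ : Nn) • q = q := by
    rintro ⟨g⟩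
    refine (QuotientGroup.eq.mpr ?_)
    have : (⟨y, hyN⟩ : Nn) ∈ C.subgroupOf Nn := Subgroup.mem_zpowers y
    have h2 := Subgroup.Normal.conj_mem inferInstance _ (Subgroup.inv_mem _ this) g⁻¹
    refine Subgroup.mem_sup_right ?_
    simpa [mul_assoc] using h2
  have hxfix : ∀ q : Nn ⧸ H', q ∈ MulAction.fixedBy (Nn ⧸ H') xN ↔
      q ∈ MulAction.fixedPoints (Subgroup.zpowers u') (Nn ⧸ H') := by
    intro q
    have hxu : xN = u' * ⟨y, hyN⟩ := Subtype.ext hprod.symm
    rw [MulAction.mem_fixedBy, hxu, mul_smul, hyact]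
    refine ⟨fun h => fun z => ?_, fun h => h ⟨u', Subgroup.mem_zpowers u'⟩⟩
    have : (z : Nn) ∈ MulAction.stabilizer Nn q :=
      Subgroup.zpowers_le.mpr (MulAction.mem_stabilizer_iff.mpr h) z.2
    exact this
  rw [Nat.card_congr (Equiv.subtypeEquivRight hxfix :
    MulAction.fixedBy (Nn ⧸ H') xN ≃ MulAction.fixedPoints (Subgroup.zpowers u') (Nn ⧸ H'))]
  intro hd
  have hmod := hup.card_modEq_card_fixedPoints (Nn ⧸ H')
  have h1 : p ∣ Nat.card (Nn ⧸ H') :=
    Nat.modEq_zero_iff_dvd.mp (hmod.trans (Nat.modEq_zero_iff_dvd.mpr hd))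
  rw [← Subgroup.index_eq_card] at h1
  exact Q.not_dvd_index (h1.trans (Subgroup.index_dvd_of_le le_sup_left))

end CfsgLib.Char
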