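import Cfsg.Agent.Char.InvConst

/-! Invariant constituents along solvable quotients. -/

set_option linter.unusedSectionVars false
set_option linter.style.haveILetI false

namespace CfsgLib.Char

open Module Cfsg
open scoped ComplexConjugate

universe u v w

variable {Γ : Type u} [Group Γ]

/-- the derived subgroups of a normalized subgroup are normalized -/
theorem derived_conj_mem {A G : Subgroup Γ} (hG : ∀ a ∈ A, ∀ g ∈ G, a * g * a⁻¹ ∈ G) (k : ℕ)
    {a : Γ} (ha : a ∈ A) {x : Γ} (hx : x ∈ (derivedSeries G k).map G.subtype) :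
    a * x * a⁻¹ ∈ (derivedSeries G k).map G.subtype := by
  obtain ⟨y, hy, rfl⟩ := hx
  refine ⟨actHom G A hG ⟨a, ha⟩ y, ?_, rfl⟩
  have h := map_derivedSeries_eq (f := (actHom G A hG ⟨a, ha⟩).toMonoidHom)
    (actHom G A hG ⟨a, ha⟩).surjective k
  exact h ▸ Subgroup.mem_map_of_mem _ hy

theorem sup_conj_mem {A N D : Subgroup Γ} (hN : ∀ a ∈ A, ∀ n ∈ N, a * n * a⁻¹ ∈ N)
    (hD : ∀ a ∈ A, ∀ n ∈ D, a * n * a⁻¹ ∈ D) {a : Γ} (ha : a ∈ A) {x : Γ} (hx : x ∈ N ⊔ D) :
    a * x * a⁻¹ ∈ N ⊔ D := by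
  have : (N ⊔ D).map (MulAut.conj a).toMonoidHom ≤ N ⊔ D := by
    rw [Subgroup.map_sup]
    refine sup_le ?_ ?_ <;> rintro _ ⟨y, hy, rfl⟩
    · exact Subgroup.mem_sup_left (hN a ha y hy)
    · exact Subgroup.mem_sup_right (hD a ha y hy)
  exact this ⟨x, hx, rfl⟩

theorem sup_le_of_derived {G N : Subgroup Γ} (hNG : N ≤ G) (k : ℕ) :
    N ⊔ (derivedSeries G k).map G.subtype ≤ G :=
  sup_le hNG (Subgroup.map_subtype_le _)

theorem comm_mem_of_derived {G N : Subgroup Γ} (hNG : N ≤ G)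
    (hGN : ∀ g ∈ G, ∀ n ∈ N, g * n * g⁻¹ ∈ N) (k : ℕ)
    (hk : derivedSeries G (k + 1) ≤ N.subgroupOf G) {a b : Γ}
    (ha : a ∈ N ⊔ (derivedSeries G k).map G.subtype)
    (hb : b ∈ N ⊔ (derivedSeries G k).map G.subtype) : a * b * a⁻¹ * b⁻¹ ∈ N := by
  haveI : (N.subgroupOf G).Normal :=
    ⟨fun n hn g => Subgroup.mem_subgroupOf.mpr (hGN g g.2 n (Subgroup.mem_subgroupOf.mp hn))⟩
  let q := QuotientGroup.mk' (N.subgroupOf G)
  have himg : ∀ x (hx : x ∈ N ⊔ (derivedSeries G k).map G.subtype),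
      q ⟨x, sup_le_of_derived hNG k hx⟩ ∈ derivedSeries (G ⧸ N.subgroupOf G) k := by
    have hle : N ⊔ (derivedSeries G k).map G.subtype ≤
        ((derivedSeries (G ⧸ N.subgroupOf G) k).comap q).map G.subtype := by
      refine sup_le (fun n hn => ⟨⟨n, hNG hn⟩, ?_, rfl⟩) (Subgroup.map_mono fun y hy => ?_)
      · show q _ ∈ derivedSeries (G ⧸ N.subgroupOf G) k
        have h0 : q ⟨n, hNG hn⟩ = 1 := (QuotientGroup.eq_one_iff _).mpr (Subgroup.mem_subgroupOf.mpr hn)
        rw [h0]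
        exact Subgroup.one_mem _
      · exact map_derivedSeries_le_derivedSeries q k ⟨y, hy, rfl⟩
    intro x hx
    obtain ⟨y, hy, hyx⟩ := hle hx
    obtain rfl : y = ⟨x, sup_le_of_derived hNG k hx⟩ := Subtype.ext hyx
    exact hy
  have hbot : derivedSeries (G ⧸ N.subgroupOf G) (k + 1) = ⊥ := by
    rw [← map_derivedSeries_eq (f := q) (QuotientGroup.mk'_surjective _), Subgroup.map_eq_bot_iff,
      QuotientGroup.ker_mk']
    exact hk
  have h := Subgroup.commutator_mem_commutator (himg a ha) (himg b hb)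
  rw [← derivedSeries_succ, hbot, Subgroup.mem_bot] at h
  have h2 : q (⟨a, sup_le_of_derived hNG k ha⟩ * ⟨b, sup_le_of_derived hNG k hb⟩ *
      (⟨a, sup_le_of_derived hNG k ha⟩ : G)⁻¹ * (⟨b, sup_le_of_derived hNG k hb⟩ : G)⁻¹) = 1 := by
    rw [map_mul, map_mul, map_mul, map_inv, map_inv, ← commutatorElement_def]
    exact h
  exact Subgroup.mem_subgroupOf.mp ((QuotientGroup.eq_one_iff _).mp h2)

variable [Finite Γ]

theorem classInner_res_trans {N M G : Subgroup Γ} [Fintype N] [Fintype M] [Fintype G] (hNM : N ≤ M)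
    (hMG : M ≤ G) {χ : G → ℂ} (hχ : IsCharacter G χ) {ψ : M → ℂ} (hψ : IsIrrCharacter M ψ)
    (h1 : classInner (fun m : M => χ ⟨m, hMG m.2⟩) ψ ≠ 0) {θ : N → ℂ} (hθ : IsIrrCharacter N θ)
    (h2 : classInner (fun n : N => ψ ⟨n, hNM n.2⟩) θ ≠ 0) :
    classInner (fun n : N => χ ⟨n, hMG (hNM n.2)⟩) θ ≠ 0 := by
  intro h0
  have hr : IsCharacter M (fun m : M => χ ⟨m, hMG m.2⟩) :=
    isCharacter_comp (Subgroup.inclusion hMG) hχ
  apply h2
  refine inner_zero_of_summand (φ' := fun n : N => ((fun m : M => χ ⟨m, hMG m.2⟩) - ψ) ⟨n, hNM n.2⟩)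
    (isCharacter_comp (Subgroup.inclusion hNM) (isCharacter_of_isIrr hψ))
    (isCharacter_comp (Subgroup.inclusion hNM) (isCharacter_sub_constituent hr hψ h1))
    (isCharacter_of_isIrr hθ) ?_
  rw [← h0]
  congr 1
  funext n
  simp

/-- going up along a solvable quotient -/
theorem exists_inv_up : ∀ (d : ℕ) (A B G N : Subgroup Γ) [Fintype G] [Fintype N] (hNG : N ≤ G),
    N.relIndex G = d → (∀ a ∈ A, ∀ g ∈ G, a * g * a⁻¹ ∈ G) →
    ∀ (hAN : ∀ a ∈ A, ∀ n ∈ N, a * n * a⁻¹ ∈ N), (∀ g ∈ G, ∀ n ∈ N, g * n * g⁻¹ ∈ N) →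
    (∃ k, derivedSeries G k ≤ N.subgroupOf G) → B ≤ A → B ≤ N →
    (B.relIndex A).Coprime (N.relIndex G) → ∀ θ : N → ℂ, IsIrrCharacter N θ →
    (∀ a (ha : a ∈ A), ∀ n : N, θ ⟨a * n * a⁻¹, hAN a ha n n.2⟩ = θ n) →
    ∃ χ : G → ℂ, IsIrrCharacter G χ ∧ classInner (fun n : N => χ ⟨n, hNG n.2⟩) θ ≠ 0 ∧
      ∀ a ∈ A, ∀ g g' : G, (g' : Γ) = a * g * a⁻¹ → χ g' = χ g := by
  intro d
  induction d using Nat.strong_induction_on with
  | _ d ih =>
    intro A B G N _ _ hNG hd hG hAN hGN hder hBA hBN hcop θ hθ hinv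
    classical
    by_cases heq : G ≤ N
    · obtain rfl : N = G := le_antisymm hNG heq
      refine ⟨θ, hθ, ?_, fun a ha g g' h => ?_⟩
      · convert one_ne_zero (α := ℂ)
        convert irr_inner_self hθ
      · rw [show g' = ⟨a * g * a⁻¹, hAN a ha g g.2⟩ from Subtype.ext h]
        exact hinv a ha g
    -- the last derived term outside `N`
    obtain ⟨k, hk1, hk2⟩ : ∃ k, derivedSeries G (k + 1) ≤ N.subgroupOf G ∧
        ¬ derivedSeries G k ≤ N.subgroupOf G := by
      have h0 : Nat.find hder ≠ 0 := fun e => heq fun g hg => by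
        have h := Nat.find_spec hder
        rw [e, derivedSeries_zero] at h
        exact Subgroup.mem_subgroupOf.mp (h (Subgroup.mem_top (⟨g, hg⟩ : G)))
      obtain ⟨j, hj⟩ := Nat.exists_eq_succ_of_ne_zero h0
      exact ⟨j, (hj ▸ Nat.find_spec hder :), Nat.find_min hder (by omega)⟩
    set M := N ⊔ (derivedSeries G k).map G.subtype with hM
    have hNM : N ≤ M := le_sup_left
    have hMG : M ≤ G := sup_le_of_derived hNG k
    have hAM : ∀ a ∈ A, ∀ m ∈ M, a * m * a⁻¹ ∈ M := fun a ha m hm =>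
      sup_conj_mem hAN (fun a ha x hx => derived_conj_mem hG k ha hx) ha hm
    have hGG : ∀ g ∈ G, ∀ x ∈ G, g * x * g⁻¹ ∈ G :=
      fun g hg x hx => G.mul_mem (G.mul_mem hg hx) (G.inv_mem hg)
    have hGM : ∀ g ∈ G, ∀ m ∈ M, g * m * g⁻¹ ∈ M := fun g hg m hm =>
      sup_conj_mem hGN (fun a ha x hx => derived_conj_mem hGG k ha hx) hg hm
    have hlt : M.relIndex G < d := by
      have hmul := Subgroup.relIndex_mul_relIndex N M G hNM hMG
      have h1 : N.relIndex M ≠ 1 := fun e => hk2 fun x hx => Subgroup.mem_subgroupOf.mpr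
        (Subgroup.relIndex_eq_one.mp e (Subgroup.mem_sup_right ⟨x, hx, rfl⟩))
      have h0 : N.relIndex M ≠ 0 := Subgroup.index_ne_zero_of_finite
      have h0' : M.relIndex G ≠ 0 := Subgroup.index_ne_zero_of_finite
      rw [← hd, ← hmul]
      exact lt_mul_left (Nat.pos_of_ne_zero h0') (by omega)
    haveI := Fintype.ofFinite M
    haveI : (N.subgroupOf M).Normal :=
      ⟨fun n hn g => Subgroup.mem_subgroupOf.mpr (hGN g (hMG g.2) n (Subgroup.mem_subgroupOf.mp hn))⟩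
    haveI := Fintype.ofFinite (N.subgroupOf M)
    let e : N.subgroupOf M ≃* N := Subgroup.subgroupOfEquivOfLe hNM
    obtain ⟨ψ, hψ, hψc, hψi⟩ := exists_inv_step (actHom M A hAM)
      (N := N.subgroupOf M) (fun a n hn => hAN a a.2 _ hn)
      (fun a b => comm_mem_of_derived hNG hGN k hk1 a.2 b.2) (B.subgroupOf A)
      (fun b hb χ hχ x => hχ x ⟨(b : Γ), hNM (hBN hb)⟩)
      (Nat.Coprime.coprime_dvd_right (Dvd.intro _ (Subgroup.relIndex_mul_relIndex N M G hNM hMG)) hcop)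
      (irr_mulEquiv e hθ) (fun a n => hinv a a.2 (e n))
    have hψc' : classInner (fun n : N => ψ ⟨n, hNM n.2⟩) θ ≠ 0 := by
      intro h0
      apply hψc
      rw [show (fun n : N.subgroupOf M => ψ n) = (fun n : N => ψ ⟨n, hNM n.2⟩) ∘ e from rfl,
        classInner_mulEquiv, h0]
    obtain ⟨χ, hχ, hχc, hχi⟩ := ih _ hlt A B G M hMG rfl hG hAM hGM
      (by obtain ⟨n, hn⟩ := hder; exact ⟨n, hn.trans (Subgroup.comap_mono hNM)⟩) hBA (hBN.trans hNM)
      (Nat.Coprime.coprime_dvd_right (Dvd.intro_left _ (Subgroup.relIndex_mul_relIndex N M G hNM hMG)) hcop)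
      ψ hψ (fun a ha m => hψi ⟨a, ha⟩ m)
    exact ⟨χ, hχ, classInner_res_trans hNM hMG (isCharacter_of_isIrr hχ) hψ hχc hθ hψc', hχi⟩

/-- going down one abelian step or with solvable operators -/
theorem exists_inv_constituent_step {A : Type v} [Group A] [Finite A] {G : Type w} [Group G]
    [Fintype G] (φ : A →* MulAut G) {N : Subgroup G} [hN : N.Normal] [Fintype N]
    (hNA : ∀ a : A, ∀ n ∈ N, φ a n ∈ N) (B : Subgroup A)
    (hB : ∀ b ∈ B, ∀ θ : N → ℂ, IsClassFunction N θ → ∀ n : N, θ ⟨φ b n, hNA b n n.2⟩ = θ n)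
    (hcase : ((∀ a b : G, a * b * a⁻¹ * b⁻¹ ∈ N) ∧ B.index.Coprime N.index) ∨
      (Group.IsSolvable A ∧ (Nat.card A).Coprime N.index))
    {χ : G → ℂ} (hχ : IsIrrCharacter G χ) (hinv : ∀ a x, χ (φ a x) = χ x) :
    ∃ θ : N → ℂ, IsIrrCharacter N θ ∧ classInner (fun n : N => χ n) θ ≠ 0 ∧
      ∀ a : A, ∀ n : N, θ ⟨φ a n, hNA a n n.2⟩ = θ n := by
  classical
  let X := {θ : IrrCharacter N // classInner (fun n : N => χ n) (θ : N → ℂ) ≠ 0}
  haveI : Nonempty X := by
    obtain ⟨θ, hθ, hc⟩ := exists_constituent_res (N := N) hχ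
    exact ⟨⟨⟨θ, hθ⟩, hc⟩⟩
  letI : MulAction A X :=
    { smul := fun a θ => ⟨⟨(θ.1 : N → ℂ) ∘ resEquiv φ hNA a⁻¹, irr_mulEquiv _ θ.1.2⟩, by
        have h := classInner_mulEquiv (resEquiv φ hNA a⁻¹) (fun n : N => χ n) (θ.1 : N → ℂ)
        rw [show (fun n : N => χ n) ∘ resEquiv φ hNA a⁻¹ = fun n : N => χ n from
          funext fun n => hinv a⁻¹ n] at h
        intro e
        exact θ.2 (h.symm.trans e)⟩
      one_smul := fun θ => Subtype.ext (Subtype.ext (funext fun n => by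
        show (θ.1 : N → ℂ) (resEquiv φ hNA (1 : A)⁻¹ n) = _
        exact congrArg (θ.1 : N → ℂ) (Subtype.ext (by simp [resEquiv]))))
      mul_smul := fun a b θ => Subtype.ext (Subtype.ext (funext fun n =>
        congrArg (θ.1 : N → ℂ) (Subtype.ext (by simp [resEquiv])))) }
  letI actG : MulAction G X :=
    { smul := fun g θ => ⟨⟨conjN (θ.1 : N → ℂ) g⁻¹, irr_conjN θ.1.2 _⟩, by
        show classInner (fun n : N => χ n) (conjN (θ.1 : N → ℂ) g⁻¹) ≠ 0
        rw [inner_res_conjN (classFun_of_irr hχ)]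
        exact θ.2⟩
      one_smul := fun θ => Subtype.ext (Subtype.ext (by
        show conjN (θ.1 : N → ℂ) (1 : G)⁻¹ = _
        rw [inv_one, conjN_one]))
      mul_smul := fun g h θ => Subtype.ext (Subtype.ext (by
        show conjN (θ.1 : N → ℂ) (g * h)⁻¹ = conjN (conjN (θ.1 : N → ℂ) h⁻¹) g⁻¹
        rw [conjN_mul, mul_inv_rev])) }
  have hNfix : ∀ g ∈ N, ∀ θ : X, g • θ = θ := fun g hg θ => Subtype.ext (Subtype.ext
    (conjN_of_mem (classFun_of_irr θ.1.2) (N.inv_mem hg)))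
  let π : G ⧸ N →* Equiv.Perm X := QuotientGroup.lift N (MulAction.toPermHom G X) fun g hg =>
    Equiv.ext fun θ => hNfix g hg θ
  letI actK : MulAction (G ⧸ N) X := MulAction.compHom X π
  have hmk : ∀ (g : G) (θ : X), (g : G ⧸ N) • θ = g • θ := fun g θ => rfl
  let ψ : A → (G ⧸ N →* G ⧸ N) := fun a =>
    QuotientGroup.map N N (φ a).toMonoidHom fun n hn => hNA a n hn
  letI : MulDistribMulAction A (G ⧸ N) :=
    { smul := fun a q => ψ a q
      one_smul := fun q => by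
        obtain ⟨g, rfl⟩ := QuotientGroup.mk_surjective q
        show ((φ 1 g : G) : G ⧸ N) = g
        rw [map_one]; rfl
      mul_smul := fun a b q => by
        obtain ⟨g, rfl⟩ := QuotientGroup.mk_surjective q
        show ((φ (a * b) g : G) : G ⧸ N) = ((φ a (φ b g) : G) : G ⧸ N)
        rw [map_mul]; rfl
      smul_mul := fun a q r => map_mul (ψ a) q r
      smul_one := fun a => map_one (ψ a) }
  have hcompat : ∀ (a : A) (q : G ⧸ N) (θ : X), a • (q • θ) = (a • q) • (a • θ) := by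
    intro a q θ
    obtain ⟨g, rfl⟩ := QuotientGroup.mk_surjective q
    show a • (g • θ) = ((φ a g : G) : G ⧸ N) • (a • θ)
    rw [hmk]
    refine Subtype.ext (Subtype.ext (funext fun n => congrArg (θ.1 : N → ℂ) (Subtype.ext ?_)))
    show g⁻¹ * (φ a⁻¹ n) * g⁻¹⁻¹ = φ a⁻¹ ((φ a g)⁻¹ * n * (φ a g)⁻¹⁻¹)
    simp [map_mul, map_inv]
  have htrans : ∀ x y : X, ∃ q : G ⧸ N, q • x = y := by
    intro x y
    obtain ⟨g, hg⟩ := conjugate_of_constituents hχ x.1.2 y.1.2 x.2 y.2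
    refine ⟨((g⁻¹ : G) : G ⧸ N), ?_⟩
    rw [hmk]
    refine Subtype.ext (Subtype.ext ?_)
    show conjN (x.1 : N → ℂ) g⁻¹⁻¹ = (y.1 : N → ℂ)
    rw [inv_inv, hg]
  have hfixed : ∃ θ : X, ∀ a : A, a • θ = θ := by
    rcases hcase with ⟨hab, hcop⟩ | ⟨hs, hcop⟩
    · letI : CommGroup (G ⧸ N) :=
        { (inferInstance : Group (G ⧸ N)) with
          mul_comm := fun q r => by
            obtain ⟨x, rfl⟩ := QuotientGroup.mk_surjective q
            obtain ⟨y, rfl⟩ := QuotientGroup.mk_surjective r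
            rw [← QuotientGroup.mk_mul, ← QuotientGroup.mk_mul, QuotientGroup.eq]
            simpa [mul_assoc] using hab y⁻¹ x⁻¹ }
      exact fixed_of_transitive (A := A) (V := G ⧸ N) hcompat htrans B
        (fun b hb θ => Subtype.ext (Subtype.ext (funext fun n =>
          hB b⁻¹ (B.inv_mem hb) _ (classFun_of_irr θ.1.2) n)))
        (by rwa [← Subgroup.index_eq_card])
    · exact fixed_of_transitive_solvable hcompat htrans (by rwa [← Subgroup.index_eq_card]) hs
  obtain ⟨θ, hθ⟩ := hfixed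
  refine ⟨θ.1, θ.1.2, θ.2, fun a n => ?_⟩
  have h := congrFun (congrArg (fun y : X => (y.1 : N → ℂ)) (hθ a⁻¹)) n
  conv_rhs => rw [← h]
  show (θ.1 : N → ℂ) _ = (θ.1 : N → ℂ) (resEquiv φ hNA a⁻¹⁻¹ n)
  exact congrArg (θ.1 : N → ℂ) (Subtype.ext (by simp [resEquiv]))

/-- going down along a solvable quotient -/
theorem exists_inv_down : ∀ (d : ℕ) (A B G N : Subgroup Γ) [Fintype G] [Fintype N] (hNG : N ≤ G),
    N.relIndex G = d → (∀ a ∈ A, ∀ g ∈ G, a * g * a⁻¹ ∈ G) →
    ∀ (hAN : ∀ a ∈ A, ∀ n ∈ N, a * n * a⁻¹ ∈ N), (∀ g ∈ G, ∀ n ∈ N, g * n * g⁻¹ ∈ N) →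
    (∃ k, derivedSeries G k ≤ N.subgroupOf G) → B ≤ A → B ≤ N →
    (B.relIndex A).Coprime (N.relIndex G) → ∀ χ : G → ℂ, IsIrrCharacter G χ →
    (∀ a ∈ A, ∀ g g' : G, (g' : Γ) = a * g * a⁻¹ → χ g' = χ g) →
    ∃ θ : N → ℂ, IsIrrCharacter N θ ∧ classInner (fun n : N => χ ⟨n, hNG n.2⟩) θ ≠ 0 ∧
      ∀ a (ha : a ∈ A), ∀ n : N, θ ⟨a * n * a⁻¹, hAN a ha n n.2⟩ = θ n := by
  intro d
  induction d using Nat.strong_induction_on with
  | _ d ih =>
    intro A B G N _ _ hNG hd hG hAN hGN hder hBA hBN hcop χ hχ hinv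
    classical
    by_cases heq : G ≤ N
    · obtain rfl : N = G := le_antisymm hNG heq
      refine ⟨χ, hχ, ?_, fun a ha n => hinv a ha n _ rfl⟩
      convert one_ne_zero (α := ℂ)
      convert irr_inner_self hχ
    set M := N ⊔ (derivedSeries G 1).map G.subtype with hM
    have hNM : N ≤ M := le_sup_left
    have hMG : M ≤ G := sup_le_of_derived hNG 1
    have hAM : ∀ a ∈ A, ∀ m ∈ M, a * m * a⁻¹ ∈ M := fun a ha m hm =>
      sup_conj_mem hAN (fun a ha x hx => derived_conj_mem hG 1 ha hx) ha hm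
    have hGG : ∀ g ∈ G, ∀ x ∈ G, g * x * g⁻¹ ∈ G :=
      fun g hg x hx => G.mul_mem (G.mul_mem hg hx) (G.inv_mem hg)
    have hGM : ∀ g ∈ G, ∀ m ∈ M, g * m * g⁻¹ ∈ M := fun g hg m hm =>
      sup_conj_mem hGN (fun a ha x hx => derived_conj_mem hGG 1 ha hx) hg hm
    haveI hMn : (M.subgroupOf G).Normal :=
      ⟨fun n hn g => Subgroup.mem_subgroupOf.mpr (hGM g g.2 n (Subgroup.mem_subgroupOf.mp hn))⟩
    have hab : ∀ a b : G, a * b * a⁻¹ * b⁻¹ ∈ M.subgroupOf G := fun a b => by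
      refine Subgroup.mem_subgroupOf.mpr (Subgroup.mem_sup_right ⟨a * b * a⁻¹ * b⁻¹, ?_, rfl⟩)
      rw [SetLike.mem_coe, derivedSeries_one, ← commutatorElement_def]
      exact Subgroup.commutator_mem_commutator (Subgroup.mem_top a) (Subgroup.mem_top b)
    have hlt : N.relIndex M < d := by
      have hmul := Subgroup.relIndex_mul_relIndex N M G hNM hMG
      have h1 : M.relIndex G ≠ 1 := by
        intro e
        have hGM' : G ≤ M := Subgroup.relIndex_eq_one.mp e
        -- otherwise the solvable quotient would be perfect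
        obtain ⟨n, hn⟩ := hder
        apply heq
        haveI : (N.subgroupOf G).Normal :=
          ⟨fun n hn g => Subgroup.mem_subgroupOf.mpr (hGN g g.2 n (Subgroup.mem_subgroupOf.mp hn))⟩
        let q := QuotientGroup.mk' (N.subgroupOf G)
        have hperf : derivedSeries (G ⧸ N.subgroupOf G) 1 = ⊤ := by
          rw [← map_derivedSeries_eq (f := q) (QuotientGroup.mk'_surjective _)]
          refine top_le_iff.mp fun y _ => ?_
          obtain ⟨x, rfl⟩ := QuotientGroup.mk'_surjective _ y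
          have hx : (x : Γ) ∈ N ⊔ (derivedSeries G 1).map G.subtype := hGM' x.2
          have hle : N ⊔ (derivedSeries G 1).map G.subtype ≤
              (((derivedSeries G 1).map q).comap q).map G.subtype := by
            refine sup_le (fun z hz => ⟨⟨z, hNG hz⟩, ?_, rfl⟩)
              (Subgroup.map_mono (Subgroup.le_comap_map _ _))
            show q _ ∈ (derivedSeries G 1).map q
            have h0 : q ⟨z, hNG hz⟩ = 1 := (QuotientGroup.eq_one_iff _).mpr (Subgroup.mem_subgroupOf.mpr hz)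
            rw [h0]; exact Subgroup.one_mem _
          obtain ⟨w, hw, hwx⟩ := hle hx
          obtain rfl : w = x := Subtype.ext hwx
          exact hw
        have hconst : ∀ m, derivedSeries (G ⧸ N.subgroupOf G) m = ⊤ := by
          intro m
          induction m with
          | zero => rfl
          | succ m ihm => rw [derivedSeries_succ, ihm]; exact hperf
        have hbot : derivedSeries (G ⧸ N.subgroupOf G) n = ⊥ := by
          rw [← map_derivedSeries_eq (f := q) (QuotientGroup.mk'_surjective _), Subgroup.map_eq_bot_iff,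
            QuotientGroup.ker_mk']
          exact hn
        intro g hg
        have : q ⟨g, hg⟩ ∈ (⊥ : Subgroup (G ⧸ N.subgroupOf G)) := by
          rw [← hbot, hconst n]; exact Subgroup.mem_top _
        exact Subgroup.mem_subgroupOf.mp ((QuotientGroup.eq_one_iff _).mp (Subgroup.mem_bot.mp this))
      have h0 : M.relIndex G ≠ 0 := Subgroup.index_ne_zero_of_finite
      have h0' : N.relIndex M ≠ 0 := Subgroup.index_ne_zero_of_finite
      rw [← hd, ← hmul]
      exact lt_mul_right (Nat.pos_of_ne_zero h0') (by omega)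
    haveI := Fintype.ofFinite M
    haveI := Fintype.ofFinite (M.subgroupOf G)
    let e : M.subgroupOf G ≃* M := Subgroup.subgroupOfEquivOfLe hMG
    obtain ⟨ψ', hψ', hψc, hψi⟩ := exists_inv_constituent_step (actHom G A hG)
      (N := M.subgroupOf G) (fun a m hm => hAM a a.2 _ hm) (B.subgroupOf A)
      (fun b hb θ hθ m => hθ m ⟨⟨(b : Γ), hNG (hBN hb)⟩, hNM (hBN hb)⟩)
      (Or.inl ⟨hab, Nat.Coprime.coprime_dvd_right
        (Dvd.intro_left _ (Subgroup.relIndex_mul_relIndex N M G hNM hMG)) hcop⟩)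
      hχ (fun a x => hinv a a.2 x _ rfl)
    have hψirr : IsIrrCharacter M (ψ' ∘ e.symm) := irr_mulEquiv e.symm hψ'
    have hψc' : classInner (fun m : M => χ ⟨m, hMG m.2⟩) (ψ' ∘ e.symm) ≠ 0 := by
      rw [show (fun m : M => χ ⟨m, hMG m.2⟩) = (fun m : M.subgroupOf G => χ m) ∘ e.symm from rfl,
        classInner_mulEquiv]
      exact hψc
    obtain ⟨θ, hθ, hθc, hθi⟩ := ih _ hlt A B M N hNM rfl hAM hAN
      (fun g hg n hn => hGN g (hMG hg) n hn)
      (by
        obtain ⟨n, hn⟩ := hder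
        refine ⟨n, fun x hx => ?_⟩
        exact Subgroup.mem_subgroupOf.mp (hn (map_derivedSeries_le_derivedSeries
          (Subgroup.inclusion hMG) n ⟨x, hx, rfl⟩)))
      hBA hBN (Nat.Coprime.coprime_dvd_right
        (Dvd.intro _ (Subgroup.relIndex_mul_relIndex N M G hNM hMG)) hcop)
      _ hψirr (fun a ha g g' hg => by
        show ψ' (e.symm g') = ψ' (e.symm g)
        conv_rhs => rw [← hψi ⟨a, ha⟩ (e.symm g)]
        exact congrArg ψ' (Subtype.ext (Subtype.ext hg)))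
    exact ⟨θ, hθ, classInner_res_trans hNM hMG (isCharacter_of_isIrr hχ) hψirr hψc' hθ hθc, hθi⟩

end CfsgLib.Char
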