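import Cfsg.Agent.Char.GlauberApp
import Cfsg.Agent.Solv.CoprimeAction
import Mathlib.GroupTheory.SemidirectProduct
import Mathlib.GroupTheory.OrderOfElement

/-! Invariant constituents under coprime action. -/

set_option linter.unusedSectionVars false
set_option linter.style.haveILetI false

namespace CfsgLib.Char

open Module Cfsg
open scoped ComplexConjugate

universe u v w

/-- a coprime operator group fixes a point of a transitive abelian action -/
theorem fixed_of_transitive {A : Type u} {V : Type v} {X : Type w} [Group A] [Finite A] [CommGroup V]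
    [Finite V] [MulDistribMulAction A V] [MulAction A X] [MulAction V X] [Nonempty X]
    (hcompat : ∀ (a : A) (v : V) (x : X), a • (v • x) = (a • v) • (a • x))
    (htrans : ∀ x y : X, ∃ v : V, v • x = y) (B : Subgroup A)
    (hBX : ∀ b ∈ B, ∀ x : X, b • x = x) (hcop : Nat.Coprime B.index (Nat.card V)) :
    ∃ x : X, ∀ a : A, a • x = x := by
  classical
  obtain ⟨x₀⟩ := ‹Nonempty X›
  haveI := Fintype.ofFinite (A ⧸ B)
  let W := MulAction.stabilizer V x₀
  have hq : ∀ u u' : V, (u : V ⧸ W) = u' ↔ u • x₀ = u' • x₀ := fun u u' => by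
    rw [QuotientGroup.eq, MulAction.mem_stabilizer_iff, mul_smul, inv_smul_eq_iff, eq_comm]
  choose v hv using fun a : A => htrans x₀ (a • x₀)
  have hcoc : ∀ a b : A, ((v (a * b) : V) : V ⧸ W) = ((a • v b * v a : V) : V ⧸ W) := fun a b => by
    rw [hq, mul_smul (a • v b), hv, hv, mul_smul, ← hv b, hcompat]
  let w : V := ∏ q : A ⧸ B, v q.out
  obtain ⟨e, he⟩ : ∃ e : ℕ, ∀ z : V, (z ^ e) ^ Fintype.card (A ⧸ B) = z := by
    have hc : Nat.Coprime (Fintype.card (A ⧸ B)) (Nat.card V) := by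
      rwa [Fintype.card_eq_nat_card, ← Subgroup.index_eq_card]
    obtain ⟨e, he, -⟩ := Nat.chineseRemainder hc.symm 1 0
    obtain ⟨e', he', he''⟩ := Nat.chineseRemainder hc.symm 1 0
    obtain ⟨k, hk⟩ := Nat.modEq_zero_iff_dvd.mp he''
    refine ⟨k, fun z => ?_⟩
    rw [← pow_mul, mul_comm, ← hk]
    conv_rhs => rw [← pow_one z]
    exact pow_eq_pow_iff_modEq.mpr (he'.of_dvd (orderOf_dvd_natCard z))
  refine ⟨w ^ e • x₀, fun a => ?_⟩
  rw [hcompat, ← hv, ← mul_smul, ← hq, smul_pow']
  have h2 : (((a • w) * v a ^ Fintype.card (A ⧸ B) : V) : V ⧸ W) = (w : V ⧸ W) := by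
    have hterm : ∀ q : A ⧸ B, (((a • v q.out) * v a : V) : V ⧸ W) = (v (a • q).out : V ⧸ W) := by
      intro q
      rw [← hcoc]
      obtain ⟨b, hb⟩ : ∃ b ∈ B, (a • q).out = a * q.out * b := by
        refine ⟨(a * q.out)⁻¹ * (a • q).out, QuotientGroup.eq.mp ?_, by group⟩
        rw [QuotientGroup.out_eq']
        conv_rhs => rw [← QuotientGroup.out_eq' q]
        rfl
      rw [hb.2, hq, hv, hv, mul_smul (a * q.out) b, hBX b hb.1]
    rw [Finset.smul_prod', ← Finset.card_univ, ← Finset.prod_const, ← Finset.prod_mul_distrib]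
    show QuotientGroup.mk' W (∏ q : A ⧸ B, (a • v q.out) * v a) =
      QuotientGroup.mk' W (∏ q : A ⧸ B, v q.out)
    rw [map_prod, map_prod]
    exact Fintype.prod_equiv (MulAction.toPerm a) _ _ hterm
  have h3 := congrArg (fun z : V ⧸ W => z ^ e) h2
  simp only [← QuotientGroup.mk_pow] at h3
  rw [mul_pow, ← pow_mul, mul_comm (Fintype.card (A ⧸ B)), pow_mul, he] at h3
  exact h3

/-- Glauberman's lemma, abstract form -/
theorem fixed_of_transitive_solvable {A : Type u} {K : Type v} {X : Type w} [Group A] [Finite A]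
    [Group K] [Finite K] [MulDistribMulAction A K] [MulAction A X] [MulAction K X] [Nonempty X]
    (hcompat : ∀ (a : A) (k : K) (x : X), a • (k • x) = (a • k) • (a • x))
    (htrans : ∀ x y : X, ∃ k : K, k • x = y)
    (hcop : (Nat.card A).Coprime (Nat.card K)) (hs : Group.IsSolvable A) :
    ∃ x : X, ∀ a : A, a • x = x := by
  let φ : A →* MulAut K := MulDistribMulAction.toMulAut A K
  let Γ := K ⋊[φ] A
  letI : MulAction Γ X :=
    { smul := fun g x => g.left • g.right • x
      one_smul := fun x => by show (1 : K) • (1 : A) • x = x; rw [one_smul, one_smul]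
      mul_smul := fun g h x => by
        show (g.left * g.right • h.left) • (g.right * h.right) • x =
          g.left • g.right • h.left • h.right • x
        rw [hcompat, mul_smul, mul_smul] }
  haveI : Finite Γ := Finite.of_equiv _ (SemidirectProduct.equivProd (φ := φ)).symm
  let A' := (SemidirectProduct.inr : A →* Γ).range
  let K' := (SemidirectProduct.inl : K →* Γ).range
  have hA : Nat.card A' = Nat.card A :=
    Nat.card_congr (MonoidHom.ofInjective SemidirectProduct.inr_injective).symm.toEquiv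
  have hK : Nat.card K' = Nat.card K :=
    Nat.card_congr (MonoidHom.ofInjective SemidirectProduct.inl_injective).symm.toEquiv
  haveI : K'.Normal := by
    rw [show K' = (SemidirectProduct.rightHom : Γ →* A).ker from SemidirectProduct.range_inl_eq_ker_rightHom]
    exact MonoidHom.normal_ker _
  obtain ⟨x₀⟩ := ‹Nonempty X›
  obtain ⟨k, -, hk⟩ := CfsgLib.Solv.exists_fixed_in_orbit (A := A') (K := K') (X := X)
    Subgroup.le_normalizer_of_normal (by rwa [hA, hK])
    (Or.inl (haveI := hs; solvable_of_surjective (f := (SemidirectProduct.inr : A →* Γ).rangeRestrict)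
      (MonoidHom.rangeRestrict_surjective _))) x₀ (by
      rintro _ ⟨a, rfl⟩
      obtain ⟨k, hk⟩ := htrans x₀ (a • x₀)
      refine ⟨SemidirectProduct.inl k, ⟨k, rfl⟩, ?_⟩
      show k • (1 : A) • x₀ = (1 : K) • a • x₀
      rw [one_smul, one_smul, hk])
  refine ⟨k • x₀, fun a => ?_⟩
  have h := hk (SemidirectProduct.inr a) ⟨a, rfl⟩
  show a • k • x₀ = k • x₀
  conv_rhs => rw [← h]
  show a • k • x₀ = (1 : K) • a • k • x₀
  rw [one_smul]

/-- restriction to a stable subgroup -/
def resEquiv {A : Type u} [Group A] {M : Type v} [Group M] (φ : A →* MulAut M) {N : Subgroup M}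
    (hNA : ∀ a : A, ∀ n ∈ N, φ a n ∈ N) (a : A) : N ≃* N where
  toFun n := ⟨φ a n, hNA a n n.2⟩
  invFun n := ⟨φ a⁻¹ n, hNA a⁻¹ n n.2⟩
  left_inv n := Subtype.ext (by simp)
  right_inv n := Subtype.ext (by simp)
  map_mul' x y := Subtype.ext (map_mul (φ a) _ _)

/-- the abelian step -/
theorem exists_inv_step {A : Type u} [Group A] [Finite A] {M : Type v} [Group M] [Fintype M]
    (φ : A →* MulAut M) {N : Subgroup M} [hN : N.Normal] [Fintype N]
    (hNA : ∀ a : A, ∀ n ∈ N, φ a n ∈ N) (hab : ∀ a b : M, a * b * a⁻¹ * b⁻¹ ∈ N) (B : Subgroup A)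
    (hB : ∀ b ∈ B, ∀ χ : M → ℂ, IsClassFunction M χ → ∀ x, χ (φ b x) = χ x)
    (hcop : B.index.Coprime N.index) {θ : N → ℂ} (hθ : IsIrrCharacter N θ)
    (hinv : ∀ a : A, ∀ n : N, θ ⟨φ a n, hNA a n n.2⟩ = θ n) :
    ∃ χ : M → ℂ, IsIrrCharacter M χ ∧ classInner (fun n : N => χ n) θ ≠ 0 ∧
      ∀ a x, χ (φ a x) = χ x := by
  classical
  let V : Subgroup (M →* ℂˣ) :=
    { carrier := {L | ∀ n ∈ N, L n = 1}
      one_mem' := fun n _ => rfl
      mul_mem' := fun {a b} ha hb n hn => by rw [MonoidHom.mul_apply, ha n hn, hb n hn, one_mul]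
      inv_mem' := fun {a} ha n hn => by rw [MonoidHom.inv_apply, ha n hn, inv_one] }
  haveI : Finite V := Finite.of_injective
    (fun L : V => (⟨fun x => (L.1 x : ℂ), isIrr_linear L.1⟩ : IrrCharacter M))
    fun L L' h => Subtype.ext (coe_linear_injective (congrArg Subtype.val h))
  letI : MulDistribMulAction A V :=
    { smul := fun a L => ⟨L.1.comp (φ a⁻¹).toMonoidHom, fun n hn => L.2 _ (hNA a⁻¹ n hn)⟩
      one_smul := fun L => Subtype.ext (MonoidHom.ext fun x => by
        show L.1 (φ (1 : A)⁻¹ x) = L.1 x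
        rw [inv_one, map_one]; rfl)
      mul_smul := fun a b L => Subtype.ext (MonoidHom.ext fun x => by
        show L.1 (φ (a * b)⁻¹ x) = L.1 (φ b⁻¹ (φ a⁻¹ x))
        rw [mul_inv_rev, map_mul]; rfl)
      smul_mul := fun a L L' => Subtype.ext (MonoidHom.ext fun x => rfl)
      smul_one := fun a => Subtype.ext (MonoidHom.ext fun x => rfl) }
  let X := {χ : IrrCharacter M // classInner (fun n : N => (χ : M → ℂ) n) θ ≠ 0}
  have hinv' : ∀ a : A, θ ∘ resEquiv φ hNA a = θ := fun a => funext (hinv a)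
  letI : MulAction A X :=
    { smul := fun a χ => ⟨⟨(χ.1 : M → ℂ) ∘ φ a⁻¹, irr_mulEquiv _ χ.1.2⟩, by
        show classInner ((fun n : N => (χ.1 : M → ℂ) n) ∘ resEquiv φ hNA a⁻¹) θ ≠ 0
        intro e
        apply χ.2
        have h := classInner_mulEquiv (resEquiv φ hNA a⁻¹) (fun n : N => (χ.1 : M → ℂ) n) θ
        rw [hinv'] at h
        exact h.symm.trans e⟩
      one_smul := fun χ => Subtype.ext (Subtype.ext (funext fun x => by
        show (χ.1 : M → ℂ) (φ (1 : A)⁻¹ x) = (χ.1 : M → ℂ) x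
        rw [inv_one, map_one]; rfl))
      mul_smul := fun a b χ => Subtype.ext (Subtype.ext (funext fun x => by
        show (χ.1 : M → ℂ) (φ (a * b)⁻¹ x) = (χ.1 : M → ℂ) (φ b⁻¹ (φ a⁻¹ x))
        rw [mul_inv_rev, map_mul]; rfl)) }
  letI : MulAction V X :=
    { smul := fun L χ => ⟨⟨fun x => (χ.1 : M → ℂ) x * (L.1 x : ℂ), irr_mul_linear χ.1.2 L.1⟩, by
        show classInner (fun n : N => (χ.1 : M → ℂ) n * (L.1 n : ℂ)) θ ≠ 0
        rw [show (fun n : N => (χ.1 : M → ℂ) n * (L.1 n : ℂ)) = fun n : N => (χ.1 : M → ℂ) n from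
          funext fun n => by rw [L.2 n n.2, Units.val_one, mul_one]]
        exact χ.2⟩
      one_smul := fun χ => Subtype.ext (Subtype.ext (funext fun x => by
        show (χ.1 : M → ℂ) x * (((1 : V).1 x : ℂˣ) : ℂ) = _
        simp))
      mul_smul := fun L L' χ => Subtype.ext (Subtype.ext (funext fun x => by
        show (χ.1 : M → ℂ) x * (((L * L' : V).1 x : ℂˣ) : ℂ) =
          (χ.1 : M → ℂ) x * (L'.1 x : ℂ) * (L.1 x : ℂ)
        simp; ring)) }
  haveI : Nonempty X := by
    have hne : indFun N θ ≠ 0 := fun e => by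
      have := congrFun e 1
      rw [indFun_one] at this
      exact irr_one_ne_zero hθ ((mul_eq_zero.mp this).resolve_left
        (Nat.cast_ne_zero.mpr Subgroup.index_ne_zero_of_finite))
    obtain ⟨χ, hχ⟩ := exists_constituent (isCharacter_indFun N (isCharacter_of_isIrr hθ)) hne
    exact ⟨⟨χ, fun e => hχ (by
      rw [frobenius N θ (classFun_of_irr χ.2), ← classInner_conj, e, map_zero])⟩⟩
  have htr : ∀ χ ψ : X, ∃ v : V, v • χ = ψ := by
    intro χ ψ
    by_contra hno
    push Not at hno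
    apply ψ.2
    have hres : IsCharacter N (fun n : N => (χ.1 : M → ℂ) n) :=
      isCharacter_restrict N (isCharacter_of_isIrr χ.1.2)
    have hrest : IsCharacter N ((fun n : N => (χ.1 : M → ℂ) n) - θ) :=
      isCharacter_sub_constituent hres hθ χ.2
    have h0 : classInner ((χ.1 : M → ℂ) * indFun N (fun _ => (1 : ℂ))) (ψ.1 : M → ℂ) = 0 := by
      rw [classFun_eq_sum (indFun_classFun N (fun _ => (1 : ℂ))), Finset.mul_sum, classInner_sum_left]
      refine Finset.sum_eq_zero fun β _ => ?_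
      rw [mul_smul_comm, classInner_smul_left]
      by_cases hβ1 : classInner (indFun N (fun _ => (1 : ℂ))) (β : M → ℂ) = 0
      · rw [hβ1, zero_mul]
      have hβN := (mem_ind_one_iff β.2).mp hβ1
      haveI := Fintype.ofFinite (M ⧸ N)
      obtain ⟨β', hβ', hcomp⟩ := irr_descend (QuotientGroup.mk' N) (QuotientGroup.mk'_surjective N) β.2
        fun k hk => hβN ⟨k, (QuotientGroup.eq_one_iff k).mp hk⟩
      have hβdeg : (β : M → ℂ) 1 = 1 := by
        rw [← hcomp, Function.comp_apply, map_one]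
        refine irr_degree_one_of_comm (fun p q => ?_) hβ'
        obtain ⟨x, rfl⟩ := QuotientGroup.mk_surjective p
        obtain ⟨y, rfl⟩ := QuotientGroup.mk_surjective q
        rw [← QuotientGroup.mk_mul, ← QuotientGroup.mk_mul, QuotientGroup.eq]
        simpa [mul_assoc] using hab y⁻¹ x⁻¹
      obtain ⟨L, hL⟩ := exists_hom_of_degree_one (isCharacter_of_isIrr β.2) hβdeg
      have hLN : L ∈ V := fun n hn => Units.ext (by
        have := hβN ⟨n, hn⟩
        rw [hL] at this
        simpa using this)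
      have hne := hno ⟨L, hLN⟩
      rw [hL, show ((χ.1 : M → ℂ) * fun g => (L g : ℂ)) = fun g => (χ.1 : M → ℂ) g * (L g : ℂ) from rfl,
        irr_inner_ne (irr_mul_linear χ.1.2 L) ψ.1.2 (fun e => hne (Subtype.ext (Subtype.ext e))),
        mul_zero]
    rw [mul_comm, indFun_mul N _ (classFun_of_irr χ.1.2),
      show (fun h : N => (1 : ℂ) * (χ.1 : M → ℂ) h) = θ + ((fun n : N => (χ.1 : M → ℂ) n) - θ) from
        funext fun n => by simp, indFun_add] at h0
    have h1 := inner_zero_of_summand (isCharacter_indFun N (isCharacter_of_isIrr hθ))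
      (isCharacter_indFun N hrest) (isCharacter_of_isIrr ψ.1.2) h0
    rw [frobenius N θ (classFun_of_irr ψ.1.2)] at h1
    rw [← classInner_conj, h1, map_zero]
  obtain ⟨χ, hχ⟩ := fixed_of_transitive (A := A) (V := V) (X := X)
    (fun a L χ => Subtype.ext (Subtype.ext (funext fun x => rfl))) htr B
    (fun b hb χ => Subtype.ext (Subtype.ext (funext fun x => by
      show (χ.1 : M → ℂ) (φ b⁻¹ x) = (χ.1 : M → ℂ) x
      exact hB b⁻¹ (B.inv_mem hb) _ (classFun_of_irr χ.1.2) x)))
    (Nat.coprime_of_dvd fun q hq hqB hqV => by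
      haveI : Fact q.Prime := ⟨hq⟩
      obtain ⟨L, hL⟩ := exists_prime_orderOf_dvd_card' (G := V) q hqV
      have : L ^ N.index = 1 := Subtype.ext (MonoidHom.ext fun x => by
        rw [SubgroupClass.coe_pow, MonoidHom.pow_apply, ← map_pow]
        exact L.2 _ (N.pow_index_mem x))
      exact hq.not_dvd_one (hcop ▸ Nat.dvd_gcd hqB (hL ▸ orderOf_dvd_of_pow_eq_one this)))
  exact ⟨(χ.1 : M → ℂ), χ.1.2, χ.2, fun a x => by
      have h := congrFun (congrArg (fun y : X => (y.1 : M → ℂ)) (hχ a⁻¹)) x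
      conv_rhs => rw [← h]
      show (χ.1 : M → ℂ) (φ a x) = (χ.1 : M → ℂ) (φ a⁻¹⁻¹ x)
      rw [inv_inv]⟩

end CfsgLib.Char
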