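import Cfsg.Agent.Char.GlauberApp
import Cfsg.Agent.Char.ExtCrit
import Mathlib.GroupTheory.SchurZassenhaus

/-! Invariant characters above a central subgroup with coprime layers. -/

set_option linter.unusedSectionVars false
set_option linter.style.haveILetI false
set_option linter.style.longLine false

namespace CfsgLib.Char

open Module Cfsg
open scoped ComplexConjugate

universe u v

theorem exists_coprime_split (n : ℕ) (hn : n ≠ 0) (m : ℕ) :
    ∃ a b : ℕ, n = a * b ∧ b.Coprime m ∧ ∀ k : ℕ, k.Coprime m → k.Coprime a := by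
  induction n using Nat.strong_induction_on with
  | _ n ih =>
    by_cases h : n.Coprime m
    · exact ⟨1, n, (one_mul n).symm, h, fun k _ => Nat.coprime_one_right k⟩
    · obtain ⟨p, hp, hpn, hpm⟩ := Nat.Prime.not_coprime_iff_dvd.mp h
      obtain ⟨n', rfl⟩ := hpn
      have hn' : n' ≠ 0 := fun e => hn (by rw [e, mul_zero])
      obtain ⟨a, b, hab, hb, hk⟩ := ih n' (lt_mul_left (Nat.pos_of_ne_zero hn') hp.one_lt) hn'
      exact ⟨p * a, b, by rw [hab, mul_assoc], hb,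
        fun k hkm => Nat.Coprime.mul_right (hkm.coprime_dvd_right hpm) (hk k hkm)⟩

/-- the power map into a central subgroup is multiplicative -/
theorem pow_index_mul {G : Type u} [Group G] [Finite G] (Z : Subgroup G)
    (hZ : Z ≤ Subgroup.center G) (x y : G) :
    x ^ Z.index ∈ Z ∧ (x * y) ^ Z.index = x ^ Z.index * y ^ Z.index := by
  haveI hcomm : IsMulCommutative Z :=
    ⟨⟨fun a b => Subtype.ext (Subgroup.mem_center_iff.mp (hZ b.2) a)⟩⟩
  letI : CommGroup Z := { (inferInstance : Group Z) with mul_comm := fun a b => hcomm.is_comm.comm a b }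
  have key : ∀ g : G, ∀ (k : ℕ) (g₀ : G), g₀⁻¹ * g ^ k * g₀ ∈ Z → g₀⁻¹ * g ^ k * g₀ = g ^ k := by
    intro g k g₀ hk
    have h := Subgroup.mem_center_iff.mp (hZ hk) g₀
    calc g₀⁻¹ * g ^ k * g₀ = g₀ * (g₀⁻¹ * g ^ k * g₀) * g₀⁻¹ := by rw [h, mul_inv_cancel_right]
      _ = g ^ k := by group
  refine ⟨MonoidHom.transfer_eq_pow_aux x (key x), ?_⟩
  have h1 := MonoidHom.transfer_eq_pow (ϕ := MonoidHom.id Z) x (key x)
  have h2 := MonoidHom.transfer_eq_pow (ϕ := MonoidHom.id Z) y (key y)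
  have h3 := MonoidHom.transfer_eq_pow (ϕ := MonoidHom.id Z) (x * y) (key (x * y))
  rw [map_mul, h1, h2] at h3
  simpa using (congrArg Subtype.val h3).symm

/-- an invariant character above a central subgroup -/
theorem triple_inv_over {Q : Type u} [Group Q] [Finite Q] (G₁ Z : Subgroup Q) [hG₁ : G₁.Normal]
    [Fintype G₁] (hZG : Z ≤ G₁) (hcen : Z ≤ Subgroup.center Q) (lam : Z →* ℂˣ)
    (hcop : G₁.index.Coprime (Z.relIndex G₁)) (hsolv : Group.IsSolvable (Q ⧸ G₁)) :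
    ∃ ψ : G₁ → ℂ, IsIrrCharacter G₁ ψ ∧
      (∀ q : Q, ∀ x : G₁, ψ ⟨q * x * q⁻¹, hG₁.conj_mem x x.2 q⟩ = ψ x) ∧
      ∀ z : Z, ψ ⟨z, hZG z.2⟩ = (lam z : ℂ) * ψ 1 := by
  classical
  obtain ⟨a, b, hn, hb, hka⟩ := exists_coprime_split (Nat.card Z) Nat.card_pos.ne' G₁.index
  let k := Z.relIndex G₁
  have hkm : k.Coprime G₁.index := hcop.symm
  obtain ⟨c, -, hc⟩ := Nat.exists_mul_mod_eq_of_coprime 1 (hka (k * b) (hkm.mul_left hb))
    (fun e => Nat.card_pos.ne' (by rw [hn, e, zero_mul]))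
  -- the power map
  have hZc : Z.subgroupOf G₁ ≤ Subgroup.center G₁ := fun z hz => Subgroup.mem_center_iff.mpr
    fun g => Subtype.ext (Subgroup.mem_center_iff.mp (hcen hz) g)
  have hpow := pow_index_mul (Z.subgroupOf G₁) hZc
  let f : G₁ →* Z :=
    { toFun := fun g => ⟨(g : Q) ^ k, Subgroup.mem_subgroupOf.mp (hpow g g).1⟩
      map_one' := Subtype.ext (by simp)
      map_mul' := fun g h => Subtype.ext (by exact congrArg (fun x : G₁ => (x : Q)) (hpow g h).2) }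
  have hfc : ∀ (g : G₁) (e : ℕ), (g : Q) ^ (k * e) = ((f g : Z) : Q) ^ e := fun g e => pow_mul _ _ _
  have hZa : ∀ g : G₁, ((g : Q) ^ (k * b)) ^ a = 1 := fun g => by
    rw [hfc, ← pow_mul, mul_comm b a, ← hn]
    exact congrArg Subtype.val (pow_card_eq_one' (x := f g))
  have hmulb : ∀ (g h : G₁) (e : ℕ), ((g * h : G₁) : Q) ^ (k * e) = (g : Q) ^ (k * e) * (h : Q) ^ (k * e) := by
    intro g h e
    rw [hfc, hfc, hfc, map_mul, Subgroup.coe_mul]
    exact Commute.mul_pow (Subgroup.mem_center_iff.mp (hcen (f h).2) _) e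
  obtain ⟨G₀, hG₀⟩ : ∃ G₀ : Subgroup Q, ∀ x, x ∈ G₀ ↔ x ∈ G₁ ∧ x ^ (k * b) = 1 := by
    refine ⟨{ carrier := {x | x ∈ G₁ ∧ x ^ (k * b) = 1}, one_mem' := ⟨one_mem _, one_pow _⟩,
              mul_mem' := fun {x y} hx hy => ⟨mul_mem hx.1 hy.1, ?_⟩,
              inv_mem' := fun {x} hx => ⟨inv_mem hx.1, by rw [inv_pow, hx.2, inv_one]⟩ }, fun x => Iff.rfl⟩
    exact (hmulb ⟨x, hx.1⟩ ⟨y, hy.1⟩ b).trans (by simp [hx.2, hy.2])
  have hle : G₀ ≤ G₁ := fun x hx => ((hG₀ x).mp hx).1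
  have hconj : ∀ q : Q, ∀ x ∈ G₀, q * x * q⁻¹ ∈ G₀ := fun q x hx => (hG₀ _).mpr
    ⟨hG₁.conj_mem x ((hG₀ x).mp hx).1 q, by rw [conj_pow, ((hG₀ x).mp hx).2, mul_one, mul_inv_cancel]⟩
  haveI : G₀.Normal := ⟨fun x hx q => hconj q x hx⟩
  -- splitting
  have hk0 : k * b * c % a = 1 % a := hc
  let e₁ := k * (b * c)
  have hhmem : ∀ g : G₁, (g : Q) ^ e₁ ∈ Subgroup.center Q := fun g => by
    rw [hfc]; exact Subgroup.pow_mem _ (hcen (f g).2) _
  have hproj : ∀ g : G₁, (g : Q) * ((g : Q) ^ e₁)⁻¹ ∈ G₀ := by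
    intro g
    refine (hG₀ _).mpr ⟨mul_mem g.2 (inv_mem (pow_mem g.2 _)), ?_⟩
    have hcm : Commute (g : Q) ((g : Q) ^ e₁)⁻¹ :=
      Subgroup.mem_center_iff.mp (inv_mem (hhmem g)) (g : Q)
    rw [hcm.mul_pow, inv_pow, mul_inv_eq_one, ← pow_mul]
    set y := (g : Q) ^ (k * b) with hy
    have hya : y ^ a = 1 := hZa g
    rw [show e₁ * (k * b) = (k * b) * (k * b * c) by simp [e₁]; ring, pow_mul]
    rw [← hy, pow_eq_pow_mod (k * b * c) hya, hk0, ← pow_eq_pow_mod 1 hya, pow_one]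
  let π : G₁ →* G₀ :=
    { toFun := fun g => ⟨(g : Q) * ((g : Q) ^ e₁)⁻¹, hproj g⟩
      map_one' := Subtype.ext (by simp)
      map_mul' := fun g h => Subtype.ext (by
        show ((g * h : G₁) : Q) * (((g * h : G₁) : Q) ^ e₁)⁻¹ = _
        rw [hmulb, Subgroup.coe_mul, Subgroup.coe_mul, mul_inv_rev]
        have h1 := Subgroup.mem_center_iff.mp (inv_mem (hhmem g))
        show (g : Q) * h * (((h : Q) ^ e₁)⁻¹ * ((g : Q) ^ e₁)⁻¹) = (g : Q) * ((g : Q) ^ e₁)⁻¹ * ((h : Q) * ((h : Q) ^ e₁)⁻¹)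
        rw [h1 ((h : Q) ^ e₁)⁻¹, mul_assoc (g : Q), ← mul_assoc (h : Q), h1 (h : Q)]
        group) }
  have hπid : ∀ x : G₁, (x : Q) ∈ G₀ → (π x : Q) = x := fun x hx => by
    show (x : Q) * ((x : Q) ^ e₁)⁻¹ = x
    rw [show e₁ = k * b * c by simp [e₁, mul_assoc], pow_mul, ((hG₀ x).mp hx).2, one_pow, inv_one, mul_one]
  have hπs : Function.Surjective π := fun x => ⟨⟨x, hle x.2⟩, Subtype.ext (hπid _ x.2)⟩
  -- coprimality
  have hc0 : (Nat.card G₀).Coprime G₀.index := by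
    have hidx : G₀.index = G₀.relIndex G₁ * G₁.index := (Subgroup.relIndex_mul_index hle).symm
    rw [hidx]
    have hd : ∀ p : ℕ, p.Prime → p ∣ Nat.card G₀ → p ∣ k * b := fun p hp hpd => by
      haveI := Fact.mk hp
      obtain ⟨x, hx⟩ := exists_prime_orderOf_dvd_card' (G := G₀) p hpd
      rw [← hx]
      exact orderOf_dvd_of_pow_eq_one (Subtype.ext ((hG₀ (x : Q)).mp x.2).2)
    refine Nat.Coprime.mul_right ?_ ?_
    · refine Nat.coprime_of_dvd fun p hp hpd hpi => ?_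
      haveI := Fact.mk hp
      haveI : (G₀.subgroupOf G₁).Normal := inferInstance
      obtain ⟨x, hx⟩ := exists_prime_orderOf_dvd_card' (G := G₁ ⧸ G₀.subgroupOf G₁) p hpi
      obtain ⟨g, rfl⟩ := QuotientGroup.mk_surjective x
      have hg : g ^ a ∈ G₀.subgroupOf G₁ := by
        refine Subgroup.mem_subgroupOf.mpr ((hG₀ _).mpr ⟨(g ^ a).2, ?_⟩)
        rw [SubmonoidClass.coe_pow, ← pow_mul, mul_comm, pow_mul]
        exact hZa g
      have hpa : p ∣ a := hx ▸ orderOf_dvd_of_pow_eq_one (by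
        rw [← QuotientGroup.mk_pow]; exact (QuotientGroup.eq_one_iff _).mpr hg)
      exact (Nat.Prime.coprime_iff_not_dvd hp).mp
        (Nat.Coprime.coprime_dvd_left (hd p hp hpd) (hka (k * b) (hkm.mul_left hb))) hpa
    · refine Nat.coprime_of_dvd fun p hp hpd hpi => ?_
      exact (Nat.Prime.coprime_iff_not_dvd hp).mp
        (Nat.Coprime.coprime_dvd_left (hd p hp hpd) (hkm.mul_left hb)) hpi
  obtain ⟨S, hS⟩ := Subgroup.exists_right_complement'_of_coprime hc0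
  have hsS : Group.IsSolvable S := by
    haveI := hsolv
    let q : S →* Q ⧸ G₁ := (QuotientGroup.mk' G₁).comp S.subtype
    haveI : Group.IsSolvable q.ker := isSolvable_of_comm fun x y => by
      have hx : ((x : S) : Q) ∈ G₁ := (QuotientGroup.eq_one_iff _).mp x.2
      have hy : ((y : S) : Q) ∈ G₁ := (QuotientGroup.eq_one_iff _).mp y.2
      have hmem : (x * y * x⁻¹ * y⁻¹ : q.ker).1.1 ∈ G₀ := by
        refine (hG₀ _).mpr ⟨mul_mem (mul_mem (mul_mem hx hy) (inv_mem hx)) (inv_mem hy), ?_⟩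
        show (((⟨_, hx⟩ * ⟨_, hy⟩ * ⟨_, hx⟩⁻¹ * ⟨_, hy⟩⁻¹ : G₁)) : Q) ^ (k * b) = 1
        have hcm := Subgroup.mem_center_iff.mp (hcen (f ⟨_, hy⟩).2)
        rw [hfc, map_mul, map_mul, map_mul, map_inv, map_inv]
        have : f ⟨_, hx⟩ * f ⟨_, hy⟩ = f ⟨_, hy⟩ * f ⟨_, hx⟩ := Subtype.ext (hcm _)
        rw [this, mul_inv_cancel_right, mul_inv_cancel]
        simp
      have h1 : (x * y * x⁻¹ * y⁻¹ : q.ker).1.1 = 1 :=
        Subgroup.disjoint_def.mp hS.disjoint hmem (x * y * x⁻¹ * y⁻¹ : q.ker).1.2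
      have h2 : x * y * x⁻¹ * y⁻¹ = 1 := Subtype.ext (Subtype.ext h1)
      rw [mul_inv_eq_one, mul_inv_eq_iff_eq_mul] at h2
      exact h2
    exact solvable_of_ker_le_range q.ker.subtype q (le_of_eq (Subgroup.range_subtype _).symm)
  haveI := Fintype.ofFinite G₀
  have hcard : (Nat.card G₀).Coprime (Nat.card S) := by
    rwa [← hS.symm.index_eq_card]
  haveI := hsS
  obtain ⟨hs', hc'⟩ := actHom_facts G₀ S (fun s _ x hx => hconj s x hx) hcard
  let N' := Z.subgroupOf G₀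
  haveI : N'.Normal := ⟨fun n hn g => by
    have : g * n * g⁻¹ = n := Subtype.ext (by
      show (g : Q) * n * (g : Q)⁻¹ = n
      rw [Subgroup.mem_center_iff.mp (hcen (Subgroup.mem_subgroupOf.mp hn)) g, mul_inv_cancel_right])
    rwa [this]⟩
  haveI := Fintype.ofFinite N'
  let μ : N' →* ℂˣ := lam.comp
    { toFun := fun x => (⟨((x : G₀) : Q), x.2⟩ : Z), map_one' := rfl, map_mul' := fun _ _ => rfl }
  obtain ⟨ψ₀, hψ₀, hψi, hψc⟩ := exists_inv_over _ (actHom G₀ S fun s _ x hx => hconj s x hx).range rfl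
    hs' hc' N' (by
      rintro _ ⟨s, rfl⟩ x hx
      refine Subgroup.mem_subgroupOf.mpr ?_
      show (s : Q) * (x : Q) * (s : Q)⁻¹ ∈ Z
      rw [Subgroup.mem_center_iff.mp (hcen (Subgroup.mem_subgroupOf.mp hx)) s, mul_inv_cancel_right]
      exact Subgroup.mem_subgroupOf.mp hx) (fun x => (μ x : ℂ)) (isIrr_linear μ) (by
      rintro _ ⟨s, rfl⟩ x h
      congr 2
      refine Subtype.ext (Subtype.ext ?_)
      show (s : Q) * ((x : G₀) : Q) * (s : Q)⁻¹ = _
      rw [Subgroup.mem_center_iff.mp (hcen (Subgroup.mem_subgroupOf.mp x.2)) s, mul_inv_cancel_right])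
  have hsc : ∀ x : N', ψ₀ x = (μ x : ℂ) * ψ₀ 1 := by
    have hinv : ∀ g : G₀, conjN (fun x : N' => (μ x : ℂ)) g = fun x : N' => (μ x : ℂ) := fun g =>
      funext fun x => congrArg (fun z : N' => (μ z : ℂ)) (Subtype.ext (Subtype.ext (by
        show (g : Q) * ((x : G₀) : Q) * (g : Q)⁻¹ = _
        rw [Subgroup.mem_center_iff.mp (hcen (Subgroup.mem_subgroupOf.mp x.2)) g, mul_inv_cancel_right])))
    have h := res_homogeneous hψ₀ (isIrr_linear μ) hψc hinv
    intro x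
    have h1 := congrFun h x
    have h2 := congrFun h 1
    simp only [Pi.smul_apply, smul_eq_mul, OneMemClass.coe_one] at h1 h2
    rw [h1, h2, map_one, Units.val_one, mul_one, mul_comm]
  -- invariance under everything
  have hall : ∀ q : Q, ∀ x : G₀, ψ₀ ⟨q * x * q⁻¹, hconj q x x.2⟩ = ψ₀ x := by
    intro q x
    obtain ⟨⟨g, s⟩, hgs, -⟩ := Subgroup.isComplement_iff_existsUnique.mp hS q
    have h1 := classFun_of_irr hψ₀ (actHom G₀ S (fun s _ x hx => hconj s x hx) ⟨s, s.2⟩ x) ⟨g, g.2⟩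
    have h2 := hψi _ ⟨⟨(s : Q), s.2⟩, rfl⟩ x
    rw [← h2, ← h1]
    refine congrArg ψ₀ (Subtype.ext ?_)
    show q * x * q⁻¹ = (g : Q) * ((s : Q) * x * (s : Q)⁻¹) * (g : Q)⁻¹
    rw [← hgs]; group
  let f' : G₁ →* ℂˣ := lam.comp
    { toFun := fun g => (f g) ^ (b * c)
      map_one' := by simp
      map_mul' := fun g h => Subtype.ext (by
        simp only [map_mul, Subgroup.coe_mul, SubmonoidClass.coe_pow]
        exact Commute.mul_pow (Subgroup.mem_center_iff.mp (hcen (f h).2) _) _) }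
  refine ⟨fun g => ψ₀ (π g) * (f' g : ℂ), irr_mul_linear (irr_comp π hπs hψ₀) f', fun q x => ?_, fun z => ?_⟩
  · show ψ₀ (π ⟨q * x * q⁻¹, _⟩) * _ = ψ₀ (π x) * _
    congr 1
    · rw [← hall q (π x)]
      refine congrArg ψ₀ (Subtype.ext ?_)
      show q * x * q⁻¹ * ((q * x * q⁻¹) ^ e₁)⁻¹ = q * ((x : Q) * ((x : Q) ^ e₁)⁻¹) * q⁻¹
      rw [conj_pow]; group
    · refine congrArg (fun z : Z => (lam (z ^ (b * c)) : ℂ)) (Subtype.ext ?_)
      show (q * x * q⁻¹) ^ k = (x : Q) ^ k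
      rw [conj_pow, Subgroup.mem_center_iff.mp (hcen (f x).2 : (x : Q) ^ k ∈ _) q, mul_inv_cancel_right]
  · have hzc := hcen z.2
    have hzm : (π ⟨z, hZG z.2⟩ : Q) ∈ Z := mul_mem z.2 (inv_mem (pow_mem z.2 _))
    have h := hsc ⟨π ⟨z, hZG z.2⟩, hzm⟩
    show ψ₀ (π ⟨z, hZG z.2⟩) * (f' ⟨z, hZG z.2⟩ : ℂ) = (lam z : ℂ) * (ψ₀ (π 1) * (f' 1 : ℂ))
    rw [map_one, map_one, Units.val_one, mul_one, h, mul_right_comm, ← Units.val_mul]
    congr 2
    show lam _ * lam _ = lam z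
    rw [← map_mul]
    refine congrArg lam (Subtype.ext ?_)
    show (z : Q) * ((z : Q) ^ e₁)⁻¹ * ((z : Q) ^ k) ^ (b * c) = z
    rw [← pow_mul, inv_mul_cancel_right]

/-- invariant characters above an invariant one, with solvable top layer of coprime order -/
theorem exists_inv_over_triple {Γ : Type u} [Group Γ] [Fintype Γ] (G N : Subgroup Γ) [hG : G.Normal]
    [hN : N.Normal] [Fintype G] [Fintype N] (hNG : N ≤ G)
    (hcop : G.index.Coprime (N.relIndex G)) (hsolv : Group.IsSolvable (Γ ⧸ G))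
    {θ : N → ℂ} (hθ : IsIrrCharacter N θ) (hinv : ∀ x : Γ, conjN θ x = θ) :
    ∃ χ : G → ℂ, IsIrrCharacter G χ ∧ classInner (fun n : N => χ ⟨n, hNG n.2⟩) θ ≠ 0 ∧
      ∀ (x : Γ) (g : G), χ ⟨x * g * x⁻¹, hG.conj_mem g g.2 x⟩ = χ g := by
  classical
  obtain ⟨d, ρ, hirr, rfl⟩ := hθ
  haveI := hirr
  haveI := extGroup_finite ρ
  have hP : Function.Surjective (extProj ρ) := extProj_surjective ρ hinv
  let R : Subgroup (extGroup ρ) := G.comap (extProj ρ)
  haveI : R.Normal := hG.comap _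
  have hNR : extN ρ ≤ R := Subgroup.comap_mono hNG
  let K : Subgroup (extGroup ρ) := (extLam ρ).ker.map (extN ρ).subtype
  haveI : K.Normal := ⟨by
    rintro _ ⟨x, hx, rfl⟩ y
    exact ⟨⟨y * x * y⁻¹, (normal_extN ρ).conj_mem x x.2 y⟩, (extLam_inv ρ y x).trans hx, rfl⟩⟩
  have hKN : K ≤ extN ρ := Subgroup.map_subtype_le _
  let mk := QuotientGroup.mk' K
  have hmk : Function.Surjective mk := QuotientGroup.mk'_surjective K
  let G₁ := R.map mk
  haveI : G₁.Normal := Subgroup.Normal.map inferInstance mk hmk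
  let Z := (extN ρ).map mk
  have hZG : Z ≤ G₁ := Subgroup.map_mono hNR
  have hcen : Z ≤ Subgroup.center (extGroup ρ ⧸ K) := by
    rintro _ ⟨x, hx, rfl⟩
    refine Subgroup.mem_center_iff.mpr fun q => ?_
    obtain ⟨y, rfl⟩ := hmk q
    rw [← mul_inv_eq_one, ← map_mul, ← map_mul, ← map_inv, ← map_mul]
    refine (QuotientGroup.eq_one_iff _).mpr ?_
    refine ⟨⟨y * x * y⁻¹, (normal_extN ρ).conj_mem x hx y⟩ * (⟨x, hx⟩ : extN ρ)⁻¹, ?_, by
      simp [mul_inv_rev, mul_assoc]⟩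
    rw [SetLike.mem_coe, MonoidHom.mem_ker, map_mul, map_inv]
    exact mul_inv_eq_one.mpr (extLam_inv ρ y ⟨x, hx⟩)
  let toZ : extN ρ →* Z := mk.subgroupMap (extN ρ)
  have htoZ : Function.Surjective toZ := mk.subgroupMap_surjective _
  have hker : toZ.ker ≤ ((extLam ρ)⁻¹ : extN ρ →* ℂˣ).ker := by
    intro x hx
    obtain ⟨x', hx', he⟩ := (QuotientGroup.eq_one_iff _).mp (congrArg Subtype.val hx)
    obtain rfl : x' = x := Subtype.ext he
    rw [MonoidHom.mem_ker, MonoidHom.inv_apply, inv_eq_one]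
    exact hx'
  let lam : Z →* ℂˣ := MonoidHom.liftOfSurjective toZ htoZ ⟨(extLam ρ)⁻¹, hker⟩
  have hlam : ∀ x, lam (toZ x) = (extLam ρ x)⁻¹ := fun x =>
    MonoidHom.liftOfRightInverse_comp_apply toZ _ _ ⟨(extLam ρ)⁻¹, hker⟩ x
  have hiG : G₁.index = G.index := by
    rw [Subgroup.index_map_eq R hmk, Subgroup.index_comap_of_surjective _ hP]
    rw [QuotientGroup.ker_mk']
    exact hKN.trans hNR
  have hiN : Z.index = N.index := by
    rw [Subgroup.index_map_eq _ hmk, extN, Subgroup.index_comap_of_surjective _ hP]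
    rw [QuotientGroup.ker_mk']
    exact hKN
  have hrel : Z.relIndex G₁ = N.relIndex G := by
    have h1 := Subgroup.relIndex_mul_index hZG
    have h2 := Subgroup.relIndex_mul_index hNG
    rw [hiN, hiG, ← h2] at h1
    exact Nat.eq_of_mul_eq_mul_right (Nat.pos_of_ne_zero Subgroup.index_ne_zero_of_finite) h1
  have hs' : Group.IsSolvable ((extGroup ρ ⧸ K) ⧸ G₁) := by
    haveI := hsolv
    let u : extGroup ρ ⧸ R →* Γ ⧸ G := QuotientGroup.map R G (extProj ρ) le_rfl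
    have hu : Function.Injective u := by
      rw [← MonoidHom.ker_eq_bot_iff]
      refine eq_bot_iff.mpr fun z hz => ?_
      obtain ⟨y, rfl⟩ := QuotientGroup.mk_surjective z
      have hy : extProj ρ y ∈ G := (QuotientGroup.eq_one_iff _).mp hz
      exact Subgroup.mem_bot.mpr ((QuotientGroup.eq_one_iff _).mpr hy)
    haveI : Group.IsSolvable (extGroup ρ ⧸ R) := solvable_of_solvable_injective hu
    let w : extGroup ρ ⧸ R →* (extGroup ρ ⧸ K) ⧸ G₁ :=
      QuotientGroup.map R G₁ mk (Subgroup.le_comap_map _ _)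
    refine solvable_of_surjective (f := w) fun z => ?_
    obtain ⟨q, rfl⟩ := QuotientGroup.mk_surjective z
    obtain ⟨y, rfl⟩ := hmk q
    exact ⟨y, rfl⟩
  haveI := Fintype.ofFinite G₁
  haveI := Fintype.ofFinite R
  obtain ⟨ψ, hψ, hψi, hψz⟩ := triple_inv_over G₁ Z hZG hcen lam
    (by rw [hiG, hrel]; exact hcop) hs'
  let p₁ : R →* G₁ := mk.subgroupMap R
  have hΨ : IsIrrCharacter R (ψ ∘ p₁) := irr_comp p₁ (mk.subgroupMap_surjective R) hψ
  have hΨz : ∀ (x : extN ρ), ψ (p₁ ⟨x, hNR x.2⟩) = ((extLam ρ x)⁻¹ : ℂˣ) * ψ 1 := fun x => by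
    rw [← hlam x]
    exact hψz (toZ x)
  -- the tautological character
  let N₀ : Subgroup R := (extEmb ρ).range.subgroupOf R
  haveI : N₀.Normal := inferInstance
  haveI := Fintype.ofFinite N₀
  have hemb : ∀ n : N, extEmb ρ n ∈ R := fun n => hNG n.2
  let e : N ≃* N₀ := MulEquiv.ofBijective
    ({ toFun := fun n => ⟨⟨extEmb ρ n, hemb n⟩, ⟨n, rfl⟩⟩
       map_one' := Subtype.ext (Subtype.ext (map_one _))
       map_mul' := fun a b => Subtype.ext (Subtype.ext (map_mul _ _ _)) } : N →* N₀)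
    ⟨fun a b h => extEmb_injective ρ (congrArg (fun z : N₀ => ((z : R) : extGroup ρ)) h),
     fun z => by
      obtain ⟨n, hn⟩ := z.2
      exact ⟨n, Subtype.ext (Subtype.ext hn)⟩⟩
  let σ : Representation ℂ R (Fin d → ℂ) := (extRep ρ).comp R.subtype
  have hθ0 : IsIrrCharacter N₀ (ρ.character ∘ e.symm) := irr_mulEquiv e.symm ⟨d, ρ, hirr, rfl⟩
  have hσe : ∀ z : N₀, σ.character z = (ρ.character ∘ e.symm) z := fun z => by
    obtain ⟨n, rfl⟩ := e.surjective z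
    rw [Function.comp_apply, e.symm_apply_apply]
    rfl
  have hlam1 : ∀ n : N, extLam ρ ⟨extEmb ρ n, n.2⟩ = 1 := fun n => by
    refine extLam_eq ρ ?_
    rw [Units.val_one, one_smul]
    exact (extRep_emb ρ n).trans (congrArg ρ (Subtype.ext rfl))
  have hΨN : ∀ z : N₀, (ψ ∘ p₁) z = (ψ ∘ p₁) 1 := fun z => by
    obtain ⟨n, rfl⟩ := e.surjective z
    show ψ (p₁ ⟨extEmb ρ n, hemb n⟩) = ψ (p₁ 1)
    rw [hΨz ⟨extEmb ρ n, n.2⟩, hlam1, inv_one, Units.val_one, one_mul, map_one]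
  obtain ⟨hΦ, -⟩ := (gallagher hθ0 (isCharacter_of_rep σ) hσe).mapsTo ⟨hΨ, hΨN⟩
  let π : R →* G := (extProj ρ).subgroupComap G
  have hπ : Function.Surjective π := fun g => by
    obtain ⟨y, hy⟩ := hP g
    exact ⟨⟨y, show extProj ρ y ∈ G from hy ▸ g.2⟩, Subtype.ext hy⟩
  obtain ⟨χ, hχ, hcomp⟩ := irr_descend π hπ hΦ fun x hx => by
    have hxP : extProj ρ x.1 = 1 := congrArg Subtype.val hx
    have hxN : x.1 ∈ extN ρ := show extProj ρ x.1 ∈ N from hxP ▸ one_mem N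
    have h1 : extToN ρ ⟨x.1, hxN⟩ = 1 := Subtype.ext hxP
    have h2 : σ x = (extLam ρ ⟨x.1, hxN⟩ : ℂ) • LinearMap.id := by
      show extRep ρ x.1 = _
      rw [extLam_spec ρ ⟨x.1, hxN⟩, h1, map_one, Module.End.one_eq_id]
    show ψ (p₁ x) * σ.character x = ψ (p₁ 1) * σ.character 1
    rw [map_one, show p₁ x = p₁ ⟨x.1, hNR hxN⟩ from rfl, hΨz ⟨x.1, hxN⟩]
    simp only [Representation.character, h2, map_one, Module.End.one_eq_id, map_smul, smul_eq_mul]
    have hu : ((extLam ρ ⟨x.1, hxN⟩)⁻¹ : ℂˣ).val * (extLam ρ ⟨x.1, hxN⟩ : ℂˣ).val = 1 := by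
      rw [← Units.val_mul, inv_mul_cancel, Units.val_one]
    linear_combination (ψ 1 * LinearMap.trace ℂ (Fin d → ℂ) LinearMap.id) * hu
  refine ⟨χ, hχ, ?_, fun x g => ?_⟩
  · have hres : (fun n : N => χ ⟨n, hNG n.2⟩) = ψ 1 • ρ.character := funext fun n => by
      have h := congrFun hcomp ⟨extEmb ρ n, hemb n⟩
      show χ ⟨n, hNG n.2⟩ = ψ 1 * ρ.character n
      refine (h.trans ?_)
      show ψ (p₁ ⟨extEmb ρ n, hemb n⟩) * σ.character ⟨extEmb ρ n, hemb n⟩ = _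
      rw [hΨz ⟨extEmb ρ n, n.2⟩, hlam1, inv_one, Units.val_one, one_mul]
      rfl
    rw [hres, classInner_smul_left, irr_inner_self ⟨d, ρ, hirr, rfl⟩, mul_one]
    exact irr_one_ne_zero hψ
  · obtain ⟨y, rfl⟩ := hP x
    obtain ⟨r, rfl⟩ := hπ g
    have hyr : y * r.1 * y⁻¹ ∈ R := (inferInstance : R.Normal).conj_mem _ r.2 y
    have h1 := congrFun hcomp ⟨y * r.1 * y⁻¹, hyr⟩
    have h2 := congrFun hcomp r
    simp only [Function.comp_apply] at h1 h2
    rw [show (⟨extProj ρ y * π r * (extProj ρ y)⁻¹, hG.conj_mem _ (π r).2 _⟩ : G) =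
      π ⟨y * r.1 * y⁻¹, hyr⟩ from Subtype.ext (by
        show extProj ρ y * extProj ρ r.1 * (extProj ρ y)⁻¹ = extProj ρ (y * r.1 * y⁻¹)
        rw [map_mul, map_mul, map_inv]), h1, h2]
    show ψ _ * σ.character _ = ψ _ * σ.character _
    congr 1
    · rw [← hψi (mk y) (p₁ r)]
      exact congrArg ψ (Subtype.ext (by
        show mk (y * r.1 * y⁻¹) = mk y * mk r.1 * (mk y)⁻¹
        rw [map_mul, map_mul, map_inv]))
    · show (extRep ρ).character (y * r.1 * y⁻¹) = (extRep ρ).character r.1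
      exact Representation.char_conj _ _ _

end CfsgLib.Char
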