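import Cfsg.Agent.Char.Central

/-! Sums of an irreducible character over cosets of a normal subgroup. -/

set_option linter.unusedSectionVars false

namespace CfsgLib.Char

open Module Cfsg
open scoped ComplexConjugate

universe u

variable {G : Type u} [Group G] [Fintype G] {N : Subgroup G} [N.Normal] [Fintype N]

theorem irr_coset_sum {η : G → ℂ} (hη : IsIrrCharacter G η) (x : G) :
    ∑ n : N, η ((n : G) * x) = (∑ n : N, η n) / η 1 * η x := by
  classical
  have hf : IsClassFunction G (fun g => if g ∈ N then (1 : ℂ) else 0) := by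
    intro g k
    refine if_congr ⟨fun h => ?_, fun h => (inferInstance : N.Normal).conj_mem g h k⟩ rfl rfl
    have := (inferInstance : N.Normal).conj_mem _ h k⁻¹
    simpa [mul_assoc] using this
  have hs : ∀ F : G → ℂ, ∑ g : G, (if g ∈ N then (1 : ℂ) else 0) * F g = ∑ n : N, F n := by
    intro F
    simp only [ite_mul, one_mul, zero_mul, ← Finset.sum_filter]
    exact Finset.sum_subtype _ (fun g => by simp) _
  obtain ⟨m, ρ, hirr, rfl⟩ := hη
  haveI := hirr
  have h := congrArg (LinearMap.trace ℂ (Fin m → ℂ))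
    (congrArg (· * ρ x) (classFun_scalar ρ hf))
  simp only [Finset.sum_mul, smul_mul_assoc, ← map_mul, map_sum, map_smul, smul_eq_mul,
    ← Module.End.one_eq_id, one_mul] at h
  simp only [hs] at h
  rw [Representation.char_one]
  exact h

/-- either the sum over `N` vanishes or `N` lies in the kernel -/
theorem irr_sum_zero_or_kernel {η : G → ℂ} (hη : IsIrrCharacter G η) :
    ∑ n : N, η n = 0 ∨ ∀ n ∈ N, η n = η 1 := by
  by_cases h0 : ∑ n : N, η n = 0
  · exact Or.inl h0
  right
  intro x hx
  have h := irr_coset_sum (N := N) hη x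
  have hshift : ∑ n : N, η ((n : G) * x) = ∑ n : N, η n :=
    Fintype.sum_equiv (Equiv.mulRight (⟨x, hx⟩ : N)) _ _ fun n => rfl
  rw [hshift, div_mul_eq_mul_div, eq_div_iff (irr_one_ne_zero hη)] at h
  exact (mul_left_cancel₀ h0 h).symm

open Classical in
theorem irr_coset_sum_eq {η : G → ℂ} (hη : IsIrrCharacter G η) (x : G) :
    ∑ n : N, η ((n : G) * x) =
      if ∀ n ∈ N, η n = η 1 then (Nat.card N : ℂ) * η x else 0 := by
  classical
  rw [irr_coset_sum hη x]
  split_ifs with h
  · rw [Finset.sum_congr rfl fun (n : N) _ => h n n.2, Finset.sum_const, Finset.card_univ,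
      nsmul_eq_mul, mul_div_assoc, div_self (irr_one_ne_zero hη), mul_one, Nat.card_eq_fintype_card]
  · rw [(irr_sum_zero_or_kernel hη).resolve_right h, zero_div, zero_mul]

end CfsgLib.Char
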