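import Cfsg.Agent.Char.Brauer
import Cfsg.Agent.Char.GaloisTwist
import Cfsg.Agent.Char.NormalSum
import Cfsg.Agent.Char.Burnside
import Cfsg.Agent.Char.Classes
import Cfsg.Agent.Solv.Basic
import Mathlib.GroupTheory.Nilpotent
import Mathlib.GroupTheory.FiniteAbelian.Duality
import Mathlib.Tactic.Group

/-!
An irreducible product of a faithful irreducible character with one of its Galois conjugates:
the Fitting subgroup is central.
-/

set_option autoImplicit false
set_option linter.style.haveILetI false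
set_option linter.unusedSectionVars false

namespace CfsgLib.Char

open Cfsg Subgroup
open scoped ComplexConjugate commutatorElement

universe u

variable {G : Type u} [Group G] [Fintype G]

theorem indFun_pow' {m : ℕ} (hm : m.Coprime (Nat.card G)) (H : Subgroup G) (θ : H → ℂ) (g : G) :
    indFun H θ (g ^ m) = indFun H (fun h => θ (h ^ m)) g := by
  rw [indFun_apply, indFun_apply]
  congr 1
  refine Finset.sum_congr rfl fun x _ => ?_
  have hc : x⁻¹ * g ^ m * x = (x⁻¹ * g * x) ^ m := by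
    have := conj_pow (i := m) (a := x⁻¹) (b := g)
    simpa using this.symm
  rw [hc]
  by_cases h : x⁻¹ * g * x ∈ H
  · rw [extendByZero_mem' _ _ (H.pow_mem h m), extendByZero_mem' _ _ h]
    rfl
  · rw [extendByZero_not_mem _ _ h,
      extendByZero_not_mem _ _ (fun e => h ((conj_pow_mem_iff hm H _).mp e))]

/-- the central linear character of a faithful irreducible character -/
theorem exists_center_linear {χ : G → ℂ} (hχ : IsIrrCharacter G χ)
    (hf : ∀ g : G, χ g = χ 1 → g = 1) :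
    ∃ ω : Subgroup.center G →* ℂˣ, Function.Injective ω ∧
      (∀ (g : G) (z : Subgroup.center G), χ (g * z) = (ω z : ℂ) * χ g) ∧
      ∀ (g : G) (z : Subgroup.center G), ‖χ (g * z)‖ = ‖χ g‖ := by
  obtain ⟨n, ρ, hirr, rfl⟩ := hχ
  haveI := hirr
  have hd : ρ.character 1 ≠ 0 := irr_one_ne_zero ⟨n, ρ, hirr, rfl⟩
  have hmul : ∀ (g : G) (z : Subgroup.center G),
      ρ.character (g * z) = ρ.character z / ρ.character 1 * ρ.character g := by
    intro g z
    obtain ⟨c, hc⟩ := schur_scalar ρ (ρ z) fun x v => by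
      rw [← Module.End.mul_apply, ← map_mul, ← Subgroup.mem_center_iff.mp z.2 x, map_mul,
        Module.End.mul_apply]
    have key : ∀ x : G, ρ.character (x * z) = c * ρ.character x := fun x => by
      simp only [Representation.character, map_mul, hc]
      rw [mul_smul_comm, ← Module.End.one_eq_id, mul_one, map_smul, smul_eq_mul]
    have h1 := key 1
    rw [one_mul] at h1
    rw [key g, h1, mul_div_assoc, div_self hd, mul_one]
  let w : Subgroup.center G →* ℂ :=
    { toFun := fun z => ρ.character z / ρ.character 1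
      map_one' := by rw [OneMemClass.coe_one, div_self hd]
      map_mul' := fun a b => by rw [Subgroup.coe_mul, hmul, mul_div_assoc, mul_comm] }
  refine ⟨w.toHomUnits, ?_, hmul, fun g z => ?_⟩
  · rw [injective_iff_map_eq_one]
    intro z hz
    have h1 : ρ.character z / ρ.character 1 = 1 := congrArg Units.val hz
    exact Subtype.ext (hf _ ((div_eq_one_iff_eq hd).mp h1))
  · rw [hmul, norm_mul]
    have h1 : ‖((w.toHomUnits z : ℂˣ) : ℂ)‖ = 1 :=
      norm_root (orderOf_pos z).ne' (linear_root w.toHomUnits z)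
    rw [show ρ.character z / ρ.character 1 = ((w.toHomUnits z : ℂˣ) : ℂ) from rfl, h1, one_mul]

/-- an abelian normal subgroup is central when a product with a Galois conjugate is irreducible -/
theorem le_center_of_irr_mul_pow {χ : G → ℂ} (hχ : IsIrrCharacter G χ)
    (hf : ∀ g : G, χ g = χ 1 → g = 1) {k : ℕ} (hk : k.Coprime (Nat.card G))
    (hirr : IsIrrCharacter G (fun g => χ g * χ (g ^ k)))
    (A : Subgroup G) [A.Normal] (hab : ∀ a ∈ A, ∀ b ∈ A, a * b = b * a) :
    A ≤ Subgroup.center G := by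
  classical
  haveI := Fintype.ofFinite A
  haveI : IsMulCommutative A := ⟨⟨fun a b => Subtype.ext (hab a a.2 b b.2)⟩⟩
  obtain ⟨θ, hθ, hc⟩ := exists_constituent_res (N := A) hχ
  obtain ⟨μ, hμ⟩ := exists_hom_of_degree_one (isCharacter_of_isIrr hθ)
    (irr_degree_one_of_comm (fun a b => Subtype.ext (hab a a.2 b b.2)) hθ)
  set T : Subgroup G := inertia θ
  haveI := Fintype.ofFinite T
  by_cases hT : T = ⊤
  · intro a ha
    have hh := congrFun (res_homogeneous hχ hθ hc fun g => mem_inertia.mp (show g ∈ T from hT ▸ Subgroup.mem_top g))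
    obtain ⟨e, he⟩ := inner_char_irr (isCharacter_restrict A (isCharacter_of_isIrr hχ)) hθ
    rw [he] at hh
    have h1 := hh 1
    have h2 := hh ⟨a, ha⟩
    simp only [Pi.smul_apply, smul_eq_mul, OneMemClass.coe_one] at h1 h2
    rw [hμ] at h1 h2
    simp only [map_one, Units.val_one, mul_one] at h1
    have hn : ‖χ a‖ = (charDegree χ : ℝ) := by
      rw [h2, norm_mul, norm_root (orderOf_pos (⟨a, ha⟩ : A)).ne' (linear_root μ _), mul_one,
        ← h1, irr_one_eq hχ, Complex.norm_natCast]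
    obtain ⟨n, ρ, hρi, rfl⟩ := hχ
    have hfin : (Module.finrank ℂ (Fin n → ℂ)) = charDegree ρ.character := by
      have h1 := irr_one_eq (χ := ρ.character) ⟨n, ρ, hρi, rfl⟩
      rw [Representation.char_one] at h1
      exact_mod_cast h1
    obtain ⟨c, hc⟩ := rep_scalar_of_norm ρ a (by rw [hfin]; exact hn)
    refine central_of_scalar_faithful (fun x y hxy => ?_) hc
    have h1 : ρ (x * y⁻¹) = 1 := by rw [map_mul, hxy, ← map_mul, mul_inv_cancel, map_one]
    exact mul_inv_eq_one.mp (hf _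
      (congrArg (LinearMap.trace ℂ (Fin n → ℂ)) (h1.trans (map_one ρ).symm)))
  exfalso
  obtain ⟨η, hη, hind, -⟩ := clifford_exists hθ (T := T) (fun _ => mem_inertia)
    (le_inertia (classFun_of_irr hθ)) hχ hc
  have hkT : k.Coprime (Nat.card T) := hk.coprime_dvd_right T.card_subgroup_dvd_card
  set η' : T → ℂ := fun t => η (t ^ k) with hη'
  have hη'i : IsIrrCharacter T η' := irr_pow hkT hη
  set ψ : G → ℂ := fun g => χ (g ^ k) with hψ
  have hψi : IsIrrCharacter G ψ := irr_pow hk hχ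
  have hind' : indFun T η' = ψ := funext fun g => by
    rw [hψ, hη', ← indFun_pow' hk T η g, hind]
  have hres := isCharacter_restrict T (isCharacter_of_isIrr hψi)
  have hcon : classInner (fun t : T => ψ t) η' ≠ 0 := by
    rw [← classInner_conj, ← frobenius T η' (classFun_of_irr hψi), hind', irr_inner_self hψi]
    simp
  have hβ := isCharacter_sub_constituent hres hη'i hcon
  set β : T → ℂ := (fun t : T => ψ t) - η' with hβdef
  have hη1 : η' 1 = η 1 := by simp [hη']
  have hidx : 2 ≤ T.index := by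
    have h1 : T.index ≠ 1 := fun h => hT (Subgroup.index_eq_one.mp h)
    have h2 := T.index_ne_zero_of_finite
    omega
  have hd : χ 1 = (T.index : ℂ) * η 1 := by rw [← hind, indFun_one]
  have hβ1 : β 1 = ((T.index - 1 : ℕ) : ℂ) * η 1 := by
    simp only [hβdef, Pi.sub_apply, hη1, hψ, OneMemClass.coe_one, one_pow, hd]
    rw [Nat.cast_sub (by omega)]
    push_cast
    ring
  set π : G → ℂ := fun g => χ g * χ (g ^ k) with hπ
  have hsplit : π = indFun T (η * η') + indFun T (η * β) := by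
    have h1 : indFun T η * ψ = π := by rw [hind]; rfl
    rw [← h1, indFun_mul T η (classFun_of_irr hψi), ← indFun_add]
    congr 1
    funext t
    simp only [hβdef, Pi.add_apply, Pi.mul_apply, Pi.sub_apply]
    ring
  have hc1 := isCharacter_indFun T (isCharacter_mul (isCharacter_of_isIrr hη)
    (isCharacter_of_isIrr hη'i))
  have hc2 := isCharacter_indFun T (isCharacter_mul (isCharacter_of_isIrr hη) hβ)
  have hne : ∀ φ : T → ℂ, φ 1 ≠ 0 → indFun T φ ≠ 0 := fun φ h1 h0 => by
    have := congrFun h0 1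
    rw [indFun_one, Pi.zero_apply, mul_eq_zero] at this
    rcases this with h | h
    · exact T.index_ne_zero_of_finite (by exact_mod_cast h)
    · exact h1 h
  have hn1 := hne (η * η') (by
    simp [hη1, irr_one_ne_zero hη])
  have hn2 := hne (η * β) (by
    have : ((T.index - 1 : ℕ) : ℂ) ≠ 0 := Nat.cast_ne_zero.mpr (by omega)
    simp [hβ1, irr_one_ne_zero hη, this])
  obtain ⟨ξ₁, h₁⟩ := exists_constituent hc1 hn1
  obtain ⟨ξ₂, h₂⟩ := exists_constituent hc2 hn2
  have key : ∀ (φ φ' : G → ℂ) (ξ : IrrCharacter G), IsCharacter G φ → IsCharacter G φ' →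
      π = φ + φ' → classInner φ (ξ : G → ℂ) ≠ 0 → (ξ : G → ℂ) = π := by
    intro φ φ' ξ h h' he hne'
    by_contra hxi
    refine hne' (inner_zero_of_summand h h' (isCharacter_of_isIrr ξ.2) ?_)
    rw [← he, irr_inner_ne hirr ξ.2 (Ne.symm hxi)]
  have e1 := key _ _ ξ₁ hc1 hc2 hsplit h₁
  have e2 := key _ _ ξ₂ hc2 hc1 (hsplit.trans (add_comm _ _)) h₂
  obtain ⟨a, ha⟩ := inner_char_irr hc1 ξ₁.2
  obtain ⟨b, hb⟩ := inner_char_irr hc2 ξ₂.2
  have htot : ((a + b : ℕ) : ℂ) = 1 := by
    rw [Nat.cast_add, ← ha, ← hb, e1, e2, ← classInner_add_left, ← hsplit, irr_inner_self hirr]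
  have hab1 : a + b = 1 := by exact_mod_cast htot
  have ha0 : a ≠ 0 := fun h => h₁ (by rw [ha, h, Nat.cast_zero])
  have hb0 : b ≠ 0 := fun h => h₂ (by rw [hb, h, Nat.cast_zero])
  omega

theorem commutatorElement_mul_right_central {a b c : G} (h : ⁅a, c⁆ ∈ Subgroup.center G) :
    ⁅a, b * c⁆ = ⁅a, b⁆ * ⁅a, c⁆ := by
  have h' := Subgroup.mem_center_iff.mp h b
  calc ⁅a, b * c⁆ = ⁅a, b⁆ * (b * ⁅a, c⁆ * b⁻¹) := by
        simp only [commutatorElement_def]; group
    _ = ⁅a, b⁆ * ⁅a, c⁆ := by rw [h', mul_inv_cancel_right]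

theorem commutatorElement_mul_left_central {a b c : G} (h : ⁅b, c⁆ ∈ Subgroup.center G) :
    ⁅a * b, c⁆ = ⁅a, c⁆ * ⁅b, c⁆ := by
  have h' := Subgroup.mem_center_iff.mp h a
  calc ⁅a * b, c⁆ = (a * ⁅b, c⁆ * a⁻¹) * ⁅a, c⁆ := by
        simp only [commutatorElement_def]; group
    _ = ⁅b, c⁆ * ⁅a, c⁆ := by rw [h', mul_inv_cancel_right]
    _ = ⁅a, c⁆ * ⁅b, c⁆ := (Subgroup.mem_center_iff.mp h _).symm

/-- on a coset of a fully ramified class two subgroup the absolute value takes one non-zero value -/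
theorem norm_eq_on_coset {χ : G → ℂ} (hχ : IsIrrCharacter G χ)
    (hf : ∀ g : G, χ g = χ 1 → g = 1) (A : Subgroup G) [hA : A.Normal]
    (hZA : Subgroup.center G ≤ A) (hcomm : ∀ a ∈ A, ∀ b ∈ A, ⁅a, b⁆ ∈ Subgroup.center G)
    (hZc : ∀ a ∈ A, (∀ b ∈ A, a * b = b * a) → a ∈ Subgroup.center G)
    {g a : G} (ha : a ∈ A) (hg : χ g ≠ 0) (hga : χ (g * a) ≠ 0) : ‖χ (g * a)‖ = ‖χ g‖ := by
  classical
  obtain ⟨ω, hωi, hω, hωn⟩ := exists_center_linear hχ hf
  have hcl := classFun_of_irr hχ
  -- conjugates differing by a central element coincide on the support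
  have hfix : ∀ h b : G, χ h ≠ 0 → h⁻¹ * (b * h * b⁻¹) ∈ Subgroup.center G → b * h = h * b := by
    intro h b hh hz
    have h1 := hω h ⟨_, hz⟩
    rw [show h * (h⁻¹ * (b * h * b⁻¹)) = b * h * b⁻¹ by group, hcl h b] at h1
    have h2 : ω ⟨_, hz⟩ = 1 := Units.ext (mul_right_cancel₀ hh (by rw [← h1]; simp))
    have h3 := congrArg Subtype.val (hωi (h2.trans (map_one ω).symm))
    exact mul_inv_eq_iff_eq_mul.mp (inv_mul_eq_one.mp h3).symm
  set Z' : Subgroup A := (Subgroup.center G).subgroupOf A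
  haveI : Z'.Normal := (inferInstance : (Subgroup.center G).Normal).subgroupOf A
  have hmk : ∀ x y : A, ⁅(x : G), (y : G)⁆ ∈ Subgroup.center G := fun x y => hcomm x x.2 y y.2
  let f : A → A := fun x => ⟨g⁻¹ * x * g * (x : G)⁻¹,
    A.mul_mem (by simpa using hA.conj_mem x x.2 g⁻¹) (A.inv_mem x.2)⟩
  let γ : A →* A ⧸ Z' := MonoidHom.mk' (fun x => QuotientGroup.mk (f x)) (fun x y => by
    rw [← QuotientGroup.mk_mul, QuotientGroup.eq, Subgroup.mem_subgroupOf]
    have hy := (f y).2
    simp only [f, Subgroup.coe_mul, Subgroup.coe_inv] at hy ⊢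
    have h1 := hcomm x x.2 _ hy
    have e : (g⁻¹ * ((x : G) * y) * g * ((x : G) * y)⁻¹)⁻¹ *
        (g⁻¹ * x * g * (x : G)⁻¹ * (g⁻¹ * y * g * (y : G)⁻¹)) =
        ⁅(x : G), (g⁻¹ * y * g * (y : G)⁻¹)⁻¹⁆ := by
      simp only [commutatorElement_def]; group
    rw [e]
    exact hcomm x x.2 _ (A.inv_mem hy))
  set B : Subgroup A := γ.ker
  have hB : ∀ x : A, x ∈ B → (x : G) * g = g * x ∧ (x : G) * a = a * x := by
    intro x hx
    have h0 : f x ∈ Z' := (QuotientGroup.eq_one_iff _).mp hx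
    rw [Subgroup.mem_subgroupOf] at h0
    have h1 : (x : G) * g = g * x := hfix g x hg (by
      simp only [f] at h0
      rwa [show g⁻¹ * ((x : G) * g * (x : G)⁻¹) = g⁻¹ * x * g * (x : G)⁻¹ by group])
    refine ⟨h1, ?_⟩
    have h2 := hfix (g * a) x hga (by
      have e : (g * a)⁻¹ * ((x : G) * (g * a) * (x : G)⁻¹) = ⁅a⁻¹, (x : G)⁆ := by
        rw [← mul_assoc (x : G) g a, h1]
        simp only [commutatorElement_def]; group
      rw [e]
      exact hcomm _ (A.inv_mem ha) x x.2)
    rw [← mul_assoc, h1, mul_assoc, mul_assoc] at h2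
    exact mul_left_cancel h2
  -- the centralizer of `B`
  set C : Subgroup A := Subgroup.centralizer (B : Set A)
  have haC : (⟨a, ha⟩ : A) ∈ C := by
    rw [Subgroup.mem_centralizer_iff]
    exact fun x hx => Subtype.ext (hB x hx).2
  set D : Subgroup A := γ.range.comap (QuotientGroup.mk' Z')
  have hDC : D ≤ C := by
    rintro d ⟨x, hx⟩
    rw [Subgroup.mem_centralizer_iff]
    intro b hb
    obtain ⟨hbg, -⟩ := hB b hb
    have hx' : (f x)⁻¹ * d ∈ Z' := QuotientGroup.eq.mp hx
    rw [Subgroup.mem_subgroupOf] at hx'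
    have hz := Subgroup.mem_center_iff.mp hx' (b : G)
    simp only [f, Subgroup.coe_mul, Subgroup.coe_inv] at hz
    have hc := Subgroup.mem_center_iff.mp (hcomm x x.2 b b.2)
    have hfb : (b : G) * (g⁻¹ * x * g * (x : G)⁻¹) = g⁻¹ * x * g * (x : G)⁻¹ * b := by
      have hxb : (x : G) * b = ⁅(x : G), (b : G)⁆ * (b * x) := by
        simp only [commutatorElement_def]; group
      have hgb : g * (b : G) * g⁻¹ = b := by rw [← hbg, mul_inv_cancel_right]
      have hgb' : g⁻¹ * (b : G) * g = b := by rw [mul_assoc, hbg, inv_mul_cancel_left]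
      calc (b : G) * (g⁻¹ * x * g * (x : G)⁻¹)
          = (g⁻¹ * (b : G) * g) * (g⁻¹ * x * g * (x : G)⁻¹) := by rw [hgb']
        _ = g⁻¹ * ((b : G) * x) * g * (x : G)⁻¹ := by group
        _ = g⁻¹ * (⁅(x : G), (b : G)⁆⁻¹ * ((x : G) * b)) * g * (x : G)⁻¹ := by
            rw [hxb, inv_mul_cancel_left]
        _ = g⁻¹ * x * (b : G) * g * (x : G)⁻¹ * ⁅(x : G), (b : G)⁆⁻¹ := by
            have hc' := Subgroup.mem_center_iff.mp
              (Subgroup.inv_mem _ (hcomm x x.2 b b.2))
            rw [← hc' ((x : G) * b)]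
            simp only [mul_assoc]
            rw [← hc' (g * (x : G)⁻¹)]
            simp only [mul_assoc]
        _ = g⁻¹ * x * g * ((b : G) * (x : G)⁻¹ * ⁅(x : G), (b : G)⁆⁻¹) := by
            simp only [mul_assoc]
            rw [← mul_assoc (b : G) g, hbg, mul_assoc]
        _ = g⁻¹ * x * g * (x : G)⁻¹ * b := by
            have hcc := Subgroup.mem_center_iff.mp (hcomm x x.2 b b.2) (b : G)
            have h1 : (b : G) * (x : G)⁻¹ = (x : G)⁻¹ * ((b : G) * ⁅(x : G), (b : G)⁆) := by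
              rw [hcc]; simp only [commutatorElement_def]; group
            rw [h1]
            simp only [mul_assoc, mul_inv_cancel, mul_one]
    refine Subtype.ext ?_
    show (b : G) * d = d * b
    have hd : (d : G) = g⁻¹ * x * g * (x : G)⁻¹ * ((g⁻¹ * x * g * (x : G)⁻¹)⁻¹ * d) := by group
    rw [hd]
    generalize (g⁻¹ * (x : G) * g * (x : G)⁻¹)⁻¹ * (d : G) = z at hz ⊢
    rw [← mul_assoc, hfb, mul_assoc, hz, ← mul_assoc]
  -- counting
  haveI : IsMulCommutative (A ⧸ B) := by
    refine ⟨⟨fun p q => (QuotientGroup.kerLift_injective γ) ?_⟩⟩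
    rw [map_mul, map_mul]
    induction p using QuotientGroup.induction_on with
    | _ x =>
    induction q using QuotientGroup.induction_on with
    | _ y =>
    show γ x * γ y = γ y * γ x
    rw [← map_mul, ← map_mul]
    show QuotientGroup.mk (f (x * y)) = QuotientGroup.mk (f (y * x))
    have h1 : γ (x * y) = γ x * γ y := map_mul γ x y
    have h2 : γ (y * x) = γ y * γ x := map_mul γ y x
    show γ (x * y) = γ (y * x)
    rw [h1, h2]
    show QuotientGroup.mk (f x) * QuotientGroup.mk (f y) = QuotientGroup.mk (f y) * QuotientGroup.mk (f x)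
    rw [← QuotientGroup.mk_mul, ← QuotientGroup.mk_mul, QuotientGroup.eq, Subgroup.mem_subgroupOf]
    have e : (((f x * f y)⁻¹ * (f y * f x) : A) : G) = ⁅((f y : A) : G)⁻¹, ((f x : A) : G)⁻¹⁆ := by
      simp only [commutatorElement_def, Subgroup.coe_mul, Subgroup.coe_inv]; group
    rw [e]
    exact hcomm _ (A.inv_mem (f y).2) _ (A.inv_mem (f x).2)
  let P : C → A →* ℂˣ := fun c => MonoidHom.mk' (fun x => ω ⟨_, hmk (c : A) x⟩) (fun x y => by
    rw [← map_mul]
    exact congrArg ω (Subtype.ext (commutatorElement_mul_right_central (hmk (c : A) y))))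
  have hPB : ∀ c : C, B ≤ (P c).ker := by
    intro c x hx
    rw [MonoidHom.mem_ker]
    show ω ⟨_, hmk (c : A) x⟩ = 1
    rw [← map_one ω]
    refine congrArg ω (Subtype.ext ?_)
    have := congrArg Subtype.val (Subgroup.mem_centralizer_iff.mp c.2 x hx)
    rw [Subgroup.coe_one, commutatorElement_eq_one_iff_mul_comm]
    exact this.symm
  let κ : C →* (A ⧸ B →* ℂˣ) := MonoidHom.mk' (fun c => QuotientGroup.lift B (P c) (hPB c))
    (fun c c' => by
      refine QuotientGroup.monoidHom_ext _ (MonoidHom.ext fun x => ?_)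
      show ω ⟨_, hmk ((c * c' : C) : A) x⟩ = ω ⟨_, hmk (c : A) x⟩ * ω ⟨_, hmk (c' : A) x⟩
      rw [← map_mul]
      exact congrArg ω (Subtype.ext (commutatorElement_mul_left_central (hmk (c' : A) x))))
  have hker : κ.ker.map C.subtype ≤ Z' := by
    rintro _ ⟨c, hc, rfl⟩
    rw [Subgroup.mem_subgroupOf]
    refine hZc _ (c : A).2 fun b hb => ?_
    have h1 := DFunLike.congr_fun (MonoidHom.mem_ker.mp hc) (QuotientGroup.mk (⟨b, hb⟩ : A))
    have h2 : ω ⟨_, hmk (c : A) ⟨b, hb⟩⟩ = ω 1 := h1.trans (map_one ω).symm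
    exact commutatorElement_eq_one_iff_mul_comm.mp (congrArg Subtype.val (hωi h2))
  have hcardC : Nat.card C ≤ Nat.card D := by
    haveI : Finite (A ⧸ B) := inferInstance
    open scoped IsMulCommutative in
    have h1 : κ.ker.index ≤ Nat.card (A ⧸ B) := by
      rw [Subgroup.index_ker, ← CommGroup.card_monoidHom_of_hasEnoughRootsOfUnity (A ⧸ B) ℂ]
      exact Nat.card_le_card_of_injective _ Subtype.val_injective
    have h2 : Nat.card κ.ker ≤ Nat.card Z' := by
      rw [← Subgroup.card_map_of_injective (K := κ.ker) C.subtype_injective]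
      exact Nat.le_of_dvd Nat.card_pos (Subgroup.card_dvd_of_le hker)
    have h3 : Nat.card (A ⧸ B) = Nat.card γ.range := by
      rw [← Subgroup.index_eq_card, Subgroup.index_ker]
    have h4 : Nat.card D = Nat.card Z' * Nat.card γ.range := by
      have hD : D.index = γ.range.index :=
        Subgroup.index_comap_of_surjective _ (QuotientGroup.mk'_surjective Z')
      have e1 := D.card_mul_index
      rw [hD, ← Z'.card_mul_index, Subgroup.index_eq_card Z', ← γ.range.card_mul_index,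
        ← mul_assoc] at e1
      exact Nat.eq_of_mul_eq_mul_right (Nat.pos_of_ne_zero γ.range.index_ne_zero_of_finite) e1
    rw [← κ.ker.card_mul_index, h4, ← h3]
    exact Nat.mul_le_mul h2 h1
  have haD : (⟨a, ha⟩ : A) ∈ D := (Subgroup.eq_of_le_of_card_ge hDC hcardC).symm ▸ haC
  obtain ⟨x, hx⟩ := haD
  have hz : (f x)⁻¹ * ⟨a, ha⟩ ∈ Z' := QuotientGroup.eq.mp hx
  rw [Subgroup.mem_subgroupOf] at hz
  have e : g * a = ((x : G) * g * (x : G)⁻¹) * ((f x)⁻¹ * ⟨a, ha⟩ : A) := by
    simp only [f, Subgroup.coe_mul, Subgroup.coe_inv]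
    group
  have h1 := hωn ((x : G) * g * (x : G)⁻¹) ⟨_, hz⟩
  rw [← e, hcl g x] at h1
  exact h1

/-- the Fitting subgroup is central -/
theorem fitting_eq_center_of_irr_mul_pow {χ : G → ℂ} (hχ : IsIrrCharacter G χ)
    (hf : ∀ g : G, χ g = χ 1 → g = 1) {k : ℕ} (hk : k.Coprime (Nat.card G))
    (hirr : IsIrrCharacter G (fun g => χ g * χ (g ^ k))) :
    fittingSubgroup G = Subgroup.center G := by
  classical
  refine le_antisymm ?_ CfsgLib.Solv.center_le_fittingSubgroup
  by_contra hle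
  set F := fittingSubgroup G
  haveI : F.Normal := Subgroup.sSup_normal _ fun _ h => h.1
  haveI hFn : Group.IsNilpotent F := CfsgLib.Solv.fittingSubgroup_isNilpotent
  set q := QuotientGroup.mk' (Subgroup.center G)
  set Fb := F.map q
  haveI : Fb.Normal := Subgroup.Normal.map inferInstance q (QuotientGroup.mk'_surjective _)
  haveI : Group.IsNilpotent Fb := Group.nilpotent_of_surjective (q.subgroupMap F) (q.subgroupMap_surjective F)
  haveI : Nontrivial Fb := by
    rw [Subgroup.nontrivial_iff_ne_bot]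
    intro h
    refine hle fun x hx => (QuotientGroup.eq_one_iff x).mp ?_
    have : q x ∈ Fb := Subgroup.mem_map_of_mem q hx
    rwa [h, Subgroup.mem_bot] at this
  set A : Subgroup G := (Fb ⊓ Subgroup.centralizer (Fb : Set (G ⧸ Subgroup.center G))).comap q
  haveI : A.Normal := Subgroup.Normal.comap inferInstance q
  have hZA : Subgroup.center G ≤ A := fun z hz => by
    show q z ∈ Fb ⊓ _
    rw [show q z = 1 from (QuotientGroup.eq_one_iff z).mpr hz]
    exact one_mem _
  have hcomm : ∀ a ∈ A, ∀ b ∈ A, ⁅a, b⁆ ∈ Subgroup.center G := by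
    intro a ha b hb
    refine (QuotientGroup.eq_one_iff _).mp ?_
    show q ⁅a, b⁆ = 1
    rw [map_commutatorElement, commutatorElement_eq_one_iff_mul_comm]
    exact Subgroup.mem_centralizer_iff.mp hb.2 _ ha.1
  have hAne : ¬ A ≤ Subgroup.center G := by
    intro h
    rcases Subgroup.bot_or_exists_ne_one (Subgroup.center Fb) with hb | ⟨⟨x, hx⟩, hxc, hx1⟩
    · exact Group.IsNilpotent.center_ne_bot Fb hb
    obtain ⟨y, rfl⟩ := QuotientGroup.mk'_surjective (Subgroup.center G) x
    refine hx1 (Subtype.ext ((QuotientGroup.eq_one_iff y).mpr (h ⟨hx, ?_⟩)))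
    refine Subgroup.mem_centralizer_iff.mpr fun w hw => ?_
    exact congrArg Subtype.val (Subgroup.mem_center_iff.mp hxc ⟨w, hw⟩)
  have hZc : ∀ a ∈ A, (∀ b ∈ A, a * b = b * a) → a ∈ Subgroup.center G := by
    intro a ha hab
    refine le_center_of_irr_mul_pow hχ hf hk hirr (A ⊓ Subgroup.centralizer (A : Set G))
      (fun x hx y hy => ?_) ⟨ha, Subgroup.mem_centralizer_iff.mpr fun b hb => (hab b hb).symm⟩
    exact Subgroup.mem_centralizer_iff.mp hy.2 x hx.1
  obtain ⟨a₀, ha₀, hna₀⟩ := SetLike.not_le_iff_exists.mp hAne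
  have hnorm := fun (g a : G) => norm_eq_on_coset hχ hf A hZA hcomm hZc (g := g) (a := a)
  have hchar := isCharacter_of_isIrr hχ
  obtain ⟨ω, hωi, hω, -⟩ := exists_center_linear hχ hf
  -- `χ` vanishes at `a₀`
  have hvan : χ a₀ = 0 := by
    by_contra hne
    refine hna₀ (hZc a₀ ha₀ fun b hb => ?_)
    have hz : a₀⁻¹ * (b * a₀ * b⁻¹) ∈ Subgroup.center G := by
      have := hcomm _ (inv_mem ha₀) b hb
      rwa [show ⁅a₀⁻¹, b⁆ = a₀⁻¹ * (b * a₀ * b⁻¹) by simp only [commutatorElement_def]; group]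
        at this
    have h1 := hω a₀ ⟨_, hz⟩
    rw [show a₀ * (a₀⁻¹ * (b * a₀ * b⁻¹)) = b * a₀ * b⁻¹ by group, classFun_of_irr hχ a₀ b] at h1
    have h2 : ω ⟨_, hz⟩ = 1 := Units.ext (mul_right_cancel₀ hne (by rw [← h1]; simp))
    have h3 := congrArg Subtype.val (hωi (h2.trans (map_one ω).symm))
    exact (mul_inv_eq_iff_eq_mul.mp (inv_mul_eq_one.mp h3).symm).symm
  set ψ : G → ℂ := fun g => χ (g ^ k)
  have hψi : IsIrrCharacter G ψ := irr_pow hk hχ
  obtain ⟨φ, hφ⟩ := exists_algHom_pow G hk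
  have hzero : ∀ g : G, χ g = 0 → ψ g = 0 := by
    intro g hg
    show χ (g ^ k) = 0
    rw [← hφ χ hchar g, ← map_zero φ]
    exact congrArg φ (Subtype.ext hg)
  haveI := Fintype.ofFinite A
  set F₁ : G → ℂ := χ * fun g => conj (χ g)
  set F₂ : G → ℂ := ψ * fun g => conj (ψ g)
  have hF₁ : IsCharacter G F₁ := isCharacter_mul hchar (isCharacter_conj hchar)
  have hF₂ : IsCharacter G F₂ :=
    isCharacter_mul (isCharacter_of_isIrr hψi) (isCharacter_conj (isCharacter_of_isIrr hψi))
  have hF₂r : ∀ g, conj (F₂ g) = F₂ g := fun g => by simp [F₂, mul_comm]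
  choose n hn using fun ξ : IrrCharacter G => inner_char_irr hF₁ ξ.2
  choose m hm using fun ξ : IrrCharacter G => inner_char_irr hF₂ ξ.2
  let one' : IrrCharacter G := ⟨fun _ => 1, isIrr_one⟩
  have hn1 : n one' = 1 := by
    have h := hn one'
    have h1 : classInner F₁ (fun _ => (1 : ℂ)) = 1 := by
      refine Eq.trans ?_ (irr_inner_self hχ); rw [classInner_def, classInner_def]
      congr 1
      exact Finset.sum_congr rfl fun g _ => by simp [F₁]
    rw [h1] at h
    exact_mod_cast h.symm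
  have hm1 : m one' = 1 := by
    have h := hm one'
    have h1 : classInner F₂ (fun _ => (1 : ℂ)) = 1 := by
      refine Eq.trans ?_ (irr_inner_self hψi); rw [classInner_def, classInner_def]
      congr 1
      exact Finset.sum_congr rfl fun g _ => by simp [F₂]
    rw [h1] at h
    exact_mod_cast h.symm
  have hexp : ∀ x : G, F₁ x = ∑ ξ : IrrCharacter G, (n ξ : ℂ) * (ξ : G → ℂ) x := by
    intro x
    have h := congrFun (classFun_eq_sum (classFun_of_char hF₁)) x
    simp only [Finset.sum_apply, Pi.smul_apply, smul_eq_mul] at h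
    rw [h]
    exact Finset.sum_congr rfl fun ξ _ => by rw [hn]
  have hin : ∀ ξ : IrrCharacter G, ∑ g : G, (ξ : G → ℂ) g * F₂ g = (Nat.card G : ℂ) * m ξ := by
    intro ξ
    have h := hm ξ
    rw [classInner_def, inv_mul_eq_iff_eq_mul₀ (natCard_ne_zero G)] at h
    have h' := congrArg conj h
    simp only [map_sum, map_mul, map_natCast, Complex.conj_conj, hF₂r] at h'
    rw [← h']
    exact Finset.sum_congr rfl fun g _ => mul_comm _ _
  set c : IrrCharacter G → ℕ := fun ξ =>
    if ∀ a ∈ A, (ξ : G → ℂ) a = (ξ : G → ℂ) 1 then n ξ * m ξ else 0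
  have hsum : ∑ g : G, (∑ a : A, F₁ ((a : G) * g)) * F₂ g =
      ((Nat.card A * Nat.card G * ∑ ξ : IrrCharacter G, c ξ : ℕ) : ℂ) := by
    rw [Finset.sum_congr rfl (g := fun g => ∑ ξ : IrrCharacter G,
      (n ξ : ℂ) * ((∑ a : A, (ξ : G → ℂ) ((a : G) * g)) * F₂ g)) fun g _ => ?_]
    · rw [Finset.sum_comm, Nat.cast_mul, Nat.cast_sum, Finset.mul_sum]
      refine Finset.sum_congr rfl fun ξ _ => ?_
      simp only [irr_coset_sum_eq ξ.2, c]
      split_ifs with h
      · rw [← Finset.mul_sum]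
        simp only [mul_assoc]
        rw [← Finset.mul_sum, hin]
        push_cast
        ring
      · simp
    · simp only [hexp]
      rw [Finset.sum_comm, Finset.sum_mul]
      refine Finset.sum_congr rfl fun ξ _ => ?_
      rw [← Finset.mul_sum, mul_assoc]
  have hc1 : 1 ≤ ∑ ξ : IrrCharacter G, c ξ := by
    refine le_trans ?_ (Finset.single_le_sum (fun ξ _ => Nat.zero_le _) (Finset.mem_univ one'))
    simp only [c]
    rw [if_pos (fun a _ => rfl), hn1, hm1]
  set f₁ : G → ℝ := fun g => Complex.normSq (χ g)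
  set f₂ : G → ℝ := fun g => Complex.normSq (ψ g)
  have hf₁ : ∀ g, F₁ g = (f₁ g : ℂ) := fun g => Complex.mul_conj (χ g)
  have hf₂ : ∀ g, F₂ g = (f₂ g : ℂ) := fun g => Complex.mul_conj (ψ g)
  have htot : ∑ g : G, f₁ g * f₂ g = (Nat.card G : ℝ) := by
    have h := irr_inner_self hirr
    rw [classInner_def, inv_mul_eq_iff_eq_mul₀ (natCard_ne_zero G), mul_one] at h
    have h' : ((∑ g : G, f₁ g * f₂ g : ℝ) : ℂ) = ((Nat.card G : ℝ) : ℂ) := by
      push_cast
      rw [← h]
      refine Finset.sum_congr rfl fun g _ => ?_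
      rw [← hf₁, ← hf₂, map_mul]
      simp only [F₁, F₂, ψ, Pi.mul_apply]
      ring
    exact_mod_cast h'
  have hsum' : ∑ g : G, (∑ a : A, f₁ ((a : G) * g)) * f₂ g =
      ((Nat.card A * Nat.card G * ∑ ξ : IrrCharacter G, c ξ : ℕ) : ℝ) := by
    simp only [hf₁, hf₂] at hsum
    exact_mod_cast hsum
  have hle' : ∀ g : G, (∑ a : A, f₁ ((a : G) * g)) * f₂ g ≤ (Nat.card A : ℝ) * f₁ g * f₂ g := by
    intro g
    by_cases hg : χ g = 0
    · simp [f₁, f₂, hg, hzero g hg]
    refine mul_le_mul_of_nonneg_right ?_ (Complex.normSq_nonneg _)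
    refine (Finset.sum_le_sum (g := fun _ => f₁ g) fun a _ => ?_).trans (le_of_eq ?_)
    · have hswap : χ ((a : G) * g) = χ (g * (a : G)) := by
        rw [← classFun_of_irr hχ (g * (a : G)) a]; congr 1; group
      simp only [f₁, hswap]
      by_cases h0 : χ (g * (a : G)) = 0
      · simp [h0, Complex.normSq_nonneg]
      · rw [Complex.normSq_eq_norm_sq, Complex.normSq_eq_norm_sq, hnorm g a a.2 hg h0]
    · rw [Finset.sum_const, Finset.card_univ, nsmul_eq_mul, Nat.card_eq_fintype_card]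
  have hone : ψ 1 = χ 1 := by simp [ψ]
  have hf1pos : 0 < f₁ 1 := Complex.normSq_pos.mpr (irr_one_ne_zero hχ)
  have hlt : (∑ a : A, f₁ ((a : G) * 1)) * f₂ 1 < (Nat.card A : ℝ) * f₁ 1 * f₂ 1 := by
    refine mul_lt_mul_of_pos_right ?_ (by simp only [f₂, hone]; exact hf1pos)
    have he : (Nat.card A : ℝ) * f₁ 1 = ∑ _a : A, f₁ 1 := by
      rw [Finset.sum_const, Finset.card_univ, nsmul_eq_mul, Nat.card_eq_fintype_card]
    rw [he]
    refine Finset.sum_lt_sum (fun a _ => ?_) ⟨⟨a₀, ha₀⟩, Finset.mem_univ _, ?_⟩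
    · simp only [mul_one, f₁, Complex.normSq_eq_norm_sq]
      rw [irr_one_eq hχ, Complex.norm_natCast]
      exact pow_le_pow_left₀ (norm_nonneg _) (char_norm_le hchar _) 2
    · simpa [f₁, hvan] using hf1pos
  have hfin := Finset.sum_lt_sum (fun g (_ : g ∈ Finset.univ) => hle' g)
    ⟨1, Finset.mem_univ _, hlt⟩
  rw [hsum', Finset.sum_congr rfl fun g _ => mul_assoc (Nat.card A : ℝ) (f₁ g) (f₂ g),
    ← Finset.mul_sum, htot] at hfin
  have : (Nat.card A * Nat.card G * ∑ ξ : IrrCharacter G, c ξ : ℕ) < Nat.card A * Nat.card G := by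
    exact_mod_cast hfin
  exact absurd this (Nat.le_mul_of_pos_right _ hc1).not_gt

end CfsgLib.Char
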