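import Cfsg.Agent.Char.Clifford
import Cfsg.Agent.Char.NormalSum
import Cfsg.Agent.Char.FrobeniusSchur
import Cfsg.Agent.Char.Classes
import Mathlib.GroupTheory.FiniteAbelian.Duality
import Mathlib.GroupTheory.Abelianization.Defs
import Mathlib.RingTheory.RootsOfUnity.AlgebraicallyClosed
import Mathlib.Analysis.Complex.Polynomial.Basic

/-!
Twists of an extension by linear characters, induced from the inertia group; Frobenius–Schur
indicator of an irreducible induced character.
-/

set_option autoImplicit false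
set_option linter.style.haveILetI false
set_option linter.unusedSectionVars false

namespace CfsgLib.Char

open Cfsg Module
open scoped ComplexConjugate Matrix

universe u

variable {G : Type u} [Group G] [Fintype G]

/-- homomorphisms to `ℂˣ` trivial on a subgroup are at most as many as its index -/
theorem card_hom_trivial_le (I : Subgroup G) :
    Nat.card {L : G →* ℂˣ // ∀ i ∈ I, L i = 1} ≤ I.index := by
  haveI : Finite (Abelianization G) :=
    Finite.of_surjective (Abelianization.of : G → Abelianization G) QuotientGroup.mk_surjective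
  set J : Subgroup (Abelianization G) := I.map Abelianization.of
  have hdvd : J.index ∣ I.index := Subgroup.index_map_dvd _ QuotientGroup.mk_surjective
  refine le_trans ?_ (Nat.le_of_dvd (Nat.pos_of_ne_zero I.index_ne_zero_of_finite) hdvd)
  rw [Subgroup.index_eq_card, ← CommGroup.card_monoidHom_of_hasEnoughRootsOfUnity (Abelianization G ⧸ J) ℂ]
  have hker : ∀ L : {L : G →* ℂˣ // ∀ i ∈ I, L i = 1}, J ≤ (Abelianization.lift L.1).ker := by
    rintro L _ ⟨i, hi, rfl⟩
    rw [MonoidHom.mem_ker, Abelianization.lift_apply_of]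
    exact L.2 i hi
  refine Nat.card_le_card_of_injective
    (fun L => QuotientGroup.lift J (Abelianization.lift L.1) (hker L)) fun L M h => Subtype.ext ?_
  refine MonoidHom.ext fun g => ?_
  simpa using DFunLike.congr_fun h (QuotientGroup.mk (Abelianization.of g))

variable {N : Subgroup G} [hN : N.Normal]

/-- an extension of an irreducible character is moved by every non-trivial linear twist -/
theorem twist_ne_of_ne {T : Subgroup G} [Fintype T] [Fintype N] (hNT : N ≤ T) {φ : N → ℂ}
    (hφ : IsIrrCharacter N φ) {ψ : T → ℂ} (hψ : IsIrrCharacter T ψ)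
    (hres : ∀ n : N, ψ ⟨n, hNT n.2⟩ = φ n) (ν : T →* ℂˣ)
    (hν : ∀ n : N, ν ⟨n, hNT n.2⟩ = 1) (heq : ∀ t, ψ t * (ν t : ℂ) = ψ t) : ν = 1 := by
  classical
  set N' : Subgroup T := N.subgroupOf T
  haveI : N'.Normal := hN.subgroupOf T
  haveI := Fintype.ofFinite N'
  let e : N' ≃* N := Subgroup.subgroupOfEquivOfLe hNT
  have hres' : ∀ n : N', ψ n = φ (e n) := fun n => by rw [← hres]; rfl
  set F : T → ℂ := ψ * fun t => conj (ψ t)
  have hψc := isCharacter_of_isIrr hψ
  have hF : IsCharacter T F := isCharacter_mul hψc (isCharacter_conj hψc)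
  choose m hm using fun ξ : IrrCharacter T => inner_char_irr hF ξ.2
  let one' : IrrCharacter T := ⟨fun _ => 1, isIrr_one⟩
  have hm1 : m one' = 1 := by
    have h := hm one'
    have h1 : classInner F (fun _ => (1 : ℂ)) = 1 := by
      refine Eq.trans ?_ (irr_inner_self hψ)
      rw [classInner_def, classInner_def]
      congr 1
      exact Finset.sum_congr rfl fun g _ => by simp [F]
    rw [h1] at h
    exact_mod_cast h.symm
  have hexp : ∀ x : T, F x = ∑ ξ : IrrCharacter T, (m ξ : ℂ) * (ξ : T → ℂ) x := by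
    intro x
    have h := congrFun (classFun_eq_sum (classFun_of_char hF)) x
    simp only [Finset.sum_apply, Pi.smul_apply, smul_eq_mul] at h
    rw [h]
    exact Finset.sum_congr rfl fun ξ _ => by rw [hm]
  have hone : ∑ n : N', F n = (Nat.card N' : ℂ) := by
    have h := irr_inner_self hφ
    rw [← irr_inner_self (irr_mulEquiv e hφ)] at h
    have h2 := irr_inner_self (irr_mulEquiv e hφ)
    rw [classInner_def, inv_mul_eq_iff_eq_mul₀ (natCard_ne_zero _), mul_one] at h2
    rw [← h2]
    exact Finset.sum_congr rfl fun n _ => by simp [F, hres']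
  -- only the trivial constituent of `F` contains `N'` in its kernel
  have hco : ∀ x : T, ∑ n : N', F ((n : T) * x) =
      (Nat.card N' : ℂ) * ∑ ξ : IrrCharacter T,
        if ∀ n ∈ N', (ξ : T → ℂ) n = (ξ : T → ℂ) 1 then (m ξ : ℂ) * (ξ : T → ℂ) x else 0 := by
    intro x
    simp only [hexp]
    rw [Finset.sum_comm, Finset.mul_sum]
    refine Finset.sum_congr rfl fun ξ _ => ?_
    rw [← Finset.mul_sum, irr_coset_sum_eq ξ.2]
    split_ifs <;> ring
  have h1 := hco 1
  simp only [mul_one] at h1
  rw [hone] at h1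
  have h1' := mul_left_cancel₀ (natCard_ne_zero N') ((mul_one _).trans h1)
  have hnat : ∑ ξ : IrrCharacter T,
      (if ∀ n ∈ N', (ξ : T → ℂ) n = (ξ : T → ℂ) 1 then m ξ * charDegree (ξ : T → ℂ) else 0) = 1 := by
    have : ((∑ ξ : IrrCharacter T,
      (if ∀ n ∈ N', (ξ : T → ℂ) n = (ξ : T → ℂ) 1 then m ξ * charDegree (ξ : T → ℂ) else 0) : ℕ) : ℂ)
        = (1 : ℂ) := by
      rw [h1', Nat.cast_sum]
      refine Finset.sum_congr rfl fun ξ _ => ?_
      split_ifs
      · rw [Nat.cast_mul, irr_one_eq ξ.2]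
      · simp
    exact_mod_cast this
  rw [← Finset.add_sum_erase Finset.univ _ (Finset.mem_univ one'), if_pos (fun _ _ => rfl), hm1,
    show charDegree (one' : T → ℂ) = 1 by simp [one', charDegree]] at hnat
  have hrest : ∀ ξ : IrrCharacter T, ξ ≠ one' →
      (∀ n ∈ N', (ξ : T → ℂ) n = (ξ : T → ℂ) 1) → m ξ = 0 := by
    intro ξ hξ hk
    have h0 := (Finset.sum_eq_zero_iff.mp (by omega : ∑ ξ ∈ Finset.univ.erase one',
      (if ∀ n ∈ N', (ξ : T → ℂ) n = (ξ : T → ℂ) 1 then m ξ * charDegree (ξ : T → ℂ) else 0) = 0))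
      ξ (Finset.mem_erase.mpr ⟨hξ, Finset.mem_univ _⟩)
    rw [if_pos hk] at h0
    exact (Nat.mul_eq_zero.mp h0).resolve_right (charDegree_pos ξ.2).ne'
  refine MonoidHom.ext fun t => ?_
  by_contra hne
  have hzero : ∀ n : N', ψ ((n : T) * t) = 0 := by
    intro n
    have hνn : ν (n : T) = 1 := hν ⟨_, n.2⟩
    have h2 := heq ((n : T) * t)
    rw [map_mul, hνn, one_mul] at h2
    by_contra h0
    exact hne (Units.ext (mul_left_cancel₀ h0 (h2.trans (mul_one _).symm)))
  have h2 := hco t
  rw [Finset.sum_eq_zero fun n _ => by simp [F, hzero n],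
    ← Finset.add_sum_erase Finset.univ _ (Finset.mem_univ one'), if_pos (fun _ _ => rfl), hm1,
    Finset.sum_eq_zero fun ξ hξ => by
      split_ifs with h
      · rw [hrest ξ (Finset.ne_of_mem_erase hξ) h, Nat.cast_zero, zero_mul]
      · rfl] at h2
  simp [one'] at h2
  exact Fintype.card_ne_zero (by exact_mod_cast h2.symm)

/-- linear characters against induced twists of an extension -/
theorem card_linear_le [Fintype N] {φ : N → ℂ} (hφ : IsIrrCharacter N φ) {I : Subgroup G}
    [Fintype I] (hI : ∀ g : G, g ∈ I ↔ conjN φ g = φ) (hNI : N ≤ I) {ψ : I → ℂ}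
    (hψ : IsIrrCharacter I ψ) (hres : ∀ n : N, ψ ⟨n, hNI n.2⟩ = φ n)
    (hNtriv : ∀ (L : G →* ℂˣ), ∀ n ∈ N, L n = 1)
    (Q : (G →* ℂˣ) → Prop) (R : (G → ℂ) → Prop)
    (hR : ∀ L, Q L → IsIrrCharacter G (indFun I (fun i : I => ψ i * (L i : ℂ))) →
      R (indFun I (fun i : I => ψ i * (L i : ℂ)))) :
    Nat.card {L : G →* ℂˣ // Q L} ≤
      I.index * Nat.card {χ : IrrCharacter G //
        charDegree (χ : G → ℂ) = charDegree φ * I.index ∧ R (χ : G → ℂ)} := by
  classical
  have hne : classInner φ φ ≠ 0 := by rw [irr_inner_self hφ]; exact one_ne_zero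
  let tw : (G →* ℂˣ) → I → ℂ := fun L i => ψ i * (L i : ℂ)
  have htw : ∀ L, IsIrrCharacter I (tw L) ∧ (fun n : N => tw L ⟨n, hNI n.2⟩) = φ := fun L => by
    refine ⟨irr_mul_linear hψ (L.comp I.subtype), funext fun n => ?_⟩
    simp [tw, hres, hNtriv L n n.2]
  have hind : ∀ L, IsIrrCharacter G (indFun I (tw L)) := fun L =>
    (clifford_induce hφ hI hNI (htw L).1 (by rw [(htw L).2]; exact hne)).1
  have hdeg : ∀ L, charDegree (indFun I (tw L)) = charDegree φ * I.index := fun L => by
    have h2 : tw L 1 = (charDegree φ : ℂ) := by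
      rw [← irr_one_eq hφ, ← congrFun (htw L).2 1]
      exact congrArg (tw L) (Subtype.ext (by simp))
    have h3 : ((charDegree φ * I.index : ℕ) : ℂ) = ((charDegree (indFun I (tw L)) : ℕ) : ℂ) := by
      rw [← irr_one_eq (hind L), indFun_one, h2]; push_cast; ring
    exact_mod_cast h3.symm
  haveI : Finite (G →* ℂˣ) := by
    refine Nat.finite_of_card_ne_zero ?_
    rw [Nat.card_congr (Abelianization.lift : (G →* ℂˣ) ≃ (Abelianization G →* ℂˣ))]
    haveI : Finite (Abelianization G) :=
      Finite.of_surjective (Abelianization.of : G → Abelianization G) QuotientGroup.mk_surjective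
    rw [CommGroup.card_monoidHom_of_hasEnoughRootsOfUnity]
    exact Nat.card_pos.ne'
  haveI := Fintype.ofFinite (G →* ℂˣ)
  let A : Finset (G →* ℂˣ) := Finset.univ.filter Q
  let B : Finset (IrrCharacter G) := Finset.univ.filter
    (fun χ => charDegree (χ : G → ℂ) = charDegree φ * I.index ∧ R (χ : G → ℂ))
  have hA : Nat.card {L : G →* ℂˣ // Q L} = A.card := by
    rw [Nat.card_eq_fintype_card, Fintype.card_subtype]
  have hB : Nat.card {χ : IrrCharacter G //
      charDegree (χ : G → ℂ) = charDegree φ * I.index ∧ R (χ : G → ℂ)} = B.card := by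
    rw [Nat.card_eq_fintype_card, Fintype.card_subtype]
  rw [hA, hB]
  let F : (G →* ℂˣ) → IrrCharacter G := fun L => ⟨_, hind L⟩
  refine (Finset.card_le_mul_card_image (f := F) A I.index fun χ hχ => ?_).trans
    (Nat.mul_le_mul_left _ (Finset.card_le_card fun χ hχ => ?_))
  · obtain ⟨L₀, hL₀, rfl⟩ := Finset.mem_image.mp hχ
    refine le_trans ?_ (card_hom_trivial_le I)
    rw [Nat.card_eq_fintype_card, Fintype.card_subtype]
    refine Finset.card_le_card_of_injOn (fun L => L * L₀⁻¹) (fun L hL => ?_)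
      (fun a _ b _ h => mul_right_cancel h)
    rw [Finset.mem_coe, Finset.mem_filter] at hL
    simp only [Finset.mem_coe, Finset.mem_filter, Finset.mem_univ, true_and]
    have he := clifford_unique hφ hI hNI (htw L).1 (htw L₀).1
      (by rw [(htw L).2]; exact hne) (by rw [(htw L₀).2]; exact hne) (congrArg Subtype.val hL.2)
    have h1 := twist_ne_of_ne hNI hφ hψ hres ((L * L₀⁻¹).comp I.subtype)
      (fun n => hNtriv (L * L₀⁻¹) n n.2) fun t => by
        have h2 : ψ t * (L t : ℂ) = ψ t * (L₀ t : ℂ) := congrFun he t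
        have h3 : ((L₀ (t : G) : ℂˣ) : ℂ) ≠ 0 := Units.ne_zero _
        simp only [MonoidHom.coe_comp, Function.comp_apply, Subgroup.coe_subtype,
          MonoidHom.mul_apply, MonoidHom.inv_apply, Units.val_mul, Units.val_inv_eq_inv_val]
        field_simp
        linear_combination h2
    exact fun i hi => DFunLike.congr_fun h1 ⟨i, hi⟩
  · obtain ⟨L, hL, rfl⟩ := Finset.mem_image.mp hχ
    simp only [B, Finset.mem_filter, Finset.mem_univ, true_and]
    exact ⟨hdeg L, hR L (Finset.mem_filter.mp hL).2 (hind L)⟩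

/-- linear characters as irreducible characters of degree one -/
theorem card_degree_one (P : (G → ℂ) → Prop) :
    Nat.card {χ : IrrCharacter G // charDegree (χ : G → ℂ) = 1 ∧ P (χ : G → ℂ)} =
      Nat.card {L : G →* ℂˣ // P (fun g => (L g : ℂ))} := by
  refine (Nat.card_congr (Equiv.ofBijective
    (fun L : {L : G →* ℂˣ // P (fun g => (L g : ℂ))} =>
      (⟨⟨_, isIrr_linear L.1⟩, ⟨by simp [charDegree], L.2⟩⟩ :
        {χ : IrrCharacter G // charDegree (χ : G → ℂ) = 1 ∧ P (χ : G → ℂ)}))
    ⟨fun a b h => Subtype.ext (MonoidHom.ext fun g => Units.ext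
      (congrFun (congrArg (fun x => ((x.1 : IrrCharacter G) : G → ℂ)) h) g)), ?_⟩)).symm
  rintro ⟨⟨χ, hχ⟩, h1, h2⟩
  obtain ⟨L, hL⟩ := exists_hom_of_degree_one (isCharacter_of_isIrr hχ)
    (by rw [irr_one_eq hχ, h1, Nat.cast_one])
  exact ⟨⟨L, hL ▸ h2⟩, Subtype.ext (Subtype.ext hL.symm)⟩

/-- an irreducible character induced from one of indicator one has indicator one -/
theorem fsInd_indFun {T : Subgroup G} [Fintype T] {η : T → ℂ} (hη : IsIrrCharacter T η)
    (h1 : fsInd η = 1) (hind : IsIrrCharacter G (indFun T η)) : fsInd (indFun T η) = 1 := by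
  classical
  obtain ⟨d, σ, hσ, rfl⟩ := hη
  haveI := hσ
  have hreal : ∀ t, conj (σ.character t) = σ.character t := by
    by_contra h
    push Not at h
    rw [fsInd_eq_zero σ hσ h] at h1
    exact zero_ne_one h1
  obtain ⟨n, ρ, hρ, hχ⟩ := hind
  haveI := hρ
  have hreal' : ∀ g, conj (ρ.character g) = ρ.character g := by
    intro g
    rw [hχ, indFun_apply, map_mul, map_inv₀, map_natCast, map_sum]
    congr 1
    refine Finset.sum_congr rfl fun x _ => ?_
    by_cases h : x⁻¹ * g * x ∈ T
    · rw [extendByZero_mem' _ _ h, hreal]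
    · rw [extendByZero_not_mem _ _ h, map_zero]
  obtain ⟨B, hB0, hBi, hBt, hν | hν⟩ := fsInd_real ρ hρ hreal'
  · rwa [← hχ]
  exfalso
  let ρT : Representation ℂ T (Fin n → ℂ) := ρ.comp T.subtype
  have hmult : classInner ρT.character σ.character = 1 := by
    show classInner (fun t : T => ρ.character t) σ.character = 1
    rw [← classInner_conj, ← frobenius T σ.character (classFun_of_irr ⟨n, ρ, hρ, rfl⟩), ← hχ,
      irr_inner_self ⟨n, ρ, hρ, rfl⟩, map_one]
  -- an embedding of `σ`
  have hfr : finrank ℂ (σ.IntertwiningMap ρT) = 1 := by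
    have h := inner_eq_finrank σ ρT
    rw [hmult] at h
    exact_mod_cast h.symm
  obtain ⟨J, hJ⟩ : ∃ J : σ.IntertwiningMap ρT, J ≠ 0 := by
    haveI : Nontrivial (σ.IntertwiningMap ρT) := Module.nontrivial_of_finrank_eq_succ hfr
    exact exists_ne 0
  set Jl : (Fin d → ℂ) →ₗ[ℂ] (Fin n → ℂ) := J.toLinearMap
  set Jm := LinearMap.toMatrix' Jl
  have hJm : ∀ t : T, repMat ρ (t : G) * Jm = Jm * repMat σ t := fun t => by
    have h := J.isIntertwining' t
    have h' := congrArg LinearMap.toMatrix' h
    rw [LinearMap.toMatrix'_comp, LinearMap.toMatrix'_comp] at h'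
    exact h'.symm
  set K : Matrix (Fin d) (Fin n) ℂ := Jmᵀ * B
  have hK : ∀ t : T, (repMat σ t)ᵀ * K * repMat ρ (t : G) = K := fun t => by
    calc (repMat σ t)ᵀ * (Jmᵀ * B) * repMat ρ (t : G)
        = (Jm * repMat σ t)ᵀ * B * repMat ρ (t : G) := by
          rw [Matrix.transpose_mul, Matrix.mul_assoc (repMat σ t)ᵀ Jmᵀ B]
      _ = (repMat ρ (t : G) * Jm)ᵀ * B * repMat ρ (t : G) := by rw [hJm]
      _ = Jmᵀ * ((repMat ρ (t : G))ᵀ * B * repMat ρ (t : G)) := by
          rw [Matrix.transpose_mul]; simp only [Matrix.mul_assoc]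
      _ = Jmᵀ * B := by rw [hBi (t : G)]
  -- the restriction of the form to the image is zero
  have hKJ : K * Jm = 0 := by
    have hi : InvForm σ (K * Jm) := fun t => by
      calc (repMat σ t)ᵀ * (K * Jm) * repMat σ t
          = (repMat σ t)ᵀ * K * (Jm * repMat σ t) := by simp only [Matrix.mul_assoc]
        _ = (repMat σ t)ᵀ * K * repMat ρ (t : G) * Jm := by rw [← hJm, Matrix.mul_assoc]; simp only [Matrix.mul_assoc]
        _ = K * Jm := by rw [hK]
    obtain ⟨B', -, -, hBt', -⟩ := fsInd_real σ hσ hreal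
    have e1 := hBt' _ hi
    rw [h1, one_smul] at e1
    have e2 : (K * Jm)ᵀ = -(K * Jm) := by
      have hb := hBt B hBi
      rw [hν, neg_one_smul] at hb
      simp only [K, Matrix.transpose_mul, Matrix.transpose_transpose, hb, Matrix.mul_assoc,
        Matrix.neg_mul, Matrix.mul_neg]
    rw [e1] at e2
    ext i j
    have := congrFun (congrFun e2 i) j
    simp only [Matrix.neg_apply] at this
    simp only [Matrix.zero_apply]
    linear_combination this / 2
  -- `B` is invertible
  have hBinj : ∀ v, B.mulVec v = 0 → v = 0 := by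
    let W : Subrepresentation ρ :=
      { toSubmodule := LinearMap.ker (Matrix.toLin' B)
        apply_mem_toSubmodule := fun g v hv => by
          rw [LinearMap.mem_ker, Matrix.toLin'_apply] at hv ⊢
          have hu : IsUnit (repMat ρ g)ᵀ := Matrix.isUnit_transpose _ |>.2
            (IsUnit.of_mul_eq_one (repMat ρ g⁻¹) (by rw [← repMat_mul, mul_inv_cancel, repMat_one]))
          have hρv : ρ g v = (repMat ρ g).mulVec v := by
            rw [repMat, LinearMap.toMatrix'_mulVec]
          refine (Matrix.mulVec_injective_iff_isUnit.2 hu) ?_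
          rw [Matrix.mulVec_zero, hρv, Matrix.mulVec_mulVec, Matrix.mulVec_mulVec, hBi g, hv] }
    rcases IsSimpleOrder.eq_bot_or_eq_top W with hW | hW
    · intro v hv
      have h3 : v ∈ W.toSubmodule := by
        show v ∈ LinearMap.ker (Matrix.toLin' B)
        rw [LinearMap.mem_ker, Matrix.toLin'_apply, hv]
      rw [hW] at h3
      exact h3
    · refine absurd (Matrix.toLin'.injective (LinearMap.ext fun v => ?_)) hB0
      have h3 : v ∈ W.toSubmodule := by rw [hW]; exact Submodule.mem_top
      rw [map_zero]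
      exact h3
  have hK0 : K ≠ 0 := by
    intro h0
    apply hJ
    have hB : IsUnit B := Matrix.mulVec_injective_iff_isUnit.1 fun v w h => sub_eq_zero.1
      (hBinj _ (by rw [Matrix.mulVec_sub, h, sub_self]))
    obtain ⟨B', hB'⟩ := hB
    have hJm0 : Jm = 0 := by
      apply Matrix.transpose_injective
      rw [Matrix.transpose_zero]
      calc Jmᵀ = K * ((B'⁻¹ : (Matrix (Fin n) (Fin n) ℂ)ˣ) : Matrix (Fin n) (Fin n) ℂ) := by
            simp only [K, Matrix.mul_assoc, ← hB', Units.mul_inv, Matrix.mul_one]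
        _ = 0 := by rw [h0, Matrix.zero_mul]
    exact Representation.IntertwiningMap.ext
      (LinearMap.toMatrix'.injective (hJm0.trans (map_zero _).symm))
  -- `K` intertwines with the transposed inverse of `σ`
  let σd : Representation ℂ T (Fin d → ℂ) :=
    { toFun := fun t => Matrix.toLin' (repMat σ t⁻¹)ᵀ
      map_one' := by rw [inv_one, repMat_one, Matrix.transpose_one, Matrix.toLin'_one]; rfl
      map_mul' := fun a b => by
        rw [mul_inv_rev, repMat_mul, Matrix.transpose_mul, Matrix.toLin'_mul]; rfl }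
  have hσd : σd.character = σ.character := funext fun t => by
    show LinearMap.trace ℂ _ (Matrix.toLin' (repMat σ t⁻¹)ᵀ) = _
    rw [LinearMap.trace_eq_matrix_trace ℂ (Pi.basisFun ℂ (Fin d)),
      LinearMap.toMatrix_eq_toMatrix', LinearMap.toMatrix'_toLin', Matrix.trace_transpose,
      trace_repMat, char_inv, hreal]
  let Kl := Matrix.toLin' K
  have hKint : ∀ (t : T) (v : Fin n → ℂ), Kl (ρT t v) = σd t (Kl v) := fun t v => by
    show K.mulVec (ρ (t : G) v) = (repMat σ t⁻¹)ᵀ.mulVec (K.mulVec v)
    rw [← LinearMap.toMatrix'_mulVec (ρ (t : G)), Matrix.mulVec_mulVec, Matrix.mulVec_mulVec]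
    congr 1
    conv_rhs => rw [← hK t]
    rw [← Matrix.mul_assoc, ← Matrix.mul_assoc, ← Matrix.transpose_mul, ← repMat_mul,
      mul_inv_cancel, repMat_one, Matrix.transpose_one, Matrix.one_mul]
    rfl
  let W : Subrepresentation ρT :=
    { toSubmodule := LinearMap.ker Kl
      apply_mem_toSubmodule := fun t v hv => by
        rw [LinearMap.mem_ker] at hv ⊢
        rw [hKint, hv, map_zero] }
  obtain ⟨W', hW'⟩ := exists_compl ρT W
  -- both parts contain `σ`
  have hmem : ∀ v, Jl v ∈ W.toSubmodule := fun v => by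
    show Jl v ∈ LinearMap.ker Kl
    rw [LinearMap.mem_ker]
    show K.mulVec (Jl v) = 0
    rw [← LinearMap.toMatrix'_mulVec Jl, Matrix.mulVec_mulVec, show LinearMap.toMatrix' Jl = Jm from rfl,
      hKJ, Matrix.zero_mulVec]
  let J' : σ.IntertwiningMap W.toRepresentation :=
    LinearMap.intertwiningMap_of_isIntertwiningMap σ W.toRepresentation
      (LinearMap.codRestrict W.toSubmodule Jl hmem)
      (fun t v => Subtype.ext (Representation.IntertwiningMap.isIntertwining _ _ J t v))
  have hJ' : J' ≠ 0 := fun h => hJ (Representation.IntertwiningMap.ext (LinearMap.ext fun v => by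
    have := congrArg (fun F : σ.IntertwiningMap W.toRepresentation => (F v : Fin n → ℂ)) h
    exact this))
  let K' : W'.toRepresentation.IntertwiningMap σd :=
    LinearMap.intertwiningMap_of_isIntertwiningMap W'.toRepresentation σd
      (Kl ∘ₗ W'.toSubmodule.subtype) (fun t v => hKint t v)
  have hK' : K' ≠ 0 := fun h => hK0 (Matrix.toLin'.injective (LinearMap.ext fun v => by
    obtain ⟨a, ha, b, hb, rfl⟩ := Submodule.mem_sup.mp
      ((isCompl_toSubmodule hW').sup_eq_top ▸ Submodule.mem_top : v ∈ W.toSubmodule ⊔ W'.toSubmodule)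
    have := congrArg (fun F : W'.toRepresentation.IntertwiningMap σd => F ⟨b, hb⟩) h
    rw [map_add, map_zero, LinearMap.zero_apply]
    exact (congrArg₂ (· + ·) (LinearMap.mem_ker.mp ha) this).trans (add_zero _)))
  haveI : Nontrivial (σ.IntertwiningMap W.toRepresentation) := ⟨⟨J', 0, hJ'⟩⟩
  haveI : Nontrivial (W'.toRepresentation.IntertwiningMap σd) := ⟨⟨K', 0, hK'⟩⟩
  have h2 := inner_eq_finrank σ W.toRepresentation
  have h3 := inner_eq_finrank W'.toRepresentation σd
  have h4 : classInner W'.toRepresentation.character σ.character =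
      (finrank ℂ (W'.toRepresentation.IntertwiningMap σd) : ℂ) := by
    rw [← classInner_conj, ← hσd, h3, map_natCast]
  have hchar : ρT.character = W.toRepresentation.character + W'.toRepresentation.character :=
    funext fun t => char_of_isCompl hW' t
  rw [hchar, classInner_add_left, h2, h4, ← Nat.cast_add] at hmult
  have h5 : finrank ℂ (σ.IntertwiningMap W.toRepresentation) +
      finrank ℂ (W'.toRepresentation.IntertwiningMap σd) = 1 := by exact_mod_cast hmult
  have := Module.finrank_pos (R := ℂ) (M := σ.IntertwiningMap W.toRepresentation)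
  have := Module.finrank_pos (R := ℂ) (M := W'.toRepresentation.IntertwiningMap σd)
  omega

end CfsgLib.Char
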