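import Cfsg.Agent.Char.Central
import Mathlib.GroupTheory.PGroup

/-! Congruences modulo a prime in the algebraic integers; sums over `p`-group orbits. -/

set_option linter.unusedSectionVars false
set_option linter.style.haveILetI false

namespace CfsgLib.Char

open Module Cfsg
open scoped ComplexConjugate

universe u v w

/-- congruence modulo `p` among complex numbers, by an algebraic integer multiple -/
def PCong (p : ℕ) (a b : ℂ) : Prop := ∃ z : ℂ, IsIntegral ℤ z ∧ a = b + (p : ℂ) * z

namespace PCong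

variable {p : ℕ} {a b c d : ℂ}

theorem refl (p : ℕ) (a : ℂ) : PCong p a a := ⟨0, isIntegral_zero, by simp⟩

theorem of_eq (h : a = b) : PCong p a b := h ▸ PCong.refl p a

theorem symm (h : PCong p a b) : PCong p b a := by
  obtain ⟨z, hz, rfl⟩ := h
  exact ⟨-z, hz.neg, by ring⟩

theorem trans (h : PCong p a b) (h' : PCong p b c) : PCong p a c := by
  obtain ⟨z, hz, rfl⟩ := h
  obtain ⟨w, hw, rfl⟩ := h'
  exact ⟨z + w, hz.add hw, by ring⟩

theorem add (h : PCong p a b) (h' : PCong p c d) : PCong p (a + c) (b + d) := by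
  obtain ⟨z, hz, rfl⟩ := h
  obtain ⟨w, hw, rfl⟩ := h'
  exact ⟨z + w, hz.add hw, by ring⟩

theorem mul_right (h : PCong p a b) (hc : IsIntegral ℤ c) : PCong p (a * c) (b * c) := by
  obtain ⟨z, hz, rfl⟩ := h
  exact ⟨z * c, hz.mul hc, by ring⟩

theorem mul_left (h : PCong p a b) (hc : IsIntegral ℤ c) : PCong p (c * a) (c * b) := by
  rw [mul_comm c a, mul_comm c b]; exact h.mul_right hc

theorem sum {ι : Type*} (s : Finset ι) {f g : ι → ℂ} (h : ∀ i ∈ s, PCong p (f i) (g i)) :
    PCong p (∑ i ∈ s, f i) (∑ i ∈ s, g i) := by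
  classical
  induction s using Finset.induction with
  | empty => simpa using PCong.refl p 0
  | insert x t hx ih =>
    rw [Finset.sum_insert hx, Finset.sum_insert hx]
    exact (h x (Finset.mem_insert_self _ _)).add (ih fun i hi => h i (Finset.mem_insert_of_mem hi))

theorem int_modEq (hp : p ≠ 0) {m n : ℤ} (h : PCong p (m : ℂ) (n : ℂ)) : m ≡ n [ZMOD p] := by
  obtain ⟨z, hz, he⟩ := h
  obtain ⟨k, hk⟩ := exists_int_of_isIntegral_rat hz (((m - n : ℤ) : ℚ) / (p : ℚ)) (by
    have hp' : (p : ℂ) ≠ 0 := Nat.cast_ne_zero.mpr hp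
    push_cast
    rw [eq_div_iff hp', he]; ring)
  subst hk
  have h2 : m = n + (p : ℤ) * k := by exact_mod_cast he
  rw [h2]
  exact Int.modEq_iff_dvd.mpr ⟨-k, by ring⟩

theorem nat_modEq (hp : p ≠ 0) {m n : ℕ} (h : PCong p (m : ℂ) (n : ℂ)) :
    (m : ℤ) ≡ (n : ℤ) [ZMOD p] :=
  int_modEq hp (m := (m : ℤ)) (n := (n : ℤ)) (by simpa using h)

end PCong

open Classical in
/-- an invariant sum over a `p`-group action only sees the fixed points -/
theorem pcong_sum_fixed {A : Type v} {X : Type w} [Group A] [MulAction A X] [Fintype X] {p : ℕ}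
    [Fact p.Prime] (hA : IsPGroup p A) (F : X → ℂ) (hF : ∀ (a : A) (x : X), F (a • x) = F x)
    (hint : ∀ x, IsIntegral ℤ (F x)) :
    PCong p (∑ x, F x) (∑ x ∈ Finset.univ.filter (fun x => ∀ a : A, a • x = x), F x) := by
  rw [← Finset.sum_filter_add_sum_filter_not Finset.univ (fun x => ∀ a : A, a • x = x)]
  suffices h : PCong p
      (∑ x ∈ Finset.univ.filter (fun x => ¬ ∀ a : A, a • x = x), F x) 0 by
    simpa using (PCong.refl p
      (∑ x ∈ Finset.univ.filter (fun x => ∀ a : A, a • x = x), F x)).add h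
  haveI : Fintype (Quotient (MulAction.orbitRel A X)) := Fintype.ofFinite _
  rw [← Finset.sum_fiberwise _ (fun x => (Quotient.mk (MulAction.orbitRel A X) x))]
  refine (PCong.sum Finset.univ fun q _ => ?_).trans (PCong.of_eq Finset.sum_const_zero)
  obtain ⟨x₀, rfl⟩ := Quotient.exists_rep q
  by_cases h0 : ∀ a : A, a • x₀ = x₀
  · refine PCong.of_eq (Finset.sum_eq_zero fun y hy => ?_)
    simp only [Finset.mem_filter, Finset.mem_univ, true_and] at hy
    obtain ⟨a, rfl⟩ : ∃ a : A, a • x₀ = y := Quotient.exact hy.2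
    exact absurd (fun b => by rw [h0 a, h0 b]) hy.1
  · have hset : (Finset.univ.filter fun x => ¬ ∀ a : A, a • x = x).filter
        (fun x => Quotient.mk (MulAction.orbitRel A X) x =
          Quotient.mk (MulAction.orbitRel A X) x₀) =
        Finset.univ.filter (fun x => x ∈ MulAction.orbit A x₀) := by
      ext y
      simp only [Finset.mem_filter, Finset.mem_univ, true_and]
      refine ⟨fun hy => Quotient.exact hy.2, fun hy => ⟨fun hfix => h0 fun b => ?_, Quotient.sound hy⟩⟩
      obtain ⟨a, rfl⟩ := hy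
      have h1 : x₀ = a • x₀ := by
        conv_lhs => rw [← inv_smul_smul a x₀, hfix]
      rw [h1]; exact hfix b
    rw [hset, Finset.sum_congr rfl (g := fun _ => F x₀) fun y hy => by
      obtain ⟨a, rfl⟩ := (Finset.mem_filter.mp hy).2; exact hF a x₀]
    rw [Finset.sum_const, nsmul_eq_mul]
    obtain ⟨k, hk⟩ := hA.card_orbit x₀
    have hcard : (Finset.univ.filter (fun x => x ∈ MulAction.orbit A x₀)).card = p ^ k := by
      rw [← hk, Nat.card_eq_fintype_card, Fintype.card_of_subtype]
      intro x; simp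
    cases k with
    | zero =>
      exfalso
      apply h0
      intro a
      haveI := (Nat.card_eq_one_iff_unique.mp (by simpa using hk :
        Nat.card (MulAction.orbit A x₀) = 1)).1
      exact congrArg Subtype.val (Subsingleton.elim
        (⟨a • x₀, MulAction.mem_orbit x₀ a⟩ : MulAction.orbit A x₀)
        ⟨x₀, MulAction.mem_orbit_self x₀⟩)
    | succ k =>
      refine ⟨(p : ℂ) ^ k * F x₀, ((isIntegral_natCast' p).pow k).mul (hint x₀), ?_⟩
      rw [hcard, pow_succ]; push_cast; ring
where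
  isIntegral_natCast' (n : ℕ) : IsIntegral ℤ (n : ℂ) := by
    simpa using (isIntegral_algebraMap (R := ℤ) (A := ℂ) (x := (n : ℤ)))

theorem exists_fixed_finset {A : Type v} {X : Type w} [Group A] [MulAction A X] [Fintype X] {p : ℕ}
    [Fact p.Prime] (hA : IsPGroup p A) (F : X → ℂ) (hF : ∀ (a : A) (x : X), F (a • x) = F x)
    (hint : ∀ x, IsIntegral ℤ (F x)) :
    ∃ s : Finset X, (∀ x, x ∈ s ↔ ∀ a : A, a • x = x) ∧ PCong p (∑ x, F x) (∑ x ∈ s, F x) := by
  classical
  exact ⟨_, fun x => by simp, pcong_sum_fixed hA F hF hint⟩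

end CfsgLib.Char
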