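import Cfsg.Agent.Char.NoCoverBound

/-! A group of odd order is not covered by Frobenius T.I. kernels of pairwise coprime orders. -/

set_option autoImplicit false
set_option linter.unusedSectionVars false
set_option linter.style.haveILetI false

namespace CfsgLib.NoCover

open Cfsg CfsgLib.Char
open scoped ComplexConjugate CfsgLib.Char CfsgLib.NoCover.Datum

universe u v

variable {G : Type u} [Group G] [Fintype G]

namespace Datum

variable (D : Datum G)

/-- `g` is conjugate to a nontrivial element of the kernel -/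
def InCl (g : G) : Prop := g ≠ 1 ∧ ∃ x : G, x⁻¹ * g * x ∈ D.H

open Classical in
/-- the normalised sum over the nontrivial elements of the kernel -/
noncomputable def avg (F : G → ℝ) : ℝ :=
  (Nat.card D.L : ℝ)⁻¹ * ∑ k : D.K, if k = 1 then 0 else F ((k : D.L) : G)

theorem avg_norm (ψ : G → ℂ) : D.avg (fun g => ‖ψ g‖ ^ 2) = D.M ψ := rfl

theorem avg_one : D.avg (fun _ => 1) = (1 - 1 / (D.h : ℝ)) / D.e := by
  classical
  have : ∑ k : D.K, (if k = 1 then (0 : ℝ) else 1) = (D.h : ℝ) - 1 := by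
    have hsplit : ∀ k : D.K, (if k = 1 then (0 : ℝ) else 1) = 1 - (if k = 1 then 1 else 0) := fun k => by
      split_ifs <;> norm_num
    rw [Finset.sum_congr rfl fun k _ => hsplit k, Finset.sum_sub_distrib]
    simp [Datum.h, Nat.card_eq_fintype_card]
  have he : (D.e : ℝ) ≠ 0 := Nat.cast_ne_zero.2 (by have := D.one_lt_e; omega)
  have hh : (D.h : ℝ) ≠ 0 := Nat.cast_ne_zero.2 Nat.card_pos.ne'
  unfold Datum.avg
  rw [show (Nat.card D.L : ℝ) = D.e * D.h by exact_mod_cast D.card_L]
  beta_reduce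
  trans ((D.e : ℝ) * D.h)⁻¹ * ((D.h : ℝ) - 1)
  · congr 1
  · field_simp

open Classical in
theorem sum_class (F : G → ℝ) (hF : ∀ x g : G, F (x * g * x⁻¹) = F g) :
    (Nat.card G : ℝ) * D.avg F = ∑ g ∈ Finset.univ.filter D.InCl, F g := by
  unfold Datum.avg
  set S : Finset (G × D.K) := Finset.univ ×ˢ (Finset.univ.filter fun k : D.K => k ≠ 1)
  let f : G × D.K → G := fun p => p.1 * ((p.2 : D.L) : G) * p.1⁻¹
  have hmaps : ∀ p ∈ S, f p ∈ Finset.univ.filter D.InCl := by
    intro p hp
    refine Finset.mem_filter.2 ⟨Finset.mem_univ _, fun h => ?_, p.1, ?_⟩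
    · exact (Finset.mem_filter.1 (Finset.mem_product.1 hp).2).2
        (Subtype.ext (Subtype.ext (conj_eq_one_iff.1 h)))
    · have : p.1⁻¹ * f p * p.1 = ((p.2 : D.L) : G) := by simp only [f]; group
      rw [this]
      exact Subgroup.mem_subgroupOf.1 p.2.2
  have hfib : ∀ g ∈ Finset.univ.filter D.InCl, (S.filter fun p => f p = g).card = Nat.card D.L := by
    intro g hg
    obtain ⟨hg1, x, hx⟩ := (Finset.mem_filter.1 hg).2
    have hxL : x⁻¹ * g * x ∈ D.L := D.lt.le hx
    rw [Nat.card_eq_fintype_card, ← Finset.card_univ]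
    refine (Finset.card_bij (fun (y : D.L) _ => (x * (y : G), (⟨⟨(y : G)⁻¹ * (x⁻¹ * g * x) * y,
      mul_mem (mul_mem (inv_mem y.2) hxL) y.2⟩, Subgroup.mem_subgroupOf.2 (by
        have := D.norm (y : G)⁻¹ (inv_mem y.2) _ hx
        simpa using this)⟩ : D.K))) ?_ ?_ ?_).symm
    · intro y _
      refine Finset.mem_filter.2 ⟨Finset.mem_product.2 ⟨Finset.mem_univ _,
        Finset.mem_filter.2 ⟨Finset.mem_univ _, fun h => hg1 ?_⟩⟩, ?_⟩
      · have h' : (y : G)⁻¹ * (x⁻¹ * g * x) * y = 1 := congrArg (fun k : D.K => ((k : D.L) : G)) h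
        calc g = x * ((y : G) * ((y : G)⁻¹ * (x⁻¹ * g * x) * y) * (y : G)⁻¹) * x⁻¹ := by group
          _ = 1 := by rw [h']; group
      · simp only [f]; group
    · intro a _ b _ h
      exact Subtype.ext (mul_left_cancel (Prod.ext_iff.1 h).1)
    · intro p hp
      obtain ⟨hpS, hfp⟩ := Finset.mem_filter.1 hp
      have hk1 : ((p.2 : D.L) : G) ≠ 1 := fun h =>
        (Finset.mem_filter.1 (Finset.mem_product.1 hpS).2).2 (Subtype.ext (Subtype.ext h))
      have hy : x⁻¹ * p.1 ∈ D.L := by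
        by_contra hn
        refine hk1 (D.ti _ hn _ (Subgroup.mem_subgroupOf.1 p.2.2) ?_)
        have : x⁻¹ * p.1 * ((p.2 : D.L) : G) * (x⁻¹ * p.1)⁻¹ = x⁻¹ * g * x := by
          rw [← hfp]; simp only [f]; group
        rw [this]; exact hx
      refine ⟨⟨_, hy⟩, Finset.mem_univ _, Prod.ext (by simp) (Subtype.ext (Subtype.ext ?_))⟩
      show (x⁻¹ * p.1)⁻¹ * (x⁻¹ * g * x) * (x⁻¹ * p.1) = ((p.2 : D.L) : G)
      rw [← hfp]; simp only [f]; group
  have hLR : (Nat.card D.L : ℝ) ≠ 0 := Nat.cast_ne_zero.2 Nat.card_pos.ne'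
  have h1 : ∑ p ∈ S, F (f p) = (Nat.card G : ℝ) * ∑ k : D.K, if k = 1 then 0 else F ((k : D.L) : G) := by
    rw [Finset.sum_product, Finset.sum_congr rfl fun x _ => Finset.sum_congr rfl fun (k : D.K) _ =>
      show F (f (x, k)) = F ((k : D.L) : G) from hF x _, Finset.sum_const, Finset.card_univ,
      Nat.card_eq_fintype_card, nsmul_eq_mul, Finset.sum_filter]
    congr 1
    exact Finset.sum_congr rfl fun k _ => by split_ifs <;> simp_all
  have h2 : ∑ p ∈ S, F (f p) = (Nat.card D.L : ℝ) * ∑ g ∈ Finset.univ.filter D.InCl, F g := by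
    rw [← Finset.sum_fiberwise_of_maps_to hmaps, Finset.mul_sum]
    refine Finset.sum_congr rfl fun g hg => ?_
    rw [Finset.sum_congr rfl (g := fun _ => F g) fun p hp => by rw [(Finset.mem_filter.1 hp).2],
      Finset.sum_const, nsmul_eq_mul, hfib g hg]
  rw [← mul_assoc, mul_comm (Nat.card G : ℝ), mul_assoc, ← h1, h2, ← mul_assoc, inv_mul_cancel₀ hLR, one_mul]

/-- the share of the kernel in the class equation -/
noncomputable def w : ℝ := (1 - 1 / (D.h : ℝ)) / D.e

/-- the same for the quotient by the derived subgroup -/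
noncomputable def w' : ℝ := (1 - 1 / (D.q : ℝ)) / D.e

theorem w_le : D.w ≤ 1 / D.e := by
  unfold Datum.w
  gcongr
  simp

theorem w_sub : D.w - D.w' = (1 / (D.q : ℝ) - 1 / D.h) / D.e := by unfold Datum.w Datum.w'; ring

theorem inv_e : (1 : ℝ) / D.e = D.s / ((D.q : ℝ) - 1) := by
  have hq : (1 : ℝ) < D.q := by exact_mod_cast D.one_lt_q
  have he : (0 : ℝ) < D.e := by have := D.one_lt_e; exact_mod_cast (by omega : 0 < D.e)
  have hse : (D.s : ℝ) * D.e = (D.q : ℝ) - 1 := by
    rw [← Nat.cast_mul, D.s_mul_e, Nat.cast_sub D.one_lt_q.le, Nat.cast_one]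
  rw [div_eq_div_iff he.ne' (by linarith)]
  linarith

end Datum

set_option maxHeartbeats 1600000 in
theorem no_cover {ι : Type v} [Fintype ι] (hodd : Odd (Nat.card G)) (hι : Nonempty ι) (D : ι → Datum G)
    (hcop : ∀ i j, i ≠ j → Nat.Coprime (Nat.card (D i).H) (Nat.card (D j).H))
    (hcover : ∀ g : G, g ≠ 1 → ∃ i, ∃ x : G, x⁻¹ * g * x ∈ (D i).H) : False := by
  classical
  have hdis : ∀ i j g, (D i).InCl g → (D j).InCl g → i = j := by
    rintro i j g ⟨hg1, x, hx⟩ ⟨-, y, hy⟩
    by_contra hne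
    have h1 : orderOf g ∣ Nat.card (D i).H := by
      have := orderOf_dvd_natCard (⟨_, hx⟩ : (D i).H)
      rwa [Subgroup.orderOf_mk, show orderOf (x⁻¹ * g * x) = orderOf g from by
        simpa using MulEquiv.orderOf_eq (MulAut.conj x⁻¹) g] at this
    have h2 : orderOf g ∣ Nat.card (D j).H := by
      have := orderOf_dvd_natCard (⟨_, hy⟩ : (D j).H)
      rwa [Subgroup.orderOf_mk, show orderOf (y⁻¹ * g * y) = orderOf g from by
        simpa using MulEquiv.orderOf_eq (MulAut.conj y⁻¹) g] at this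
    exact hg1 (orderOf_eq_one_iff.1 (Nat.eq_one_of_dvd_coprimes (hcop i j hne) h1 h2))
  -- decomposition of sums
  have hsum : ∀ F : G → ℝ, (∀ x g : G, F (x * g * x⁻¹) = F g) →
      (Nat.card G : ℝ) * ∑ i, (D i).avg F = (∑ g : G, F g) - F 1 := by
    intro F hF
    rw [Finset.mul_sum, Finset.sum_congr rfl fun i _ => (D i).sum_class F hF, ← Finset.sum_biUnion]
    · rw [eq_sub_iff_add_eq, ← Finset.sum_erase_add _ _ (Finset.mem_univ (1 : G))]
      congr 1
      refine Finset.sum_congr ?_ fun _ _ => rfl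
      ext g
      simp only [Finset.mem_biUnion, Finset.mem_univ, true_and, Finset.mem_filter, Finset.mem_erase, and_true]
      exact ⟨fun ⟨i, hi⟩ => hi.1, fun hg => by
        obtain ⟨i, hi⟩ := hcover g hg; exact ⟨i, hg, hi⟩⟩
    · intro i _ j _ hij
      rw [Function.onFun, Finset.disjoint_left]
      exact fun g hg hg' => hij (hdis i j g (Finset.mem_filter.1 hg).2 (Finset.mem_filter.1 hg').2)
  have hGpos : (0 : ℝ) < Nat.card G := Nat.cast_pos.2 Nat.card_pos
  have hw : ∑ i, (D i).w = 1 - 1 / (Nat.card G : ℝ) := by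
    have h := hsum (fun _ => 1) fun _ _ => rfl
    have hi : ∀ i, (D i).avg (fun _ => 1) = (D i).w := fun i => (D i).avg_one
    rw [Finset.sum_congr rfl fun i _ => hi i] at h
    simp only [Finset.sum_const, Finset.card_univ, nsmul_eq_mul, mul_one, ← Nat.card_eq_fintype_card] at h
    rw [eq_sub_iff_add_eq, ← mul_right_inj' hGpos.ne', mul_add, h]
    field_simp
    ring
  have hM : ∀ ψ : G → ℂ, IsIrrCharacter G ψ → ∑ i, (D i).M ψ ≤ 1 := by
    intro ψ hψ
    have h := hsum (fun g => ‖ψ g‖ ^ 2) fun x g => by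
      show ‖ψ (x * g * x⁻¹)‖ ^ 2 = _; rw [classFun_of_irr hψ g x]
    have h2 := classInner_self_re ψ
    rw [irr_inner_self hψ, Complex.one_re] at h2
    have h3 : ∑ g : G, ‖ψ g‖ ^ 2 = Nat.card G := by field_simp at h2; linarith
    have h4 : (0 : ℝ) ≤ ‖ψ 1‖ ^ 2 := by positivity
    have h5 : (Nat.card G : ℝ) * ∑ i, (D i).M ψ ≤ (Nat.card G : ℝ) * 1 := by
      simp only [Datum.avg_norm] at h
      rw [h, h3]; linarith
    exact le_of_mul_le_mul_left h5 hGpos
  -- exceptional characters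
  choose ε f hε hinj hexc using fun i => (D i).exists_exc hodd
  have hε0 : ∀ i, ε i ≠ 0 := fun i => by rcases hε i with h | h <;> rw [h] <;> norm_num
  have halpha : ∀ i j, i ≠ j → ∀ (η : (D i).T) (θ : (D j).T), classInner ((D i).alpha η) ((D j).alpha θ) = 0 := by
    intro i j hij η θ
    rw [classInner_def, Finset.sum_eq_zero, mul_zero]
    intro g _
    by_cases hg : ∃ x : G, x⁻¹ * g * x ∈ (D i).H ∧ g ≠ 1
    · obtain ⟨x, hx, hx1⟩ := hg
      rw [(D j).alpha_outside θ fun ⟨y, hy, hy1⟩ => hij (hdis i j g ⟨hx1, x, hx⟩ ⟨hy1, y, hy⟩), map_zero, mul_zero]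
    · rw [(D i).alpha_outside η hg, zero_mul]
  let ξ₀ : ∀ i, (D i).T := fun i => Classical.choice (D i).T_nonempty
  let ψ : ∀ i, G → ℂ := fun i => (f i (ξ₀ i) : G → ℂ)
  choose c hc using fun (i : ι) (η : (D i).T) (χ : IrrCharacter G) =>
    CfsgLib.Coh.inner_int ((D i).alpha_gen η) ⟨_, _, isCharacter_of_isIrr χ.2, isCharacter_zero, (sub_zero _).symm⟩
  have hεint : ∀ i, ∃ z : ℤ, (z = 1 ∨ z = -1) ∧ ε i = (z : ℂ) := fun i => by
    rcases hε i with h | h
    · exact ⟨1, Or.inl rfl, by rw [h]; norm_num⟩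
    · exact ⟨-1, Or.inr rfl, by rw [h]; norm_num⟩
  choose z hz hzε using hεint
  have hstep : ∀ i (η η' : (D i).T) (χ : IrrCharacter G),
      c i η χ - c i η' χ = z i * ((if f i η' = χ then 1 else 0) - (if f i η = χ then 1 else 0)) := by
    intro i η η' χ
    have h := congrArg (fun F => classInner F (χ : G → ℂ)) (hexc i η η')
    simp only [classInner_sub_left, classInner_smul_left, hc, irrChar_inner, hzε] at h
    rcases eq_or_ne (f i η') χ with h1 | h1 <;> rcases eq_or_ne (f i η) χ with h2 | h2 <;>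
      simp only [h1, h2, if_true, if_false] at h ⊢ <;> exact_mod_cast h
  -- conjugation
  let cj : IrrCharacter G → IrrCharacter G := fun χ => ⟨fun g => conj ((χ : G → ℂ) g), irr_conj χ.2⟩
  have hcj2 : ∀ χ, cj (cj χ) = χ := fun χ => Subtype.ext (funext fun g => Complex.conj_conj _)
  let one : IrrCharacter G := ⟨fun _ => 1, isIrr_one⟩
  have hcj1 : ∀ χ, cj χ = χ → χ = one := fun χ h =>
    Subtype.ext (eq_one_of_real_odd hodd χ fun g => congrFun (congrArg Subtype.val h) g)
  have hcconj : ∀ i η χ, c i ((D i).conjT η) (cj χ) = c i η χ := by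
    intro i η χ
    have h : classInner ((D i).alpha ((D i).conjT η)) (cj χ : G → ℂ) =
        conj (classInner ((D i).alpha η) (χ : G → ℂ)) := by
      simp only [classInner_def, map_mul, map_inv₀, Complex.conj_natCast, map_sum, (D i).alpha_conjT, cj,
        Complex.conj_conj]
    rw [hc, hc, map_intCast] at h
    exact_mod_cast h
  have hcj_ne : ∀ i (η : (D i).T), (D i).conjT η ≠ η := fun i η => (D i).conjT_ne hodd η
  have hfconj : ∀ i η, f i ((D i).conjT η) = cj (f i η) := by
    intro i η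
    set η' := (D i).conjT η
    have hne : f i η' ≠ f i η := fun h => hcj_ne i η (hinj i h)
    by_contra hne'
    have h1 := hstep i η η' (cj (f i η))
    rw [if_neg hne'] at h1
    have hη2 : (D i).conjT η' = η := by
      refine Subtype.ext (Subtype.ext (funext fun x => ?_))
      exact Complex.conj_conj _
    have h2 : c i η' (cj (f i η)) = c i η (f i η) := hcconj i η _
    have h3 : c i η (cj (f i η)) = c i η' (f i η) := by
      rw [← hcconj i η' (f i η), hη2]
    rw [h2, h3] at h1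
    have h4 := hstep i η η' (f i η)
    rw [if_neg hne, if_pos rfl] at h4
    rcases hz i with hzi | hzi <;> rw [hzi] at h1 h4 <;> split_ifs at h1 <;> omega
  have hone : ∀ i η, c i η one = 1 := by
    intro i η
    have h := hc i η one
    rw [show (one : G → ℂ) = fun _ => 1 from rfl, (D i).alpha_one η] at h
    exact_mod_cast h.symm
  have hf_ne_one : ∀ i η, f i η ≠ one := by
    intro i η h
    have h1 := hstep i ((D i).conjT η) η one
    rw [hone, hone, sub_self, if_pos h, if_neg fun h' => hcj_ne i η (hinj i (h'.trans h.symm))] at h1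
    rcases hz i with hzi | hzi <;> rw [hzi] at h1 <;> omega
  have hdisj : ∀ i j, i ≠ j → ∀ η θ, f i η ≠ f j θ := by
    intro i j hij η θ h
    have e : classInner ((D i).alpha η - (D i).alpha ((D i).conjT η))
        ((D j).alpha θ - (D j).alpha ((D j).conjT θ)) = 0 := by
      rw [classInner_sub_left, classInner_sub_right, classInner_sub_right, halpha i j hij, halpha i j hij,
        halpha i j hij, halpha i j hij]
      ring
    rw [hexc, hexc, hfconj, hfconj, h, classInner_smul_left, classInner_smul_right, inner_sub_sub,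
      if_pos rfl, if_pos rfl, if_neg fun h' => hf_ne_one j θ (hcj1 _ h'),
      if_neg fun h' => hf_ne_one j θ (hcj1 _ h'.symm)] at e
    rcases hε i with hi | hi <;> rcases hε j with hj | hj <;> rw [hi, hj] at e <;> norm_num at e
  have hcindep : ∀ i j, i ≠ j → ∀ (η η' : (D j).T) (θ : (D i).T), c j η (f i θ) = c j η' (f i θ) := by
    intro i j hij η η' θ
    have h := hstep j η η' (f i θ)
    rw [if_neg fun h' => hdisj i j hij θ η' h'.symm, if_neg fun h' => hdisj i j hij θ η h'.symm, sub_self,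
      mul_zero, sub_eq_zero] at h
    exact h
  have hcindep' : ∀ i j, i ≠ j → ∀ (η : (D j).T) (θ θ' : (D i).T), c j η (f i θ) = c j η (f i θ') := by
    intro i j hij η θ θ'
    have h := halpha j i hij.symm η θ
    have h' := halpha j i hij.symm η θ'
    have e : classInner ((D j).alpha η) ((D i).alpha θ - (D i).alpha θ') = 0 := by
      rw [classInner_sub_right, h, h', sub_self]
    rw [hexc, classInner_smul_right, classInner_sub_right, hc, hc, mul_eq_zero] at e
    rcases e with e | e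
    · rw [map_eq_zero] at e; exact absurd e (hε0 i)
    · rw [sub_eq_zero] at e; exact_mod_cast e.symm
  let a : ι → ι → ℤ := fun i j => c j (ξ₀ j) (f i (ξ₀ i))
  -- parity
  have hpar : ∀ i j, i ≠ j → Odd (a i j + a j i) := by
    intro i j hij
    let t : IrrCharacter G → ℤ := fun χ => c i (ξ₀ i) χ * c j (ξ₀ j) χ
    have ht : ∑ χ, t χ = 0 := by
      have h := halpha i j hij (ξ₀ i) (ξ₀ j)
      conv at h => lhs; arg 2; rw [classFun_eq_sum (classFun_of_gen ((D j).alpha_gen (ξ₀ j)))]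
      simp only [classInner_sum_right, classInner_smul_right, hc, map_intCast] at h
      have h' : ((∑ χ, t χ : ℤ) : ℂ) = 0 := by
        rw [← h, Int.cast_sum]
        exact Finset.sum_congr rfl fun χ _ => by simp only [t, Int.cast_mul]; ring
      exact_mod_cast h'
    set E : Finset (IrrCharacter G) :=
      {one, f i (ξ₀ i), cj (f i (ξ₀ i)), f j (ξ₀ j), cj (f j (ξ₀ j))}
    have hshift : ∀ k (χ : IrrCharacter G), χ ≠ f k (ξ₀ k) → χ ≠ cj (f k (ξ₀ k)) →
        c k (ξ₀ k) (cj χ) = c k (ξ₀ k) χ := by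
      intro k χ h1 h2
      have h := hstep k (ξ₀ k) ((D k).conjT (ξ₀ k)) (cj χ)
      rw [hcconj, hfconj, if_neg fun h' => h1 ?_, if_neg fun h' => h2 ?_] at h
      · linarith
      · rw [← hcj2 χ, ← h']
      · have := congrArg cj h'; rwa [hcj2, hcj2, eq_comm] at this
    have heven : Even (∑ χ ∈ Finset.univ \ E, t χ) := by
      rw [← ZMod.intCast_eq_zero_iff_even, Int.cast_sum]
      refine Finset.sum_involution (fun χ _ => cj χ) (fun χ hχ => ?_) (fun χ hχ _ h => ?_) (fun χ hχ => ?_)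
        (fun χ _ => hcj2 χ)
      · simp only [E, Finset.mem_sdiff, Finset.mem_insert, Finset.mem_singleton, not_or] at hχ
        rw [show t (cj χ) = t χ by
          simp only [t]
          rw [hshift i χ hχ.2.2.1 hχ.2.2.2.1, hshift j χ hχ.2.2.2.2.1 hχ.2.2.2.2.2]]
        exact CharTwo.add_self_eq_zero _
      · simp only [E, Finset.mem_sdiff, Finset.mem_insert, Finset.mem_singleton, not_or] at hχ
        exact hχ.2.1 (hcj1 χ h)
      · simp only [E, Finset.mem_sdiff, Finset.mem_univ, true_and, Finset.mem_insert, Finset.mem_singleton, not_or] at hχ ⊢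
        obtain ⟨h0, h1, h2, h3, h4⟩ := hχ
        have hcjone : cj one = one := Subtype.ext (funext fun g => map_one _)
        refine ⟨fun h => h0 ?_, fun h => h2 ?_, fun h => h1 ?_, fun h => h4 ?_, fun h => h3 ?_⟩
        · rw [← hcj2 χ, h, hcjone]
        · rw [← hcj2 χ, h]
        · rw [← hcj2 χ, h, hcj2]
        · rw [← hcj2 χ, h]
        · rw [← hcj2 χ, h, hcj2]
    rw [← Finset.sum_sdiff (Finset.subset_univ E)] at ht
    have h1 : cj (f i (ξ₀ i)) ≠ f i (ξ₀ i) := fun h => hf_ne_one _ _ (hcj1 _ h)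
    have h2 : cj (f j (ξ₀ j)) ≠ f j (ξ₀ j) := fun h => hf_ne_one _ _ (hcj1 _ h)
    have n1 : one ≠ f i (ξ₀ i) := (hf_ne_one _ _).symm
    have n2 : one ≠ cj (f i (ξ₀ i)) := by rw [← hfconj]; exact (hf_ne_one _ _).symm
    have n3 : one ≠ f j (ξ₀ j) := (hf_ne_one _ _).symm
    have n4 : one ≠ cj (f j (ξ₀ j)) := by rw [← hfconj]; exact (hf_ne_one _ _).symm
    have n5 : f i (ξ₀ i) ≠ f j (ξ₀ j) := hdisj i j hij _ _
    have n6 : f i (ξ₀ i) ≠ cj (f j (ξ₀ j)) := by rw [← hfconj]; exact hdisj i j hij _ _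
    have n7 : cj (f i (ξ₀ i)) ≠ f j (ξ₀ j) := by rw [← hfconj]; exact hdisj i j hij _ _
    have n8 : cj (f i (ξ₀ i)) ≠ cj (f j (ξ₀ j)) := by rw [← hfconj, ← hfconj]; exact hdisj i j hij _ _
    have hE : ∑ χ ∈ E, t χ = t one + (t (f i (ξ₀ i)) + (t (cj (f i (ξ₀ i))) + (t (f j (ξ₀ j)) + t (cj (f j (ξ₀ j)))))) := by
      simp only [E]
      rw [Finset.sum_insert (by simp [n1, n2, n3, n4]), Finset.sum_insert (by simp [h1.symm, n5, n6]),
        Finset.sum_insert (by simp [n7, n8]), Finset.sum_insert (by simp [h2.symm]), Finset.sum_singleton]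
    have hj' : c j (ξ₀ j) (cj (f i (ξ₀ i))) = a i j := by
      rw [← hfconj]; exact hcindep' i j hij (ξ₀ j) _ _
    have hi' : c i (ξ₀ i) (cj (f j (ξ₀ j))) = a j i := by
      rw [← hfconj]; exact hcindep' j i hij.symm (ξ₀ i) _ _
    have hown : ∀ k, c k (ξ₀ k) (cj (f k (ξ₀ k))) = c k (ξ₀ k) (f k (ξ₀ k)) + z k := by
      intro k
      have h := hstep k (ξ₀ k) ((D k).conjT (ξ₀ k)) (cj (f k (ξ₀ k)))
      rw [hcconj, hfconj, if_pos rfl, if_neg fun h' => hf_ne_one _ _ (hcj1 _ h'.symm)] at h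
      linarith
    have hval : ∑ χ ∈ E, t χ =
        1 + 2 * (c i (ξ₀ i) (f i (ξ₀ i)) * a i j + c j (ξ₀ j) (f j (ξ₀ j)) * a j i) + (z i * a i j + z j * a j i) := by
      rw [hE]
      simp only [t, hone, hj', hi', hown]
      simp only [a]
      ring
    rw [hval] at ht
    have hev := heven.two_dvd
    rw [Int.odd_iff]
    rcases hz i with hzi | hzi <;> rcases hz j with hzj | hzj <;> rw [hzi, hzj] at ht <;> omega
  -- bounds
  have hN : ∀ i j, i ≠ j → ∑ η : (D j).T, classInner ((D j).alpha η) (ψ i) = (((D j).s * a i j : ℤ) : ℂ) := by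
    intro i j hij
    rw [Finset.sum_congr rfl fun η _ => show classInner ((D j).alpha η) (ψ i) = ((a i j : ℤ) : ℂ) by
      rw [hc]; exact congrArg Int.cast (hcindep i j hij η (ξ₀ j) (ξ₀ i)), Finset.sum_const, Finset.card_univ,
      nsmul_eq_mul, Int.cast_mul]
    rfl
  have hcls : ∀ i, IsClassFunction G (ψ i) := fun i => classFun_of_irr (f i (ξ₀ i)).2
  have hs2 : ∀ i, 2 ≤ (D i).s := fun i => (D i).two_le_s hodd
  have hq1 : ∀ i, (1 : ℝ) < (D i).q := fun i => by exact_mod_cast (D i).one_lt_q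
  have hepos : ∀ i, (0 : ℝ) < (D i).e := fun i => by
    have := (D i).one_lt_e; exact_mod_cast (by omega : 0 < (D i).e)
  have hse : ∀ i, ((D i).s : ℝ) * (D i).e = ((D i).q : ℝ) - 1 := fun i => by
    rw [← Nat.cast_mul, (D i).s_mul_e, Nat.cast_sub (D i).one_lt_q.le, Nat.cast_one]
  have hMnn : ∀ i χ, 0 ≤ (D i).M χ := fun i χ => by
    simp only [Datum.M]
    refine mul_nonneg (by positivity) (Finset.sum_nonneg fun k _ => ?_)
    split_ifs <;> positivity
  have hout : ∀ i j, i ≠ j → Odd (a i j) → (D j).w' ≤ (D j).M (ψ i) := by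
    intro i j hij ho
    have h := (D j).Mout_ge (hs2 j) (hcls i) (ξ₀ j) _ (a i j) (hN i j hij) (hc j (ξ₀ j) (f i (ξ₀ i)))
    have h2 : (1 : ℝ) ≤ (a i j : ℝ) ^ 2 := by
      have h0 : a i j ≠ 0 := fun h0 => by rw [h0] at ho; exact absurd ho (by decide)
      have : (1 : ℤ) ≤ a i j ^ 2 := by nlinarith [Int.one_le_abs h0, abs_nonneg (a i j), sq_abs (a i j)]
      exact_mod_cast this
    have e : ((((D j).s * a i j : ℤ) : ℝ)) ^ 2 * (D j).e / ((D j).q * ((D j).q - 1)) = (a i j : ℝ) ^ 2 * (D j).w' := by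
      have := hq1 j
      have := hepos j
      have hs : ((D j).s : ℝ) = (((D j).q : ℝ) - 1) / (D j).e := by rw [eq_div_iff (ne_of_gt (hepos j))]; exact hse j
      unfold Datum.w'
      push_cast
      rw [hs]
      have : ((D j).q : ℝ) - 1 ≠ 0 := by linarith
      field_simp
    rw [e] at h
    have hw0 : 0 ≤ (D j).w' := by
      unfold Datum.w'
      exact div_nonneg (by rw [sub_nonneg, div_le_one (by linarith [hq1 j])]; exact (hq1 j).le) (hepos j).le
    have h0 := (D j).Min'_nonneg (ψ i)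
    have h3 : (0 : ℝ) ≤ ((((D j).s * a i j : ℤ) : ℝ) - (D j).s * a i j) ^ 2 / ((D j).s * ((D j).s - 1)) := by
      simp
    rw [Datum.M_eq]
    nlinarith
  have houtp : ∀ i j, i ≠ j → Odd (a i j) → (∃ p m : ℕ, p.Prime ∧ (D j).h = p ^ m) →
      (D j).w ≤ (D j).M (ψ i) := by
    rintro i j hij ho ⟨p, m, hp, hh⟩
    haveI := Fact.mk hp
    have h := (D j).Mout_ge (hs2 j) (hcls i) (ξ₀ j) _ (a i j) (hN i j hij) (hc j (ξ₀ j) (f i (ξ₀ i)))
    have e : ((((D j).s * a i j : ℤ) : ℝ)) ^ 2 * (D j).e / ((D j).q * ((D j).q - 1)) = (a i j : ℝ) ^ 2 * (D j).w' := by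
      have := hq1 j
      have := hepos j
      have hs : ((D j).s : ℝ) = (((D j).q : ℝ) - 1) / (D j).e := by rw [eq_div_iff (ne_of_gt (hepos j))]; exact hse j
      unfold Datum.w'
      push_cast
      rw [hs]
      have : ((D j).q : ℝ) - 1 ≠ 0 := by linarith
      field_simp
    rw [e] at h
    have h3 : (0 : ℝ) ≤ ((((D j).s * a i j : ℤ) : ℝ) - (D j).s * a i j) ^ 2 / ((D j).s * ((D j).s - 1)) := by simp
    have hsub := (D j).w_sub
    rw [Datum.M_eq]
    by_cases ha : a i j = 1 ∨ a i j = -1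
    · have hpn : ¬ (p : ℤ) ∣ (D j).s * a i j := by
        intro hd
        have hd' : p ∣ (D j).s := by
          rcases ha with ha | ha <;> rw [ha] at hd <;>
            exact Int.natCast_dvd_natCast.1 (by simpa using hd)
        have hq : p ∣ (D j).q := by
          have h1 : (D j).q ∣ p ^ m := hh ▸ Dvd.intro _ (D j).h_eq_mul.symm
          obtain ⟨k, -, hk⟩ := (Nat.dvd_prime_pow hp).1 h1
          have : k ≠ 0 := by rintro rfl; exact absurd hk (Nat.ne_of_gt (by simpa using (D j).one_lt_q))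
          exact hk ▸ dvd_pow_self p this
        have h1 : (D j).s * (D j).e + 1 = (D j).q := by
          have := (D j).s_mul_e; have := (D j).one_lt_q; omega
        exact hp.not_dvd_one ((Nat.dvd_add_right (hd'.mul_right _)).1 (h1 ▸ hq))
      have h4 := (D j).Min'_ge hh (f i (ξ₀ i)).2 (hN i j hij) hpn
      have ha2 : (a i j : ℝ) ^ 2 = 1 := by rcases ha with ha | ha <;> rw [ha] <;> norm_num
      rw [ha2] at h
      linarith
    · have h0 : a i j ≠ 0 := fun h0 => by rw [h0] at ho; exact absurd ho (by decide)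
      have h9 : (4 : ℤ) ≤ a i j ^ 2 := by
        push Not at ha
        have : 2 ≤ |a i j| := by rcases abs_cases (a i j) with h | h <;> omega
        nlinarith [sq_abs (a i j)]
      have h9' : (4 : ℝ) ≤ (a i j : ℝ) ^ 2 := by exact_mod_cast h9
      have hw : (D j).w ≤ 4 * (D j).w' := by
        refine (D j).w_le.trans ?_
        unfold Datum.w'
        rw [← mul_div_assoc]
        gcongr
        have : 1 / ((D j).q : ℝ) ≤ 1 / 2 := by
          gcongr
          exact_mod_cast (D j).one_lt_q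
        linarith
      have hw0 : 0 ≤ (D j).w' := by
        unfold Datum.w'
        exact div_nonneg (by rw [sub_nonneg, div_le_one (by linarith [hq1 j])]; exact (hq1 j).le) (hepos j).le
      have := (D j).Min'_nonneg (ψ i)
      nlinarith
  -- the own kernel
  have hown : ∀ i, 1 - ((D i).e : ℝ) / (D i).q ≤ (D i).M (ψ i) ∧
      (∀ p m : ℕ, p.Prime → (D i).h = p ^ m → (D i).s = 2 →
        1 - ((D i).e : ℝ) / (D i).q + ((D i).w - (D i).w') ≤ (D i).M (ψ i)) := by
    intro i
    set C := c i (ξ₀ i) (f i (ξ₀ i))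
    have hval : ∀ η : (D i).T, c i η (f i (ξ₀ i)) = C + (if η = ξ₀ i then 0 else z i) := by
      intro η
      have h := hstep i η (ξ₀ i) (f i (ξ₀ i))
      rw [if_pos rfl] at h
      by_cases hη : η = ξ₀ i
      · rw [hη, if_pos rfl, add_zero]
      · rw [if_neg fun h' => hη (hinj i h')] at h
        rw [if_neg hη]
        linarith
    set N : ℤ := (D i).s * C + ((D i).s - 1) * z i
    have hNi : ∑ η : (D i).T, classInner ((D i).alpha η) (ψ i) = (N : ℂ) := by
      rw [Finset.sum_congr rfl fun η _ => show classInner ((D i).alpha η) (ψ i) = (((c i η (f i (ξ₀ i))) : ℤ) : ℂ) from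
        hc i η _, ← Int.cast_sum, Int.cast_inj]
      simp only [hval, Finset.sum_add_distrib, Finset.sum_const, Finset.card_univ, Finset.sum_ite,
        Finset.sum_const_zero, zero_add, Finset.filter_ne', Finset.card_erase_of_mem (Finset.mem_univ _),
        nsmul_eq_mul, N, Datum.s]
      rw [Nat.cast_sub (Fintype.card_pos_iff.2 ⟨ξ₀ i⟩)]
      push_cast
      ring
    have h := (D i).Mout_ge (hs2 i) (hcls i) (ξ₀ i) N C hNi (hc i (ξ₀ i) (f i (ξ₀ i)))
    have hs2R : (2 : ℝ) ≤ (D i).s := by exact_mod_cast hs2 i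
    have hz2 : (z i : ℝ) ^ 2 = 1 := by rcases hz i with hzi | hzi <;> rw [hzi] <;> norm_num
    have e2 : ((N : ℝ) - (D i).s * C) ^ 2 / ((D i).s * ((D i).s - 1)) = 1 - 1 / ((D i).s : ℝ) := by
      have : (D i).s - (1 : ℝ) ≠ 0 := by linarith
      have : ((D i).s : ℝ) ≠ 0 := by linarith
      simp only [N]
      push_cast
      field_simp
      linear_combination ((D i).s - (1 : ℝ)) ^ 2 * hz2
    have hNne : N ≠ 0 := by
      intro h0
      have hd : ((D i).s : ℤ) ∣ z i := ⟨C + z i, by simp only [N] at h0; linear_combination -h0⟩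
      have hs' : (2 : ℤ) ≤ ((D i).s : ℤ) := by exact_mod_cast hs2 i
      have := Int.le_of_dvd (show (0 : ℤ) < |z i| by rcases hz i with hzi | hzi <;> rw [hzi] <;> norm_num)
        ((dvd_abs _ _).2 hd)
      rcases hz i with hzi | hzi <;> rw [hzi] at this <;> norm_num at this <;> omega
    have hN1 : (1 : ℝ) ≤ (N : ℝ) ^ 2 := by
      have : (1 : ℤ) ≤ N ^ 2 := by nlinarith [Int.one_le_abs hNne, abs_nonneg N, sq_abs N]
      exact_mod_cast this
    have hqpos : (0 : ℝ) < (D i).q * ((D i).q - 1) := mul_pos (by linarith [hq1 i]) (by linarith [hq1 i])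
    have e3 : 1 - 1 / ((D i).s : ℝ) + (1 : ℝ) * (D i).e / ((D i).q * ((D i).q - 1)) = 1 - ((D i).e : ℝ) / (D i).q := by
      have hs : ((D i).s : ℝ) = (((D i).q : ℝ) - 1) / (D i).e := by rw [eq_div_iff (ne_of_gt (hepos i))]; exact hse i
      rw [hs]
      have := hq1 i; have := hepos i
      have : ((D i).q : ℝ) - 1 ≠ 0 := by linarith
      field_simp
      ring
    rw [e2] at h
    have h4 : (1 : ℝ) * (D i).e / ((D i).q * ((D i).q - 1)) ≤ (N : ℝ) ^ 2 * (D i).e / ((D i).q * ((D i).q - 1)) := by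
      have := hepos i
      gcongr
    have h0 := (D i).Min'_nonneg (ψ i)
    refine ⟨by rw [Datum.M_eq]; linarith, fun p m hp hh hs => ?_⟩
    rw [Datum.M_eq, (D i).w_sub]
    haveI := Fact.mk hp
    by_cases hN' : N = 1 ∨ N = -1
    · have hpn : ¬ (p : ℤ) ∣ N := by
        intro hd
        rcases hN' with hN' | hN' <;> rw [hN'] at hd <;>
          exact hp.not_dvd_one (Int.natCast_dvd_natCast.1 (by simpa using hd))
      have h5 := (D i).Min'_ge hh (f i (ξ₀ i)).2 hNi hpn
      linarith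
    · have h9 : (4 : ℝ) ≤ (N : ℝ) ^ 2 := by
        have : (4 : ℤ) ≤ N ^ 2 := by
          push Not at hN'
          have : 2 ≤ |N| := by rcases abs_cases N with h | h <;> omega
          nlinarith [sq_abs N]
        exact_mod_cast this
      have hq' : ((D i).q : ℝ) - 1 = 2 * (D i).e := by rw [← hse i, hs]; norm_num
      have h6 : (4 : ℝ) * (D i).e / ((D i).q * ((D i).q - 1)) ≤ (N : ℝ) ^ 2 * (D i).e / ((D i).q * ((D i).q - 1)) := by
        have := hepos i
        gcongr
      have h7 : (1 / ((D i).q : ℝ) - 1 / (D i).h) / (D i).e ≤ 1 / ((D i).q * (D i).e) := by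
        rw [← div_div]
        have := hepos i
        gcongr
        simp
      have he1 : (1 : ℝ) < (D i).e := by exact_mod_cast (D i).one_lt_e
      have h8 : (4 : ℝ) * (D i).e / ((D i).q * ((D i).q - 1)) =
          (1 : ℝ) * (D i).e / ((D i).q * ((D i).q - 1)) + 3 / (2 * (D i).q) := by
        rw [hq']
        have := hq1 i; have := hepos i
        field_simp
        ring
      have h10 : 1 / (((D i).q : ℝ) * (D i).e) ≤ 3 / (2 * (D i).q) := by
        have := hq1 i
        rw [div_le_div_iff₀ (by positivity) (by positivity)]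
        nlinarith
      linarith
  -- norms
  let In : ι → Finset ι := fun i => Finset.univ.filter fun k => k ≠ i ∧ Odd (a k i)
  let Out : ι → Finset ι := fun i => Finset.univ.filter fun k => k ≠ i ∧ ¬ Odd (a k i)
  have hOdd : ∀ i, ∀ j ∈ Out i, i ≠ j ∧ Odd (a i j) := by
    intro i j hj
    obtain ⟨-, hne, hno⟩ := Finset.mem_filter.1 hj
    refine ⟨hne.symm, ?_⟩
    have h := hpar i j hne.symm
    rw [Int.odd_add] at h
    exact h.2 (Int.not_odd_iff_even.1 hno)
  have hsplit : ∀ (i : ι) (F : ι → ℝ), ∑ k, F k = F i + ∑ k ∈ In i, F k + ∑ k ∈ Out i, F k := by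
    intro i F
    rw [← Finset.add_sum_erase _ _ (Finset.mem_univ i), add_assoc,
      ← Finset.sum_filter_add_sum_filter_not (Finset.univ.erase i) (fun k => Odd (a k i))]
    congr 2 <;> refine Finset.sum_congr (by ext k; simp [In, Out, and_comm]) fun _ _ => rfl
  have hIn : ∀ i, ∑ k ∈ In i, ((D k).s : ℝ) ≤ ((D i).e : ℝ) - 1 := by
    intro i
    have hnorm : ∑ χ : IrrCharacter G, (c i (ξ₀ i) χ) ^ 2 = ((D i).e : ℤ) + 1 := by
      have h : classInner ((D i).alpha (ξ₀ i)) ((D i).alpha (ξ₀ i)) = ((D i).e : ℂ) + 1 := by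
        rw [(D i).alpha_inner, if_pos rfl]
      conv at h => lhs; arg 2; rw [classFun_eq_sum (classFun_of_gen ((D i).alpha_gen (ξ₀ i)))]
      simp only [classInner_sum_right, classInner_smul_right, hc, map_intCast] at h
      have h' : ((∑ χ : IrrCharacter G, (c i (ξ₀ i) χ) ^ 2 : ℤ) : ℂ) = (((D i).e : ℤ) + 1 : ℤ) := by
        push_cast
        rw [← h]
        exact Finset.sum_congr rfl fun χ _ => by ring
      exact_mod_cast h'
    set P := ({f i (ξ₀ i), cj (f i (ξ₀ i))} : Finset (IrrCharacter G))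
    set U : Finset (IrrCharacter G) := (In i).biUnion fun k => Finset.univ.image (f k)
    have hUP : Disjoint U P := by
      rw [Finset.disjoint_left]
      intro χ hχ hP
      obtain ⟨k, hk, hχk⟩ := Finset.mem_biUnion.1 hχ
      obtain ⟨η, -, rfl⟩ := Finset.mem_image.1 hχk
      have hki := (Finset.mem_filter.1 hk).2.1
      simp only [P, Finset.mem_insert, Finset.mem_singleton] at hP
      rcases hP with h | h
      · exact hdisj k i hki _ _ h
      · rw [← hfconj] at h; exact hdisj k i hki _ _ h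
    have hone' : one ∉ U ∪ P := by
      simp only [U, P, Finset.mem_union, Finset.mem_biUnion, Finset.mem_image, Finset.mem_insert,
        Finset.mem_singleton, Finset.mem_univ, true_and, not_or, not_exists, not_and]
      exact ⟨fun k _ η => hf_ne_one k η, (hf_ne_one _ _).symm, by rw [← hfconj]; exact (hf_ne_one _ _).symm⟩
    have hle : (c i (ξ₀ i) one) ^ 2 + (∑ χ ∈ U, (c i (ξ₀ i) χ) ^ 2 + ∑ χ ∈ P, (c i (ξ₀ i) χ) ^ 2) ≤
        ((D i).e : ℤ) + 1 := by
      rw [← Finset.sum_union hUP, ← Finset.sum_insert (f := fun χ => (c i (ξ₀ i) χ) ^ 2) hone', ← hnorm]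
      exact Finset.sum_le_sum_of_subset_of_nonneg (Finset.subset_univ _) fun _ _ _ => sq_nonneg _
    have hP1 : (1 : ℤ) ≤ ∑ χ ∈ P, (c i (ξ₀ i) χ) ^ 2 := by
      simp only [P]
      rw [Finset.sum_pair fun h => hf_ne_one _ _ (hcj1 _ h.symm)]
      have h := hstep i (ξ₀ i) ((D i).conjT (ξ₀ i)) (cj (f i (ξ₀ i)))
      rw [hcconj, hfconj, if_pos rfl, if_neg fun h' => hf_ne_one _ _ (hcj1 _ h'.symm)] at h
      have hne : c i (ξ₀ i) (cj (f i (ξ₀ i))) ≠ c i (ξ₀ i) (f i (ξ₀ i)) := by
        rcases hz i with hzi | hzi <;> rw [hzi] at h <;> omega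
      by_cases h0 : c i (ξ₀ i) (f i (ξ₀ i)) = 0
      · have h1 : c i (ξ₀ i) (cj (f i (ξ₀ i))) ≠ 0 := h0 ▸ hne
        nlinarith [Int.one_le_abs h1, sq_abs (c i (ξ₀ i) (cj (f i (ξ₀ i))))]
      · nlinarith [Int.one_le_abs h0, sq_abs (c i (ξ₀ i) (f i (ξ₀ i))), sq_nonneg (c i (ξ₀ i) (cj (f i (ξ₀ i))))]
    have hU : (∑ k ∈ In i, ((D k).s : ℤ)) ≤ ∑ χ ∈ U, (c i (ξ₀ i) χ) ^ 2 := by
      rw [Finset.sum_biUnion]
      · refine Finset.sum_le_sum fun k hk => ?_
        obtain ⟨-, hki, hko⟩ := Finset.mem_filter.1 hk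
        rw [Finset.sum_image fun a _ b _ h => hinj k h]
        calc ((D k).s : ℤ) = ∑ _η : (D k).T, (1 : ℤ) := by simp [Datum.s]
          _ ≤ _ := Finset.sum_le_sum fun η _ => by
            rw [hcindep' k i hki (ξ₀ i) η (ξ₀ k)]
            have h0 : a k i ≠ 0 := fun h0 => by rw [h0] at hko; exact absurd hko (by decide)
            show (1 : ℤ) ≤ a k i ^ 2
            nlinarith [Int.one_le_abs h0, sq_abs (a k i)]
      · intro k _ l _ hkl
        rw [Function.onFun, Finset.disjoint_left]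
        intro χ h h'
        obtain ⟨η, -, rfl⟩ := Finset.mem_image.1 h
        obtain ⟨θ, -, e⟩ := Finset.mem_image.1 h'
        exact hdisj l k (Ne.symm hkl) θ η e
    have h5 : (∑ k ∈ In i, ((D k).s : ℤ)) ≤ ((D i).e : ℤ) - 1 := by
      rw [hone] at hle
      linarith
    exact_mod_cast h5
  -- the in-neighbours
  have hInW : ∀ i (m : ℝ), 1 < m → (∀ k, k ≠ i → m ≤ (D k).q) →
      ∑ k ∈ In i, (D k).w ≤ (((D i).e : ℝ) - 1) / (m - 1) := by
    intro i m hm hq
    refine le_trans (Finset.sum_le_sum (g := fun k => ((D k).s : ℝ) / (m - 1)) fun k hk => ?_) ?_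
    · refine ((D k).w_le).trans ?_
      rw [(D k).inv_e]
      have := hq k (Finset.mem_filter.1 hk).2.1
      gcongr
    · rw [← Finset.sum_div]
      gcongr
      exact hIn i
  -- the out-neighbours
  have hOutW : ∀ i (r : ℝ), 0 ≤ r → (∀ j ∈ Out i, (D j).w ≤ r * (D j).M (ψ i)) →
      ∑ j ∈ Out i, (D j).w ≤ r * (1 - (D i).M (ψ i)) := by
    intro i r hr h
    refine (Finset.sum_le_sum h).trans ?_
    rw [← Finset.mul_sum]
    refine mul_le_mul_of_nonneg_left ?_ hr
    have h1 := hM (ψ i) (f i (ξ₀ i)).2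
    rw [hsplit i] at h1
    have h2 : 0 ≤ ∑ k ∈ In i, (D k).M (ψ i) := Finset.sum_nonneg fun k _ => hMnn k _
    linarith
  have hgen : ∀ i (m : ℝ), 1 < m → (∀ k, k ≠ i → m ≤ (D k).q) →
      1 - 1 / (Nat.card G : ℝ) ≤
        1 / (D i).e + m / (m - 1) * (((D i).e : ℝ) / (D i).q) + (((D i).e : ℝ) - 1) / (m - 1) := by
    intro i m hm hq
    have hr : (0 : ℝ) ≤ m / (m - 1) := div_nonneg (by linarith) (by linarith)
    have h1 := hOutW i (m / (m - 1)) hr fun j hj => by
      obtain ⟨hij, ho⟩ := hOdd i j hj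
      refine le_trans ?_ (mul_le_mul_of_nonneg_left (hout i j hij ho) hr)
      refine (D j).w_le.trans ?_
      unfold Datum.w'
      rw [← mul_div_assoc]
      have := hepos j
      gcongr
      have hqj := hq j hij.symm
      have : 1 / ((D j).q : ℝ) ≤ 1 / m := by gcongr
      have e : m / (m - 1) * (1 - 1 / m) = 1 := by
        have : m - 1 ≠ 0 := by linarith
        field_simp
      calc (1 : ℝ) = m / (m - 1) * (1 - 1 / m) := e.symm
        _ ≤ _ := by gcongr
    have h2 : m / (m - 1) * (1 - (D i).M (ψ i)) ≤ m / (m - 1) * (((D i).e : ℝ) / (D i).q) :=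
      mul_le_mul_of_nonneg_left (by linarith [(hown i).1]) hr
    rw [← hw, hsplit i]
    linarith [(D i).w_le, hInW i m hm hq]
  -- numerical facts
  have he3 : ∀ i, (3 : ℝ) ≤ (D i).e := fun i => by
    have h1 := (D i).one_lt_e
    obtain ⟨l, hl⟩ := (D i).odd_e hodd
    exact_mod_cast (by omega : 3 ≤ (D i).e)
  have hqe : ∀ i, 2 * ((D i).e : ℝ) + 1 ≤ (D i).q := fun i => by exact_mod_cast (D i).q_ge hodd
  have hGq : ∀ i, 3 * ((D i).q : ℝ) ≤ Nat.card G ∧ ((D i).e : ℝ) * (D i).q ≤ Nat.card G := by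
    intro i
    have h1 : Nat.card (D i).L ≤ Nat.card G := Subgroup.card_le_card_group _
    have h2 : ((D i).q : ℝ) ≤ (D i).h := by
      exact_mod_cast Nat.le_of_dvd Nat.card_pos (Dvd.intro _ (D i).h_eq_mul.symm)
    have h3 : ((D i).e : ℝ) * (D i).h ≤ Nat.card G := by rw [(D i).card_L] at h1; exact_mod_cast h1
    have := he3 i; have := hq1 i
    constructor <;> nlinarith
  obtain ⟨i, -, hmin⟩ := Finset.exists_min_image (Finset.univ : Finset ι) (fun k => (D k).q) Finset.univ_nonempty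
  have hqodd : ∀ k, Odd (D k).q := fun k =>
    ((D k).odd_h hodd).of_dvd_nat (Dvd.intro _ (D k).h_eq_mul.symm)
  have hnext : ∀ k, k ≠ i → (D i).q + 2 ≤ (D k).q := by
    intro k hk
    have h := hmin k (Finset.mem_univ k)
    have hne : (D k).q ≠ (D i).q := by
      intro he
      have hd : (D i).q ∣ Nat.gcd (Nat.card (D k).H) (Nat.card (D i).H) := Nat.dvd_gcd
        (by rw [← he, ← (D k).h_eq]; exact Dvd.intro _ (D k).h_eq_mul.symm)
        (by rw [← (D i).h_eq]; exact Dvd.intro _ (D i).h_eq_mul.symm)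
      rw [hcop k i hk] at hd
      have := Nat.le_of_dvd one_pos hd
      have := (D i).one_lt_q
      omega
    obtain ⟨x, hx⟩ := hqodd k
    obtain ⟨y, hy⟩ := hqodd i
    omega
  have hnextR : ∀ k, k ≠ i → ((D i).q : ℝ) + 2 ≤ (D k).q := fun k hk => by exact_mod_cast hnext k hk
  set e : ℝ := ((D i).e : ℝ) with he
  set q : ℝ := ((D i).q : ℝ) with hqdef
  have he3i : (3 : ℝ) ≤ e := he3 i
  have hqi : 2 * e + 1 ≤ q := hqe i
  have hG1 := hGq i
  by_cases hbad : ∃ j, (¬ ∃ p m : ℕ, p.Prime ∧ (D j).h = p ^ m) ∧ (D j).q ≤ 2 * (D i).q + 2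
  · obtain ⟨j, hnp, hle⟩ := hbad
    have hQ : (2 * ((D j).e : ℝ) + 1) * (2 * (D j).e + 1) ≤ (D j).q := by exact_mod_cast (D j).q_ge_sq hodd hnp
    have hleR : ((D j).q : ℝ) ≤ 2 * q + 2 := by rw [hqdef]; exact_mod_cast hle
    have h := hgen j q (by linarith) fun k _ => by
      rw [hqdef]; exact_mod_cast hmin k (Finset.mem_univ k)
    have hE := he3 j
    set E : ℝ := ((D j).e : ℝ)
    set Q : ℝ := ((D j).q : ℝ)
    have hq2 : 2 * E * E ≤ q - 1 := by nlinarith
    have b1 : 1 / E ≤ 1 / 3 := by gcongr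
    have b2 : q / (q - 1) ≤ 3 / 2 := by rw [div_le_div_iff₀ (by linarith) (by norm_num)]; nlinarith
    have b3 : E / Q ≤ 1 / 12 := by rw [div_le_div_iff₀ (by nlinarith) (by norm_num)]; nlinarith
    have b4 : (E - 1) / (q - 1) ≤ 1 / 6 := by rw [div_le_div_iff₀ (by linarith) (by norm_num)]; nlinarith
    have b5 : 1 / (Nat.card G : ℝ) ≤ 1 / 9 := by gcongr; nlinarith
    have b6 : q / (q - 1) * (E / Q) ≤ 3 / 2 * (1 / 12) :=
      mul_le_mul b2 b3 (div_nonneg (by linarith) (by nlinarith)) (by norm_num)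
    linarith
  push Not at hbad
  by_cases hk : (D i).q = 2 * (D i).e + 1
  · -- the least case
    have hpi : ∃ p m : ℕ, p.Prime ∧ (D i).h = p ^ m := by
      by_contra hnp
      have := hbad i (fun p m hp => fun hh => hnp ⟨p, m, hp, hh⟩)
      omega
    obtain ⟨p, m, hp, hh⟩ := hpi
    have hs : (D i).s = 2 := by
      have h1 := (D i).s_mul_e
      rw [hk, Nat.add_sub_cancel] at h1
      exact Nat.eq_of_mul_eq_mul_right (Nat.pos_of_ne_zero (by have := (D i).one_lt_e; omega)) h1
    have hqe' : q = 2 * e + 1 := by rw [hqdef, he]; exact_mod_cast hk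
    have hown2 := (hown i).2 p m hp hh hs
    set r : ℝ := (2 * q + 3) / (2 * q + 2)
    have hr1 : 1 ≤ r := by rw [le_div_iff₀ (by linarith)]; linarith
    have hOut := hOutW i r (by linarith) fun j hj => by
      obtain ⟨hij, ho⟩ := hOdd i j hj
      by_cases hpj : ∃ p m : ℕ, p.Prime ∧ (D j).h = p ^ m
      · refine (houtp i j hij ho hpj).trans ?_
        exact le_mul_of_one_le_left (hMnn j _) hr1
      · refine le_trans ?_ (mul_le_mul_of_nonneg_left (hout i j hij ho) (by linarith))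
        refine (D j).w_le.trans ?_
        unfold Datum.w'
        rw [← mul_div_assoc]
        have := hepos j
        gcongr
        have hQn := hbad j (fun p m hp hh' => hpj ⟨p, m, hp, hh'⟩)
        have hQ : 2 * q + 3 ≤ ((D j).q : ℝ) := by rw [hqdef]; exact_mod_cast hQn
        have h1 : 1 / ((D j).q : ℝ) ≤ 1 / (2 * q + 3) := by gcongr
        have e1 : r * (1 - 1 / (2 * q + 3)) = 1 := by
          have n1 : (2 * q + 3) ≠ 0 := by linarith
          have n2 : (2 * q + 2) ≠ 0 := by linarith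
          rw [show (1 : ℝ) - 1 / (2 * q + 3) = (2 * q + 2) / (2 * q + 3) by rw [sub_div' n1]; ring]
          simp only [r]
          rw [div_mul_div_comm, mul_comm (2 * q + 3), div_self (mul_ne_zero n2 n1)]
        calc (1 : ℝ) = r * (1 - 1 / (2 * q + 3)) := e1.symm
          _ ≤ _ := by gcongr
    have hIn' := hInW i (q + 2) (by linarith) hnextR
    have hd : 0 ≤ (D i).w - (D i).w' := by
      rw [(D i).w_sub]
      refine div_nonneg (sub_nonneg.2 ?_) (hepos i).le
      gcongr
      · linarith [hq1 i]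
      · exact Nat.le_of_dvd Nat.card_pos (Dvd.intro _ (D i).h_eq_mul.symm)
    have hOut' : ∑ j ∈ Out i, (D j).w ≤ r * (e / q) - ((D i).w - (D i).w') := by
      refine hOut.trans ?_
      have h1 : r * (1 - (D i).M (ψ i)) ≤ r * (e / q - ((D i).w - (D i).w')) :=
        mul_le_mul_of_nonneg_left (by linarith) (by linarith)
      have h2 : (D i).w - (D i).w' ≤ r * ((D i).w - (D i).w') := le_mul_of_one_le_left hd hr1
      linarith
    have hw' : (D i).w' = 2 / q := by
      unfold Datum.w'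
      rw [← hqdef, ← he, hqe']
      field_simp
      ring
    -- three kernels
    have htot : 1 - 1 / (Nat.card G : ℝ) ≤ 2 / q + r * (e / q) + (e - 1) / (q + 1) := by
      rw [← hw, hsplit i, ← hw']
      have : q + 2 - 1 = q + 1 := by ring
      rw [this] at hIn'
      linarith
    have hthree : 3 ≤ Fintype.card ι := by
      by_contra hlt
      have h1 : ∑ k, (D k).w ≤ ∑ _k : ι, (1 / 3 : ℝ) := Finset.sum_le_sum fun k _ =>
        (D k).w_le.trans (by gcongr; exact he3 k)
      rw [hw, Finset.sum_const, Finset.card_univ, nsmul_eq_mul] at h1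
      have h2 : (Fintype.card ι : ℝ) ≤ 2 := by exact_mod_cast (by omega : Fintype.card ι ≤ 2)
      have h3 : 1 / (Nat.card G : ℝ) ≤ 1 / 9 := by gcongr; linarith [hG1.1, hq1 i]
      linarith
    have hbig : q * q * q ≤ (Nat.card G : ℝ) := by
      have hdvd : ∀ s : Finset ι, ∏ k ∈ s, Nat.card (D k).H ∣ Nat.card G := by
        intro s
        induction s using Finset.induction with
        | empty => simp
        | @insert b s hb ih =>
          rw [Finset.prod_insert hb]
          exact (Nat.Coprime.prod_right fun j hj => hcop b j fun e => hb (e ▸ hj)).mul_dvd_of_dvd_of_dvd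
            (Subgroup.card_subgroup_dvd_card _) ih
      have h1 : (D i).q ^ Fintype.card ι ≤ ∏ k, Nat.card (D k).H := by
        rw [← Finset.card_univ, ← Finset.prod_const]
        refine Finset.prod_le_prod' fun k _ => ?_
        rw [← (D k).h_eq]
        exact (hmin k (Finset.mem_univ k)).trans (Nat.le_of_dvd Nat.card_pos (Dvd.intro _ (D k).h_eq_mul.symm))
      have h2 : (D i).q ^ 3 ≤ Nat.card G :=
        ((Nat.pow_le_pow_right (by have := (D i).one_lt_q; omega) hthree).trans h1).trans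
          (Nat.le_of_dvd Nat.card_pos (hdvd _))
      have h3 : (((D i).q ^ 3 : ℕ) : ℝ) ≤ (Nat.card G : ℝ) := by exact_mod_cast h2
      rw [hqdef]
      push_cast at h3
      linarith
    have e1 : 2 / q + r * (e / q) + (e - 1) / (q + 1) = 1 - (e - 2) / (2 * q * (q + 1)) := by
      simp only [r]
      rw [show 2 * q + 2 = 2 * (q + 1) by ring]
      have hq0 : q ≠ 0 := by linarith
      have hq1' : q + 1 ≠ 0 := by linarith
      field_simp
      rw [hqe']
      ring
    have hlt : 1 / (Nat.card G : ℝ) < (e - 2) / (2 * q * (q + 1)) := by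
      rw [div_lt_div_iff₀ hGpos (by nlinarith)]
      nlinarith
    linarith
  · -- the general case
    have hq3 : 2 * e + 3 ≤ q := by
      have h1 := (D i).q_ge hodd
      obtain ⟨x, hx⟩ := hqodd i
      rw [he, hqdef]
      exact_mod_cast (by omega : 2 * (D i).e + 3 ≤ (D i).q)
    have h := hgen i (q + 2) (by linarith) hnextR
    have hG' : 1 / (Nat.card G : ℝ) ≤ 1 / (e * q) := by
      gcongr
      · nlinarith
      · exact hG1.2
    have hlt : 1 / e + (q + 2) / (q + 2 - 1) * (e / q) + (e - 1) / (q + 2 - 1) + 1 / (e * q) < 1 := by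
      rw [show q + 2 - 1 = q + 1 by ring]
      have hq0 : q ≠ 0 := by linarith
      have hq1' : q + 1 ≠ 0 := by linarith
      have e1 : 1 / e + (q + 2) / (q + 1) * (e / q) + (e - 1) / (q + 1) + 1 / (e * q) =
          (q * (q + 1) + (q + 2) * e * e + (e - 1) * e * q + (q + 1)) / (e * q * (q + 1)) := by
        field_simp
      rw [e1, div_lt_one (by positivity)]
      nlinarith [mul_le_mul_of_nonneg_left hq3 (show (0 : ℝ) ≤ (e - 1) * q by nlinarith)]
    change 1 - 1 / (Nat.card G : ℝ) ≤ 1 / e + (q + 2) / (q + 2 - 1) * (e / q) + (e - 1) / (q + 2 - 1) at h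
    linarith

end CfsgLib.NoCover
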