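import Cfsg.Agent.Char.NoCoverLocal

/-! Lower bounds for the square sums of an irreducible character on a Frobenius T.I. kernel. -/

set_option autoImplicit false
set_option linter.unusedSectionVars false
set_option linter.style.haveILetI false

namespace CfsgLib.NoCover

open Cfsg CfsgLib.Char
open scoped ComplexConjugate CfsgLib.Char

universe u

theorem two_projections {X : Type*} (S : Finset X) (F v : X → ℂ) (hv : ∑ x ∈ S, v x = 0) :
    ‖∑ x ∈ S, conj (F x)‖ ^ 2 / (S.card : ℝ) +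
      ‖∑ x ∈ S, v x * conj (F x)‖ ^ 2 / (∑ x ∈ S, ‖v x‖ ^ 2) ≤ ∑ x ∈ S, ‖F x‖ ^ 2 := by
  classical
  rcases S.eq_empty_or_nonempty with rfl | hne
  · simp
  set P := ∑ x ∈ S, conj (F x) with hP
  set Q := ∑ x ∈ S, v x * conj (F x) with hQ
  set R : ℝ := ∑ x ∈ S, ‖v x‖ ^ 2 with hR
  set a : ℂ := conj P / (S.card : ℂ) with ha
  set b : ℂ := conj Q / (R : ℂ) with hb
  have hX : (∑ x ∈ S, (F x - a - b * v x) * conj (F x - a - b * v x)) =
      (∑ x ∈ S, ((‖F x‖ ^ 2 : ℝ) : ℂ)) - conj a * conj P - a * P - conj b * conj Q - b * Q +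
        (S.card : ℂ) * (a * conj a) + b * conj b * (R : ℂ) := by
    have e1 : ∀ x ∈ S, (F x - a - b * v x) * conj (F x - a - b * v x) =
        F x * conj (F x) + (-conj a) * F x + (-a) * conj (F x) + (-conj b) * conj (v x * conj (F x)) +
          (-b) * (v x * conj (F x)) + (a * conj b) * conj (v x) + (conj a * b) * v x + a * conj a +
          (b * conj b) * (v x * conj (v x)) := fun x _ => by
      simp only [map_sub, map_mul, Complex.conj_conj]; ring
    rw [Finset.sum_congr rfl e1]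
    simp only [Finset.sum_add_distrib, ← Finset.mul_sum, hv, Finset.sum_const, nsmul_eq_mul]
    rw [← map_sum conj, ← map_sum conj (fun x => v x), hv, map_zero]
    have hF : ∑ x ∈ S, F x = conj P := by simp [hP, map_sum]
    have hR' : ∑ x ∈ S, v x * conj (v x) = (R : ℂ) := by
      rw [hR, Complex.ofReal_sum]
      exact Finset.sum_congr rfl fun x _ => by rw [Complex.mul_conj']; simp
    have hFF : ∑ x ∈ S, F x * conj (F x) = ∑ x ∈ S, ((‖F x‖ ^ 2 : ℝ) : ℂ) :=
      Finset.sum_congr rfl fun x _ => by rw [Complex.mul_conj']; simp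
    rw [hR', hFF, show ∑ x ∈ S, conj (v x * conj (F x)) = conj Q from (map_sum conj _ _).symm, ← hQ, hF, Complex.conj_conj]
    ring
  have hpos : 0 ≤ (∑ x ∈ S, (F x - a - b * v x) * conj (F x - a - b * v x)).re := by
    rw [Complex.re_sum]
    exact Finset.sum_nonneg fun x _ => by rw [Complex.mul_conj']; norm_cast; positivity
  have hS : (S.card : ℂ) ≠ 0 := Nat.cast_ne_zero.2 hne.card_pos.ne'
  have e2 : conj a * conj P + a * P - (S.card : ℂ) * (a * conj a) = ((‖P‖ ^ 2 / (S.card : ℝ) : ℝ) : ℂ) := by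
    simp only [ha, map_div₀, Complex.conj_conj, map_natCast]
    push_cast
    rw [← Complex.mul_conj' P]
    field_simp
    ring
  have e3 : conj b * conj Q + b * Q - b * conj b * (R : ℂ) = ((‖Q‖ ^ 2 / R : ℝ) : ℂ) := by
    rcases eq_or_ne R 0 with h0 | h0
    · simp [hb, h0]
    simp only [hb, map_div₀, Complex.conj_conj, Complex.conj_ofReal]
    push_cast
    rw [← Complex.mul_conj' Q]
    have : (R : ℂ) ≠ 0 := Complex.ofReal_ne_zero.2 h0
    field_simp
    ring
  have hX' : (∑ x ∈ S, (F x - a - b * v x) * conj (F x - a - b * v x)) =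
      (((∑ x ∈ S, ‖F x‖ ^ 2) - ‖P‖ ^ 2 / (S.card : ℝ) - ‖Q‖ ^ 2 / R : ℝ) : ℂ) := by
    rw [hX, Complex.ofReal_sub, Complex.ofReal_sub, ← e2, ← e3, Complex.ofReal_sum]
    push_cast
    ring
  rw [hX', Complex.ofReal_re] at hpos
  linarith

variable {G : Type u} [Group G] [Fintype G]

namespace Datum

variable (D : Datum G)

open Classical in
/-- square sum on the nontrivial elements of the kernel, normalised -/
noncomputable def M (ψ : G → ℂ) : ℝ :=
  (Nat.card D.L : ℝ)⁻¹ * ∑ k : D.K, if k = 1 then 0 else ‖ψ ((k : D.L) : G)‖ ^ 2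

open Classical in
noncomputable def Mout (ψ : G → ℂ) : ℝ :=
  (Nat.card D.L : ℝ)⁻¹ * ∑ k ∈ Finset.univ.filter (fun k : D.K => k ∉ commutator D.K), ‖ψ ((k : D.L) : G)‖ ^ 2

open Classical in
noncomputable def Min' (ψ : G → ℂ) : ℝ :=
  (Nat.card D.L : ℝ)⁻¹ * ∑ k ∈ Finset.univ.filter (fun k : D.K => k ∈ commutator D.K ∧ k ≠ 1),
    ‖ψ ((k : D.L) : G)‖ ^ 2

theorem M_eq (ψ : G → ℂ) : D.M ψ = D.Mout ψ + D.Min' ψ := by
  classical
  rw [M, Mout, Min', ← mul_add]
  congr 1
  rw [Finset.sum_filter, Finset.sum_filter, ← Finset.sum_add_distrib]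
  refine Finset.sum_congr rfl fun k _ => ?_
  by_cases h1 : k = 1
  · subst h1; simp [one_mem]
  · by_cases hk : k ∈ commutator D.K <;> simp [h1, hk]

theorem Min'_nonneg (ψ : G → ℂ) : 0 ≤ D.Min' ψ := by
  classical
  rw [Min']; positivity

theorem h_eq_mul : D.h = D.q * Nat.card (commutator D.K) := (Subgroup.index_mul_card _).symm

theorem two_le_s (hodd : Odd (Nat.card G)) : 2 ≤ D.s := by
  obtain ⟨η⟩ := D.T_nonempty
  exact Fintype.one_lt_card_iff.2 ⟨_, _, D.conjT_ne hodd η⟩

open Classical in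
theorem Mout_ge (hs : 2 ≤ D.s) {ψ : G → ℂ} (hψ : IsClassFunction G ψ) (ξ : D.T) (N c : ℤ)
    (hN : ∑ η : D.T, classInner (D.alpha η) ψ = N) (hc : classInner (D.alpha ξ) ψ = c) :
    (N : ℝ) ^ 2 * D.e / (D.q * (D.q - 1)) + ((N : ℝ) - D.s * c) ^ 2 / (D.s * (D.s - 1)) ≤ D.Mout ψ := by
  set S := Finset.univ.filter (fun k : D.K => k ∉ commutator D.K) with hS
  set v : D.K → ℂ := fun k => (D.s : ℂ) * (ξ.1 : D.L → ℂ) k - ∑ η : D.T, (η.1 : D.L → ℂ) k with hv
  have hq := D.one_lt_q
  have he := D.one_lt_e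
  have hqR : (1 : ℝ) < D.q := by exact_mod_cast hq
  have hqC : (D.q : ℂ) ≠ 0 := Nat.cast_ne_zero.2 (by omega)
  have hLC : (Nat.card D.L : ℂ) ≠ 0 := Nat.cast_ne_zero.2 Nat.card_pos.ne'
  have hse : (D.s : ℂ) * D.e = (D.q : ℂ) - 1 := by
    rw [← Nat.cast_mul, D.s_mul_e, Nat.cast_sub hq.le, Nat.cast_one]
  have hv0 : ∀ k : D.K, k ∈ commutator D.K → v k = 0 := by
    intro k hk
    obtain ⟨μ, -, e⟩ := ξ.2
    have hξk : (ξ.1 : D.L → ℂ) k = D.e := by
      have h := congrFun (indFun_restrict (N := D.K) fun x : D.K => (μ x : ℂ)) k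
      rw [e, h, Pi.smul_apply, Finset.sum_apply]
      have h1 : ∀ g : D.L, conjN (fun x : D.K => (μ x : ℂ)) g k = 1 := by
        intro g
        show ((μ _ : ℂˣ) : ℂ) = 1
        rw [Units.val_eq_one]
        refine (Abelianization.commutator_subset_ker μ) ?_
        exact (SetLike.ext_iff.1 (Subgroup.Characteristic.fixed (H := commutator D.K) inferInstance
          (MulAut.conjNormal g)) k).2 hk
      simp only [Finset.sum_congr rfl fun g _ => h1 g, Finset.sum_const, Finset.card_univ, nsmul_eq_mul, mul_one,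
        smul_eq_mul]
      rw [← Nat.card_eq_fintype_card, D.card_L, Nat.cast_mul, mul_comm (D.e : ℂ), ← mul_assoc, Datum.h,
        inv_mul_cancel₀ (natCard_ne_zero D.K), one_mul]
    simp only [hv, hξk, hse, D.sum_T k, if_pos hk, sub_self]
  have hP : ∑ k ∈ S, conj (ψ ((k : D.L) : G)) = (N : ℂ) * (Nat.card D.L : ℂ) / (D.q : ℂ) := by
    rw [← hN, D.sum_alpha_inner hψ, Finset.sum_filter]
    simp only [ite_not]
    field_simp
  have hdiff : ∀ x : D.L, x ∈ D.K ∨ (D.phi ξ x = 0 ∧ ∀ η : D.T, (η.1 : D.L → ℂ) x = 0) := fun x => by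
    by_cases hx : x ∈ D.K
    · exact Or.inl hx
    · exact Or.inr ⟨D.phi_outside ξ hx, fun η => FrobTI.rel_vanish D.hC (D.T_rel η) hx⟩
  let V : D.L → ℂ := fun x => (D.s : ℂ) * (ξ.1 : D.L → ℂ) x - ∑ η : D.T, (η.1 : D.L → ℂ) x
  have hVout : ∀ x : D.L, x ∉ D.K → V x = 0 := by
    intro x hx
    obtain ⟨-, h⟩ := (hdiff x).resolve_left hx
    simp only [V, h, Finset.sum_const_zero, mul_zero, sub_zero]
  have hQ : ∑ k ∈ S, v k * conj (ψ ((k : D.L) : G)) = (Nat.card D.L : ℂ) * ((N : ℂ) - D.s * c) := by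
    rw [Finset.sum_filter, Finset.sum_congr rfl (g := fun k : D.K => V k * conj (ψ ((k : D.L) : G))) fun k _ => by
        by_cases hk : k ∈ commutator D.K
        · rw [if_neg (not_not.2 hk)]
          show 0 = v k * _
          rw [hv0 k hk, zero_mul]
        · rw [if_pos hk],
      ← sum_subgroup (M := ℂ) D.K (fun x : D.L => V x * conj (ψ (x : G))) fun x hx => by rw [hVout x hx, zero_mul]]
    have hV : V = (∑ η : D.T, D.phi η) - (D.s : ℂ) • D.phi ξ := by
      funext x
      simp only [V, Pi.sub_apply, Finset.sum_apply, Pi.smul_apply, smul_eq_mul, phi, Finset.sum_sub_distrib,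
        Finset.sum_const, Finset.card_univ, nsmul_eq_mul, Datum.s, Pi.mul_apply, Pi.natCast_apply]
      ring
    have e : classInner V (fun x : D.L => ψ (x : G)) = (N : ℂ) - D.s * c := by
      have hfr : ∀ η, classInner (D.phi η) (fun x : D.L => ψ (x : G)) = classInner (D.alpha η) ψ := fun η =>
        (CfsgLib.Char.frobenius _ _ hψ).symm
      rw [hV, classInner_sub_left, classInner_sum_left, classInner_smul_left, hfr, hc,
        Finset.sum_congr rfl fun η _ => hfr η, hN]
    rw [← e, classInner_def, ← mul_assoc, mul_inv_cancel₀ hLC, one_mul]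
  have hR : ∑ k ∈ S, ‖v k‖ ^ 2 = (Nat.card D.L : ℝ) * (D.s * (D.s - 1)) := by
    have e : classInner V V = (D.s : ℂ) * ((D.s : ℂ) - 1) := by
      have hV' : V = (D.s : ℂ) • (ξ.1 : D.L → ℂ) - ∑ η : D.T, (η.1 : D.L → ℂ) := by
        funext x; simp [V]
      have hi : ∀ a b : D.T, classInner (a.1 : D.L → ℂ) (b.1 : D.L → ℂ) = if a = b then 1 else 0 := fun a b => by
        rw [irr_inner a.1.2 b.1.2]
        exact if_congr ⟨fun h => Subtype.ext (Subtype.ext h), fun h => h ▸ rfl⟩ rfl rfl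
      rw [hV', classInner_sub_left, classInner_sub_right, classInner_sub_right, classInner_smul_left,
        classInner_smul_left, classInner_smul_right, classInner_smul_right, classInner_sum_left,
        classInner_sum_left]
      simp only [classInner_sum_right, hi, Finset.sum_ite_eq, Finset.sum_ite_eq', Finset.mem_univ, if_true,
        Complex.conj_natCast, Finset.sum_const, Finset.card_univ, nsmul_eq_mul, mul_one]
      rw [show (Fintype.card D.T : ℂ) = (D.s : ℂ) from rfl]
      ring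
    have h1 := classInner_self_re V
    rw [e] at h1
    have h2 : ∑ x : D.L, ‖V x‖ ^ 2 = ∑ k ∈ S, ‖v k‖ ^ 2 := by
      rw [sum_subgroup D.K (fun x : D.L => ‖V x‖ ^ 2) fun x hx => by rw [hVout x hx]; simp, Finset.sum_filter]
      refine Finset.sum_congr rfl fun k _ => ?_
      by_cases hk : k ∈ commutator D.K
      · rw [if_neg (not_not.2 hk)]
        show ‖v k‖ ^ 2 = 0
        rw [hv0 k hk]; simp
      · rw [if_pos hk]
    have hLR : (Nat.card D.L : ℝ) ≠ 0 := Nat.cast_ne_zero.2 Nat.card_pos.ne'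
    rw [h2] at h1
    simp only [Complex.mul_re, Complex.sub_re, Complex.sub_im, Complex.natCast_re, Complex.natCast_im,
      Complex.one_re, Complex.one_im] at h1
    field_simp at h1
    linarith
  have hv1 : ∑ k ∈ S, v k = 0 := by
    obtain ⟨μ, hμ, e⟩ := ξ.2
    have hfull : ∑ k : D.K, v k = 0 := by
      have hz : ∀ η : D.T, ∑ k : D.K, (η.1 : D.L → ℂ) k = 0 := fun η => by
        have h := D.inner_res_one η
        rw [classInner_def] at h
        simpa [natCard_ne_zero] using h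
      simp only [hv, Finset.sum_sub_distrib, ← Finset.mul_sum, hz, mul_zero, zero_sub]
      rw [Finset.sum_comm]
      simp [hz]
    refine Eq.trans ?_ hfull
    rw [Finset.sum_filter]
    refine Finset.sum_congr rfl fun k _ => ?_
    by_cases hk : k ∈ commutator D.K
    · rw [if_neg (not_not.2 hk), hv0 k hk]
    · rw [if_pos hk]
  have hcard : (S.card : ℝ) * D.q = (D.h : ℝ) * (D.q - 1) := by
    have h1 : S.card + Nat.card (commutator D.K) = D.h := by
      rw [Nat.card_eq_fintype_card (α := commutator D.K), Fintype.card_subtype, Datum.h, Nat.card_eq_fintype_card,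
        ← Finset.card_univ, add_comm]
      convert Finset.card_filter_add_card_filter_not (s := (Finset.univ : Finset D.K)) (fun k => k ∈ commutator D.K) using 3
    have h2 := D.h_eq_mul
    have h1R : (S.card : ℝ) + Nat.card (commutator D.K) = D.h := by exact_mod_cast h1
    have h2R : (D.h : ℝ) = D.q * Nat.card (commutator D.K) := by exact_mod_cast h2
    rw [eq_sub_of_add_eq h1R, h2R]
    ring
  have key := two_projections S (fun k : D.K => ψ ((k : D.L) : G)) v hv1
  rw [hP, hQ, hR] at key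
  have hLR : (0 : ℝ) < Nat.card D.L := Nat.cast_pos.2 Nat.card_pos
  have hL2 : (Nat.card D.L : ℝ) = D.e * D.h := by exact_mod_cast D.card_L
  have hhR : (0 : ℝ) < D.h := Nat.cast_pos.2 Nat.card_pos
  have heR : (0 : ℝ) < D.e := by exact_mod_cast (by omega : 0 < D.e)
  have hsR : (2 : ℝ) ≤ D.s := by exact_mod_cast hs
  have n1 : ‖(N : ℂ) * (Nat.card D.L : ℂ) / (D.q : ℂ)‖ ^ 2 = ((N : ℝ) * Nat.card D.L / D.q) ^ 2 := by
    rw [norm_div, norm_mul, Complex.norm_intCast, Complex.norm_natCast, Complex.norm_natCast, div_pow, mul_pow,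
      sq_abs, div_pow, mul_pow]
  have n2 : ‖(Nat.card D.L : ℂ) * ((N : ℂ) - D.s * c)‖ ^ 2 = ((Nat.card D.L : ℝ) * ((N : ℝ) - D.s * c)) ^ 2 := by
    rw [show (Nat.card D.L : ℂ) * ((N : ℂ) - D.s * c) = (((Nat.card D.L : ℝ) * ((N : ℝ) - D.s * c) : ℝ) : ℂ) by
      push_cast; ring, Complex.norm_real, Real.norm_eq_abs, sq_abs]
  rw [n1, n2] at key
  rw [Mout, le_inv_mul_iff₀ hLR]
  refine le_trans (le_of_eq ?_) key
  have hScard : (S.card : ℝ) = (D.h : ℝ) * (D.q - 1) / D.q := by
    rw [eq_div_iff (by positivity), hcard]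
  rw [hScard]
  have hq1 : (D.q : ℝ) - 1 ≠ 0 := by linarith
  have hs1 : (D.s : ℝ) - 1 ≠ 0 := by linarith
  field_simp
  rw [hL2]
  ring

theorem isPGroup_of_q {p m : ℕ} [Fact p.Prime] (hq : D.q = p ^ m) : ∃ k, D.h = p ^ k := by
  classical
  haveI := D.isNilpotent
  obtain ⟨P⟩ : Nonempty (Sylow p D.K) := inferInstance
  have hfr : commutator D.K ≤ frattini D.K := by
    rw [commutator_def]
    refine Cfsg.Agent.S2811.commutator_le_frattini_of_nilpotent ?_
    exact Group.nilpotent_of_mulEquiv Subgroup.topEquiv.symm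
  have htop : (P : Subgroup D.K) ⊔ commutator D.K = ⊤ := by
    rw [← Subgroup.index_eq_one]
    refine Nat.eq_one_of_dvd_coprimes ?_ (Subgroup.index_dvd_of_le le_sup_left) (Subgroup.index_dvd_of_le le_sup_right)
    rw [show (commutator D.K).index = p ^ m from hq]
    exact ((Fact.out : p.Prime).coprime_iff_not_dvd.2 P.not_dvd_index).symm.pow_right m
  have hP : (P : Subgroup D.K) = ⊤ :=
    frattini_nongenerating (top_le_iff.1 (htop ▸ sup_le_sup le_rfl hfr))
  obtain ⟨k, hk⟩ := IsPGroup.iff_card.1 P.isPGroup'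
  refine ⟨k, ?_⟩
  rw [← hk, hP, Subgroup.card_top]
  rfl

open Classical in
theorem Min'_ge {p k : ℕ} [Fact p.Prime] (hh : D.h = p ^ k) {ψ : G → ℂ} (hψ : IsIrrCharacter G ψ) {N : ℤ}
    (hN : ∑ η : D.T, classInner (D.alpha η) ψ = N) (hpN : ¬ (p : ℤ) ∣ N) :
    (1 / (D.q : ℝ) - 1 / D.h) / D.e ≤ D.Min' ψ := by
  have hpq : p ∣ D.q := by
    have h1 : D.q ∣ p ^ k := hh ▸ Dvd.intro _ D.h_eq_mul.symm
    obtain ⟨j, -, hj⟩ := (Nat.dvd_prime_pow (Fact.out : p.Prime)).1 h1
    have : j ≠ 0 := by rintro rfl; exact absurd hj (Nat.ne_of_gt (by simpa using D.one_lt_q))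
    exact hj ▸ dvd_pow_self p this
  have hpe : ¬ p ∣ D.e := fun h => (Fact.out : p.Prime).not_dvd_one (by
    have : p ∣ Nat.gcd D.e D.h := Nat.dvd_gcd h (hpq.trans (Dvd.intro _ D.h_eq_mul.symm))
    rwa [D.coprime] at this)
  have hψc := isCharacter_of_isIrr hψ
  have hres : IsCharacter D.K (fun x : D.K => ψ ((x : D.L) : G)) :=
    isCharacter_comp (D.L.subtype.comp D.K.subtype) hψc
  choose m hm using fun θ : IrrCharacter D.K => inner_char_char hres (isCharacter_of_isIrr θ.2)
  choose δ hδ0 hδ using fun θ : IrrCharacter D.K => irr_deg θ.2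
  obtain ⟨d, hd0, hd⟩ := irr_deg hψ
  -- the sum of the linear multiplicities
  obtain ⟨m₁, hm₁⟩ := inner_char_char hres (isCharacter_one (G := D.K))
  have hh0 : (D.h : ℂ) ≠ 0 := natCard_ne_zero D.K
  have hlin : ((∑ θ ∈ Finset.univ.filter (fun θ : IrrCharacter D.K => δ θ = 1), m θ : ℕ) : ℂ) =
      (D.q : ℂ) * m₁ - D.e * N := by
    have h1 : ∑ μ : D.K →* ℂˣ, classInner (fun x : D.K => ψ ((x : D.L) : G)) (fun x => (μ x : ℂ)) =
        ((∑ θ ∈ Finset.univ.filter (fun θ : IrrCharacter D.K => δ θ = 1), m θ : ℕ) : ℂ) := by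
      rw [Nat.cast_sum]
      refine Finset.sum_bij (fun μ _ => (⟨_, isIrr_linear μ⟩ : IrrCharacter D.K)) (fun μ _ => ?_)
        (fun μ _ ν _ h => coe_linear_injective (congrArg Subtype.val h)) (fun θ hθ => ?_) (fun μ _ => ?_)
      · refine Finset.mem_filter.2 ⟨Finset.mem_univ _, ?_⟩
        have h := hδ ⟨_, isIrr_linear μ⟩
        simp only [map_one, Units.val_one] at h
        exact_mod_cast h.symm
      · obtain ⟨μ, hμ⟩ := exists_hom_of_degree_one (isCharacter_of_isIrr θ.2) (by
          rw [hδ θ, (Finset.mem_filter.1 hθ).2, Nat.cast_one])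
        exact ⟨μ, Finset.mem_univ _, Subtype.ext hμ.symm⟩
      · rw [← hm]
    rw [← h1]
    simp only [classInner_def, ← Finset.mul_sum]
    rw [Finset.sum_comm]
    simp only [← Finset.mul_sum, ← map_sum, D.sum_hom]
    have hNq := hN
    rw [D.sum_alpha_inner (classFun_of_irr hψ)] at hNq
    have hNq' := congrArg conj hNq
    simp only [map_mul, map_inv₀, map_sum, Complex.conj_natCast, apply_ite conj, map_zero, Complex.conj_conj,
      map_intCast] at hNq'
    have hm₁' := hm₁
    simp only [classInner_def, map_one, mul_one] at hm₁'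
    rw [← hNq', ← hm₁', D.card_L, Nat.cast_mul]
    simp only [apply_ite conj, Complex.conj_natCast, map_zero, mul_ite, mul_zero]
    have hsplit : ∑ x : D.K, ψ ((x : D.L) : G) =
        (∑ x : D.K, if x ∈ commutator D.K then ψ ((x : D.L) : G) else 0) +
          ∑ x : D.K, if x ∈ commutator D.K then 0 else ψ ((x : D.L) : G) := by
      rw [← Finset.sum_add_distrib]
      exact Finset.sum_congr rfl fun x _ => by split_ifs <;> simp
    rw [hsplit]
    have hfac : (∑ x : D.K, if x ∈ commutator D.K then ψ ((x : D.L) : G) * (D.q : ℂ) else 0) =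
        (∑ x : D.K, if x ∈ commutator D.K then ψ ((x : D.L) : G) else 0) * (D.q : ℂ) := by
      rw [Finset.sum_mul]
      exact Finset.sum_congr rfl fun x _ => by split_ifs <;> simp
    rw [hfac]
    have he0 : (D.e : ℂ) ≠ 0 := Nat.cast_ne_zero.2 (by have := D.one_lt_e; omega)
    rw [show (Nat.card D.K : ℂ) = (D.h : ℂ) from rfl]
    field_simp
    ring
  have hdsum : d = ∑ θ : IrrCharacter D.K, m θ * δ θ := by
    have h := congrFun (classFun_eq_sum (classFun_of_char hres)) 1
    simp only [OneMemClass.coe_one, hd, Finset.sum_apply, Pi.smul_apply, smul_eq_mul, hm, hδ] at h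
    exact_mod_cast h
  have hpd : ¬ p ∣ d := by
    intro hpd
    rw [hdsum, ← Finset.sum_filter_add_sum_filter_not Finset.univ (fun θ : IrrCharacter D.K => δ θ = 1)] at hpd
    have h2 : p ∣ ∑ θ ∈ Finset.univ.filter (fun θ : IrrCharacter D.K => ¬ δ θ = 1), m θ * δ θ := by
      refine Finset.dvd_sum fun θ hθ => dvd_mul_of_dvd_right ?_ _
      have h3 := degree_dvd_card θ.2
      rw [charDegree_eq (hδ θ), show Nat.card D.K = p ^ k from hh] at h3
      obtain ⟨j, -, hj⟩ := (Nat.dvd_prime_pow (Fact.out : p.Prime)).1 h3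
      have : j ≠ 0 := by rintro rfl; exact (Finset.mem_filter.1 hθ).2 (by simpa using hj)
      exact hj ▸ dvd_pow_self p this
    rw [← Nat.dvd_add_iff_left h2, Finset.sum_congr rfl fun θ hθ => by rw [(Finset.mem_filter.1 hθ).2, mul_one]] at hpd
    have h4 : ((∑ θ ∈ Finset.univ.filter (fun θ : IrrCharacter D.K => δ θ = 1), m θ : ℕ) : ℤ) =
        (D.q : ℤ) * m₁ - D.e * N := by exact_mod_cast hlin
    have h5 : (p : ℤ) ∣ (D.e : ℤ) * N := by
      have := Int.natCast_dvd_natCast.2 hpd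
      rw [h4] at this
      have h6 : (p : ℤ) ∣ (D.q : ℤ) * m₁ := dvd_mul_of_dvd_left (Int.natCast_dvd_natCast.2 hpq) _
      exact (dvd_sub_right h6).1 this
    rcases (Nat.prime_iff_prime_int.1 (Fact.out : p.Prime)).dvd_mul.1 h5 with h | h
    · exact hpe (Int.natCast_dvd_natCast.1 h)
    · exact hpN h
  -- the average over the derived subgroup
  let S := Finset.univ.filter (fun x : D.K => x ∈ commutator D.K ∧ x ≠ 1)
  let emb : D.K → G := fun x => ((x : D.L) : G)
  have hinj : Function.Injective emb := fun a b hab => Subtype.ext (Subtype.ext hab)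
  have hne : ∀ y ∈ S.image emb, ψ y ≠ 0 := by
    intro y hy
    obtain ⟨x, -, rfl⟩ := Finset.mem_image.1 hy
    refine ne_zero_of_pElement hψc hd hpd ?_
    have h1 : orderOf (emb x) ∣ p ^ k := by
      rw [show orderOf (emb x) = orderOf x from by
        simp only [emb, Subgroup.orderOf_coe], ← hh]
      exact orderOf_dvd_natCard x
    obtain ⟨j, -, hj⟩ := (Nat.dvd_prime_pow (Fact.out : p.Prime)).1 h1
    exact ⟨j, hj⟩
  have hbound := card_le_sum_normSq hψc (S.image emb) (fun n hn y hy => by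
    obtain ⟨x, hx, rfl⟩ := Finset.mem_image.1 hy
    obtain ⟨hxc, hx1⟩ := (Finset.mem_filter.1 hx).2
    refine Finset.mem_image.2 ⟨x ^ n, Finset.mem_filter.2 ⟨Finset.mem_univ _, pow_mem hxc n, fun h1 => hx1 ?_⟩, by simp [emb]⟩
    refine hinj ((pow_coprime_bijective hn).injective ?_)
    show emb x ^ n = emb 1 ^ n
    rw [show emb x ^ n = emb (x ^ n) by simp [emb], h1]
    simp [emb]) hne
  rw [Finset.sum_image hinj.injOn, Finset.card_image_of_injective _ hinj] at hbound
  have hcard : (S.card : ℝ) = (Nat.card (commutator D.K) : ℝ) - 1 := by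
    have h : S.card + 1 = Nat.card (commutator D.K) := by
      have e : S = (Finset.univ.filter (fun x : D.K => x ∈ commutator D.K)).erase 1 := by
        ext x; simp [S, and_comm]
      rw [e, Finset.card_erase_add_one (by simp [one_mem]), Nat.card_eq_fintype_card, Fintype.card_subtype]
    rw [← h]; push_cast; ring
  have hLR : (0 : ℝ) < Nat.card D.L := Nat.cast_pos.2 Nat.card_pos
  rw [Min', le_inv_mul_iff₀ hLR]
  refine le_trans (le_of_eq ?_) hbound
  rw [hcard, show (Nat.card D.L : ℝ) = D.e * D.h by exact_mod_cast D.card_L,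
    show (D.h : ℝ) = D.q * Nat.card (commutator D.K) by exact_mod_cast D.h_eq_mul]
  have : (D.q : ℝ) ≠ 0 := Nat.cast_ne_zero.2 (by have := D.one_lt_q; omega)
  have : (D.e : ℝ) ≠ 0 := Nat.cast_ne_zero.2 (by have := D.one_lt_e; omega)
  have : (Nat.card (commutator D.K) : ℝ) ≠ 0 := Nat.cast_ne_zero.2 Nat.card_pos.ne'
  field_simp

open Classical in
/-- the index of a normal subgroup above the derived one is one more than a multiple of `e` -/
theorem e_dvd_index {N : Subgroup D.K} [N.Normal] (hN : commutator D.K ≤ N)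
    (hinv : ∀ (g : D.L) (k : D.K), k ∈ N → MulAut.conjNormal g k ∈ N) :
    ∃ j : ℕ, N.index = j * D.e + 1 := by
  have key : ∀ η : D.T, ∃ r : ℕ, ∑ x : N, (η.1 : D.L → ℂ) (x : D.K) = (r : ℂ) * D.e * Nat.card N := by
    intro η
    obtain ⟨μ, -, e⟩ := η.2
    have hval : ∀ x : N, (η.1 : D.L → ℂ) (x : D.K) =
        (Nat.card D.K : ℂ)⁻¹ * ∑ g : D.L, (μ (MulAut.conjNormal g (x : D.K)) : ℂ) := by
      intro x
      have h := congrFun (indFun_restrict (N := D.K) fun y : D.K => (μ y : ℂ)) (x : D.K)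
      rw [e, h, Pi.smul_apply, Finset.sum_apply, smul_eq_mul]
      congr 1
    refine ⟨if ∀ x : N, μ x = 1 then 1 else 0, ?_⟩
    rw [Finset.sum_congr rfl fun x _ => hval x, ← Finset.mul_sum, Finset.sum_comm]
    have hsum : ∀ g : D.L, ∑ x : N, (μ (MulAut.conjNormal g (x : D.K)) : ℂ) = ∑ x : N, (μ (x : D.K) : ℂ) := by
      intro g
      refine Fintype.sum_bijective (fun x : N => (⟨MulAut.conjNormal g (x : D.K), hinv g _ x.2⟩ : N)) ?_ _ _ fun x => rfl
      exact Finite.injective_iff_bijective.1 fun a b h =>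
        Subtype.ext ((MulAut.conjNormal g).injective (congrArg Subtype.val h))
    rw [Finset.sum_congr rfl fun g _ => hsum g, Finset.sum_const, Finset.card_univ, ← Nat.card_eq_fintype_card,
      D.card_L, nsmul_eq_mul]
    have h0 := natCard_ne_zero D.K
    split_ifs with hall
    · simp only [hall, Units.val_one, Finset.sum_const, Finset.card_univ, nsmul_eq_mul, mul_one,
        ← Nat.card_eq_fintype_card, Datum.h]
      push_cast
      field_simp
    · rw [show ∑ x : N, (μ (x : D.K) : ℂ) = 0 from sum_hom_units_eq_zero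
        ((Units.coeHom ℂ).comp (μ.comp N.subtype)) fun h => hall fun x => Units.ext (DFunLike.congr_fun h x)]
      simp
  choose r hr using key
  refine ⟨∑ η : D.T, r η, ?_⟩
  have hsum : ∑ x : N, ∑ η : D.T, (η.1 : D.L → ℂ) (x : D.K) =
      (D.q : ℂ) * Nat.card (commutator D.K) - Nat.card N := by
    simp only [D.sum_T, Finset.sum_sub_distrib, Finset.sum_const, Finset.card_univ, nsmul_eq_mul, mul_one,
      ← Nat.card_eq_fintype_card]
    congr 1
    rw [← Finset.sum_filter, Finset.sum_const, nsmul_eq_mul, mul_comm]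
    congr 2
    rw [Nat.card_eq_fintype_card, ← Finset.card_univ]
    refine Finset.card_bij (fun x hx => (⟨(x : N).1, (Finset.mem_filter.1 hx).2⟩ : commutator D.K))
      (fun _ _ => Finset.mem_univ _) (fun a _ b _ h => Subtype.ext (congrArg (fun z : commutator D.K => (z : D.K)) h))
      fun b _ => ⟨⟨(b : D.K), hN b.2⟩, Finset.mem_filter.2 ⟨Finset.mem_univ _, b.2⟩, rfl⟩
  rw [Finset.sum_comm, Finset.sum_congr rfl fun η _ => hr η, ← Finset.sum_mul, ← Finset.sum_mul, ← Nat.cast_sum,
    ← Nat.cast_mul D.q, ← D.h_eq_mul, Datum.h, ← Subgroup.index_mul_card N, Nat.cast_mul] at hsum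
  have hN0 : (Nat.card N : ℂ) ≠ 0 := natCard_ne_zero N
  have h' : ((((∑ η : D.T, r η) * D.e + 1 : ℕ)) : ℂ) = (N.index : ℂ) := by
    refine mul_right_cancel₀ hN0 ?_
    push_cast at hsum ⊢
    linear_combination hsum
  exact (Nat.cast_injective h').symm

theorem odd_e (hodd : Odd (Nat.card G)) : Odd D.e :=
  (hodd.of_dvd_nat (Subgroup.card_subgroup_dvd_card D.L)).of_dvd_nat (Dvd.intro _ D.card_L.symm)

theorem odd_h (hodd : Odd (Nat.card G)) : Odd D.h :=
  (hodd.of_dvd_nat (Subgroup.card_subgroup_dvd_card D.L)).of_dvd_nat (Dvd.intro_left _ D.card_L.symm)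

theorem index_ge (hodd : Odd (Nat.card G)) {N : Subgroup D.K} [N.Normal] (hN : commutator D.K ≤ N)
    (hinv : ∀ (g : D.L) (k : D.K), k ∈ N → MulAut.conjNormal g k ∈ N) (hne : N.index ≠ 1) :
    2 * D.e + 1 ≤ N.index := by
  obtain ⟨j, hj⟩ := D.e_dvd_index hN hinv
  have ho : Odd N.index := (D.odd_h hodd).of_dvd_nat (Dvd.intro _ (Subgroup.index_mul_card N))
  rw [hj] at ho hne
  rcases Nat.lt_or_ge j 2 with h | h
  · interval_cases j
    · simp at hne
    · rw [one_mul, Nat.odd_add_one] at ho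
      exact absurd (D.odd_e hodd) ho
  · rw [hj]
    have := Nat.mul_le_mul_right D.e h
    omega

theorem q_ge (hodd : Odd (Nat.card G)) : 2 * D.e + 1 ≤ D.q :=
  D.index_ge hodd le_rfl (fun g k hk => by
    have h := Subgroup.Characteristic.fixed (H := commutator D.K) inferInstance (MulAut.conjNormal g)
    rw [← h] at hk
    exact hk) (Nat.ne_of_gt D.one_lt_q)

/-- elements whose `a`-th power lies in the derived subgroup -/
def powKer (a : ℕ) : Subgroup D.K :=
  (MonoidHom.ker ((powMonoidHom a : Abelianization D.K →* Abelianization D.K).comp Abelianization.of))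

theorem q_ge_sq (hodd : Odd (Nat.card G)) (hnp : ¬ ∃ p m : ℕ, p.Prime ∧ D.h = p ^ m) :
    (2 * D.e + 1) * (2 * D.e + 1) ≤ D.q := by
  classical
  haveI : Finite (Abelianization D.K) :=
    Finite.of_surjective (Abelianization.of : D.K → Abelianization D.K) QuotientGroup.mk_surjective
  have hqA : Nat.card (Abelianization D.K) = D.q := rfl
  have hq := D.one_lt_q
  obtain ⟨p, hp, hpq⟩ := Nat.exists_prime_and_dvd (Nat.ne_of_gt hq)
  haveI := Fact.mk hp
  set a := p ^ D.q.factorization p with ha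
  set b := D.q / a with hb
  have hab : a * b = D.q := Nat.mul_div_cancel' (Nat.ordProj_dvd D.q p)
  have hcop : Nat.Coprime a b := Nat.Coprime.pow_left _ (Nat.coprime_ordCompl hp (by omega))
  have hb1 : b ≠ 1 := by
    intro h1
    rw [h1, mul_one] at hab
    obtain ⟨k, hk⟩ := D.isPGroup_of_q (m := D.q.factorization p) hab.symm
    exact hnp ⟨p, k, hp, hk⟩
  have ha1 : a ≠ 1 := by
    intro h1
    have := hp.factorization_pos_of_dvd (by omega : D.q ≠ 0) hpq
    have h2 := Nat.pow_eq_one.1 (ha ▸ h1)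
    rcases h2 with h2 | h2
    · exact hp.ne_one h2
    · omega
  have hker : ∀ c : ℕ, ∀ x : D.K, x ∈ D.powKer c ↔ Abelianization.of x ^ c = 1 := fun c x => Iff.rfl
  have hle : ∀ c, commutator D.K ≤ D.powKer c := fun c x hx => by
    rw [hker, (Abelianization.commutator_subset_ker Abelianization.of hx : Abelianization.of x = 1), one_pow]
  have hinv : ∀ c, ∀ (g : D.L) (k : D.K), k ∈ D.powKer c → MulAut.conjNormal g k ∈ D.powKer c := by
    intro c g k hk
    rw [hker] at hk ⊢
    have e : (Abelianization.map (MulAut.conjNormal g : MulAut D.K).toMonoidHom) (Abelianization.of k) =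
        Abelianization.of (MulAut.conjNormal g k) := rfl
    rw [← e, ← map_pow, hk, map_one]
  have hne : ∀ c d : ℕ, c * d = D.q → Nat.Coprime c d → d ≠ 1 → (D.powKer c).index ≠ 1 := by
    intro c d hcd hcop' hd hidx
    obtain ⟨l, hl, hld⟩ := Nat.exists_prime_and_dvd hd
    haveI := Fact.mk hl
    obtain ⟨x, hx⟩ := exists_prime_orderOf_dvd_card' (G := Abelianization D.K) l
      (by rw [hqA, ← hcd]; exact dvd_mul_of_dvd_right hld _)
    obtain ⟨y, rfl⟩ : ∃ y, Abelianization.of y = x := QuotientGroup.mk_surjective x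
    have hy : Abelianization.of y ^ c = 1 := (hker c y).1 (Subgroup.index_eq_one.1 hidx ▸ Subgroup.mem_top y)
    have h1 := orderOf_dvd_of_pow_eq_one hy
    rw [hx] at h1
    exact hl.not_dvd_one (hcop' ▸ Nat.dvd_gcd h1 hld)
  haveI : ∀ c, (D.powKer c).Normal := fun c => MonoidHom.normal_ker _
  have h1 := D.index_ge hodd (hle a) (hinv a) (hne a b hab hcop hb1)
  have h2 := D.index_ge hodd (hle b) (hinv b) (hne b a (by rw [mul_comm, hab]) hcop.symm ha1)
  refine le_trans (Nat.mul_le_mul h1 h2) ?_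
  have hbot : D.powKer a ⊓ D.powKer b ≤ commutator D.K := by
    intro x hx
    obtain ⟨hxa, hxb⟩ := Subgroup.mem_inf.1 hx
    have h1 := Nat.dvd_gcd (orderOf_dvd_of_pow_eq_one ((hker a x).1 hxa))
      (orderOf_dvd_of_pow_eq_one ((hker b x).1 hxb))
    rw [hcop, Nat.dvd_one, orderOf_eq_one_iff] at h1
    exact (QuotientGroup.eq_one_iff x).1 h1
  have hsup : D.powKer a ⊔ D.powKer b = ⊤ := by
    rw [eq_top_iff]
    intro x _
    have hpow : Abelianization.of x ^ D.q = 1 := by rw [← hqA]; exact pow_card_eq_one'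
    have hbz := Nat.gcd_eq_gcd_ab a b
    rw [hcop] at hbz
    have hxa : x ^ (b : ℤ) ∈ D.powKer a := by
      rw [hker, map_zpow, ← zpow_natCast, ← zpow_mul, ← Nat.cast_mul, mul_comm b, hab, zpow_natCast, hpow]
    have hxb : x ^ (a : ℤ) ∈ D.powKer b := by
      rw [hker, map_zpow, ← zpow_natCast, ← zpow_mul, ← Nat.cast_mul, hab, zpow_natCast, hpow]
    rw [show x = (x ^ (a : ℤ)) ^ Nat.gcdA a b * (x ^ (b : ℤ)) ^ Nat.gcdB a b by
      rw [← zpow_mul, ← zpow_mul, ← zpow_add]
      conv_lhs => rw [← zpow_one x, ← Nat.cast_one, hbz]]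
    exact mul_mem (Subgroup.mem_sup_right (zpow_mem hxb _)) (Subgroup.mem_sup_left (zpow_mem hxa _))
  have e1 := Subgroup.index_inf_le (H := D.powKer a) (K := D.powKer b)
  have e2 : (D.powKer a).index * (D.powKer b).index ≤ (D.powKer a ⊓ D.powKer b).index := by
    rw [← Subgroup.relIndex_mul_index (inf_le_right : D.powKer a ⊓ D.powKer b ≤ D.powKer b),
      Subgroup.inf_relIndex_right, ← Subgroup.relIndex_sup_right, sup_comm, hsup, Subgroup.relIndex_top_right]
  exact e2.trans (Nat.le_of_dvd (by omega) (Subgroup.index_dvd_of_le (le_inf (hle a) (hle b))))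

end Datum

end CfsgLib.NoCover
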