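import Cfsg.Agent.Char.Galois
import Mathlib.Analysis.SpecialFunctions.Log.Basic

/-! Average of `|χ|²` over a power-closed set of non-zeros. -/

set_option linter.unusedSectionVars false

namespace CfsgLib.Char

open Module Cfsg
open scoped ComplexConjugate

universe u

variable {G : Type u} [Group G] [Finite G]

/-- on a set closed under coprime powers avoiding the zeros, `|χ|²` has average at least one -/
theorem card_le_sum_normSq {χ : G → ℂ} (hχ : IsCharacter G χ) (S : Finset G)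
    (hS : ∀ m : ℕ, m.Coprime (Nat.card G) → ∀ x ∈ S, x ^ m ∈ S)
    (hne : ∀ x ∈ S, χ x ≠ 0) : (S.card : ℝ) ≤ ∑ x ∈ S, ‖χ x‖ ^ 2 := by
  classical
  let a : G → QBar := fun x => ⟨χ x, mem_qbar_of_integral (char_isIntegral hχ x)⟩
  let P : QBar := ∏ x ∈ S, a x * a x⁻¹
  have hPval : (P : ℂ) = ((∏ x ∈ S, ‖χ x‖ ^ 2 : ℝ) : ℂ) := by
    have : (P : ℂ) = ∏ x ∈ S, χ x * χ x⁻¹ := by
      show QBar.val (∏ x ∈ S, a x * a x⁻¹) = _
      rw [map_prod]
      exact Finset.prod_congr rfl fun x _ => rfl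
    rw [this, Complex.ofReal_prod]
    refine Finset.prod_congr rfl fun x _ => ?_
    rw [char_conj_eq hχ, Complex.mul_conj']
    push_cast
    rfl
  have hint : IsIntegral ℤ (P : ℂ) := by
    show IsIntegral ℤ (QBar.val (∏ x ∈ S, a x * a x⁻¹))
    rw [map_prod]
    exact IsIntegral.prod _ fun x _ => (char_isIntegral hχ x).mul (char_isIntegral hχ x⁻¹)
  obtain ⟨n, hn⟩ := int_of_fixed hint fun φ => by
    obtain ⟨m, hm, hφ⟩ := algHom_char_pow G φ
    show φ (∏ x ∈ S, a x * a x⁻¹) = _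
    rw [map_prod]
    show _ = QBar.val (∏ x ∈ S, a x * a x⁻¹)
    rw [map_prod]
    refine Finset.prod_nbij (fun x => x ^ m) (fun x hx => hS m hm x hx)
      (pow_coprime_bijective hm).injective.injOn ?_ fun x _ => ?_
    · exact Finset.surjOn_of_injOn_of_card_le _ (fun x hx => hS m hm x hx)
        (pow_coprime_bijective hm).injective.injOn le_rfl
    · rw [map_mul, hφ χ hχ, hφ χ hχ, inv_pow]
      rfl
  have hpos : 0 < ∏ x ∈ S, ‖χ x‖ ^ 2 :=
    Finset.prod_pos fun x hx => pow_pos (norm_pos_iff.mpr (hne x hx)) 2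
  have h1 : (1 : ℝ) ≤ ∏ x ∈ S, ‖χ x‖ ^ 2 := by
    rw [hPval] at hn
    have hnr : (∏ x ∈ S, ‖χ x‖ ^ 2) = (n : ℝ) := by
      exact_mod_cast hn
    rw [hnr] at hpos ⊢
    exact_mod_cast hpos
  have hlog : (0 : ℝ) ≤ ∑ x ∈ S, Real.log (‖χ x‖ ^ 2) := by
    rw [← Real.log_prod fun x hx => (pow_pos (norm_pos_iff.mpr (hne x hx)) 2).ne']
    exact Real.log_nonneg h1
  have hle : ∑ x ∈ S, Real.log (‖χ x‖ ^ 2) ≤ ∑ x ∈ S, (‖χ x‖ ^ 2 - 1) :=
    Finset.sum_le_sum fun x hx =>
      Real.log_le_sub_one_of_pos (pow_pos (norm_pos_iff.mpr (hne x hx)) 2)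
  rw [Finset.sum_sub_distrib, Finset.sum_const, nsmul_eq_mul, mul_one] at hle
  linarith

/-- a character with positive real values on a power-closed set has average at least one there,
strictly unless it is identically one there -/
theorem card_lt_sum_of_pos {χ : G → ℂ} (hχ : IsCharacter G χ) (S : Finset G)
    (hS : ∀ m : ℕ, m.Coprime (Nat.card G) → ∀ x ∈ S, x ^ m ∈ S)
    (r : G → ℝ) (hr : ∀ x ∈ S, χ x = (r x : ℂ)) (hpos : ∀ x ∈ S, 0 < r x)
    {x₀ : G} (hx₀ : x₀ ∈ S) (hne : r x₀ ≠ 1) : (S.card : ℝ) < ∑ x ∈ S, r x := by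
  classical
  let a : G → QBar := fun x => ⟨χ x, mem_qbar_of_integral (char_isIntegral hχ x)⟩
  have hval : QBar.val (∏ x ∈ S, a x) = ((∏ x ∈ S, r x : ℝ) : ℂ) := by
    rw [map_prod, Complex.ofReal_prod]
    exact Finset.prod_congr rfl fun x hx => hr x hx
  have hint : IsIntegral ℤ (QBar.val (∏ x ∈ S, a x)) := by
    rw [map_prod]
    exact IsIntegral.prod _ fun x _ => char_isIntegral hχ x
  obtain ⟨n, hn⟩ := int_of_fixed hint fun φ => by
    obtain ⟨m, hm, hφ⟩ := algHom_char_pow G φ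
    show φ (∏ x ∈ S, a x) = QBar.val (∏ x ∈ S, a x)
    rw [map_prod, map_prod]
    exact Finset.prod_nbij (fun x => x ^ m) (fun x hx => hS m hm x hx)
      (pow_coprime_bijective hm).injective.injOn
      (Finset.surjOn_of_injOn_of_card_le _ (fun x hx => hS m hm x hx)
        (pow_coprime_bijective hm).injective.injOn le_rfl)
      fun x _ => hφ χ hχ x
  have hP := Finset.prod_pos hpos
  have h1 : (1 : ℝ) ≤ ∏ x ∈ S, r x := by
    rw [hval] at hn
    have hnr : (∏ x ∈ S, r x) = (n : ℝ) := by exact_mod_cast hn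
    rw [hnr] at hP ⊢
    exact_mod_cast hP
  have hlog : (0 : ℝ) ≤ ∑ x ∈ S, Real.log (r x) := by
    rw [← Real.log_prod fun x hx => (hpos x hx).ne']
    exact Real.log_nonneg h1
  have hlt : ∑ x ∈ S, Real.log (r x) < ∑ x ∈ S, (r x - 1) :=
    Finset.sum_lt_sum (fun x hx => Real.log_le_sub_one_of_pos (hpos x hx))
      ⟨x₀, hx₀, Real.log_lt_sub_one_of_pos (hpos x₀ hx₀) hne⟩
  rw [Finset.sum_sub_distrib, Finset.sum_const, nsmul_eq_mul, mul_one] at hlt
  linarith

end CfsgLib.Char
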