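import Cfsg.Agent.Char.Clifford
import Cfsg.Agent.Char.ModP
import Cfsg.Agent.Char.Ramified
import Cfsg.Agent.Char.Classes
import Cfsg.Agent.Solv.Tate
import Cfsg.Agent.Solv.FittingBasic
import Mathlib.GroupTheory.FiniteAbelian.Duality

/-!
The intersection of the kernels of the irreducible characters of degree prime to `p`.
-/

set_option autoImplicit false
set_option linter.style.haveILetI false
set_option linter.unusedSectionVars false

namespace CfsgLib.Char

open Cfsg
open scoped ComplexConjugate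

universe u

variable {G : Type u} [Group G] [Fintype G] {p : ℕ} [hp : Fact p.Prime]

/-- Some constituent of a character of degree prime to `p` has degree prime to `p`. -/
theorem exists_pprime_constituent {φ : G → ℂ} (hφ : IsCharacter G φ) {d : ℕ} (hd : φ 1 = d)
    (hpd : ¬ p ∣ d) :
    ∃ χ : IrrCharacter G, classInner φ (χ : G → ℂ) ≠ 0 ∧ ¬ p ∣ charDegree (χ : G → ℂ) := by
  classical
  by_contra hc
  push Not at hc
  choose n hn using fun χ : IrrCharacter G => inner_char_irr hφ χ.2
  have h1 := congrFun (classFun_eq_sum (classFun_of_char hφ)) 1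
  simp only [Finset.sum_apply, Pi.smul_apply, smul_eq_mul] at h1
  rw [hd, Finset.sum_congr rfl (g := fun χ : IrrCharacter G =>
    ((n χ * charDegree (χ : G → ℂ) : ℕ) : ℂ))
    (fun χ _ => by rw [hn, irr_one_eq χ.2, Nat.cast_mul]), ← Nat.cast_sum, Nat.cast_inj] at h1
  refine hpd (h1 ▸ Finset.dvd_sum fun χ _ => ?_)
  rcases Nat.eq_zero_or_pos (n χ) with h0 | h0
  · simp [h0]
  · exact Dvd.dvd.mul_left (hc χ (by rw [hn]; exact_mod_cast h0.ne')) _

/-- A character of a `p`-group of degree prime to `p` has a linear constituent. -/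
theorem exists_linear_constituent (hG : IsPGroup p G) {φ : G → ℂ} (hφ : IsCharacter G φ) {d : ℕ}
    (hd : φ 1 = d) (hpd : ¬ p ∣ d) : ∃ μ : G →* ℂˣ, classInner φ (fun g => (μ g : ℂ)) ≠ 0 := by
  obtain ⟨χ, hne, hχ⟩ := exists_pprime_constituent hφ hd hpd
  obtain ⟨k, hk⟩ := IsPGroup.iff_card.1 hG
  obtain ⟨j, -, hj⟩ := (Nat.dvd_prime_pow hp.out).1 (hk ▸ degree_dvd_card χ.2)
  rcases Nat.eq_zero_or_pos j with rfl | hj0
  · obtain ⟨μ, hμ⟩ := exists_hom_of_degree_one (isCharacter_of_isIrr χ.2)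
      (by rw [irr_one_eq χ.2, hj]; simp)
    exact ⟨μ, hμ ▸ hne⟩
  · exact absurd (hj ▸ dvd_pow_self p hj0.ne') hχ

theorem commutator_apply_one {H : Type u} [Group H] (μ : H →* ℂˣ) {x : H}
    (hx : x ∈ commutator H) : μ x = 1 :=
  MonoidHom.mem_ker.1 (Abelianization.commutator_subset_ker μ hx)

theorem exists_linear_ne_one {H : Type u} [Group H] [Finite H] {x : H} (hx : x ∉ commutator H) :
    ∃ μ : H →* ℂˣ, μ x ≠ 1 := by
  haveI : Finite (Abelianization H) :=
    Finite.of_surjective (Abelianization.of : H → Abelianization H) QuotientGroup.mk_surjective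
  obtain ⟨μ, hμ⟩ := CommGroup.exists_apply_ne_one_of_hasEnoughRootsOfUnity (Abelianization H) ℂ
    (a := Abelianization.of x) (fun h => hx (by
      rwa [← MonoidHom.mem_ker, Abelianization.ker_of] at h))
  exact ⟨μ.comp Abelianization.of, hμ⟩

/-- An element in the kernel of a character is in the kernel of each linear constituent. -/
theorem linear_eq_one_of_kernel {χ : G → ℂ} (hχ : IsCharacter G χ) (P : Subgroup G) [Fintype P]
    (μ : P →* ℂˣ) (hne : classInner (fun h : P => χ h) (fun h => (μ h : ℂ)) ≠ 0) {g : P}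
    (hg : χ (g : G) = χ 1) : μ g = 1 := by
  obtain ⟨K, -, hK, hKm⟩ := exists_kernel hχ
  have hshift : classInner (fun h : P => χ h) (fun h => (μ h : ℂ)) =
      conj (μ g : ℂ) * classInner (fun h : P => χ h) (fun h => (μ h : ℂ)) := by
    rw [classInner_def]
    conv_lhs => rw [← Equiv.sum_comp (Equiv.mulLeft g)]
    rw [mul_left_comm, Finset.mul_sum Finset.univ _ (conj _)]
    congr 1
    refine Finset.sum_congr rfl fun h _ => ?_
    simp only [Equiv.coe_mulLeft, Subgroup.coe_mul, map_mul, Units.val_mul]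
    rw [hKm _ ((hK _).2 hg)]
    ring
  have h1 : conj (μ g : ℂ) = 1 := mul_right_cancel₀ hne (by rw [one_mul, ← hshift])
  exact Units.ext (by simpa using congrArg conj h1)

variable (P : Sylow p G)

/-- Characters of degree prime to `p` are trivial on a normal subgroup without nontrivial fixed
points. -/
theorem apply_eq_one_of_fixedFree (N : Subgroup G) [N.Normal]
    (hN : N ⊓ Subgroup.centralizer ((P : Subgroup G) : Set G) = ⊥) (hNp : ¬ p ∣ Nat.card N)
    {χ : IrrCharacter G} (hχ : ¬ p ∣ charDegree (χ : G → ℂ)) {n : G} (hn : n ∈ N) :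
    (χ : G → ℂ) n = (χ : G → ℂ) 1 := by
  classical
  haveI := Fintype.ofFinite N
  obtain ⟨θ, hθ, hc⟩ := exists_constituent_res (N := N) χ.2
  have hdeg := degree_clifford χ.2 hθ hc
  obtain ⟨e, he⟩ := inner_char_irr (isCharacter_restrict N (isCharacter_of_isIrr χ.2)) hθ
  rw [he, irr_one_eq χ.2, irr_one_eq hθ, ← Nat.cast_mul, ← Nat.cast_mul, Nat.cast_inj] at hdeg
  have hidx : ¬ p ∣ Nat.card (G ⧸ inertia θ) := fun h =>
    hχ (hdeg ▸ (Dvd.dvd.mul_left (by rwa [Subgroup.index_eq_card] : p ∣ (inertia θ).index) e).mul_right _)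
  obtain ⟨q, hq⟩ := P.isPGroup'.nonempty_fixed_point_of_prime_not_dvd_card (α := G ⧸ inertia θ) hidx
  obtain ⟨g, rfl⟩ := QuotientGroup.mk_surjective q
  have hfix : ∀ x ∈ (P : Subgroup G), g⁻¹ * x * g ∈ inertia θ := by
    intro x hx
    have h1 := QuotientGroup.eq.1 (hq ⟨x, hx⟩ : ((x * g : G) : G ⧸ inertia θ) = g)
    have h2 := inv_mem h1
    simpa [mul_assoc] using h2
  let ψ : N → ℂ := conjN θ g⁻¹
  have hψ : IsIrrCharacter N ψ := irr_conjN hθ g⁻¹
  have hψc : classInner (fun m : N => (χ : G → ℂ) m) ψ ≠ 0 := by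
    rw [show ψ = conjN θ g⁻¹ from rfl, inner_res_conjN (classFun_of_irr χ.2)]
    exact hc
  have hψP : ∀ x ∈ (P : Subgroup G), conjN ψ x = ψ := by
    intro x hx
    show conjN (conjN θ g⁻¹) x = conjN θ g⁻¹
    conv_rhs => rw [← mem_inertia.1 (hfix x hx), conjN_mul]
    rw [conjN_mul]
    congr 1
    group
  have hψ1 : ψ = fun _ => 1 := by
    by_contra hne
    letI : MulAction (P : Subgroup G) N :=
      MulAction.compHom N ((MulAut.conjNormal (H := N)).comp (P : Subgroup G).subtype)
    have hinv : ∀ (x : (P : Subgroup G)) (m : N), ψ (x • m) = ψ m := fun x m =>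
      congrFun (hψP x x.2) m
    have h := pcong_sum_fixed P.isPGroup' ψ hinv
      fun m => char_isIntegral (isCharacter_of_isIrr hψ) m
    have hsum : ∑ m, ψ m = 0 := by
      have := irr_inner_ne hψ isIrr_one hne
      rw [classInner_def, mul_eq_zero] at this
      simpa using this.resolve_left (inv_ne_zero (natCard_ne_zero N))
    have hfixed : Finset.univ.filter (fun m : N => ∀ x : (P : Subgroup G), x • m = m) = {1} := by
      ext m
      simp only [Finset.mem_filter, Finset.mem_univ, true_and, Finset.mem_singleton]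
      constructor
      · intro hm
        have : (m : G) ∈ N ⊓ Subgroup.centralizer ((P : Subgroup G) : Set G) :=
          ⟨m.2, fun x hx => mul_inv_eq_iff_eq_mul.1 (congrArg Subtype.val (hm ⟨x, hx⟩) :
            x * (m : G) * x⁻¹ = m)⟩
        rw [hN] at this
        exact Subtype.ext (Subgroup.mem_bot.1 this)
      · rintro rfl x
        exact map_one (MulAut.conjNormal (x : G) : MulAut N)
    rw [hsum, Finset.sum_congr (s₂ := {(1 : N)}) (by convert hfixed) (fun _ _ => rfl),
      Finset.sum_singleton, irr_one_eq hψ] at h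
    have h3 := PCong.nat_modEq hp.out.ne_zero (m := 0) (by simpa using h)
    rw [Int.natCast_modEq_iff] at h3
    exact hNp ((Nat.modEq_zero_iff_dvd.1 h3.symm).trans (degree_dvd_card hψ))
  have hres := res_homogeneous χ.2 hψ hψc fun x => by
    ext m; simp [hψ1, conjN]
  have h1 := congrFun hres ⟨n, hn⟩
  have h2 := congrFun hres 1
  simp only [Pi.smul_apply, OneMemClass.coe_one, hψ1] at h1 h2
  rw [h1, h2]

/-- Characters of degree prime to `p` are trivial on the core of `N P'`. -/
theorem apply_eq_one_of_mem_core (N : Subgroup G) [N.Normal]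
    (hN : N ⊓ Subgroup.centralizer ((P : Subgroup G) : Set G) = ⊥) (hNp : ¬ p ∣ Nat.card N)
    {χ : IrrCharacter G} (hχ : ¬ p ∣ charDegree (χ : G → ℂ)) {n : G}
    (hn : n ∈ (N ⊔ ⁅(P : Subgroup G), (P : Subgroup G)⁆).normalCore) :
    (χ : G → ℂ) n = (χ : G → ℂ) 1 := by
  classical
  set D : Subgroup G := ⁅(P : Subgroup G), (P : Subgroup G)⁆ with hD
  set C := (N ⊔ D).normalCore with hC
  haveI := Fintype.ofFinite C
  haveI := Fintype.ofFinite (P : Subgroup G)
  haveI := Fintype.ofFinite D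
  haveI := Fintype.ofFinite (N ⊔ D : Subgroup G)
  obtain ⟨K, -, hK, hKm⟩ := exists_kernel (isCharacter_of_isIrr χ.2)
  have hNK : ∀ m ∈ N, ∀ g, (χ : G → ℂ) (m * g) = (χ : G → ℂ) g := fun m hm g =>
    hKm m ((hK m).2 (apply_eq_one_of_fixedFree P N hN hNp hχ hm)) g
  obtain ⟨μ, hμ⟩ := exists_linear_constituent P.isPGroup'
    (isCharacter_restrict (P : Subgroup G) (isCharacter_of_isIrr χ.2))
    (show (χ : G → ℂ) ((1 : (P : Subgroup G)) : G) = (charDegree (χ : G → ℂ) : ℂ) by
      rw [Subgroup.coe_one, irr_one_eq χ.2]) hχ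
  have hDP : D ≤ (P : Subgroup G) := Subgroup.commutator_le.2 fun a ha b hb =>
    mul_mem (mul_mem (mul_mem ha hb) (inv_mem ha)) (inv_mem hb)
  have hμD : ∀ d : D, μ (Subgroup.inclusion hDP d) = 1 := by
    intro d
    refine commutator_apply_one μ ?_
    have h1 : (d : G) ∈ (commutator (P : Subgroup G)).map (P : Subgroup G).subtype := by
      rw [Subgroup.map_subtype_commutator]; exact d.2
    obtain ⟨y, hy, hye⟩ := h1
    rwa [show Subgroup.inclusion hDP d = y from Subtype.ext hye.symm]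
  -- the trivial character of `P'`
  obtain ⟨a, ha⟩ := inner_char_irr (isCharacter_restrict (P : Subgroup G)
    (isCharacter_of_isIrr χ.2)) (isIrr_linear μ)
  have hsub := isCharacter_sub_constituent
    (isCharacter_restrict (P : Subgroup G) (isCharacter_of_isIrr χ.2)) (isIrr_linear μ) hμ
  have hDin : classInner (fun d : D => (χ : G → ℂ) d) (fun _ => 1) ≠ 0 := by
    intro h0
    have h1 := inner_zero_of_summand (isCharacter_one (G := D))
      (isCharacter_comp (Subgroup.inclusion hDP) hsub) (isCharacter_one (G := D)) (by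
        rw [show ((fun _ : D => (1 : ℂ)) +
            ((fun h : (P : Subgroup G) => (χ : G → ℂ) h) - fun h => (μ h : ℂ)) ∘
              ⇑(Subgroup.inclusion hDP)) = fun d : D => (χ : G → ℂ) d from
          funext fun d => by simp [hμD]]
        exact h0)
    rw [classInner_one_one] at h1
    exact one_ne_zero h1
  -- lift to `N P'`
  have hdisj : N ⊓ D = ⊥ := by
    refine le_bot_iff.1 fun x hx => ?_
    obtain ⟨k, hk⟩ := P.isPGroup' ⟨x, hDP hx.2⟩
    refine Subgroup.mem_bot.2 (orderOf_eq_one_iff.1 (Nat.eq_one_of_dvd_coprimes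
      (Nat.Coprime.pow_left k (hp.out.coprime_iff_not_dvd.2 hNp))
      (orderOf_dvd_of_pow_eq_one (by simpa using congrArg Subtype.val hk))
      (Subgroup.orderOf_dvd_natCard N hx.1)))
  have hbij : Function.Bijective (fun x : N × D =>
      (⟨(x.1 : G) * x.2, Subgroup.mul_mem_sup x.1.2 x.2.2⟩ : (N ⊔ D : Subgroup G))) := by
    constructor
    · rintro ⟨a, b⟩ ⟨a', b'⟩ h
      have h1 : (a : G) * b = a' * b' := congrArg Subtype.val h
      have h2 : (a' : G)⁻¹ * a = b' * (b : G)⁻¹ := by
        rw [eq_mul_inv_iff_mul_eq, mul_assoc, h1, inv_mul_cancel_left]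
      have h3 : (a' : G)⁻¹ * a ∈ N ⊓ D :=
        Subgroup.mem_inf.2 ⟨mul_mem (inv_mem a'.2) a.2, h2 ▸ mul_mem b'.2 (inv_mem b.2)⟩
      rw [hdisj, Subgroup.mem_bot] at h3
      have h4 := inv_mul_eq_one.1 h3
      rw [h4, mul_right_inj] at h1
      exact Prod.ext (Subtype.ext h4.symm) (Subtype.ext h1)
    · rintro ⟨y, hy⟩
      obtain ⟨a, ha, b, hb, rfl⟩ := Subgroup.mem_sup_of_normal_left.1 hy
      exact ⟨(⟨a, ha⟩, ⟨b, hb⟩), rfl⟩
  haveI := Fintype.ofFinite N
  have hHin : classInner (fun h : (N ⊔ D : Subgroup G) => (χ : G → ℂ) h) (fun _ => 1) ≠ 0 := by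
    intro h0
    refine hDin ?_
    rw [classInner_def, mul_eq_zero] at h0 ⊢
    refine Or.inr ?_
    have h1 := h0.resolve_left (inv_ne_zero (natCard_ne_zero _))
    rw [← (Equiv.ofBijective _ hbij).sum_comp, Fintype.sum_prod_type] at h1
    simp only [Equiv.ofBijective_apply, map_one, mul_one] at h1 ⊢
    rw [Finset.sum_congr rfl (g := fun _ => ∑ d : D, (χ : G → ℂ) d)
      (fun (x : N) _ => Finset.sum_congr rfl fun d _ => hNK x x.2 d), Finset.sum_const, nsmul_eq_mul,
      mul_eq_zero] at h1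
    exact h1.resolve_left (Nat.cast_ne_zero.2 (by simp))
  have hsub2 := isCharacter_sub_constituent
    (isCharacter_restrict (N ⊔ D) (isCharacter_of_isIrr χ.2)) isIrr_one hHin
  have hCle : C ≤ N ⊔ D := Subgroup.normalCore_le _
  have hCin : classInner (fun c : C => (χ : G → ℂ) c) (fun _ => 1) ≠ 0 := by
    intro h0
    have h1 := inner_zero_of_summand (isCharacter_one (G := C))
      (isCharacter_comp (Subgroup.inclusion hCle) hsub2) (isCharacter_one (G := C)) (by
        rw [show ((fun _ : C => (1 : ℂ)) +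
            ((fun h : (N ⊔ D : Subgroup G) => (χ : G → ℂ) h) - fun _ => (1 : ℂ)) ∘
              ⇑(Subgroup.inclusion hCle)) = fun c : C => (χ : G → ℂ) c from
          funext fun c => by simp]
        exact h0)
    rw [classInner_one_one] at h1
    exact one_ne_zero h1
  have hres := res_homogeneous χ.2 isIrr_one hCin fun x => rfl
  have h1 := congrFun hres ⟨n, hn⟩
  have h2 := congrFun hres 1
  simp only [Pi.smul_apply, OneMemClass.coe_one] at h1 h2
  rw [h1, h2]

/-- The kernel of all characters of degree prime to `p` meets `P` in `P'`. -/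
theorem mem_commutator_of_kernel {g : G} (hg : g ∈ (P : Subgroup G))
    (h : ∀ χ : IrrCharacter G, ¬ p ∣ charDegree (χ : G → ℂ) → (χ : G → ℂ) g = (χ : G → ℂ) 1) :
    g ∈ ⁅(P : Subgroup G), (P : Subgroup G)⁆ := by
  classical
  haveI := Fintype.ofFinite (P : Subgroup G)
  rw [← Subgroup.map_subtype_commutator]
  refine ⟨⟨g, hg⟩, by_contra fun hx => ?_, rfl⟩
  obtain ⟨μ, hμ⟩ := exists_linear_ne_one hx
  obtain ⟨χ, hne, hdeg⟩ := exists_pprime_constituent
    (isCharacter_indFun (P : Subgroup G) (isCharacter_linear μ))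
    (d := (P : Subgroup G).index) (by rw [indFun_one]; simp) P.not_dvd_index
  refine hμ (linear_eq_one_of_kernel (isCharacter_of_isIrr χ.2) _ μ (fun h0 => hne ?_)
    (g := ⟨g, hg⟩) (h χ hdeg))
  rw [frobenius _ _ (classFun_of_irr χ.2), ← classInner_conj, h0, map_zero]

/-- A `p'`-group normal in a group with complement `P` on which some nontrivial element is
centralized by `P` has a nontrivial invariant character. -/
theorem exists_invariant_irr (O : Subgroup G) [O.Normal] [Fintype O] {c : G} (hcO : c ∈ O)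
    (hc : c ∈ Subgroup.centralizer ((P : Subgroup G) : Set G)) (hc1 : c ≠ 1) :
    ∃ θ : IrrCharacter O, (θ : O → ℂ) ≠ (fun _ => 1) ∧
      ∀ x ∈ (P : Subgroup G), conjN (θ : O → ℂ) x = θ := by
  classical
  by_contra hno
  push Not at hno
  letI : MulAction (P : Subgroup G) (IrrCharacter O) :=
    { smul := fun x θ => ⟨conjN (θ : O → ℂ) (x : G)⁻¹, irr_conjN θ.2 _⟩
      one_smul := fun θ => Subtype.ext (by
        change conjN (θ : O → ℂ) ((1 : (P : Subgroup G)) : G)⁻¹ = _
        rw [Subgroup.coe_one, inv_one, conjN_one])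
      mul_smul := fun x y θ => Subtype.ext (by
        change conjN (θ : O → ℂ) ((x * y : (P : Subgroup G)) : G)⁻¹ =
          conjN (conjN (θ : O → ℂ) (y : G)⁻¹) (x : G)⁻¹
        rw [conjN_mul, Subgroup.coe_mul, mul_inv_rev]) }
  let c' : O := ⟨c, hcO⟩
  have hF : ∀ (x : (P : Subgroup G)) (θ : IrrCharacter O),
      ((x • θ : IrrCharacter O) : O → ℂ) c' * conj (((x • θ : IrrCharacter O) : O → ℂ) 1) =
        (θ : O → ℂ) c' * conj ((θ : O → ℂ) 1) := by
    intro x θ
    change conjN (θ : O → ℂ) (x : G)⁻¹ c' * conj (conjN (θ : O → ℂ) (x : G)⁻¹ 1) = _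
    simp only [conjN]
    refine congrArg₂ (fun a b => (θ : O → ℂ) a * conj ((θ : O → ℂ) b))
      (Subtype.ext ?_) (Subtype.ext ?_)
    · show (x : G)⁻¹ * c * (x : G)⁻¹⁻¹ = c
      rw [hc _ (inv_mem x.2), mul_inv_cancel_right]
    · show (x : G)⁻¹ * 1 * (x : G)⁻¹⁻¹ = 1
      group
  have h := pcong_sum_fixed P.isPGroup'
    (fun θ : IrrCharacter O => (θ : O → ℂ) c' * conj ((θ : O → ℂ) 1)) hF fun θ =>
      (char_isIntegral (isCharacter_of_isIrr θ.2) _).mul (by
        rw [← char_conj_eq (isCharacter_of_isIrr θ.2)]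
        exact char_isIntegral (isCharacter_of_isIrr θ.2) _)
  have hfixed : Finset.univ.filter (fun θ : IrrCharacter O =>
      ∀ x : (P : Subgroup G), x • θ = θ) = {⟨_, isIrr_one⟩} := by
    ext θ
    simp only [Finset.mem_filter, Finset.mem_univ, true_and, Finset.mem_singleton]
    constructor
    · intro hθ
      by_contra hne
      obtain ⟨x, hx, hx'⟩ := hno θ fun e => hne (Subtype.ext e)
      have h1 : conjN (θ : O → ℂ) ((x⁻¹ : G))⁻¹ = θ :=
        congrArg Subtype.val (hθ ⟨x⁻¹, inv_mem hx⟩)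
      rw [inv_inv] at h1
      exact hx' h1
    · rintro rfl x
      exact Subtype.ext (funext fun m => rfl)
  have h0 : ∑ θ : IrrCharacter O, (θ : O → ℂ) c' * conj ((θ : O → ℂ) 1) = 0 := by
    convert (second_orth c' (1 : O)).trans
      (if_neg fun hh => hc1 (congrArg Subtype.val (isConj_one_left.1 hh))) using 1
  rw [h0, Finset.sum_congr (s₂ := {⟨_, isIrr_one⟩}) (by convert hfixed) (fun _ _ => rfl),
    Finset.sum_singleton] at h
  have h2 := PCong.nat_modEq hp.out.ne_zero (m := 0) (n := 1) (by simpa using h)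
  rw [Int.natCast_modEq_iff] at h2
  exact hp.out.not_dvd_one (Nat.modEq_zero_iff_dvd.1 h2.symm)

theorem kernel_pprime (N : Subgroup G) [N.Normal]
    (hN : N ⊓ Subgroup.centralizer ((P : Subgroup G) : Set G) = ⊥)
    (hmax : ∀ L : Subgroup G, L.Normal →
      L ⊓ Subgroup.centralizer ((P : Subgroup G) : Set G) = ⊥ → L ≤ N) :
    {g : G | ∀ χ : IrrCharacter G, ¬ p ∣ charDegree (χ : G → ℂ) →
        (χ : G → ℂ) g = (χ : G → ℂ) 1} =
      ((N ⊔ ⁅(P : Subgroup G), (P : Subgroup G)⁆).normalCore : Set G) := by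
  classical
  have hNp : ¬ p ∣ Nat.card N := by
    intro hd
    haveI := Fintype.ofFinite N
    letI : MulAction (P : Subgroup G) N :=
      MulAction.compHom N ((MulAut.conjNormal (H := N)).comp (P : Subgroup G).subtype)
    have h := P.isPGroup'.card_modEq_card_fixedPoints N
    have h1 : Nat.card (MulAction.fixedPoints (P : Subgroup G) N) = 1 := by
      rw [Nat.card_eq_one_iff_exists]
      refine ⟨⟨1, fun x => map_one (MulAut.conjNormal (x : G) : MulAut N)⟩, fun m => ?_⟩
      refine Subtype.ext (Subtype.ext ?_)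
      have : ((m : N) : G) ∈ N ⊓ Subgroup.centralizer ((P : Subgroup G) : Set G) :=
        ⟨(m : N).2, fun x hx => mul_inv_eq_iff_eq_mul.1 (congrArg Subtype.val (m.2 ⟨x, hx⟩) :
          x * ((m : N) : G) * x⁻¹ = (m : N))⟩
      rw [hN] at this
      exact Subgroup.mem_bot.1 this
    rw [h1] at h
    exact hp.out.not_dvd_one (Nat.modEq_zero_iff_dvd.1 (h.symm.trans (Nat.modEq_zero_iff_dvd.2 hd)))
  choose K hK using fun χ : IrrCharacter G => exists_kernel (isCharacter_of_isIrr χ.2)
  let K0 : Subgroup G := ⨅ χ : {χ : IrrCharacter G // ¬ p ∣ charDegree (χ : G → ℂ)}, K χ.1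
  haveI hK0n : K0.Normal := Subgroup.normal_iInf_normal fun χ => (hK χ.1).1
  have hmem : ∀ g, g ∈ K0 ↔ ∀ χ : IrrCharacter G, ¬ p ∣ charDegree (χ : G → ℂ) →
      (χ : G → ℂ) g = (χ : G → ℂ) 1 := fun g => by
    simp only [K0, Subgroup.mem_iInf, (hK _).2.1, Subtype.forall]
  set D : Subgroup G := ⁅(P : Subgroup G), (P : Subgroup G)⁆ with hD
  suffices hle : K0 ≤ N ⊔ D by
    ext g
    rw [Set.mem_setOf_eq, SetLike.mem_coe, ← hmem]
    refine ⟨fun hg => (Subgroup.normal_le_normalCore.2 hle) hg, fun hg => (hmem g).2 fun χ hχ => ?_⟩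
    exact apply_eq_one_of_mem_core P N hN hNp hχ hg
  -- Tate in `P K₀`
  set H : Subgroup G := (P : Subgroup G) ⊔ K0 with hH
  haveI := Fintype.ofFinite H
  let Q : Sylow p H := P.subtype le_sup_left
  have hQ : (Q : Subgroup H) = (P : Subgroup G).subgroupOf H := rfl
  haveI : (K0.subgroupOf H).Normal := hK0n.subgroupOf H
  have hsup : (Q : Subgroup H) ⊔ K0.subgroupOf H = ⊤ := by
    rw [hQ, ← Subgroup.subgroupOf_sup le_sup_left le_sup_right, Subgroup.subgroupOf_self]
  have hfr : (Q : Subgroup H) ⊓ K0.subgroupOf H ≤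
      (frattini (Q : Subgroup H)).map (Q : Subgroup H).subtype := by
    refine le_trans ?_ (Subgroup.map_mono (Solv.commutator_le_frattini Q.isPGroup'))
    rw [Subgroup.map_subtype_commutator]
    intro x hx
    have h1 : (x : G) ∈ D := mem_commutator_of_kernel P hx.1 ((hmem _).1 hx.2)
    have h2 : D = ⁅(Q : Subgroup H), (Q : Subgroup H)⁆.map H.subtype := by
      rw [Subgroup.map_commutator, hQ, Subgroup.map_subgroupOf_eq_of_le le_sup_left]
    rw [h2] at h1
    obtain ⟨y, hy, hye⟩ := h1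
    rwa [show x = y from Subtype.ext hye.symm]
  obtain ⟨Q₂, O, hO, hcompl⟩ := Solv.tate Q (K0.subgroupOf H) inferInstance hsup hfr
  haveI := hO
  have hOp : ¬ p ∣ Nat.card O := by
    rw [← hcompl.index_eq_card]
    exact Q₂.not_dvd_index
  have hOidx : ∃ k, O.index = p ^ k := by
    obtain ⟨k, hk⟩ := IsPGroup.iff_card.1 Q₂.isPGroup'
    exact ⟨k, by rw [hcompl.symm.index_eq_card, hk]⟩
  have hregO : ∀ x : H, x ∈ O ↔ ¬ p ∣ orderOf x := by
    intro x
    constructor
    · intro hx hd
      exact hOp (hd.trans (Subgroup.orderOf_dvd_natCard O hx))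
    · intro hd
      obtain ⟨k, hk⟩ := hOidx
      rw [← QuotientGroup.eq_one_iff, ← orderOf_eq_one_iff]
      refine Nat.eq_one_of_dvd_coprimes
        (Nat.Coprime.pow_left k (hp.out.coprime_iff_not_dvd.2 hd)) ?_
        (orderOf_map_dvd (QuotientGroup.mk' O) x)
      have := orderOf_dvd_natCard (x : H ⧸ O)
      rwa [← Subgroup.index_eq_card, hk] at this
  have hKidx : ∃ k, (K0.subgroupOf H).index = p ^ k := by
    obtain ⟨k, hk⟩ := IsPGroup.iff_card.1 Q.isPGroup'
    have h1 : (K0.subgroupOf H).index ∣ Nat.card (Q : Subgroup H) := by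
      have h2 := Subgroup.relIndex_sup_right (Q : Subgroup H) (K0.subgroupOf H)
      rw [hsup, Subgroup.relIndex_top_right] at h2
      rw [h2]
      exact Subgroup.relIndex_dvd_card _ _
    rw [hk] at h1
    obtain ⟨j, -, hj⟩ := (Nat.dvd_prime_pow hp.out).1 h1
    exact ⟨j, hj⟩
  have hOK : O ≤ K0.subgroupOf H := by
    intro x hx
    obtain ⟨k, hk⟩ := hKidx
    rw [← QuotientGroup.eq_one_iff, ← orderOf_eq_one_iff]
    refine Nat.eq_one_of_dvd_coprimes
      (Nat.Coprime.pow_left k (hp.out.coprime_iff_not_dvd.2 ((hregO x).1 hx))) ?_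
      (orderOf_map_dvd (QuotientGroup.mk' (K0.subgroupOf H)) x)
    have := orderOf_dvd_natCard (x : H ⧸ K0.subgroupOf H)
    rwa [← Subgroup.index_eq_card, hk] at this
  set OG := O.map H.subtype with hOG
  have hOGmem : ∀ g : G, g ∈ OG ↔ g ∈ K0 ∧ ¬ p ∣ orderOf g := by
    intro g
    constructor
    · rintro ⟨x, hx, rfl⟩
      exact ⟨hOK hx, by rw [Subgroup.coe_subtype, Subgroup.orderOf_coe]; exact (hregO x).1 hx⟩
    · rintro ⟨hg, hr⟩
      exact ⟨⟨g, Subgroup.mem_sup_right hg⟩,
        (hregO _).2 (by rw [← Subgroup.orderOf_coe]; exact hr), rfl⟩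
  haveI hOGn : OG.Normal := ⟨fun g hg x => by
    rw [hOGmem] at hg ⊢
    refine ⟨hK0n.conj_mem g hg.1 x, ?_⟩
    rw [show orderOf (x * g * x⁻¹) = orderOf g from
      orderOf_injective (MulAut.conj x).toMonoidHom (MulAut.conj x).injective g]
    exact hg.2⟩
  have hOGN : OG ≤ N := by
    refine hmax OG hOGn (le_bot_iff.1 fun c hc => Subgroup.mem_bot.2 ?_)
    by_contra hc1
    haveI := Fintype.ofFinite O
    obtain ⟨c', hc'O, rfl⟩ := hc.1
    obtain ⟨θ, hθne, hθP⟩ := exists_invariant_irr Q O hc'O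
      (fun y hy => Subtype.ext (hc.2 _ hy)) (fun h => hc1 (by rw [h, map_one]))
    have hinv : ∀ y : H, conjN (θ : O → ℂ) y = θ := by
      intro y
      have hy : y ∈ inertia (θ : O → ℂ) := by
        have h1 : O ⊔ (Q₂ : Subgroup H) ≤ O ⊔ inertia (θ : O → ℂ) := sup_le le_sup_left ?_
        · rw [hcompl.sup_eq_top, sup_eq_right.2 (le_inertia (classFun_of_irr θ.2))] at h1
          exact h1 (Subgroup.mem_top y)
        · -- the two Sylow subgroups are conjugate modulo `O`
          intro z hz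
          have hz' : z ∈ O ⊔ (Q : Subgroup H) := by
            have hidx : O ⊔ (Q : Subgroup H) = ⊤ := by
              obtain ⟨k, hk⟩ := hOidx
              refine Subgroup.index_eq_one.1 (Nat.eq_one_of_dvd_coprimes
                (Nat.Coprime.pow_right k ((hp.out).coprime_iff_not_dvd.2 fun hd =>
                  Q.not_dvd_index (hd.trans (Subgroup.index_dvd_of_le le_sup_right))).symm) dvd_rfl
                (hk ▸ Subgroup.index_dvd_of_le le_sup_left))
            rw [hidx]; exact Subgroup.mem_top z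
          exact (sup_le_sup_left (fun w hw => hθP w hw) O : O ⊔ (Q : Subgroup H) ≤ _) hz'
      exact hy
    have hcop : Nat.Coprime (Nat.card O) O.index := by
      obtain ⟨k, hk⟩ := hOidx
      rw [hk]
      exact (Nat.Coprime.pow_left k (hp.out.coprime_iff_not_dvd.2 hOp)).symm
    obtain ⟨η, hη, hηres⟩ := exists_extension_coprime θ.2 hinv hcop
    have hdeg : indFun H η 1 = ((H.index * charDegree (θ : O → ℂ) : ℕ) : ℂ) := by
      rw [indFun_one, Nat.cast_mul, ← irr_one_eq θ.2, ← hηres 1, Subgroup.coe_one]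
    obtain ⟨χ, hne, hχ⟩ := exists_pprime_constituent
      (isCharacter_indFun H (isCharacter_of_isIrr hη)) hdeg (p := p) (fun hd => by
        rcases hp.out.dvd_mul.1 hd with h | h
        · exact P.not_dvd_index (h.trans (Subgroup.index_dvd_of_le le_sup_left))
        · exact hOp (h.trans (degree_dvd_card θ.2)))
    have hne' : classInner (fun h : H => (χ : G → ℂ) h) η ≠ 0 := fun h0 => hne (by
      rw [frobenius _ _ (classFun_of_irr χ.2), ← classInner_conj, h0, map_zero])
    have hrest := isCharacter_sub_constituent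
      (isCharacter_restrict H (isCharacter_of_isIrr χ.2)) hη hne'
    have h1 := inner_zero_of_summand (isCharacter_of_isIrr θ.2)
      (isCharacter_restrict O hrest) (isCharacter_of_isIrr θ.2) (by
        rw [show ((θ : O → ℂ) + fun o : O => ((fun h : H => (χ : G → ℂ) h) - η) (o : H)) =
            (χ : G → ℂ) 1 • (fun _ : O => (1 : ℂ)) from funext fun o => by
          simp only [Pi.add_apply, Pi.sub_apply, Pi.smul_apply, smul_eq_mul, mul_one, hηres,
            add_sub_cancel]
          exact (hmem _).1 (hOK o.2) χ hχ]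
        rw [classInner_smul_left, irr_inner_ne isIrr_one θ.2 (Ne.symm hθne), mul_zero])
    rw [irr_inner_self θ.2] at h1
    exact one_ne_zero h1
  intro g hg
  obtain ⟨R, hR⟩ : ∃ R : Subgroup G, R = N ⊔ D := ⟨_, rfl⟩
  rw [← hR]
  have hgH : g ∈ H := Subgroup.mem_sup_right hg
  have hdec : (⟨g, hgH⟩ : H) ∈ O ⊔ (Q : Subgroup H) := by
    obtain ⟨k, hk⟩ := hOidx
    have : O ⊔ (Q : Subgroup H) = ⊤ :=
      Subgroup.index_eq_one.1 (Nat.eq_one_of_dvd_coprimes
        (Nat.Coprime.pow_right k ((hp.out).coprime_iff_not_dvd.2 fun hd =>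
          Q.not_dvd_index (hd.trans (Subgroup.index_dvd_of_le le_sup_right))).symm) dvd_rfl
        (hk ▸ Subgroup.index_dvd_of_le le_sup_left))
    rw [this]; exact Subgroup.mem_top _
  obtain ⟨a, ha, b, hb, hab⟩ := Subgroup.mem_sup_of_normal_left.1 hdec
  have hab' : (a : G) * (b : G) = g := congrArg Subtype.val hab
  have hbK : (b : G) ∈ K0 := by
    rw [show (b : G) = (a : G)⁻¹ * g from eq_inv_mul_of_mul_eq hab']
    exact mul_mem (inv_mem (hOK ha)) hg
  rw [← hab', hR]
  exact Subgroup.mul_mem_sup (hOGN ⟨a, ha, rfl⟩)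
    (mem_commutator_of_kernel P hb ((hmem _).1 hbK))

end CfsgLib.Char
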