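import Mathlib
import Cfsg.Agent.Char.FrobTI
import Cfsg.Agent.Char.Exceptional
import Cfsg.Agent.Char.Monomial
import Cfsg.Agent.Char.PPrimeDegree
import Cfsg.Agent.Char.NonVanishing
import Cfsg.Agent.Char.CyclicSigns
import Cfsg.Agent.Solv.FrobeniusNilp
import Cfsg.Agent.S2811
import Cfsg.Agent.Perm.MinClass

/-! One Frobenius T.I. subgroup of a group of odd order: exceptional characters of the least degree,
lower bounds for the square sums of an irreducible character on the kernel. -/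

set_option autoImplicit false
set_option linter.unusedSectionVars false
set_option linter.style.haveILetI false

namespace CfsgLib.NoCover

open Cfsg CfsgLib.Char
open scoped ComplexConjugate CfsgLib.Char

universe u

theorem pow_congr {A : Type*} [CommRing A] {p : ℕ} (hp : p.Prime) {d : ℕ} (z : Fin d → A) :
    ∀ k : ℕ, (p : A) ∣ (∑ i, z i) ^ p ^ k - ∑ i, z i ^ p ^ k := by
  intro k
  induction k with
  | zero => simp
  | succ k ih =>
    have h1 : (p : A) ∣ ((∑ i, z i) ^ p ^ k) ^ p - (∑ i, z i ^ p ^ k) ^ p :=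
      ih.trans (sub_dvd_pow_sub_pow _ _ p)
    have h2 : (p : A) ∣ (∑ i, z i ^ p ^ k) ^ p - ∑ i, (z i ^ p ^ k) ^ p := by
      have key : ∀ t : Finset (Fin d), (p : A) ∣ (∑ i ∈ t, z i ^ p ^ k) ^ p - ∑ i ∈ t, (z i ^ p ^ k) ^ p := by
        intro t
        induction t using Finset.induction_on with
        | empty => simp [zero_pow hp.ne_zero]
        | insert a t ha ih' =>
          obtain ⟨r, hr⟩ := exists_add_pow_prime_eq hp (z a ^ p ^ k) (∑ i ∈ t, z i ^ p ^ k)
          obtain ⟨r', hr'⟩ := ih'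
          rw [Finset.sum_insert ha, Finset.sum_insert ha, hr]
          exact ⟨z a ^ p ^ k * (∑ i ∈ t, z i ^ p ^ k) * r + r', by linear_combination hr'⟩
      exact key Finset.univ
    have h3 := dvd_add h1 h2
    rw [sub_add_sub_cancel] at h3
    simpa [pow_succ, pow_mul] using h3

/-- a character of degree prime to `p` does not vanish on `p`-elements -/
theorem ne_zero_of_pElement {G : Type u} [Group G] [Finite G] {χ : G → ℂ} (hχ : IsCharacter G χ)
    {d p : ℕ} [Fact p.Prime] (hd : χ 1 = d) (hpd : ¬ p ∣ d) {y : G} (hy : ∃ k, orderOf y = p ^ k) :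
    χ y ≠ 0 := by
  intro h0
  obtain ⟨n, ρ, rfl⟩ := hχ
  obtain ⟨k, hk⟩ := hy
  obtain ⟨ζ, hζ, -, hsum, -⟩ := exists_roots ρ y
  rw [hk] at hζ
  let A := integralClosure ℤ ℂ
  let z : Fin (Module.finrank ℂ (Fin n → ℂ)) → A := fun i =>
    ⟨ζ i, isIntegral_root (pow_ne_zero k (Fact.out : p.Prime).ne_zero) (hζ i)⟩
  obtain ⟨r, hr⟩ := pow_congr (Fact.out : p.Prime) z k
  have hr' := congrArg Subtype.val hr
  have hd' : (d : ℂ) = (Module.finrank ℂ (Fin n → ℂ) : ℂ) := by rw [← hd]; simp [Representation.character]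
  simp only [z, Subalgebra.coe_sub, Subalgebra.coe_mul,  SubmonoidClass.coe_pow,
    AddSubmonoidClass.coe_finsetSum, hζ, Finset.sum_const, Finset.card_univ, Fintype.card_fin, nsmul_eq_mul,
    mul_one, ← hsum, h0, zero_pow (pow_ne_zero k (Fact.out : p.Prime).ne_zero), zero_sub, ← hd'] at hr'
  refine hpd (dvd_of_isIntegral_div (Fact.out : p.Prime).ne_zero ?_)
  have hp0 : (p : ℂ) ≠ 0 := Nat.cast_ne_zero.2 (Fact.out : p.Prime).ne_zero
  rw [show (d : ℂ) / (p : ℂ) = -(r : ℂ) by field_simp; linear_combination -hr']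
  exact r.2.neg

/-- a T.I. subgroup `H` whose normalizer `L` is a Frobenius group with kernel `H` -/
structure Datum (G : Type u) [Group G] where
  L : Subgroup G
  H : Subgroup G
  lt : H < L
  ne_bot : H ≠ ⊥
  norm : ∀ x ∈ L, ∀ h ∈ H, x * h * x⁻¹ ∈ H
  cent : ∀ h ∈ H, h ≠ 1 → ∀ x : G, x * h = h * x → x ∈ H
  ti : ∀ g : G, g ∉ L → ∀ x ∈ H, g * x * g⁻¹ ∈ H → x = 1

variable {G : Type u} [Group G] [Fintype G]

namespace Datum

variable (D : Datum G)

/-- the kernel inside its normalizer -/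
abbrev K : Subgroup D.L := D.H.subgroupOf D.L

noncomputable scoped instance instL : Fintype D.L := Fintype.ofFinite _

noncomputable scoped instance instK : Fintype D.K := Fintype.ofFinite _

noncomputable scoped instance instHom : Fintype (D.K →* ℂˣ) :=
  haveI : Finite (D.K →* ℂˣ) := Finite.of_injective
    (fun μ (k : D.K) => (⟨μ k, (mem_rootsOfUnity _ _).2 (by rw [← map_pow, pow_card_eq_one', map_one])⟩ :
      rootsOfUnity (Nat.card D.K) ℂ))
    fun μ ν h => MonoidHom.ext fun k => congrArg Subtype.val (congrFun h k)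
  Fintype.ofFinite _

scoped instance instNormal : D.K.Normal :=
  ⟨fun n hn g => Subgroup.mem_subgroupOf.2 (D.norm g g.2 n (Subgroup.mem_subgroupOf.1 hn))⟩

theorem hC : ∀ h ∈ D.K, h ≠ 1 → Subgroup.centralizer ({h} : Set D.L) ≤ D.K := by
  intro h hh h1 x hx
  exact Subgroup.mem_subgroupOf.2 (D.cent h (Subgroup.mem_subgroupOf.1 hh) (fun e => h1 (Subtype.ext e)) x
    (congrArg Subtype.val (Subgroup.mem_centralizer_singleton_iff.1 hx)))

/-- index of the kernel -/
noncomputable def e : ℕ := D.K.index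

/-- order of the kernel -/
noncomputable def h : ℕ := Nat.card D.K

/-- index of the derived subgroup -/
noncomputable def q : ℕ := (commutator D.K).index

theorem h_eq : D.h = Nat.card D.H :=
  Nat.card_congr (Subgroup.subgroupOfEquivOfLe D.lt.le).toEquiv

theorem card_L : Nat.card D.L = D.e * D.h := (Subgroup.index_mul_card D.K).symm

theorem one_lt_e : 1 < D.e := by
  have h0 : D.e ≠ 0 := Subgroup.index_ne_zero_of_finite
  have h1 : D.e ≠ 1 := fun he => D.lt.not_ge (Subgroup.subgroupOf_eq_top.1 (Subgroup.index_eq_one.1 he))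
  omega

theorem exists_ne_one : ∃ k : D.K, k ≠ 1 := by
  obtain ⟨x, hx, hx1⟩ := (Subgroup.ne_bot_iff_exists_ne_one.1 D.ne_bot).imp fun x hx => And.intro x.2 hx
  exact ⟨⟨⟨x, D.lt.le x.2⟩, Subgroup.mem_subgroupOf.2 x.2⟩,
    fun e => hx1 (Subtype.ext (congrArg (fun k : D.K => ((k : D.L) : G)) e))⟩

theorem coprime : D.e.Coprime D.h := by
  refine Nat.coprime_of_dvd fun l hl hle hlh => ?_
  haveI := Fact.mk hl
  obtain ⟨P⟩ : Nonempty (Sylow l D.L) := inferInstance
  -- the intersection with the kernel is a Sylow subgroup of it, hence nontrivial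
  have hidx : ¬ l ∣ (P : Subgroup D.L).index := P.not_dvd_index
  have hne : (P : Subgroup D.L) ⊓ D.K ≠ ⊥ := by
    intro hbot
    have h1 : D.K.relIndex (P : Subgroup D.L) = Nat.card (P : Subgroup D.L) := by
      rw [← Subgroup.relIndex_bot_left, ← hbot, Subgroup.inf_relIndex_left]
    have h2 : Nat.card (P : Subgroup D.L) ∣ D.e := h1 ▸ Subgroup.relIndex_dvd_index_of_normal D.K _
    have h3 : l * Nat.card (P : Subgroup D.L) ∣ Nat.card D.L := by
      rw [D.card_L, mul_comm l]
      exact mul_dvd_mul h2 hlh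
    rw [← Subgroup.card_mul_index (P : Subgroup D.L), mul_comm l] at h3
    exact hidx (Nat.dvd_of_mul_dvd_mul_left Nat.card_pos h3)
  -- a central element of the Sylow subgroup inside the kernel
  haveI : ((P : Subgroup D.L) ⊓ D.K).subgroupOf (P : Subgroup D.L) |>.Normal := by
    rw [Subgroup.inf_subgroupOf_left]
    infer_instance
  haveI : Nontrivial (((P : Subgroup D.L) ⊓ D.K).subgroupOf (P : Subgroup D.L)) := by
    rw [Subgroup.nontrivial_iff_ne_bot, Ne, Subgroup.subgroupOf_eq_bot, disjoint_iff, inf_assoc, inf_comm D.K,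
      ← inf_assoc, inf_idem]
    exact hne
  haveI : Group.IsNilpotent (P : Subgroup D.L) := P.isPGroup'.isNilpotent
  obtain ⟨z, hzN, hzc, hz1⟩ : ∃ z : (P : Subgroup D.L), (z : D.L) ∈ D.K ∧ z ∈ Subgroup.center _ ∧ z ≠ 1 := by
    have hb := CfsgLib.Perm.inf_center_ne_bot P.isPGroup'
      (((P : Subgroup D.L) ⊓ D.K).subgroupOf (P : Subgroup D.L))
      (Subgroup.nontrivial_iff_ne_bot _ |>.1 inferInstance)
    obtain ⟨z, hz, hz1⟩ := (Subgroup.ne_bot_iff_exists_ne_one.1 hb).imp fun z hz => And.intro z.2 hz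
    exact ⟨z.1, (Subgroup.mem_subgroupOf.1 (Subgroup.mem_inf.1 hz).1).2, (Subgroup.mem_inf.1 hz).2,
      fun h => hz1 (Subtype.ext h)⟩
  have hPK : (P : Subgroup D.L) ≤ D.K := fun x hx => D.hC z hzN (fun e => hz1 (Subtype.ext e))
    (Subgroup.mem_centralizer_singleton_iff.2 (congrArg Subtype.val (Subgroup.mem_center_iff.1 hzc ⟨x, hx⟩)))
  exact hidx (hle.trans (Subgroup.index_dvd_of_le hPK))

theorem isNilpotent : Group.IsNilpotent D.K := by
  obtain ⟨l, hl, hle⟩ := Nat.exists_prime_and_dvd (Nat.ne_of_gt D.one_lt_e)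
  haveI := Fact.mk hl
  obtain ⟨w, hw⟩ := exists_prime_orderOf_dvd_card' (G := D.L) l (by
    rw [D.card_L]; exact dvd_mul_of_dvd_left hle _)
  have hwK : w ∉ D.K := fun hwK => hl.not_dvd_one (by
    have : l ∣ Nat.gcd D.e D.h := Nat.dvd_gcd hle (by
      rw [← hw, ← Subgroup.orderOf_mk w hwK]; exact orderOf_dvd_natCard _)
    rwa [D.coprime] at this)
  refine CfsgLib.Solv.isNilpotent_of_fpf_element (h := w) (p := l) (by rw [← hw]; exact pow_orderOf_eq_one w) ?_
  rw [eq_bot_iff]
  intro x hx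
  obtain ⟨hxK, hxc⟩ := Subgroup.mem_inf.1 hx
  by_contra hx1
  exact hwK (D.hC x hxK (fun e => hx1 (Subgroup.mem_bot.2 e))
    (Subgroup.mem_centralizer_singleton_iff.2 (Subgroup.mem_centralizer_singleton_iff.1 hxc).symm))

theorem card_hom : Fintype.card (D.K →* ℂˣ) = D.q := by
  rw [← Nat.card_eq_fintype_card]
  have : Nat.card (D.K →* ℂˣ) = Nat.card (Abelianization D.K →* ℂˣ) := Nat.card_congr Abelianization.lift
  rw [this]
  haveI : Finite (Abelianization D.K) :=
    Finite.of_surjective (Abelianization.of : D.K → Abelianization D.K) QuotientGroup.mk_surjective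
  rw [CommGroup.card_monoidHom_of_hasEnoughRootsOfUnity]
  rfl

theorem one_lt_q : 1 < D.q := by
  have h0 : D.q ≠ 0 := Subgroup.index_ne_zero_of_finite
  have h1 : D.q ≠ 1 := by
    intro hq
    haveI := D.isNilpotent
    haveI : Nontrivial D.K := by
      obtain ⟨k, hk⟩ := D.exists_ne_one
      exact ⟨⟨k, 1, hk⟩⟩
    exact (IsSolvable.commutator_lt_top_of_nontrivial D.K).ne (Subgroup.index_eq_one.1 hq)
  omega

open Classical in
theorem sum_hom (k : D.K) :
    ∑ μ : D.K →* ℂˣ, (μ k : ℂ) = if k ∈ commutator D.K then (D.q : ℂ) else 0 := by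
  split_ifs with hk
  · rw [Finset.sum_congr rfl fun μ _ => show ((μ k : ℂˣ) : ℂ) = 1 by
      rw [Units.val_eq_one]
      exact (Abelianization.commutator_subset_ker μ) hk,
      Finset.sum_const, Finset.card_univ, D.card_hom, nsmul_eq_mul, mul_one]
  · obtain ⟨ν, hν⟩ := exists_linear_ne_one hk
    have h : (ν k : ℂ) * ∑ μ : D.K →* ℂˣ, (μ k : ℂ) = 1 * ∑ μ : D.K →* ℂˣ, (μ k : ℂ) := by
      rw [one_mul, Finset.mul_sum]
      exact Fintype.sum_equiv (Equiv.mulLeft ν) _ _ fun μ => by simp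
    by_contra hne
    exact hν (Units.val_eq_one.1 (mul_right_cancel₀ hne h))

/-- the characters of least degree which are not constant on the kernel -/
def T := {χ : IrrCharacter D.L // ∃ μ : D.K →* ℂˣ, μ ≠ 1 ∧ (χ : D.L → ℂ) = indFun D.K fun k => (μ k : ℂ)}

noncomputable scoped instance instT : Fintype D.T :=
  haveI : Finite D.T := Subtype.finite
  Fintype.ofFinite _

noncomputable def s : ℕ := Fintype.card D.T

theorem hom_ne_one {μ : D.K →* ℂˣ} (h : μ ≠ 1) : (fun k => (μ k : ℂ)) ≠ fun _ => 1 :=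
  fun e => h (MonoidHom.ext fun k => Units.ext (congrFun e k))

theorem T_rel (η : D.T) : FrobTI.Rel D.K (η.1 : D.L → ℂ) := by
  obtain ⟨μ, hμ, e⟩ := η.2
  rw [e]
  exact FrobTI.rel_indFun D.hC (isIrr_linear μ) (D.hom_ne_one hμ)

theorem T_one (η : D.T) : (η.1 : D.L → ℂ) 1 = D.e := by
  obtain ⟨μ, -, e⟩ := η.2
  rw [e, indFun_one]; simp [Datum.e]

theorem T_nonempty : Nonempty D.T := by
  obtain ⟨μ, hμ⟩ : ∃ μ : D.K →* ℂˣ, μ ≠ 1 := by
    by_contra hno
    push Not at hno
    haveI : Subsingleton (D.K →* ℂˣ) := ⟨fun a b => (hno a).trans (hno b).symm⟩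
    have := D.one_lt_q
    rw [← D.card_hom, Fintype.one_lt_card_iff_nontrivial] at this
    exact not_nontrivial _ this
  exact ⟨⟨⟨_, FrobTI.indFun_irr D.hC (isIrr_linear μ) (D.hom_ne_one hμ)⟩, μ, hμ, rfl⟩⟩

open Classical in
theorem sum_T (k : D.K) :
    ∑ η : D.T, (η.1 : D.L → ℂ) k = (if k ∈ commutator D.K then (D.q : ℂ) else 0) - 1 := by
  have key : (∑ η : D.T, fun k : D.K => (η.1 : D.L → ℂ) k) =
      ∑ μ ∈ Finset.univ.erase (1 : D.K →* ℂˣ), fun k : D.K => (μ k : ℂ) := by
    refine classFun_ext (fun x y => ?_) (fun x y => ?_) fun θ => ?_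
    · simp only [Finset.sum_apply]
      exact Finset.sum_congr rfl fun η _ => by simpa using classFun_of_irr η.1.2 (x : D.L) (y : D.L)
    · simp only [Finset.sum_apply]
      exact Finset.sum_congr rfl fun μ _ => classFun_of_irr (isIrr_linear μ) x y
    rw [classInner_sum_left, classInner_sum_left]
    by_cases hlin : ∃ μ₀ : D.K →* ℂˣ, μ₀ ≠ 1 ∧ (θ : D.K → ℂ) = fun k => (μ₀ k : ℂ)
    · obtain ⟨μ₀, hμ₀, hθ⟩ := hlin
      let η₀ : D.T := ⟨⟨_, FrobTI.indFun_irr D.hC (isIrr_linear μ₀) (D.hom_ne_one hμ₀)⟩, μ₀, hμ₀, rfl⟩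
      rw [Finset.sum_eq_single η₀, Finset.sum_eq_single μ₀]
      · rw [hθ, irr_inner_self (isIrr_linear μ₀), ← frobenius' D.K _ (classFun_of_irr η₀.1.2)]
        exact irr_inner_self η₀.1.2
      · intro μ _ hne
        rw [hθ]
        exact irr_inner_ne (isIrr_linear μ) (isIrr_linear μ₀) fun e => hne (coe_linear_injective e)
      · simp [hμ₀]
      · intro η _ hne
        rw [hθ, ← frobenius' D.K _ (classFun_of_irr η.1.2)]
        exact irr_inner_ne η.1.2 η₀.1.2 fun e => hne (Subtype.ext (Subtype.ext e))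
      · simp
    · rw [Finset.sum_eq_zero, Finset.sum_eq_zero]
      · intro μ hμ
        exact irr_inner_ne (isIrr_linear μ) θ.2 fun e => hlin ⟨μ, (Finset.mem_erase.1 hμ).1, e.symm⟩
      · intro η _
        by_contra hc
        obtain ⟨hne, e⟩ := FrobTI.rel_constituent D.hC (D.T_rel η) θ.2 hc
        have h1 := D.T_one η
        rw [e, indFun_one] at h1
        have hd : (θ : D.K → ℂ) 1 = 1 := (mul_eq_left₀ (Nat.cast_ne_zero.2 (by
          have := D.one_lt_e; show D.K.index ≠ 0; simp only [Datum.e] at this; omega))).1 h1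
        obtain ⟨μ, hμ⟩ := exists_hom_of_degree_one (isCharacter_of_isIrr θ.2) hd
        exact hlin ⟨μ, fun h => hne (by rw [hμ, h]; simp), hμ⟩
  have := congrFun key k
  simp only [Finset.sum_apply] at this
  rw [this, Finset.sum_erase_eq_sub (Finset.mem_univ _), D.sum_hom k]
  simp

theorem s_mul_e : D.s * D.e = D.q - 1 := by
  classical
  have h := D.sum_T 1
  simp only [OneMemClass.coe_one, T_one, Finset.sum_const, Finset.card_univ, nsmul_eq_mul, one_mem, if_true] at h
  have hq := D.one_lt_q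
  have h' : ((D.s * D.e + 1 : ℕ) : ℂ) = (D.q : ℂ) := by
    push_cast; rw [Datum.s, h]; ring
  have := Nat.cast_injective (R := ℂ) h'
  omega

/-- `e` on the kernel minus a character of `T` -/
noncomputable def phi (η : D.T) : D.L → ℂ :=
  indFun D.K (fun _ : D.K => (1 : ℂ)) - (η.1 : D.L → ℂ)

theorem ind_one_apply (k : D.K) : indFun D.K (fun _ : D.K => (1 : ℂ)) k = D.e := by
  have h := congrFun (indFun_restrict (N := D.K) fun _ : D.K => (1 : ℂ)) k
  rw [h, Pi.smul_apply, Finset.sum_apply]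
  simp only [conjN, Finset.sum_const, Finset.card_univ, nsmul_eq_mul, mul_one, smul_eq_mul]
  rw [← Nat.card_eq_fintype_card, D.card_L, Nat.cast_mul, mul_comm (D.e : ℂ), ← mul_assoc, Datum.h,
    inv_mul_cancel₀ (natCard_ne_zero D.K), one_mul]

theorem phi_outside (η : D.T) {x : D.L} (hx : x ∉ D.K) : D.phi η x = 0 := by
  rw [phi, Pi.sub_apply, indFun_outside _ hx, FrobTI.rel_vanish D.hC (D.T_rel η) hx, sub_zero]

theorem phi_one (η : D.T) : D.phi η 1 = 0 := by
  rw [phi, Pi.sub_apply, T_one, indFun_one, mul_one, Datum.e, sub_self]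

theorem phi_gen (η : D.T) : IsGeneralizedCharacter D.L (D.phi η) :=
  ⟨_, _, isCharacter_indFun D.K isCharacter_one, isCharacter_of_isIrr η.1.2, rfl⟩

theorem phi_supp (η : D.T) (x : D.L) (hx : ¬ ((x : G) ∈ D.H ∧ x ≠ 1)) : D.phi η x = 0 := by
  by_cases hxK : x ∈ D.K
  · obtain rfl : x = 1 := by_contra fun h => hx ⟨Subgroup.mem_subgroupOf.1 hxK, h⟩
    exact D.phi_one η
  · exact D.phi_outside η hxK

theorem inner_res_one (η : D.T) : classInner (fun k : D.K => (η.1 : D.L → ℂ) k) (fun _ => 1) = 0 := by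
  by_contra h
  exact (FrobTI.rel_constituent D.hC (D.T_rel η) isIrr_one h).1 rfl

open Classical in
theorem phi_inner (η η' : D.T) :
    classInner (D.phi η) (D.phi η') = D.e + if η = η' then 1 else 0 := by
  have hc : IsClassFunction D.L (indFun D.K fun _ : D.K => (1 : ℂ)) := indFun_classFun _ _
  have h1 : classInner (indFun D.K fun _ : D.K => (1 : ℂ)) (indFun D.K fun _ : D.K => (1 : ℂ)) = D.e := by
    rw [frobenius' _ _ hc]
    simp [classInner_def, ind_one_apply, natCard_ne_zero]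
  have h2 : ∀ η : D.T, classInner (η.1 : D.L → ℂ) (indFun D.K fun _ : D.K => (1 : ℂ)) = 0 := fun η => by
    rw [frobenius' _ _ (classFun_of_irr η.1.2)]
    exact D.inner_res_one η
  have h3 : ∀ η : D.T, classInner (indFun D.K fun _ : D.K => (1 : ℂ)) (η.1 : D.L → ℂ) = 0 := fun η => by
    rw [← classInner_conj, h2, map_zero]
  rw [phi, phi, classInner_sub_left, classInner_sub_right, classInner_sub_right, h1, h2, h3,
    irr_inner η.1.2 η'.1.2]
  simp only [sub_zero, zero_sub, sub_neg_eq_add]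
  congr 1
  exact if_congr ⟨fun h => Subtype.ext (Subtype.ext h), fun h => h ▸ rfl⟩ rfl rfl

theorem phi_inner_one (η : D.T) : classInner (D.phi η) (fun _ => 1) = 1 := by
  rw [phi, classInner_sub_left, CfsgLib.Char.frobenius _ _ (fun _ _ => rfl),
    irr_inner_ne η.1.2 isIrr_one (fun e => by
      have := D.T_one η
      rw [e] at this
      have h0 : (1 : ℂ) = (D.e : ℂ) := this
      have h1 : D.e = 1 := by exact_mod_cast h0.symm
      exact absurd h1 (Nat.ne_of_gt D.one_lt_e)), sub_zero]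
  exact classInner_one_one

/-- `phi` induced to the whole group -/
noncomputable def alpha (η : D.T) : G → ℂ := indFun D.L (D.phi η)

theorem alpha_gen (η : D.T) : IsGeneralizedCharacter G (D.alpha η) := gen_indFun D.L (D.phi_gen η)

theorem alpha_at_one (η : D.T) : D.alpha η 1 = 0 := by rw [alpha, indFun_one, phi_one, mul_zero]

theorem alpha_one (η : D.T) : classInner (D.alpha η) (fun _ => 1) = 1 := by
  rw [alpha, CfsgLib.Char.frobenius _ _ (fun _ _ => rfl)]
  exact D.phi_inner_one η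

theorem alpha_apply (η : D.T) {k : D.L} (hk : (k : G) ∈ D.H) (hk1 : k ≠ 1) :
    D.alpha η (k : G) = D.phi η k := by
  refine CfsgLib.Blk.indFun_eq_of_ti D.L (classFun_of_gen (D.phi_gen η)) fun g hm hne => ?_
  by_contra hg
  have hmem : g⁻¹ * (k : G) * g ∈ D.H := by
    by_contra h
    exact hne (D.phi_supp η _ fun hh => h hh.1)
  refine hk1 (Subtype.ext (D.ti g⁻¹ (fun h => hg (by simpa using inv_mem h)) k hk ?_))
  simpa using hmem

theorem alpha_outside (η : D.T) {g : G} (hg : ¬ ∃ x : G, x⁻¹ * g * x ∈ D.H ∧ g ≠ 1) : D.alpha η g = 0 := by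
  rw [alpha, indFun_apply, Finset.sum_eq_zero, mul_zero]
  intro x _
  by_cases hm : x⁻¹ * g * x ∈ D.L
  · rw [extendByZero_mem' _ _ hm]
    refine D.phi_supp η _ fun hh => hg ⟨x, hh.1, fun h1 => hh.2 ?_⟩
    exact Subtype.ext (by simp [h1])
  · exact extendByZero_not_mem _ _ hm

open Classical in
theorem alpha_inner (η η' : D.T) :
    classInner (D.alpha η) (D.alpha η') = D.e + if η = η' then 1 else 0 := by
  rw [← D.phi_inner η η']
  conv_lhs => arg 2; rw [alpha]
  rw [frobenius' _ _ (classFun_of_gen (D.alpha_gen η))]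
  simp only [classInner_def]
  congr 1
  refine Finset.sum_congr rfl fun x _ => ?_
  by_cases hx : (x : G) ∈ D.H ∧ x ≠ 1
  · rw [D.alpha_apply η hx.1 hx.2]
  · simp [D.phi_supp η' x hx]

/-- inner products of the sum of the `alpha` with a class function -/
theorem sum_alpha_inner {ψ : G → ℂ} (hψ : IsClassFunction G ψ) :
    ∑ η : D.T, classInner (D.alpha η) ψ =
      (D.q : ℂ) * (Nat.card D.L : ℂ)⁻¹ * ∑ k : D.K,
        (open Classical in if k ∈ commutator D.K then 0 else conj (ψ ((k : D.L) : G))) := by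
  classical
  rw [Finset.sum_congr rfl fun η _ => show classInner (D.alpha η) ψ = classInner (D.phi η) (fun x : D.L => ψ x) from
    CfsgLib.Char.frobenius _ _ hψ, ← classInner_sum_left, classInner_def,
    sum_subgroup (M := ℂ) D.K _ fun x hx => by simp [D.phi_outside _ hx], mul_comm (D.q : ℂ), mul_assoc, Finset.mul_sum (a := (D.q : ℂ))]
  congr 1
  refine Finset.sum_congr rfl fun k _ => ?_
  have hq := D.one_lt_q
  have hse : (D.s : ℂ) * D.e = (D.q : ℂ) - 1 := by
    rw [← Nat.cast_mul, D.s_mul_e, Nat.cast_sub hq.le, Nat.cast_one]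
  have hval : ∑ η : D.T, D.phi η k = if k ∈ commutator D.K then 0 else (D.q : ℂ) := by
    simp only [phi, Pi.sub_apply, ind_one_apply, Finset.sum_sub_distrib, D.sum_T k, Finset.sum_const,
      Finset.card_univ, nsmul_eq_mul]
    rw [show (Fintype.card D.T : ℂ) = (D.s : ℂ) from rfl, hse]
    split_ifs <;> ring
  rw [Finset.sum_apply, hval]
  split_ifs <;> simp

theorem exists_exc (hodd : Odd (Nat.card G)) :
    ∃ (ε : ℂ) (f : D.T → IrrCharacter G), (ε = 1 ∨ ε = -1) ∧ Function.Injective f ∧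
      ∀ η η' : D.T, D.alpha η - D.alpha η' = ε • ((f η' : G → ℂ) - (f η : G → ℂ)) := by
  classical
  obtain ⟨η₀⟩ := D.T_nonempty
  let b := Fintype.equivFin D.T
  obtain ⟨ε, hε, μ, hμ, hinj, hτ⟩ := exists_exceptional (G := G) (b η₀)
    (fun i => D.alpha η₀ - D.alpha (b.symm i))
    (by simp)
    (fun i => CfsgLib.Coh.gen_sub (D.alpha_gen _) (D.alpha_gen _))
    (fun i => by simp [alpha_at_one])
    (fun i j hi hj => by
      intro _
      have hi' : η₀ ≠ b.symm i := fun h => hi (by rw [h, Equiv.apply_symm_apply])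
      have hj' : η₀ ≠ b.symm j := fun h => hj (by rw [h, Equiv.apply_symm_apply])
      rw [classInner_sub_left, classInner_sub_right, classInner_sub_right, D.alpha_inner, D.alpha_inner,
        D.alpha_inner, D.alpha_inner, if_pos rfl, if_neg hj', if_neg (Ne.symm hi')]
      simp only [EmbeddingLike.apply_eq_iff_eq]
      split_ifs <;> ring)
  refine ⟨ε, fun η => ⟨μ (b η), hμ _⟩, hε, fun x y h => b.injective (hinj (congrArg Subtype.val h)), fun η η' => ?_⟩
  have a1 := hτ (b η)
  have a2 := hτ (b η')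
  simp only [Equiv.symm_apply_apply] at a1 a2
  rw [show D.alpha η - D.alpha η' = (D.alpha η₀ - D.alpha η') - (D.alpha η₀ - D.alpha η) by abel, a1, a2,
    ← smul_sub]
  congr 1
  abel

/-- conjugation on `T` -/
noncomputable def conjT (η : D.T) : D.T :=
  ⟨⟨fun x => conj ((η.1 : D.L → ℂ) x), irr_conj η.1.2⟩, by
    obtain ⟨μ, hμ, e⟩ := η.2
    refine ⟨μ⁻¹, fun h => hμ (MonoidHom.ext fun k => inv_eq_one.1 (DFunLike.congr_fun h k)), ?_⟩
    funext x
    show conj ((η.1 : D.L → ℂ) x) = _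
    rw [e, indFun_apply, indFun_apply, map_mul, map_inv₀, Complex.conj_natCast, map_sum]
    congr 1
    refine Finset.sum_congr rfl fun y _ => ?_
    by_cases hy : y⁻¹ * x * y ∈ D.K
    · rw [extendByZero_mem' _ _ hy, extendByZero_mem' _ _ hy, MonoidHom.inv_apply, Units.val_inv_eq_inv_val]
      exact conj_root (orderOf_pos _).ne' (linear_root μ ⟨_, hy⟩)
    · rw [extendByZero_not_mem _ _ hy, extendByZero_not_mem _ _ hy, map_zero]⟩

theorem conjT_ne (hodd : Odd (Nat.card G)) (η : D.T) : D.conjT η ≠ η := by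
  intro h
  have hL : Odd (Nat.card D.L) := hodd.of_dvd_nat (Subgroup.card_subgroup_dvd_card _)
  have h1 := eq_one_of_real_odd hL η.1 fun g =>
    congrFun (congrArg Subtype.val (congrArg Subtype.val h)) g
  have h2 := D.T_one η
  rw [h1] at h2
  have h3 : D.e = 1 := by
    have h4 : (1 : ℂ) = (D.e : ℂ) := h2
    exact_mod_cast h4.symm
  exact absurd h3 (Nat.ne_of_gt D.one_lt_e)

theorem alpha_conjT (η : D.T) (g : G) : D.alpha (D.conjT η) g = conj (D.alpha η g) := by
  rw [alpha, alpha, indFun_apply, indFun_apply, map_mul, map_inv₀, Complex.conj_natCast, map_sum]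
  congr 1
  refine Finset.sum_congr rfl fun y _ => ?_
  by_cases hy : y⁻¹ * g * y ∈ D.L
  · rw [extendByZero_mem' _ _ hy, extendByZero_mem' _ _ hy, phi, phi, Pi.sub_apply, Pi.sub_apply, map_sub]
    congr 1
    by_cases hk : (⟨_, hy⟩ : D.L) ∈ D.K
    · rw [show (⟨_, hy⟩ : D.L) = ((⟨_, hk⟩ : D.K) : D.L) from rfl, ind_one_apply, Complex.conj_natCast]
    · rw [indFun_outside _ hk, map_zero]
  · rw [extendByZero_not_mem _ _ hy, extendByZero_not_mem _ _ hy, map_zero]

end Datum

end CfsgLib.NoCover
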