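import Cfsg.Agent.Char.Induce
import Mathlib.GroupTheory.GroupAction.Quotient
import Mathlib.GroupTheory.Sylow

/-! Permutation characters. -/

set_option linter.unusedSectionVars false
set_option linter.style.haveILetI false

namespace CfsgLib.Char

open Module Cfsg
open scoped ComplexConjugate

universe u v

variable {G : Type u} [Group G] [Fintype G]

theorem indFun_one_eq_fixed {X : Type v} [MulAction G X] [Finite X] [MulAction.IsPretransitive G X]
    (x : X) (g : G) :
    indFun (MulAction.stabilizer G x) (fun _ => (1 : ℂ)) g =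
      (Nat.card (MulAction.fixedBy X g) : ℂ) := by
  haveI := Fintype.ofFinite X
  classical
  rw [indFun_apply]
  have hfib : ∀ y : X, (Finset.univ.filter fun a : G => a • x = y).card =
      Nat.card (MulAction.stabilizer G x) := by
    intro y
    obtain ⟨a₀, rfl⟩ := MulAction.exists_smul_eq G x y
    rw [← Fintype.card_subtype, Fintype.card_eq_nat_card]
    refine Nat.card_congr ⟨fun a => ⟨a₀⁻¹ * a.1, by
      rw [MulAction.mem_stabilizer_iff, mul_smul, a.2, inv_smul_smul]⟩,
      fun k => ⟨a₀ * k.1, by rw [mul_smul, MulAction.mem_stabilizer_iff.mp k.2]⟩,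
      fun a => Subtype.ext (by simp), fun k => Subtype.ext (by simp)⟩
  have hterm : ∀ a : G, extendByZero (MulAction.stabilizer G x) (fun _ => (1 : ℂ))
      (a⁻¹ * g * a) = if g • (a • x) = a • x then 1 else 0 := by
    intro a
    have hiff : a⁻¹ * g * a ∈ MulAction.stabilizer G x ↔ g • (a • x) = a • x := by
      rw [MulAction.mem_stabilizer_iff, mul_smul, mul_smul, inv_smul_eq_iff]
    split_ifs with h
    · rw [extendByZero_mem' _ _ (hiff.mpr h)]
    · rw [extendByZero_not_mem _ _ (mt hiff.mp h)]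
  simp only [hterm]
  rw [← Finset.sum_fiberwise Finset.univ (fun a : G => a • x)]
  have : ∀ y : X, (∑ a ∈ Finset.univ.filter (fun a : G => a • x = y),
      (if g • (a • x) = a • x then (1 : ℂ) else 0)) =
      (Nat.card (MulAction.stabilizer G x) : ℂ) * (if g • y = y then 1 else 0) := by
    intro y
    rw [← hfib y, ← nsmul_eq_mul, ← Finset.sum_const]
    exact Finset.sum_congr rfl fun a ha => by rw [(Finset.mem_filter.mp ha).2]
  simp only [this, ← Finset.mul_sum, Finset.sum_boole]
  rw [← mul_assoc, inv_mul_cancel₀ (natCard_ne_zero _), one_mul, Nat.card_eq_fintype_card,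
    ← Fintype.card_subtype]
  simp only [MulAction.fixedBy]
  congr 1

theorem indFun_coset (H : Subgroup G) (g : G) :
    indFun H (fun _ => (1 : ℂ)) g = (Nat.card (MulAction.fixedBy (G ⧸ H) g) : ℂ) := by
  have h := indFun_one_eq_fixed (G := G) (X := G ⧸ H) ((1 : G) : G ⧸ H) g
  have hstab := MulAction.stabilizer_quotient (H := H)
  rw [hstab] at h
  exact h

open Classical in
/-- product of two permutation characters on coset spaces -/
theorem indFun_one_mul (H K : Subgroup G) :
    ∃ (ι : Type u) (_ : Fintype ι) (U : ι → Subgroup G), (∀ i, U i ≤ H) ∧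
      indFun H (fun _ => (1 : ℂ)) * indFun K (fun _ => (1 : ℂ)) =
        ∑ i, indFun (U i) (fun _ => (1 : ℂ)) := by
  let X := (G ⧸ H) × (G ⧸ K)
  let Ω := MulAction.orbitRel.Quotient G X
  haveI : Fintype Ω := Fintype.ofFinite _
  have hrep : ∀ ω : Ω, ∃ x : X, Quotient.mk'' x = ω ∧ x.1 = ((1 : G) : G ⧸ H) := by
    intro ω
    obtain ⟨⟨a, b⟩, rfl⟩ := Quotient.exists_rep ω
    obtain ⟨t, ht⟩ := MulAction.exists_smul_eq G a ((1 : G) : G ⧸ H)
    exact ⟨t • (a, b), Quotient.sound' ⟨t, rfl⟩, ht⟩
  choose r hr hr1 using hrep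
  refine ⟨Ω, inferInstance, fun ω => MulAction.stabilizer G (r ω), fun ω g hg => ?_, ?_⟩
  · have h1 : g • (r ω).1 = (r ω).1 := congrArg Prod.fst hg
    rw [hr1] at h1
    have h2 := MulAction.stabilizer_quotient (H := H)
    rw [← h2]
    exact h1
  · ext g
    rw [Pi.mul_apply, indFun_coset, indFun_coset, Finset.sum_apply, ← Nat.cast_mul, ← Nat.card_prod]
    have horb : ∀ ω : Ω, indFun (MulAction.stabilizer G (r ω)) (fun _ => (1 : ℂ)) g =
        (Nat.card {x : X // Quotient.mk'' x = ω ∧ g • x = x} : ℂ) := by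
      intro ω
      have h := indFun_one_eq_fixed (G := G) (X := MulAction.orbit G (r ω))
        ⟨r ω, MulAction.mem_orbit_self _⟩ g
      have hs : MulAction.stabilizer G (⟨r ω, MulAction.mem_orbit_self _⟩ :
          MulAction.orbit G (r ω)) = MulAction.stabilizer G (r ω) := by
        ext t
        simp only [MulAction.mem_stabilizer_iff, Subtype.ext_iff]
        rfl
      rw [hs] at h
      rw [h]
      congr 1
      refine Nat.card_congr ⟨fun y => ⟨y.1.1, ?_, congrArg Subtype.val y.2⟩,
        fun x => ⟨⟨x.1, ?_⟩, Subtype.ext x.2.2⟩, fun y => rfl, fun x => rfl⟩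
      · exact (Quotient.sound' y.1.2).trans (hr ω)
      · exact Quotient.eq''.mp (x.2.1.trans (hr ω).symm)
    simp only [horb, ← Nat.cast_sum]
    congr 1
    rw [← Nat.card_sigma]
    refine Nat.card_congr
      ⟨fun p => ⟨Quotient.mk'' ((p.1.1, p.2.1) : X), (p.1.1, p.2.1), rfl, Prod.ext p.1.2 p.2.2⟩,
        fun q => (⟨q.2.1.1, congrArg Prod.fst q.2.2.2⟩, ⟨q.2.1.2, congrArg Prod.snd q.2.2.2⟩),
        fun p => rfl, ?_⟩
    rintro ⟨ω, x, hx, hg⟩
    subst hx
    rfl

end CfsgLib.Char
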