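import Cfsg.Agent.Char.PPrimeDegree
import Cfsg.Agent.Char.PermLemma
import Cfsg.Agent.Char.ExtMore
import Cfsg.Agent.Char.Ramified
import Cfsg.Agent.Char.Induce
import Cfsg.Agent.Solv.MinimalNormal
import Cfsg.Agent.Solv.FittingBasic
import Mathlib.GroupTheory.Solvable

/-!
Real-valued irreducible characters of odd degree of solvable groups: they are counted by the
normalizer of a Sylow 2-subgroup, and all odd-degree characters are real exactly when that
normalizer is a 2-group with elementary abelian factor group.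
-/

set_option autoImplicit false
set_option linter.style.haveILetI false
set_option linter.unusedSectionVars false

namespace CfsgLib.RealOdd

open Cfsg CfsgLib.Char
open scoped ComplexConjugate CfsgLib.Char

universe u

variable {G : Type u} [Group G]

/-- Odd degree. -/
def IsOddDeg (χ : G → ℂ) : Prop := ∃ n : ℕ, Odd n ∧ χ 1 = n

/-- Real valued. -/
def IsReal (χ : G → ℂ) : Prop := ∀ g, conj (χ g) = χ g

/-- The number of real irreducible characters of odd degree. -/
noncomputable def cnt (G : Type u) [Group G] : ℕ :=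
  Nat.card {χ : IrrCharacter G // IsReal (χ : G → ℂ) ∧ IsOddDeg (χ : G → ℂ)}

/-- Every irreducible character of odd degree is real. -/
def AllReal (G : Type u) [Group G] : Prop :=
  ∀ χ : G → ℂ, IsIrrCharacter G χ → IsOddDeg χ → IsReal χ

/-- The restriction to `A` is a multiple of the linear `θ`. -/
def OverL (A : Subgroup G) (θ : A →* ℂˣ) (χ : G → ℂ) : Prop := ∀ a : A, χ a = χ 1 * (θ a : ℂ)

/-- A linear character as a function. -/
def fn {A : Subgroup G} (θ : A →* ℂˣ) : A → ℂ := fun a => (θ a : ℂ)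

theorem sq_cases {z : ℂˣ} (h : z ^ 2 = 1) : (z : ℂ) = 1 ∨ (z : ℂ) = -1 :=
  sq_eq_one_iff.1 (by rw [← Units.val_pow_eq_pow_val, h, Units.val_one])

theorem conj_of_sq {z : ℂˣ} (h : z ^ 2 = 1) : conj (z : ℂ) = (z : ℂ) := by
  rcases sq_cases h with e | e <;> simp [e]

theorem sq_of_conj [Finite G] (δ : G →* ℂˣ) {g : G} (h : conj (δ g : ℂ) = (δ g : ℂ)) : δ g ^ 2 = 1 := by
  obtain ⟨n, hn, hpow⟩ : ∃ n, n ≠ 0 ∧ (δ g : ℂ) ^ n = 1 :=
    ⟨orderOf g, (orderOf_pos g).ne', by
      rw [← Units.val_pow_eq_pow_val, ← map_pow, pow_orderOf_eq_one, map_one, Units.val_one]⟩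
  have h1 : ‖(δ g : ℂ)‖ = 1 := Complex.norm_eq_one_of_pow_eq_one hpow hn
  apply Units.ext
  rw [Units.val_pow_eq_pow_val, Units.val_one, sq]
  nth_rw 2 [← h]
  rw [Complex.mul_conj', h1]
  simp

section finite

variable [Fintype G]

theorem inner_conj_left {φ θ : G → ℂ} (hφ : IsReal φ) :
    classInner φ (fun g => conj (θ g)) = conj (classInner φ θ) := by
  simp [classInner_def, map_sum, hφ _]

/-- A real character of odd degree has a real constituent of odd degree. -/
theorem exists_real_constituent {φ : G → ℂ} (hφ : IsCharacter G φ) (hr : IsReal φ) (ho : IsOddDeg φ) :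
    ∃ θ : IrrCharacter G, classInner φ (θ : G → ℂ) ≠ 0 ∧ IsReal (θ : G → ℂ) ∧ IsOddDeg (θ : G → ℂ) := by
  classical
  obtain ⟨d, hd, hd1⟩ := ho
  by_contra hno
  push Not at hno
  choose n hn using fun χ : IrrCharacter G => inner_char_irr hφ χ.2
  have h1 := congrFun (classFun_eq_sum (classFun_of_char hφ)) 1
  simp only [Finset.sum_apply, Pi.smul_apply, smul_eq_mul] at h1
  rw [hd1, Finset.sum_congr rfl (g := fun χ : IrrCharacter G =>
    ((n χ * charDegree (χ : G → ℂ) : ℕ) : ℂ))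
    (fun χ _ => by rw [hn, irr_one_eq χ.2, Nat.cast_mul]), ← Nat.cast_sum, Nat.cast_inj] at h1
  have hcinv : ∀ θ : IrrCharacter G, IsIrrCharacter G (fun g => conj ((θ : G → ℂ) g)) := fun θ => by
    rw [show (fun g => conj ((θ : G → ℂ) g)) = (θ : G → ℂ) ∘ fun g => g⁻¹ from
      funext fun g => (char_conj_eq (isCharacter_of_isIrr θ.2) g).symm]
    exact irr_comp_inv θ
  let bar : IrrCharacter G → IrrCharacter G := fun θ => ⟨_, hcinv θ⟩
  have hnbar : ∀ θ, n (bar θ) = n θ := fun θ => by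
    have := hn (bar θ)
    rw [inner_conj_left hr, hn θ, Complex.conj_natCast] at this
    exact_mod_cast this.symm
  have hdbar : ∀ θ, charDegree ((bar θ : IrrCharacter G) : G → ℂ) = charDegree (θ : G → ℂ) := fun θ => by
    have h : ((charDegree ((bar θ : IrrCharacter G) : G → ℂ) : ℕ) : ℂ) = (charDegree (θ : G → ℂ) : ℂ) := by
      rw [← irr_one_eq (bar θ).2, ← irr_one_eq θ.2]
      show conj _ = _
      rw [irr_one_eq θ.2, Complex.conj_natCast]
    exact_mod_cast h
  have h0 : ∑ χ : IrrCharacter G, ((n χ * charDegree (χ : G → ℂ) : ℕ) : ZMod 2) = 0 := by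
    refine Finset.sum_involution (fun θ _ => bar θ) (fun θ _ => ?_) (fun θ _ hne e => ?_)
      (fun θ _ => Finset.mem_univ _) (fun θ _ => Subtype.ext (funext fun g => Complex.conj_conj _))
    · rw [hnbar, hdbar]
      exact CharTwo.add_self_eq_zero _
    · obtain ⟨hodd1, hodd2⟩ := Nat.odd_mul.1 ((ZMod.natCast_ne_zero_iff_odd).1 hne)
      refine hno θ ?_ (fun g => congrFun (congrArg Subtype.val e) g) ⟨_, hodd2, irr_one_eq θ.2⟩
      rw [hn]
      exact_mod_cast hodd1.pos.ne'
  rw [← Nat.cast_sum, ← h1] at h0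
  exact (ZMod.natCast_ne_zero_iff_odd.2 hd) h0

theorem isReal_indFun (H : Subgroup G) {φ : H → ℂ} (h : IsReal φ) : IsReal (indFun H φ) := by
  classical
  intro g
  rw [indFun_apply, map_mul, map_sum, map_inv₀, Complex.conj_natCast]
  congr 1
  refine Finset.sum_congr rfl fun x _ => ?_
  by_cases hx : x⁻¹ * g * x ∈ H
  · rw [extendByZero_mem' _ _ hx]; exact h _
  · rw [extendByZero_not_mem _ _ hx, map_zero]

theorem conj_indFun (H : Subgroup G) (φ : H → ℂ) :
    indFun H (fun x => conj (φ x)) = fun g => conj (indFun H φ g) := by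
  classical
  funext g
  rw [indFun_apply, indFun_apply, map_mul, map_sum, map_inv₀, Complex.conj_natCast]
  congr 1
  refine Finset.sum_congr rfl fun x _ => ?_
  by_cases hx : x⁻¹ * g * x ∈ H
  · rw [extendByZero_mem' _ _ hx, extendByZero_mem' _ _ hx]
  · rw [extendByZero_not_mem _ _ hx, extendByZero_not_mem _ _ hx, map_zero]

/-- The determinant of a real character is a sign character, and on a subgroup where the character
is a multiple of a linear sign character it is that character for odd degree. -/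
theorem exists_det {χ : G → ℂ} (hχ : IsCharacter G χ) (hr : IsReal χ) (ho : IsOddDeg χ)
    {A : Subgroup G} {θ : A →* ℂˣ} (hθ : ∀ a, θ a ^ 2 = 1) (hA : OverL A θ χ) :
    ∃ δ : G →* ℂˣ, (∀ g, δ g ^ 2 = 1) ∧ ∀ a : A, δ a = θ a := by
  obtain ⟨n, ρ, rfl⟩ := hχ
  obtain ⟨d, hd, hd1⟩ := ho
  refine ⟨detHom ρ, fun g => sq_of_conj _ ?_, fun a => Units.ext ?_⟩
  · obtain ⟨ζ, hζ, hpow, -, hdet⟩ := exists_roots ρ g
    rw [detHom_apply, hdet, map_prod]
    refine prod_eq_of_powSums (orderOf_pos g).ne' (fun i => conj (ζ i)) ζ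
      (fun i => by rw [← map_pow, hζ, map_one]) hζ fun k => ?_
    calc ∑ i, conj (ζ i) ^ k = conj (∑ i, ζ i ^ k) := by simp [map_sum]
      _ = conj (ρ.character (g ^ k)) := by rw [hpow]
      _ = ρ.character (g ^ k) := hr _
      _ = _ := hpow k
  · have hn : n = d := by
      rw [Representation.char_one, Module.finrank_fin_fun] at hd1; exact_mod_cast hd1
    subst hn
    let σ : Representation ℂ A (Fin n → ℂ) :=
      { toFun := fun b => (θ b : ℂ) • (1 : (Fin n → ℂ) →ₗ[ℂ] (Fin n → ℂ))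
        map_one' := by simp
        map_mul' := fun b c => by rw [map_mul, Units.val_mul, smul_mul_smul_comm, one_mul] }
    let τ : Representation ℂ A (Fin n → ℂ) := ρ.comp A.subtype
    have hc : τ.character = σ.character := by
      funext b
      show ρ.character (b : G) = LinearMap.trace ℂ (Fin n → ℂ) ((θ b : ℂ) • (1 : (Fin n → ℂ) →ₗ[ℂ] (Fin n → ℂ)))
      rw [hA b, hd1, map_smul, LinearMap.trace_one, Module.finrank_fin_fun, smul_eq_mul, mul_comm]
    have h2 := det_eq_of_char_eq τ σ hc a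
    rw [detHom_apply]
    refine h2.trans ?_
    show LinearMap.det ((θ a : ℂ) • (1 : (Fin n → ℂ) →ₗ[ℂ] (Fin n → ℂ))) = _
    rw [LinearMap.det_smul, map_one, mul_one, Module.finrank_fin_fun]
    obtain ⟨k, rfl⟩ := hd
    rcases sq_cases (hθ a) with e | e <;> simp [e, pow_succ, pow_mul]

/-- Extending a stable sign character from inside a subgroup of odd index. -/
theorem exists_sign_ext {A P : Subgroup G} [A.Normal] (hAP : A ≤ P) (hodd : Odd P.index)
    {θ : A →* ℂˣ} (hθ : ∀ a, θ a ^ 2 = 1) (hinv : ∀ g : G, conjN (fn θ) g = fn θ)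
    (D : P →* ℂˣ) (hD : ∀ x, D x ^ 2 = 1) (hDA : ∀ a : A, D ⟨a, hAP a.2⟩ = θ a) :
    ∃ δ : G →* ℂˣ, (∀ g, δ g ^ 2 = 1) ∧ ∀ a : A, δ a = θ a := by
  classical
  haveI := Fintype.ofFinite P
  have h1 : indFun P (fun x => (D x : ℂ)) 1 = (P.index : ℂ) := by rw [indFun_one]; simp
  refine exists_det (isCharacter_indFun P (isCharacter_linear D))
    (isReal_indFun P fun x => conj_of_sq (hD x)) ⟨_, hodd, h1⟩ hθ fun a => ?_
  rw [h1, indFun_apply]
  have hx : ∀ x : G, extendByZero P (fun y => (D y : ℂ)) (x⁻¹ * a * x) = (θ a : ℂ) := by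
    intro x
    have hm : x⁻¹ * (a : G) * x ∈ A := by
      simpa using ‹A.Normal›.conj_mem a a.2 x⁻¹
    rw [extendByZero_mem' _ _ (hAP hm)]
    have := congrFun (hinv x⁻¹) a
    simp only [conjN, fn] at this
    rw [show D ⟨x⁻¹ * a * x, hAP hm⟩ = θ ⟨x⁻¹ * a * x, hm⟩ from hDA ⟨_, hm⟩, ← this]
    congr 2
    exact Subtype.ext (by simp)
  rw [Finset.sum_congr rfl fun x _ => hx x, Finset.sum_const, Finset.card_univ, nsmul_eq_mul,
    ← Nat.card_eq_fintype_card, ← Subgroup.index_mul_card P, Nat.cast_mul]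
  field_simp [natCard_ne_zero]

/-- An odd normal subgroup is in the kernel of every real character of odd degree. -/
theorem apply_eq_one_of_odd (K : Subgroup G) [K.Normal] (hK : Odd (Nat.card K)) {χ : G → ℂ}
    (hχ : IsIrrCharacter G χ) (hr : IsReal χ) (ho : IsOddDeg χ) {k : G} (hk : k ∈ K) : χ k = χ 1 := by
  classical
  haveI := Fintype.ofFinite K
  obtain ⟨θ, hne, hθr, -⟩ := exists_real_constituent (isCharacter_restrict K (isCharacter_of_isIrr hχ))
    (fun x => hr _) (by obtain ⟨n, hn, h1⟩ := ho; exact ⟨n, hn, h1⟩)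
  have hθ1 := eq_one_of_real_odd hK θ hθr
  have hres := res_homogeneous hχ θ.2 hne fun x => by
    ext m; simp [hθ1, conjN]
  have h1 := congrFun hres ⟨k, hk⟩
  have h2 := congrFun hres 1
  simp only [Pi.smul_apply, OneMemClass.coe_one, hθ1] at h1 h2
  rw [h1, h2]

theorem fn_irr {A : Subgroup G} (θ : A →* ℂˣ) : IsIrrCharacter A (fn θ) := isIrr_linear θ

theorem fn_inj {A : Subgroup G} {θ θ' : A →* ℂˣ} (h : fn θ = fn θ') : θ = θ' :=
  MonoidHom.ext fun a => Units.ext (congrFun h a)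

theorem inner_of_overL {A : Subgroup G} [Fintype A] {θ : A →* ℂˣ} {χ : G → ℂ} (h : OverL A θ χ)
    (h1 : χ 1 ≠ 0) : classInner (fun a : A => χ a) (fn θ) ≠ 0 := by
  rw [show (fun a : A => χ a) = χ 1 • fn θ from funext fun a => h a, classInner_smul_left,
    irr_inner_self (fn_irr θ), mul_one]
  exact h1

/-- A constituent on an intermediate subgroup gives one below. -/
theorem inner_res_ne {A P : Subgroup G} [Fintype A] [Fintype P] (hAP : A ≤ P) {φ : G → ℂ}
    (hφ : IsCharacter G φ) (μ : P →* ℂˣ) (h : classInner (fun x : P => φ x) (fun x => (μ x : ℂ)) ≠ 0) :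
    classInner (fun a : A => φ a) (fn (μ.comp (Subgroup.inclusion hAP))) ≠ 0 := by
  intro h0
  have hφP := isCharacter_restrict P hφ
  have hrest := isCharacter_sub_constituent hφP (isIrr_linear μ) h
  let i : A →* P := Subgroup.inclusion hAP
  have e : (fun x : P => (μ x : ℂ)) ∘ i + ((fun x : P => φ x) - fun x : P => (μ x : ℂ)) ∘ i =
      fun a : A => φ a := by
    funext a
    simp only [Pi.add_apply, Function.comp_apply, Pi.sub_apply, add_sub_cancel]
    rfl
  have h2 := inner_zero_of_summand (φ := (fun x : P => (μ x : ℂ)) ∘ i)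
    (φ' := ((fun x : P => φ x) - fun x : P => (μ x : ℂ)) ∘ i)
    (isCharacter_comp i (isCharacter_of_isIrr (isIrr_linear μ))) (isCharacter_comp i hrest)
    (isCharacter_of_isIrr (fn_irr (μ.comp i))) (by rw [e]; exact h0)
  exact one_ne_zero ((irr_inner_self (fn_irr (μ.comp i))).symm.trans h2)

theorem index_inertia_odd {A : Subgroup G} [A.Normal] [Fintype A] {θ : A → ℂ}
    (hθ : IsIrrCharacter A θ) {χ : G → ℂ} (hχ : IsIrrCharacter G χ) (ho : IsOddDeg χ)
    (hc : classInner (fun a : A => χ a) θ ≠ 0) : Odd (inertia θ).index := by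
  obtain ⟨d, hd, hd1⟩ := ho
  obtain ⟨e, he⟩ := inner_char_irr (isCharacter_restrict A (isCharacter_of_isIrr hχ)) hθ
  obtain ⟨m, -, hm⟩ := irr_deg hθ
  have h := degree_clifford hχ hθ hc
  rw [hd1, he, hm, ← Nat.cast_mul, ← Nat.cast_mul, Nat.cast_inj] at h
  exact Odd.of_dvd_nat hd (h ▸ (dvd_mul_left _ e).mul_right m)

/-- An orbit of odd length has a member fixed by `P`. -/
theorem exists_fixed_conj (P : Sylow 2 G) {A : Subgroup G} [A.Normal] {θ : A → ℂ}
    (hidx : Odd (inertia θ).index) : ∃ g : G, (P : Subgroup G) ≤ inertia (conjN θ g) := by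
  obtain ⟨q, hq⟩ := P.isPGroup'.nonempty_fixed_point_of_prime_not_dvd_card (α := G ⧸ inertia θ)
    (by rw [← Subgroup.index_eq_card]; exact fun h => (Nat.not_even_iff_odd.2 hidx) (even_iff_two_dvd.2 h))
  obtain ⟨g, rfl⟩ := QuotientGroup.mk_surjective q
  refine ⟨g⁻¹, fun x hx => ?_⟩
  have h1 := inv_mem (QuotientGroup.eq.1 (hq ⟨x, hx⟩ : ((x * g : G) : G ⧸ inertia θ) = g))
  have h2 : g⁻¹ * x * g ∈ inertia θ := by simpa [mul_assoc] using h1
  rw [mem_inertia]
  conv_rhs => rw [← mem_inertia.1 h2, conjN_mul]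
  rw [conjN_mul]
  congr 1
  group

/-- Fusion of fixed characters in the normalizer. -/
theorem fix_conj (P : Sylow 2 G) {A : Subgroup G} [A.Normal] {θ : A → ℂ} (g : G)
    (h1 : (P : Subgroup G) ≤ inertia θ) (h2 : (P : Subgroup G) ≤ inertia (conjN θ g)) :
    ∃ n ∈ Subgroup.normalizer ((P : Subgroup G) : Set G), conjN θ n = conjN θ g := by
  have h3 : ∀ x ∈ ((g • P : Sylow 2 G) : Subgroup G), x ∈ inertia θ := by
    intro x hx
    rw [Sylow.coe_subgroup_smul, Subgroup.mem_pointwise_smul_iff_inv_smul_mem] at hx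
    have := mem_inertia.1 (h2 hx)
    rw [conjN_mul] at this
    rw [mem_inertia]
    have h4 := congrArg (fun f => conjN f g⁻¹) this
    simp only [conjN_mul, mul_inv_cancel, conjN_one] at h4
    convert h4 using 2
    simp [MulAut.smul_def, mul_assoc]
  let P1 : Sylow 2 (inertia θ) := P.subtype h1
  let P2 : Sylow 2 (inertia θ) := (g • P).subtype h3
  obtain ⟨t, ht⟩ := MulAction.exists_smul_eq (inertia θ) P2 P1
  rw [Sylow.smul_subtype] at ht
  have h5 : (t : G) • (g • P) = P := Sylow.subtype_injective ht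
  refine ⟨(t : G) * g, Sylow.smul_eq_iff_mem_normalizer.1 (by rw [mul_smul]; exact h5), ?_⟩
  rw [← conjN_mul, mem_inertia.1 t.2]

end finite

/-- The sign characters of `A` fixed by `P`. -/
def Sigma' (A P : Subgroup G) [A.Normal] : Type u :=
  {θ : A →* ℂˣ // (∀ a, θ a ^ 2 = 1) ∧ P ≤ inertia (fn θ)}

instance (A P : Subgroup G) [A.Normal] [Finite G] : Finite (Sigma' A P) := by
  classical
  refine Finite.of_injective (fun θ : Sigma' A P => fun a : A => decide (θ.1 a = 1)) fun θ θ' h => ?_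
  refine Subtype.ext (MonoidHom.ext fun a => ?_)
  have := congrFun h a
  simp only [decide_eq_decide] at this
  apply Units.ext
  rcases sq_cases (θ.2.1 a) with e | e <;> rcases sq_cases (θ'.2.1 a) with e' | e'
  · rw [e, e']
  · have h1 := this.1 (Units.ext e)
    rw [h1, Units.val_one] at e'
    norm_num at e'
  · have h1 := this.2 (Units.ext e')
    rw [h1, Units.val_one] at e
    norm_num at e
  · rw [e, e']

/-- Conjugacy under the normalizer of `P`. -/
def orbSetoid (A P : Subgroup G) [A.Normal] : Setoid (Sigma' A P) where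
  r θ θ' := ∃ n ∈ Subgroup.normalizer (P : Set G), conjN (fn θ.1) n = fn θ'.1
  iseqv :=
    ⟨fun θ => ⟨1, one_mem _, conjN_one _⟩,
      fun {a b} ⟨n, hn, h⟩ => ⟨n⁻¹, inv_mem hn, by rw [← h, conjN_mul, mul_inv_cancel, conjN_one]⟩,
      fun {a b c} ⟨n, hn, h⟩ ⟨m, hm, h'⟩ => ⟨n * m, mul_mem hn hm, by rw [← conjN_mul, h, h']⟩⟩

/-- Real odd characters over a given one. -/
def OverC (A : Subgroup G) [Fintype A] (θ : A →* ℂˣ) : Type u :=
  {χ : IrrCharacter G // (IsReal (χ : G → ℂ) ∧ IsOddDeg (χ : G → ℂ)) ∧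
    classInner (fun a : A => (χ : G → ℂ) a) (fn θ) ≠ 0}

section finite

variable [Fintype G]

theorem cnt_decomp (P : Sylow 2 G) (A : Subgroup G) [A.Normal] [Fintype A] (hA : IsPGroup 2 A)
    [Fintype (Quotient (orbSetoid A (P : Subgroup G)))] :
    cnt G = ∑ q : Quotient (orbSetoid A (P : Subgroup G)), Nat.card (OverC A q.out.1) := by
  classical
  haveI : ∀ θ : A →* ℂˣ, Finite (OverC A θ) := fun θ => by unfold OverC; infer_instance
  rw [← Nat.card_sigma]
  let f : (Σ q : Quotient (orbSetoid A (P : Subgroup G)), OverC A q.out.1) →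
      {χ : IrrCharacter G // IsReal (χ : G → ℂ) ∧ IsOddDeg (χ : G → ℂ)} := fun z => ⟨z.2.1, z.2.2.1⟩
  refine (Nat.card_congr (Equiv.ofBijective f ⟨?_, ?_⟩)).symm
  · rintro ⟨q, χ, hχ⟩ ⟨q', χ', hχ'⟩ h
    obtain rfl : χ = χ' := congrArg Subtype.val h
    obtain ⟨g, hg⟩ := conjugate_of_constituents χ.2 (fn_irr _) (fn_irr _) hχ.2 hχ'.2
    obtain ⟨n, hn, hn'⟩ := fix_conj P g q.out.2.2 (hg ▸ q'.out.2.2)
    have hq : q = q' := by
      rw [← Quotient.out_eq q, ← Quotient.out_eq q']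
      exact Quotient.sound ⟨n, hn, hn'.trans hg.symm⟩
    subst hq
    rfl
  · rintro ⟨χ, hr, ho⟩
    obtain ⟨θ, hne, hθr, hθo⟩ := exists_real_constituent (isCharacter_restrict A (isCharacter_of_isIrr χ.2))
      (fun x => hr _) (by obtain ⟨n, hn, h1⟩ := ho; exact ⟨n, hn, h1⟩)
    obtain ⟨d, hd, hd1⟩ := hθo
    obtain ⟨k, hk⟩ := IsPGroup.iff_card.1 hA
    have hd' : d = 1 := by
      have h := degree_dvd_card θ.2
      rw [charDegree_eq hd1, hk] at h
      obtain ⟨j, -, rfl⟩ := (Nat.dvd_prime_pow Nat.prime_two).1 h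
      rcases Nat.eq_zero_or_pos j with rfl | hj
      · rfl
      · exact absurd hd (Nat.not_odd_iff_even.2 ((Nat.even_pow' hj.ne').2 even_two))
    subst hd'
    obtain ⟨μ, hμ⟩ := exists_hom_of_degree_one (isCharacter_of_isIrr θ.2) (by rw [hd1, Nat.cast_one])
    rw [hμ] at hne hθr
    have hidx := index_inertia_odd (isIrr_linear μ) χ.2 ho hne
    obtain ⟨g, hg⟩ := exists_fixed_conj P hidx
    let c : A →* A := (MulAut.conjNormal g : MulAut A).toMonoidHom
    have hc : fn (μ.comp c) = conjN (fn μ) g := by rw [conjN_eq_comp]; rfl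
    have hmem : (∀ a, μ.comp c a ^ 2 = 1) ∧ (P : Subgroup G) ≤ inertia (fn (μ.comp c)) :=
      ⟨fun a => sq_of_conj _ (hθr (c a)), by rw [hc]; exact hg⟩
    let q : Quotient (orbSetoid A (P : Subgroup G)) := Quotient.mk _ ⟨μ.comp c, hmem⟩
    obtain ⟨n, -, hn⟩ : (orbSetoid A (P : Subgroup G)).r q.out ⟨μ.comp c, hmem⟩ := Quotient.exact (Quotient.out_eq q)
    refine ⟨⟨q, χ, ⟨hr, ho⟩, ?_⟩, rfl⟩
    rw [← inner_res_conjN (classFun_of_irr χ.2) _ n, hn]
    show classInner _ (fn (μ.comp c)) ≠ 0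
    rw [hc, inner_res_conjN (classFun_of_irr χ.2)]
    exact hne

/-- Inflation. -/
theorem cnt_quot (A : Subgroup G) [A.Normal] : cnt (G ⧸ A) =
    Nat.card {χ : IrrCharacter G // (IsReal (χ : G → ℂ) ∧ IsOddDeg (χ : G → ℂ)) ∧
      ∀ a ∈ A, (χ : G → ℂ) a = (χ : G → ℂ) 1} := by
  classical
  haveI := Fintype.ofFinite (G ⧸ A)
  have hs : Function.Surjective (QuotientGroup.mk' A) := QuotientGroup.mk'_surjective A
  let f : {χ : IrrCharacter (G ⧸ A) // IsReal (χ : (G ⧸ A) → ℂ) ∧ IsOddDeg (χ : (G ⧸ A) → ℂ)} →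
      {χ : IrrCharacter G // (IsReal (χ : G → ℂ) ∧ IsOddDeg (χ : G → ℂ)) ∧
        ∀ a ∈ A, (χ : G → ℂ) a = (χ : G → ℂ) 1} := fun χ =>
    ⟨⟨(χ.1 : (G ⧸ A) → ℂ) ∘ QuotientGroup.mk' A, irr_comp _ hs χ.1.2⟩,
      ⟨fun g => χ.2.1 _, by
        obtain ⟨n, hn, h1⟩ := χ.2.2
        exact ⟨n, hn, by simpa using h1⟩⟩, fun a ha => by
        show (χ.1 : (G ⧸ A) → ℂ) (QuotientGroup.mk' A a) = (χ.1 : (G ⧸ A) → ℂ) (QuotientGroup.mk' A 1)
        rw [map_one, QuotientGroup.mk'_apply, (QuotientGroup.eq_one_iff a).2 ha]⟩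
  refine Nat.card_congr (Equiv.ofBijective f ⟨fun χ χ' h => ?_, ?_⟩)
  · refine Subtype.ext (Subtype.ext ?_)
    exact hs.injective_comp_right (congrArg (fun z => (z.1 : G → ℂ)) h)
  · rintro ⟨χ, ⟨hr, n, hn, h1⟩, hker⟩
    obtain ⟨χ', hirr, hc⟩ := irr_descend _ hs χ.2 fun k hk => hker k ((QuotientGroup.eq_one_iff k).1 hk)
    refine ⟨⟨⟨χ', hirr⟩, fun y => ?_, n, hn, ?_⟩, Subtype.ext (Subtype.ext hc)⟩
    · obtain ⟨g, rfl⟩ := hs y
      show conj ((χ' ∘ QuotientGroup.mk' A) g) = (χ' ∘ QuotientGroup.mk' A) g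
      rw [hc]
      exact hr g
    · show χ' 1 = n
      rw [← h1, ← hc, Function.comp_apply, map_one]

theorem cnt_congr {H : Type u} [Group H] [Fintype H] (e : G ≃* H) : cnt G = cnt H := by
  classical
  let f : {χ : IrrCharacter H // IsReal (χ : H → ℂ) ∧ IsOddDeg (χ : H → ℂ)} →
      {χ : IrrCharacter G // IsReal (χ : G → ℂ) ∧ IsOddDeg (χ : G → ℂ)} := fun χ =>
    ⟨⟨(χ.1 : H → ℂ) ∘ e, irr_mulEquiv e χ.1.2⟩, fun g => χ.2.1 _, by
      obtain ⟨n, hn, h1⟩ := χ.2.2
      exact ⟨n, hn, by simpa using h1⟩⟩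
  refine (Nat.card_congr (Equiv.ofBijective f ⟨fun χ χ' h => ?_, ?_⟩)).symm
  · exact Subtype.ext (Subtype.ext (e.surjective.injective_comp_right (congrArg (fun z => (z.1 : G → ℂ)) h)))
  · rintro ⟨χ, hr, n, hn, h1⟩
    exact ⟨⟨⟨(χ : G → ℂ) ∘ e.symm, irr_mulEquiv e.symm χ.2⟩, fun g => hr _, n, hn, by simpa using h1⟩,
      Subtype.ext (Subtype.ext (funext fun g => by simp [f]))⟩

theorem overL_of_inner {A T : Subgroup G} [A.Normal] [Fintype A] [Fintype T] (hAT : A ≤ T)
    {θ : A →* ℂˣ} (hT : ∀ t ∈ T, conjN (fn θ) t = fn θ) {ψ : T → ℂ} (hψ : IsIrrCharacter T ψ)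
    (hc : classInner (fun a : A => ψ ⟨a, hAT a.2⟩) (fn θ) ≠ 0) :
    ∀ a : A, ψ ⟨a, hAT a.2⟩ = ψ 1 * (θ a : ℂ) := by
  have h := res_homogeneous_le hAT (fn_irr θ) hT hψ hc
  intro a
  have h1 := congrFun h a
  have h2 := congrFun h 1
  simp only [Pi.smul_apply, smul_eq_mul, fn, map_one, Units.val_one, mul_one] at h1 h2
  rw [h1, ← h2]
  rfl

/-- Sign twist: characters over a linear character that extends. -/
theorem card_overL (A : Subgroup G) [A.Normal] (θ : A →* ℂˣ) (δ : G →* ℂˣ) (hδ : ∀ g, δ g ^ 2 = 1)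
    (hδA : ∀ a : A, δ a = θ a) :
    Nat.card {χ : IrrCharacter G // (IsReal (χ : G → ℂ) ∧ IsOddDeg (χ : G → ℂ)) ∧ OverL A θ (χ : G → ℂ)} =
      cnt (G ⧸ A) := by
  rw [cnt_quot A]
  have hδ2 : ∀ g, (δ g : ℂ) * (δ g : ℂ) = 1 := fun g => by
    rw [← Units.val_mul, ← sq, hδ, Units.val_one]
  let F : IrrCharacter G → IrrCharacter G := fun χ =>
    ⟨fun g => (χ : G → ℂ) g * (δ g : ℂ), irr_mul_linear χ.2 δ⟩
  have hFF : ∀ χ, F (F χ) = χ := fun χ =>
    Subtype.ext (funext fun g => by simp [F, mul_assoc, hδ2])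
  have hFr : ∀ χ : IrrCharacter G, IsReal (χ : G → ℂ) → IsReal (F χ : G → ℂ) := fun χ h g => by
    show conj ((χ : G → ℂ) g * (δ g : ℂ)) = _
    rw [map_mul, h g, conj_of_sq (hδ g)]
  have hFo : ∀ χ : IrrCharacter G, IsOddDeg (χ : G → ℂ) → IsOddDeg (F χ : G → ℂ) := by
    rintro χ ⟨n, hn, h1⟩
    exact ⟨n, hn, by simp [F, h1]⟩
  refine Nat.card_congr
    { toFun := fun χ => ⟨F χ.1, ⟨hFr _ χ.2.1.1, hFo _ χ.2.1.2⟩, fun a ha => ?_⟩
      invFun := fun χ => ⟨F χ.1, ⟨hFr _ χ.2.1.1, hFo _ χ.2.1.2⟩, fun a => ?_⟩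
      left_inv := fun χ => Subtype.ext (hFF _)
      right_inv := fun χ => Subtype.ext (hFF _) }
  · show (χ.1 : G → ℂ) a * (δ a : ℂ) = (χ.1 : G → ℂ) 1 * (δ 1 : ℂ)
    rw [χ.2.2 ⟨a, ha⟩, ← hδA ⟨a, ha⟩, mul_assoc, hδ2]
    simp
  · show (χ.1 : G → ℂ) a * (δ a : ℂ) = ((χ.1 : G → ℂ) 1 * (δ 1 : ℂ)) * _
    rw [χ.2.2 a a.2, hδA]
    simp

/-- Characters over `θ`, through its inertia group. -/
theorem card_overC (P : Sylow 2 G) (A : Subgroup G) [A.Normal] [Fintype A] (θ : A →* ℂˣ)
    (hθ : ∀ a, θ a ^ 2 = 1) (hP : (P : Subgroup G) ≤ inertia (fn θ)) [Fintype (inertia (fn θ))] :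
    ((¬ ∃ δ : inertia (fn θ) →* ℂˣ, (∀ g, δ g ^ 2 = 1) ∧
        ∀ a : A.subgroupOf (inertia (fn θ)), δ a = θ ⟨((a : inertia (fn θ)) : G), a.2⟩) →
      Nat.card (OverC A θ) = 0) ∧
    ((∃ δ : inertia (fn θ) →* ℂˣ, (∀ g, δ g ^ 2 = 1) ∧
        ∀ a : A.subgroupOf (inertia (fn θ)), δ a = θ ⟨((a : inertia (fn θ)) : G), a.2⟩) →
      Nat.card (OverC A θ) = cnt (inertia (fn θ) ⧸ A.subgroupOf (inertia (fn θ)))) := by
  classical
  set T := inertia (fn θ) with hTdef
  have hAT : A ≤ T := le_inertia (classFun_of_irr (fn_irr θ))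
  have hT : ∀ g : G, g ∈ T ↔ conjN (fn θ) g = fn θ := fun g => Iff.rfl
  haveI := Fintype.ofFinite (A.subgroupOf T)
  let θT : A.subgroupOf T →* ℂˣ := θ.comp (Subgroup.subgroupOfEquivOfLe hAT).toMonoidHom
  have hodd : Odd T.index := Odd.of_dvd_nat
    (Nat.not_even_iff_odd.1 fun h => P.not_dvd_index (even_iff_two_dvd.1 h)) (Subgroup.index_dvd_of_le hP)
  have key : ∀ χ : OverC A θ, ∃ ψ : {ψ : IrrCharacter T //
      (IsReal (ψ : T → ℂ) ∧ IsOddDeg (ψ : T → ℂ)) ∧ OverL (A.subgroupOf T) θT (ψ : T → ℂ)},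
      indFun T (ψ.1 : T → ℂ) = (χ.1 : G → ℂ) := by
    intro χ
    obtain ⟨ψ, hψ, hind, hin⟩ := clifford_exists (fn_irr θ) hT hAT χ.1.2 χ.2.2
    have hc : classInner (fun a : A => ψ ⟨a, hAT a.2⟩) (fn θ) ≠ 0 := hin ▸ χ.2.2
    have hψo : IsOddDeg ψ := by
      obtain ⟨m, -, hm⟩ := irr_deg hψ
      obtain ⟨n, hn, h1⟩ := χ.2.1.2
      refine ⟨m, Odd.of_dvd_nat hn ⟨T.index, ?_⟩, hm⟩
      rw [← hind, indFun_one, hm, ← Nat.cast_mul, Nat.cast_inj] at h1
      rw [← h1, mul_comm]
    have hψc : IsIrrCharacter T (fun x => conj (ψ x)) := by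
      rw [show (fun x => conj (ψ x)) = ψ ∘ fun x => x⁻¹ from
        funext fun x => (char_conj_eq (isCharacter_of_isIrr hψ) x).symm]
      exact irr_comp_inv ⟨ψ, hψ⟩
    have hover := overL_of_inner hAT (fun t ht => ht) hψ hc
    have hψr : IsReal ψ := by
      have h1 : classInner (fun a : A => conj (ψ ⟨a, hAT a.2⟩)) (fn θ) ≠ 0 := by
        rw [show (fun a : A => conj (ψ ⟨a, hAT a.2⟩)) = fun a : A => ψ ⟨a, hAT a.2⟩ from funext fun a => by
          obtain ⟨m, -, hm⟩ := irr_deg hψ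
          rw [hover a, map_mul, hm, Complex.conj_natCast, conj_of_sq (hθ a)]]
        exact hc
      have h2 : indFun T (fun x => conj (ψ x)) = indFun T ψ := by
        rw [conj_indFun, hind]
        exact funext fun g => χ.2.1.1 g
      exact fun x => congrFun (clifford_unique (fn_irr θ) hT hAT hψc hψ h1 hc h2) x
    exact ⟨⟨⟨ψ, hψ⟩, ⟨hψr, hψo⟩, fun a => hover ⟨((a : T) : G), a.2⟩⟩, hind⟩
  refine ⟨fun hno => ?_, fun ⟨δ, hδ, hδA⟩ => ?_⟩
  · haveI : IsEmpty (OverC A θ) := ⟨fun χ => by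
      obtain ⟨⟨ψ, ⟨hr, ho⟩, hov⟩, -⟩ := key χ
      exact hno (exists_det (isCharacter_of_isIrr ψ.2) hr ho (θ := θT) (fun a => hθ _) hov)⟩
    exact Nat.card_of_isEmpty
  · rw [← card_overL (A.subgroupOf T) θT δ hδ hδA]
    choose ψ hψ using key
    refine Nat.card_congr (Equiv.ofBijective ψ ⟨fun χ χ' h => ?_, ?_⟩)
    · exact Subtype.ext (Subtype.ext (by rw [← hψ χ, ← hψ χ', h]))
    · have hcT : ∀ z : {φ : IrrCharacter T // (IsReal (φ : T → ℂ) ∧ IsOddDeg (φ : T → ℂ)) ∧
          OverL (A.subgroupOf T) θT (φ : T → ℂ)},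
          classInner (fun a : A => (z.1 : T → ℂ) ⟨a, hAT a.2⟩) (fn θ) ≠ 0 := fun z => by
        rw [show (fun a : A => (z.1 : T → ℂ) ⟨a, hAT a.2⟩) = (z.1 : T → ℂ) 1 • fn θ from
          funext fun a => z.2.2 ⟨⟨a, hAT a.2⟩, a.2⟩, classInner_smul_left, irr_inner_self (fn_irr θ), mul_one]
        exact irr_one_ne_zero z.1.2
      rintro ⟨φ, ⟨hr, ho⟩, hov⟩
      have hover : ∀ a : A, (φ : T → ℂ) ⟨a, hAT a.2⟩ = (φ : T → ℂ) 1 * (θ a : ℂ) :=
        fun a => hov ⟨⟨a, hAT a.2⟩, a.2⟩
      have hc : classInner (fun a : A => (φ : T → ℂ) ⟨a, hAT a.2⟩) (fn θ) ≠ 0 := by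
        rw [show (fun a : A => (φ : T → ℂ) ⟨a, hAT a.2⟩) = (φ : T → ℂ) 1 • fn θ from funext hover,
          classInner_smul_left, irr_inner_self (fn_irr θ), mul_one]
        exact irr_one_ne_zero φ.2
      obtain ⟨hirr, hin⟩ := clifford_induce (fn_irr θ) hT hAT φ.2 hc
      obtain ⟨n, hn, h1⟩ := ho
      refine ⟨⟨⟨indFun T (φ : T → ℂ), hirr⟩, ⟨isReal_indFun T hr, T.index * n, hodd.mul hn, ?_⟩, ?_⟩, ?_⟩
      · show indFun T (φ : T → ℂ) 1 = _
        rw [indFun_one, h1, Nat.cast_mul]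
      · show classInner (fun a : A => indFun T (φ : T → ℂ) a) (fn θ) ≠ 0
        rw [hin]; exact hc
      · exact Subtype.ext (Subtype.ext (clifford_unique (fn_irr θ) hT hAT (ψ _).1.2 φ.2 (hcT (ψ _)) hc (hψ _)))

end finite

/-- The normalizer of the image of a Sylow subgroup. -/
theorem normalizer_map [Finite G] (P : Sylow 2 G) (A : Subgroup G) [A.Normal] :
    Subgroup.normalizer (((P : Subgroup G).map (QuotientGroup.mk' A) : Subgroup (G ⧸ A)) : Set (G ⧸ A)) =
      (Subgroup.normalizer ((P : Subgroup G) : Set G)).map (QuotientGroup.mk' A) := by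
  apply le_antisymm
  · intro y hy
    obtain ⟨g, rfl⟩ := QuotientGroup.mk'_surjective A y
    let H : Subgroup G := (P : Subgroup G) ⊔ A
    have hcm : Subgroup.comap (QuotientGroup.mk' A) ((P : Subgroup G).map (QuotientGroup.mk' A)) = H := by
      rw [Subgroup.comap_map_eq, QuotientGroup.ker_mk']
    have hgP : ∀ x ∈ ((g • P : Sylow 2 G) : Subgroup G), x ∈ H := by
      intro x hx
      rw [Sylow.coe_subgroup_smul, Subgroup.mem_pointwise_smul_iff_inv_smul_mem] at hx
      rw [← hcm, Subgroup.mem_comap]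
      have h1 := (Subgroup.mem_normalizer_iff.1 hy _).1 (Subgroup.mem_map_of_mem (QuotientGroup.mk' A) hx)
      convert h1 using 1
      simp [MulAut.smul_def, mul_assoc]
    let P1 : Sylow 2 H := P.subtype le_sup_left
    let P2 : Sylow 2 H := (g • P).subtype hgP
    obtain ⟨t, ht⟩ := MulAction.exists_smul_eq H P2 P1
    rw [Sylow.smul_subtype] at ht
    have h5 : (t : G) • (g • P) = P := Sylow.subtype_injective ht
    have hn : (t : G) * g ∈ Subgroup.normalizer ((P : Subgroup G) : Set G) :=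
      Sylow.smul_eq_iff_mem_normalizer.1 (by rw [mul_smul]; exact h5)
    have ht' : QuotientGroup.mk' A (t : G) ∈
        (Subgroup.normalizer ((P : Subgroup G) : Set G)).map (QuotientGroup.mk' A) := by
      have h2 : QuotientGroup.mk' A (t : G) ∈ (P : Subgroup G).map (QuotientGroup.mk' A) := by
        rw [← Subgroup.mem_comap, hcm]; exact t.2
      exact Subgroup.map_mono Subgroup.le_normalizer h2
    have h3 := mul_mem (inv_mem ht') (Subgroup.mem_map_of_mem (QuotientGroup.mk' A) hn)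
    rwa [map_mul, inv_mul_cancel_left] at h3
  · rintro _ ⟨n, hn, rfl⟩
    refine Subgroup.mem_normalizer_iff.2 fun y => ⟨?_, ?_⟩
    · rintro ⟨x, hx, rfl⟩
      exact ⟨n * x * n⁻¹, (Subgroup.mem_normalizer_iff.1 hn x).1 hx, by simp⟩
    · rintro ⟨x, hx, hxe⟩
      refine ⟨n⁻¹ * x * n, ?_, ?_⟩
      · refine (Subgroup.mem_normalizer_iff.1 hn _).2 ?_
        rw [show n * (n⁻¹ * x * n) * n⁻¹ = x by group]
        exact hx
      · rw [map_mul, map_mul, map_inv, hxe]; group

theorem cnt_normalizer_quot [Fintype G] (P : Sylow 2 G) (A : Subgroup G) [A.Normal] {X : Type u}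
    [Group X] [Fintype X] (j : X →* G) (hj : j.range = Subgroup.normalizer ((P : Subgroup G) : Set G))
    (IH : ∀ Q : Sylow 2 (G ⧸ A),
      cnt (G ⧸ A) = cnt (Subgroup.normalizer ((Q : Subgroup (G ⧸ A)) : Set (G ⧸ A)))) :
    cnt (X ⧸ A.comap j) = cnt (G ⧸ A) := by
  classical
  have hker : ((QuotientGroup.mk' A).comp j).ker = A.comap j := by
    ext x
    simp [MonoidHom.mem_ker]
  have hrange : ((QuotientGroup.mk' A).comp j).range =
      Subgroup.normalizer (((P.mapSurjective (QuotientGroup.mk'_surjective A) : Sylow 2 (G ⧸ A)) :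
        Subgroup (G ⧸ A)) : Set (G ⧸ A)) := by
    rw [MonoidHom.range_comp, hj, Sylow.coe_mapSurjective, normalizer_map]
  rw [IH (P.mapSurjective (QuotientGroup.mk'_surjective A))]
  haveI := Fintype.ofFinite (X ⧸ A.comap j)
  haveI := Fintype.ofFinite (Subgroup.normalizer (((P.mapSurjective (QuotientGroup.mk'_surjective A) :
    Sylow 2 (G ⧸ A)) : Subgroup (G ⧸ A)) : Set (G ⧸ A)))
  exact cnt_congr ((QuotientGroup.quotientMulEquivOfEq hker.symm).trans
    ((QuotientGroup.quotientKerEquivRange _).trans (MulEquiv.subgroupCongr hrange)))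

theorem cnt_eq_aux : ∀ (m : ℕ) (G : Type u) [Group G] [Fintype G], Nat.card G ≤ m →
    Group.IsSolvable G → ∀ P : Sylow 2 G,
      cnt G = cnt (Subgroup.normalizer ((P : Subgroup G) : Set G)) := by
  intro m
  induction m with
  | zero => intro G _ _ hle _ P; exact absurd hle (by have := Nat.card_pos (α := G); omega)
  | succ m ih =>
    intro G _ _ hle hsol P
    classical
    set N := Subgroup.normalizer ((P : Subgroup G) : Set G) with hN
    haveI := Fintype.ofFinite N
    rcases subsingleton_or_nontrivial G with h | h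
    · exact cnt_congr (MulEquiv.ofBijective N.subtype
        ⟨N.subtype_injective, fun g => ⟨1, Subsingleton.elim _ _⟩⟩).symm
    obtain ⟨A, hA, q, hq, hAq⟩ : ∃ A : Subgroup G, CfsgLib.Solv.IsMinimalNormal A ∧ ∃ q : ℕ, q.Prime ∧ IsPGroup q A := by
      obtain ⟨A, hA⟩ := CfsgLib.Solv.exists_isMinimalNormal (G := G)
      obtain ⟨q, hq, -, hqA⟩ := CfsgLib.Solv.exists_prime_exponent_of_minimal_solvable hA inferInstance
      exact ⟨A, hA, q, hq, hqA⟩
    haveI := hA.1
    haveI := Fintype.ofFinite A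
    have hsmall : Nat.card (G ⧸ A) < Nat.card G := by
      rw [Subgroup.card_eq_card_quotient_mul_card_subgroup A]
      exact lt_mul_of_one_lt_right Nat.card_pos
        ((Subgroup.one_lt_card_iff_ne_bot A).2 hA.2.1)
    rcases hq.eq_two_or_odd' with rfl | hqodd
    swap
    · -- odd minimal normal subgroup
      have hAodd : Odd (Nat.card A) := by
        haveI := Fact.mk hq
        obtain ⟨k, hk⟩ := IsPGroup.iff_card.1 hAq
        rw [hk]; exact hqodd.pow
      haveI := Fintype.ofFinite (G ⧸ A)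
      have h1 : cnt G = cnt (G ⧸ A) := by
        rw [cnt_quot A]
        exact Nat.card_congr (Equiv.subtypeEquivRight fun χ =>
          ⟨fun h => ⟨h, fun a ha => apply_eq_one_of_odd A hAodd χ.2 h.1 h.2 ha⟩, fun h => h.1⟩)
      have hAN : Odd (Nat.card (A.comap N.subtype)) := Odd.of_dvd_nat hAodd
        (Subgroup.card_comap_dvd_of_injective A N.subtype N.subtype_injective)
      have h2 : cnt N = cnt (N ⧸ A.comap N.subtype) := by
        rw [cnt_quot (A.comap N.subtype)]
        exact Nat.card_congr (Equiv.subtypeEquivRight fun χ =>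
          ⟨fun h => ⟨h, fun a ha => apply_eq_one_of_odd _ hAN χ.2 h.1 h.2 ha⟩, fun h => h.1⟩)
      rw [h1, h2, cnt_normalizer_quot P A N.subtype N.range_subtype fun Q => ih _ (by omega) inferInstance Q]
    · -- a 2-group
      have hAP : A ≤ (P : Subgroup G) := by
        obtain ⟨S, hS⟩ := hAq.exists_le_sylow
        obtain ⟨g, rfl⟩ := MulAction.exists_smul_eq G S P
        intro a ha
        rw [Sylow.coe_subgroup_smul, Subgroup.mem_pointwise_smul_iff_inv_smul_mem]
        exact hS (by simpa [MulAut.smul_def] using hA.1.conj_mem a ha g⁻¹)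
      have hPN : (P : Subgroup G) ≤ N := Subgroup.le_normalizer
      have hAN : A ≤ N := hAP.trans hPN
      let PN : Sylow 2 N := P.subtype hPN
      let A' : Subgroup N := A.subgroupOf N
      haveI := Fintype.ofFinite A'
      let eA : A' ≃* A := Subgroup.subgroupOfEquivOfLe hAN
      have hA' : IsPGroup 2 A' := hAq.of_equiv eA.symm
      haveI := Fintype.ofFinite (Quotient (orbSetoid A (P : Subgroup G)))
      haveI := Fintype.ofFinite (Quotient (orbSetoid A' (PN : Subgroup N)))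
      rw [cnt_decomp P A hAq, cnt_decomp PN A' hA']
      -- transfer of the sign characters
      have hconj : ∀ (θ : A →* ℂˣ) (n : N), conjN (fn (θ.comp eA.toMonoidHom)) n = fn (θ.comp eA.toMonoidHom) ↔
          conjN (fn θ) (n : G) = fn θ := by
        intro θ n
        constructor
        · intro h
          funext a
          exact congrFun h (eA.symm a)
        · intro h
          funext a
          exact congrFun h (eA a)
      let e : Sigma' A (P : Subgroup G) ≃ Sigma' A' (PN : Subgroup N) :=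
        { toFun := fun θ => ⟨θ.1.comp eA.toMonoidHom, fun a => θ.2.1 _,
            fun x hx => (hconj θ.1 x).2 (θ.2.2 hx)⟩
          invFun := fun θ => ⟨θ.1.comp eA.symm.toMonoidHom, fun a => θ.2.1 _, fun x hx => by
            have hx' : (⟨x, hPN hx⟩ : N) ∈ (PN : Subgroup N) := hx
            have h := (hconj (θ.1.comp eA.symm.toMonoidHom) ⟨x, hPN hx⟩).1 (by
              rw [show (θ.1.comp eA.symm.toMonoidHom).comp eA.toMonoidHom = θ.1 from MonoidHom.ext fun a => by simp]
              exact θ.2.2 hx')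
            exact h⟩
          left_inv := fun θ => Subtype.ext (MonoidHom.ext fun a => by simp)
          right_inv := fun θ => Subtype.ext (MonoidHom.ext fun a => by simp) }
      have htop : Subgroup.normalizer ((PN : Subgroup N) : Set N) = ⊤ := by
        refine eq_top_iff.2 fun n _ => Subgroup.mem_normalizer_iff.2 fun x => ?_
        exact Subgroup.mem_normalizer_iff.1 n.2 (x : G)
      have her : ∀ θ θ', (orbSetoid A (P : Subgroup G)).r θ θ' ↔ (orbSetoid A' (PN : Subgroup N)).r (e θ) (e θ') := by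
        intro θ θ'
        constructor
        · rintro ⟨n, hn, h⟩
          refine ⟨⟨n, hn⟩, htop ▸ Subgroup.mem_top _, ?_⟩
          funext a
          exact congrFun h (eA a)
        · rintro ⟨n, -, h⟩
          refine ⟨n, n.2, ?_⟩
          funext a
          have := congrFun h (eA.symm a)
          exact this.trans (congrArg (fun z => (θ'.1 z : ℂ)) (eA.apply_symm_apply a))
      refine Fintype.sum_equiv (Quotient.congr e her) _ _ fun q => ?_
      -- pointwise comparison
      obtain ⟨n₀, -, hn₀⟩ : (orbSetoid A' (PN : Subgroup N)).r (Quotient.congr e her q).out (e q.out) := by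
        refine Quotient.exact ((Quotient.out_eq _).trans ?_)
        conv_lhs => rw [← Quotient.out_eq q]
        rfl
      have hsame : Nat.card (OverC A' (Quotient.congr e her q).out.1) = Nat.card (OverC A' (e q.out).1) := by
        refine Nat.card_congr (Equiv.subtypeEquivRight fun χ => and_congr_right fun _ => ?_)
        show classInner _ (fn (Quotient.congr e her q).out.1) ≠ 0 ↔ classInner _ (fn (e q.out).1) ≠ 0
        rw [← hn₀, inner_res_conjN (classFun_of_irr χ.2)]
      rw [hsame]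
      obtain ⟨θ, hθ, hPθ⟩ := q.out
      set θ' : A' →* ℂˣ := θ.comp eA.toMonoidHom with hθ'
      show Nat.card (OverC A θ) = Nat.card (OverC A' θ')
      have hPθ' : (PN : Subgroup N) ≤ inertia (fn θ') := fun x hx => (hconj θ x).2 (hPθ hx)
      set T := inertia (fn θ) with hT
      set T' := inertia (fn θ') with hT'
      haveI := Fintype.ofFinite T
      haveI := Fintype.ofFinite T'
      obtain ⟨hno, hyes⟩ := card_overC P A θ hθ hPθ
      obtain ⟨hno', hyes'⟩ := card_overC PN A' θ' (fun a => hθ _) hPθ'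
      let j : T' →* T :=
        { toFun := fun x => ⟨((x : N) : G), (hconj θ x).1 x.2⟩
          map_one' := rfl
          map_mul' := fun _ _ => rfl }
      have hiff : (∃ δ : T →* ℂˣ, (∀ g, δ g ^ 2 = 1) ∧
            ∀ a : A.subgroupOf T, δ a = θ ⟨((a : T) : G), a.2⟩) ↔
          ∃ δ : T' →* ℂˣ, (∀ g, δ g ^ 2 = 1) ∧
            ∀ a : A'.subgroupOf T', δ a = θ' ⟨((a : T') : N), a.2⟩ := by
        constructor
        · rintro ⟨δ, hδ, hδA⟩
          exact ⟨δ.comp j, fun g => hδ _, fun a => hδA ⟨j a, a.2⟩⟩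
        · rintro ⟨δ, hδ, hδA⟩
          let PT : Subgroup T := (P : Subgroup G).subgroupOf T
          let i : PT →* T' :=
            { toFun := fun x => ⟨⟨((x : T) : G), hPN x.2⟩, hPθ' x.2⟩
              map_one' := rfl
              map_mul' := fun _ _ => rfl }
          haveI : (A.subgroupOf T).Normal := hA.1.subgroupOf T
          refine exists_sign_ext (G := T) (A := A.subgroupOf T) (P := PT) (fun a ha => hAP ha) ?_
            (θ := θ.comp (Subgroup.subgroupOfEquivOfLe (le_inertia (classFun_of_irr (fn_irr θ)))).toMonoidHom)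
            (fun a => hθ _) (fun g => ?_) (δ.comp i) (fun x => hδ _) (fun a => ?_)
          · refine Odd.of_dvd_nat (Nat.not_even_iff_odd.1 fun h => P.not_dvd_index (even_iff_two_dvd.1 h)) ?_
            exact ⟨T.index, by rw [mul_comm]; exact (Subgroup.relIndex_mul_index hPθ).symm.trans (mul_comm _ _)⟩
          · funext a
            exact congrFun g.2 ⟨((a : T) : G), a.2⟩
          · exact hδA ⟨i ⟨a, hAP a.2⟩, a.2⟩
      by_cases hex : ∃ δ : T →* ℂˣ, (∀ g, δ g ^ 2 = 1) ∧
            ∀ a : A.subgroupOf T, δ a = θ ⟨((a : T) : G), a.2⟩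
      · rw [hyes hex, hyes' (hiff.1 hex)]
        haveI : (A.subgroupOf T).Normal := hA.1.subgroupOf T
        haveI := Fintype.ofFinite (T ⧸ A.subgroupOf T)
        haveI := Fintype.ofFinite (T' ⧸ (A.subgroupOf T).comap j)
        have hcard : Nat.card (T ⧸ A.subgroupOf T) ≤ m := by
          have h1 : Nat.card (T ⧸ A.subgroupOf T) * Nat.card (A.subgroupOf T) = Nat.card T :=
            (Subgroup.card_eq_card_quotient_mul_card_subgroup _).symm
          have h2 : Nat.card (A.subgroupOf T) = Nat.card A := Nat.card_congr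
            (Subgroup.subgroupOfEquivOfLe (le_inertia (classFun_of_irr (fn_irr θ)))).toEquiv
          have h3 : 1 < Nat.card A := (Subgroup.one_lt_card_iff_ne_bot A).2 hA.2.1
          have h4 : Nat.card T ≤ Nat.card G := Nat.le_of_dvd Nat.card_pos T.card_subgroup_dvd_card
          have h5 := Nat.card_pos (α := T ⧸ A.subgroupOf T)
          nlinarith
        rw [← cnt_normalizer_quot (P.subtype hPθ) (A.subgroupOf T) j ?_ fun Q => ih _ hcard inferInstance Q]
        · haveI := Fintype.ofFinite (T' ⧸ A'.subgroupOf T')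
          exact cnt_congr (QuotientGroup.quotientMulEquivOfEq rfl)
        · ext x
          constructor
          · rintro ⟨y, rfl⟩
            refine Subgroup.mem_normalizer_iff.2 fun z => ?_
            exact Subgroup.mem_normalizer_iff.1 (y : N).2 (z : G)
          · intro hx
            have hxN : (x : G) ∈ N := by
              refine Subgroup.mem_normalizer_iff.2 fun z => ⟨fun hz => ?_, fun hz => ?_⟩
              · exact (Subgroup.mem_normalizer_iff.1 hx ⟨z, hPθ hz⟩).1 hz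
              · have hzT : z ∈ T := by
                  have := mul_mem (mul_mem (inv_mem x.2) (hPθ hz)) x.2
                  simpa [mul_assoc] using this
                exact (Subgroup.mem_normalizer_iff.1 hx ⟨z, hzT⟩).2 hz
            exact ⟨⟨⟨x, hxN⟩, (hconj θ ⟨x, hxN⟩).2 x.2⟩, rfl⟩
      · rw [hno hex, hno' fun h => hex (hiff.2 h)]

end CfsgLib.RealOdd
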