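import Cfsg.Agent.Char.RealOdd

/-!
All odd-degree characters of a solvable group are real iff a Sylow 2-subgroup is self-normalizing
with only sign characters.
-/

set_option autoImplicit false
set_option linter.style.haveILetI false
set_option linter.unusedSectionVars false

namespace CfsgLib.RealOdd

open Cfsg CfsgLib.Char
open scoped ComplexConjugate CfsgLib.Char

universe u

variable {G : Type u} [Group G] [Fintype G]

/-- The Sylow side of the criterion. -/
def CondP (P : Sylow 2 G) : Prop :=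
  (∀ (μ : (P : Subgroup G) →* ℂˣ) (x : (P : Subgroup G)), μ x ^ 2 = 1) ∧
    Subgroup.normalizer ((P : Subgroup G) : Set G) ≤ (P : Subgroup G)

theorem allReal_quot (A : Subgroup G) [A.Normal] (h : AllReal G) : AllReal (G ⧸ A) := by
  classical
  haveI := Fintype.ofFinite (G ⧸ A)
  have hs := QuotientGroup.mk'_surjective A
  rintro χ hχ ⟨n, hn, h1⟩ y
  obtain ⟨g, rfl⟩ := hs y
  exact h _ (irr_comp _ hs hχ) ⟨n, hn, by simpa using h1⟩ g

theorem condP_quot (A : Subgroup G) [A.Normal] [Fintype (G ⧸ A)] {P : Sylow 2 G} (h : CondP P) :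
    CondP (P.mapSurjective (QuotientGroup.mk'_surjective A)) := by
  refine ⟨fun μ y => ?_, ?_⟩
  · obtain ⟨x, hx, hxy⟩ : ∃ x ∈ (P : Subgroup G), QuotientGroup.mk' A x = (y : G ⧸ A) := y.2
    let π : (P : Subgroup G) →* (P.mapSurjective (QuotientGroup.mk'_surjective A) : Subgroup (G ⧸ A)) :=
      (QuotientGroup.mk' A).subgroupMap (P : Subgroup G)
    have e : π ⟨x, hx⟩ = y := Subtype.ext hxy
    exact e ▸ h.1 (μ.comp π) ⟨x, hx⟩
  · rw [Sylow.coe_mapSurjective, normalizer_map]
    exact Subgroup.map_mono h.2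

theorem condP_sub {P : Sylow 2 G} (h : CondP P) {T : Subgroup G} [Fintype T] (hT : (P : Subgroup G) ≤ T) :
    CondP (P.subtype hT) := by
  refine ⟨fun μ x => ?_, fun x hx => ?_⟩
  · let e : ((P.subtype hT : Sylow 2 T) : Subgroup T) ≃* (P : Subgroup G) := Subgroup.subgroupOfEquivOfLe hT
    have h2 : μ (e.symm (e x)) ^ 2 = 1 := h.1 (μ.comp e.symm.toMonoidHom) (e x)
    rwa [e.symm_apply_apply] at h2
  · refine h.2 (Subgroup.mem_normalizer_iff.2 fun z => ⟨fun hz => ?_, fun hz => ?_⟩ : (x : G) ∈ _)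
    · exact (Subgroup.mem_normalizer_iff.1 hx ⟨z, hT hz⟩).1 hz
    · have hzT : z ∈ T := by
        have := mul_mem (mul_mem (inv_mem x.2) (hT hz)) x.2
        simpa [mul_assoc] using this
      exact (Subgroup.mem_normalizer_iff.1 hx ⟨z, hzT⟩).2 hz

theorem inf_eq_bot_of_odd {A P : Subgroup G} (hA : Odd (Nat.card A)) (hP : IsPGroup 2 P) {x : G}
    (hxA : x ∈ A) (hxP : x ∈ P) : x = 1 := by
  obtain ⟨k, hk⟩ := IsPGroup.iff_orderOf.1 hP ⟨x, hxP⟩
  rw [Subgroup.orderOf_mk] at hk
  have h : Odd (2 ^ k) := Odd.of_dvd_nat hA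
    (by rw [← hk, ← Subgroup.orderOf_mk (H := A) x hxA]; exact orderOf_dvd_natCard _)
  rcases Nat.eq_zero_or_pos k with rfl | hk0
  · exact orderOf_eq_one_iff.1 (by simpa using hk)
  · exact absurd h (Nat.not_odd_iff_even.2 ((Nat.even_pow' hk0.ne').2 even_two))

theorem le_sylow (P : Sylow 2 G) {A : Subgroup G} [A.Normal] (hA : IsPGroup 2 A) : A ≤ (P : Subgroup G) := by
  obtain ⟨S, hS⟩ := hA.exists_le_sylow
  obtain ⟨g, rfl⟩ := MulAction.exists_smul_eq G S P
  intro a ha
  rw [Sylow.coe_subgroup_smul, Subgroup.mem_pointwise_smul_iff_inv_smul_mem]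
  exact hS (by simpa [MulAut.smul_def] using ‹A.Normal›.conj_mem a ha g⁻¹)

theorem fixed_of_hom (P : Subgroup G) {A : Subgroup G} [A.Normal] (hAP : A ≤ P) (μ : P →* ℂˣ) :
    P ≤ inertia (fn (μ.comp (Subgroup.inclusion hAP))) := by
  intro x hx
  rw [mem_inertia]
  funext a
  show (μ ⟨x * a * x⁻¹, _⟩ : ℂ) = (μ ⟨a, hAP a.2⟩ : ℂ)
  have e : (⟨x * a * x⁻¹, hAP (‹A.Normal›.conj_mem a a.2 x)⟩ : P) = ⟨x, hx⟩ * ⟨a, hAP a.2⟩ * ⟨x, hx⟩⁻¹ :=
    Subtype.ext rfl
  rw [e, map_mul, map_mul, map_inv, mul_comm (μ ⟨x, hx⟩), mul_inv_cancel_right]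

theorem exists_min (hsol : Group.IsSolvable G) [Nontrivial G] :
    ∃ A : Subgroup G, A.Normal ∧ A ≠ ⊥ ∧ (IsPGroup 2 A ∨ Odd (Nat.card A)) := by
  obtain ⟨A, hA⟩ := CfsgLib.Solv.exists_isMinimalNormal (G := G)
  obtain ⟨q, hq, -, hqA⟩ := CfsgLib.Solv.exists_prime_exponent_of_minimal_solvable hA inferInstance
  refine ⟨A, hA.1, hA.2.1, ?_⟩
  rcases hq.eq_two_or_odd' with rfl | hqodd
  · exact Or.inl hqA
  · haveI := Fact.mk hq
    obtain ⟨k, hk⟩ := IsPGroup.iff_card.1 hqA
    exact Or.inr (by rw [hk]; exact hqodd.pow)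

theorem card_quot_lt {T : Subgroup G} {A : Subgroup G} [A.Normal] (hA : A ≠ ⊥) (hAT : A ≤ T) :
    Nat.card (T ⧸ A.subgroupOf T) < Nat.card G := by
  have h1 := (Subgroup.card_eq_card_quotient_mul_card_subgroup (A.subgroupOf T)).symm
  rw [Nat.card_congr (Subgroup.subgroupOfEquivOfLe hAT).toEquiv] at h1
  have h3 : 1 < Nat.card A := (Subgroup.one_lt_card_iff_ne_bot A).2 hA
  have h4 : Nat.card T ≤ Nat.card G := Nat.le_of_dvd Nat.card_pos T.card_subgroup_dvd_card
  have h5 := Nat.card_pos (α := T ⧸ A.subgroupOf T)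
  nlinarith

theorem card_quot_lt' {A : Subgroup G} [A.Normal] (hA : A ≠ ⊥) : Nat.card (G ⧸ A) < Nat.card G := by
  rw [Subgroup.card_eq_card_quotient_mul_card_subgroup A]
  exact lt_mul_of_one_lt_right Nat.card_pos ((Subgroup.one_lt_card_iff_ne_bot A).2 hA)

theorem descend_real (A : Subgroup G) [A.Normal] (h : AllReal (G ⧸ A)) {χ : G → ℂ} (hχ : IsIrrCharacter G χ)
    (ho : IsOddDeg χ) (hker : ∀ a ∈ A, χ a = χ 1) : IsReal χ := by
  classical
  haveI := Fintype.ofFinite (G ⧸ A)
  obtain ⟨n, hn, h1⟩ := ho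
  obtain ⟨χ', hirr, hc⟩ := irr_descend (QuotientGroup.mk' A) (QuotientGroup.mk'_surjective A) hχ
    fun k hk => hker k ((QuotientGroup.eq_one_iff k).1 hk)
  intro g
  rw [← hc]
  exact h χ' hirr ⟨n, hn, by rw [← h1, ← hc, Function.comp_apply, map_one]⟩ _

theorem allReal_of_cond : ∀ (m : ℕ) (G : Type u) [Group G] [Fintype G], Nat.card G ≤ m →
    Group.IsSolvable G → ∀ P : Sylow 2 G, CondP P → AllReal G := by
  intro m
  induction m with
  | zero => intro G _ _ hle _ P _; exact absurd hle (by have := Nat.card_pos (α := G); omega)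
  | succ m ih =>
    intro G _ _ hle hsol P hP χ hχ ho
    classical
    rcases subsingleton_or_nontrivial G with h | h
    · intro g
      obtain ⟨n, -, h1⟩ := ho
      rw [Subsingleton.elim g 1, h1, Complex.conj_natCast]
    obtain ⟨A, hAn, hA1, hA2⟩ := exists_min hsol
    haveI := hAn
    haveI := Fintype.ofFinite A
    haveI := Fintype.ofFinite (G ⧸ A)
    obtain ⟨n, hn, h1⟩ := ho
    have hdeg : ¬ 2 ∣ n := fun h => (Nat.not_even_iff_odd.2 hn) (even_iff_two_dvd.2 h)
    rcases hA2 with hA2 | hA2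
    swap
    · have hq : AllReal (G ⧸ A) := ih _ (by have := card_quot_lt' hA1; omega) inferInstance _ (condP_quot A hP)
      have hC : A ⊓ Subgroup.centralizer ((P : Subgroup G) : Set G) = ⊥ := by
        refine eq_bot_iff.2 fun a ⟨ha, hac⟩ => ?_
        refine Subgroup.mem_bot.2 (inf_eq_bot_of_odd hA2 P.isPGroup' ha (hP.2 ?_))
        exact Subgroup.centralizer_le_normalizer _ hac
      refine descend_real A hq hχ ⟨n, hn, h1⟩ fun a ha => ?_
      exact apply_eq_one_of_fixedFree (χ := ⟨χ, hχ⟩) P A hC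
        (fun h => (Nat.not_even_iff_odd.2 hA2) (even_iff_two_dvd.2 h))
        (by rw [charDegree_eq h1]; exact hdeg) ha
    · have hAP := le_sylow P hA2
      haveI := Fintype.ofFinite (P : Subgroup G)
      obtain ⟨μ, hμ⟩ := exists_linear_constituent P.isPGroup'
        (isCharacter_restrict (P : Subgroup G) (isCharacter_of_isIrr hχ)) (d := n) h1 hdeg
      set θ : A →* ℂˣ := μ.comp (Subgroup.inclusion hAP) with hθ
      have hc : classInner (fun a : A => χ a) (fn θ) ≠ 0 := inner_res_ne hAP (isCharacter_of_isIrr hχ) μ hμ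
      set T := inertia (fn θ) with hTdef
      have hPT : (P : Subgroup G) ≤ T := fixed_of_hom _ hAP μ
      have hAT : A ≤ T := hAP.trans hPT
      haveI := Fintype.ofFinite T
      haveI : (A.subgroupOf T).Normal := hAn.subgroupOf T
      haveI := Fintype.ofFinite (T ⧸ A.subgroupOf T)
      let PT : Sylow 2 T := P.subtype hPT
      have hodd : Odd ((PT : Subgroup T)).index :=
        Nat.not_even_iff_odd.1 fun h => PT.not_dvd_index (even_iff_two_dvd.1 h)
      obtain ⟨δ, hδ, hδA⟩ := exists_sign_ext (G := T) (A := A.subgroupOf T) (P := (PT : Subgroup T))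
        (fun a ha => hAP ha) hodd (θ := θ.comp (Subgroup.subgroupOfEquivOfLe hAT).toMonoidHom)
        (fun a => hP.1 μ _) (fun g => funext fun a => congrFun g.2 ⟨((a : T) : G), a.2⟩)
        (μ.comp (Subgroup.subgroupOfEquivOfLe hPT).toMonoidHom) (fun x => hP.1 μ _) (fun a => rfl)
      obtain ⟨ψ, hψ, hind, hin⟩ := clifford_exists (fn_irr θ) (T := T) (fun g => Iff.rfl) hAT hχ hc
      have hov := overL_of_inner hAT (fun t ht => ht) hψ (hin ▸ hc)
      obtain ⟨k, -, hk⟩ := irr_deg hψ
      have hkodd : Odd k := by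
        refine Odd.of_dvd_nat hn ⟨T.index, ?_⟩
        rw [← hind, indFun_one, hk, ← Nat.cast_mul, Nat.cast_inj] at h1
        rw [← h1, mul_comm]
      have hq : AllReal (T ⧸ A.subgroupOf T) :=
        ih _ (by have := card_quot_lt hA1 hAT; omega) inferInstance _ (condP_quot _ (condP_sub hP hPT))
      have hreal : IsReal (fun x => ψ x * (δ x : ℂ)) := by
        refine descend_real (A.subgroupOf T) hq (irr_mul_linear hψ δ) ⟨k, hkodd, by simp [hk]⟩ fun a ha => ?_
        rw [map_one, Units.val_one, mul_one]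
        have h2 := hov ⟨a, ha⟩
        rw [show (⟨(a : G), hAT ha⟩ : T) = a from rfl] at h2
        rw [h2, hδA ⟨a, ha⟩]
        show ψ 1 * (θ ⟨a, ha⟩ : ℂ) * (θ ⟨a, ha⟩ : ℂ) = ψ 1
        rw [mul_assoc, ← Units.val_mul, ← sq, hθ, MonoidHom.comp_apply, hP.1 μ, Units.val_one, mul_one]
      intro g
      rw [← hind]
      refine isReal_indFun T (fun x => ?_) g
      have h2 := hreal x
      simp only [map_mul, conj_of_sq (hδ x)] at h2
      exact mul_right_cancel₀ (Units.ne_zero _) h2

theorem cond_of_allReal : ∀ (m : ℕ) (G : Type u) [Group G] [Fintype G], Nat.card G ≤ m →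
    Group.IsSolvable G → ∀ P : Sylow 2 G, AllReal G → CondP P := by
  intro m
  induction m with
  | zero => intro G _ _ hle _ P _; exact absurd hle (by have := Nat.card_pos (α := G); omega)
  | succ m ih =>
    intro G _ _ hle hsol P hG
    classical
    rcases subsingleton_or_nontrivial G with h | h
    · exact ⟨fun μ x => by rw [Subsingleton.elim x 1, map_one, one_pow],
        fun g _ => by rw [Subsingleton.elim g 1]; exact one_mem _⟩
    obtain ⟨A, hAn, hA1, hA2⟩ := exists_min hsol
    haveI := hAn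
    haveI := Fintype.ofFinite A
    haveI := Fintype.ofFinite (G ⧸ A)
    haveI := Fintype.ofFinite (P : Subgroup G)
    have hs := QuotientGroup.mk'_surjective A
    obtain ⟨hqμ, hqN⟩ := ih (G ⧸ A) (by have := card_quot_lt' hA1; omega) inferInstance (P.mapSurjective hs)
      (allReal_quot A hG)
    let π : (P : Subgroup G) →* (P.mapSurjective hs : Subgroup (G ⧸ A)) :=
      (QuotientGroup.mk' A).subgroupMap (P : Subgroup G)
    have hπs : Function.Surjective π := (QuotientGroup.mk' A).subgroupMap_surjective (P : Subgroup G)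
    have hNPA : ∀ g ∈ Subgroup.normalizer ((P : Subgroup G) : Set G), ∃ x ∈ (P : Subgroup G), x⁻¹ * g ∈ A := by
      intro g hg
      rw [Sylow.coe_mapSurjective, normalizer_map] at hqN
      obtain ⟨x, hx, hxe⟩ := hqN (Subgroup.mem_map_of_mem _ hg)
      exact ⟨x, hx, QuotientGroup.eq.1 hxe⟩
    have hlift : ∀ μ : (P : Subgroup G) →* ℂˣ, (∀ x, π x = 1 → μ x = 1) → ∀ x, μ x ^ 2 = 1 := by
      intro μ hμ x
      let μ' := π.liftOfSurjective hπs ⟨μ, fun y hy => hμ y hy⟩
      have e : μ' (π x) = μ x := π.liftOfRightInverse_comp_apply _ (Function.rightInverse_surjInv hπs) ⟨μ, fun y hy => hμ y hy⟩ x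
      rw [← e]
      exact hqμ μ' (π x)
    have hπ1 : ∀ x : (P : Subgroup G), π x = 1 → (x : G) ∈ A := fun x hx =>
      (QuotientGroup.eq_one_iff _).1 (congrArg Subtype.val hx)
    rcases hA2 with hA2 | hA2
    swap
    · -- odd
      have hAodd2 : ¬ 2 ∣ Nat.card A := fun h => (Nat.not_even_iff_odd.2 hA2) (even_iff_two_dvd.2 h)
      have hC : A ⊓ Subgroup.centralizer ((P : Subgroup G) : Set G) = ⊥ := by
        refine eq_bot_iff.2 fun c ⟨hcA, hcP⟩ => Subgroup.mem_bot.2 ?_
        by_contra hc1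
        obtain ⟨θ, hθ1, hθP⟩ := exists_invariant_irr P A hcA hcP hc1
        set H : Subgroup G := (P : Subgroup G) ⊔ A with hH
        haveI := Fintype.ofFinite H
        haveI : (A.subgroupOf H).Normal := hAn.subgroupOf H
        haveI := Fintype.ofFinite (A.subgroupOf H)
        have hinertia : H ≤ inertia (θ : A → ℂ) := sup_le (fun x hx => hθP x hx) (le_inertia (classFun_of_irr θ.2))
        let e : A.subgroupOf H ≃* A := Subgroup.subgroupOfEquivOfLe le_sup_right
        obtain ⟨η, hη, hηA⟩ := exists_extension_coprime (G := H) (N := A.subgroupOf H) (θ := (θ : A → ℂ) ∘ e)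
          (irr_mulEquiv e θ.2) (fun g => funext fun a => congrFun (hinertia g.2) (e a)) (by
            obtain ⟨k, hk⟩ := IsPGroup.iff_card.1 P.isPGroup'
            have h1 : (A.subgroupOf H).index ∣ 2 ^ k := by
              rw [← hk, show (A.subgroupOf H).index = A.relIndex H from rfl, hH, Subgroup.relIndex_sup_right]
              exact Subgroup.index_dvd_card _
            rw [Nat.card_congr e.toEquiv]
            exact Nat.Coprime.coprime_dvd_right h1 (Nat.Coprime.pow_right k (Nat.coprime_two_right.2 hA2)))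
        obtain ⟨d, -, hd⟩ := irr_deg θ.2
        have hdodd : Odd d := Odd.of_dvd_nat hA2 (charDegree_eq hd ▸ degree_dvd_card θ.2)
        have hη1 : η 1 = (d : ℂ) := by
          have := hηA 1
          simpa [hd] using this
        have hHidx : Odd H.index := Odd.of_dvd_nat
          (Nat.not_even_iff_odd.1 fun h => P.not_dvd_index (even_iff_two_dvd.1 h)) (Subgroup.index_dvd_of_le le_sup_left)
        obtain ⟨χ, hne, hχd⟩ := exists_pprime_constituent (p := 2)
          (isCharacter_indFun H (isCharacter_of_isIrr hη)) (d := H.index * d)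
          (by rw [indFun_one, hη1, Nat.cast_mul])
          (fun h => (Nat.not_even_iff_odd.2 (hHidx.mul hdodd)) (even_iff_two_dvd.2 h))
        have hχo : IsOddDeg (χ : G → ℂ) :=
          ⟨_, Nat.not_even_iff_odd.1 fun h => hχd (even_iff_two_dvd.1 h), irr_one_eq χ.2⟩
        have hres : classInner (fun x : H => (χ : G → ℂ) x) η ≠ 0 := fun h0 => hne (by
          rw [CfsgLib.Char.frobenius H η (classFun_of_irr χ.2), ← classInner_conj, h0, map_zero])
        have hrest := isCharacter_sub_constituent (isCharacter_restrict H (isCharacter_of_isIrr χ.2)) hη hres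
        let i : A →* H := Subgroup.inclusion le_sup_right
        have hθη : η ∘ i = (θ : A → ℂ) := funext fun a => hηA (e.symm a)
        have esum : η ∘ i + ((fun x : H => (χ : G → ℂ) x) - η) ∘ i = fun a : A => (χ : G → ℂ) a := by
          funext a
          simp only [Pi.add_apply, Function.comp_apply, Pi.sub_apply, add_sub_cancel]
          rfl
        have h0 : classInner (fun a : A => (χ : G → ℂ) a) (θ : A → ℂ) = 0 := by
          rw [show (fun a : A => (χ : G → ℂ) a) = (χ : G → ℂ) 1 • (fun _ : A => (1 : ℂ)) from funext fun a => by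
              simpa using apply_eq_one_of_odd A hA2 χ.2 (hG _ χ.2 hχo) hχo a.2,
            classInner_smul_left, irr_inner_ne isIrr_one θ.2 (Ne.symm hθ1), mul_zero]
        have h2 := inner_zero_of_summand (φ := η ∘ i) (φ' := ((fun x : H => (χ : G → ℂ) x) - η) ∘ i)
          (isCharacter_comp i (isCharacter_of_isIrr hη)) (isCharacter_comp i hrest)
          (isCharacter_of_isIrr θ.2) (by rw [esum]; exact h0)
        rw [hθη, irr_inner_self θ.2] at h2
        exact one_ne_zero h2
      refine ⟨fun μ => hlift μ fun x hx => ?_, fun g hg => ?_⟩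
      · rw [show x = 1 from Subtype.ext (inf_eq_bot_of_odd hA2 P.isPGroup' (hπ1 x hx) x.2), map_one]
      · obtain ⟨x, hx, ha⟩ := hNPA g hg
        have han : x⁻¹ * g ∈ Subgroup.normalizer ((P : Subgroup G) : Set G) :=
          mul_mem (inv_mem (Subgroup.le_normalizer hx)) hg
        have hac : x⁻¹ * g ∈ A ⊓ Subgroup.centralizer ((P : Subgroup G) : Set G) := by
          refine ⟨ha, fun y hy => ?_⟩
          have h2 : (x⁻¹ * g) * y * (x⁻¹ * g)⁻¹ * y⁻¹ = 1 := by
            refine inf_eq_bot_of_odd hA2 P.isPGroup' ?_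
              (mul_mem ((Subgroup.mem_normalizer_iff.1 han y).1 hy) (inv_mem hy))
            have := mul_mem ha (hAn.conj_mem _ (inv_mem ha) y)
            simpa [mul_assoc] using this
          rw [mul_inv_eq_one, mul_inv_eq_iff_eq_mul] at h2
          exact h2.symm
        rw [hC, Subgroup.mem_bot, inv_mul_eq_one] at hac
        exact hac ▸ hx
    · -- a 2-group
      have hAP := le_sylow P hA2
      have hN : Subgroup.normalizer ((P : Subgroup G) : Set G) ≤ (P : Subgroup G) := fun g hg => by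
        obtain ⟨x, hx, ha⟩ := hNPA g hg
        simpa using mul_mem hx (hAP ha)
      refine ⟨fun μ x => ?_, hN⟩
      set θ : A →* ℂˣ := μ.comp (Subgroup.inclusion hAP) with hθ
      set T := inertia (fn θ) with hTdef
      have hPT : (P : Subgroup G) ≤ T := fixed_of_hom _ hAP μ
      have hAT : A ≤ T := hAP.trans hPT
      haveI := Fintype.ofFinite T
      haveI := Fintype.ofFinite (A.subgroupOf T)
      let PT : Sylow 2 T := P.subtype hPT
      haveI := Fintype.ofFinite (PT : Subgroup T)
      let eP : (PT : Subgroup T) ≃* (P : Subgroup G) := Subgroup.subgroupOfEquivOfLe hPT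
      let eA : A.subgroupOf T ≃* A := Subgroup.subgroupOfEquivOfLe hAT
      let μT : (PT : Subgroup T) →* ℂˣ := μ.comp eP.toMonoidHom
      obtain ⟨ψ, hne, hψd⟩ := exists_pprime_constituent (p := 2)
        (isCharacter_indFun (PT : Subgroup T) (isCharacter_linear μT))
        (d := (PT : Subgroup T).index) (by rw [indFun_one]; simp) PT.not_dvd_index
      have hψP : classInner (fun y : (PT : Subgroup T) => (ψ : T → ℂ) y) (fun y => (μT y : ℂ)) ≠ 0 := fun h0 =>
        hne (by rw [CfsgLib.Char.frobenius _ _ (classFun_of_irr ψ.2), ← classInner_conj, h0, map_zero])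
      have hψA := inner_res_ne (A := A.subgroupOf T) (fun a ha => hAP ha) (isCharacter_of_isIrr ψ.2) μT hψP
      have hc : classInner (fun a : A => (ψ : T → ℂ) ⟨a, hAT a.2⟩) (fn θ) ≠ 0 := by
        rw [← classInner_mulEquiv eA]
        exact hψA
      obtain ⟨hirr, hin⟩ := clifford_induce (fn_irr θ) (T := T) (fun g => Iff.rfl) hAT ψ.2 hc
      have hψo : IsOddDeg (ψ : T → ℂ) :=
        ⟨_, Nat.not_even_iff_odd.1 fun h => hψd (even_iff_two_dvd.1 h), irr_one_eq ψ.2⟩
      have hTodd : Odd T.index := Odd.of_dvd_nat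
        (Nat.not_even_iff_odd.1 fun h => P.not_dvd_index (even_iff_two_dvd.1 h)) (Subgroup.index_dvd_of_le hPT)
      obtain ⟨k, hk, hk1⟩ := hψo
      have hreal : IsReal (indFun T (ψ : T → ℂ)) :=
        hG _ hirr ⟨T.index * k, hTodd.mul hk, by rw [indFun_one, hk1, Nat.cast_mul]⟩
      have hbar : IsIrrCharacter A (fun a => conj (fn θ a)) := by
        rw [show (fun a => conj (fn θ a)) = fn θ ∘ fun a => a⁻¹ from
          funext fun a => (char_conj_eq (isCharacter_of_isIrr (fn_irr θ)) a).symm]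
        exact irr_comp_inv ⟨_, fn_irr θ⟩
      have hcb : classInner (fun a : A => indFun T (ψ : T → ℂ) a) (fun a => conj (fn θ a)) ≠ 0 := by
        rw [inner_conj_left (fun a : A => hreal a), hin]
        exact fun h0 => hc (by simpa using congrArg conj h0)
      obtain ⟨g, hg⟩ := conjugate_of_constituents hirr (fn_irr θ) hbar (by rw [hin]; exact hc) hcb
      have hfix : (P : Subgroup G) ≤ inertia (conjN (fn θ) g) := by
        intro y hy
        rw [mem_inertia, ← hg]
        funext a
        exact congrArg conj (congrFun (mem_inertia.1 (hPT hy)) a)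
      obtain ⟨z, hz, hz'⟩ := fix_conj P g hPT hfix
      rw [← hg, mem_inertia.1 (hPT (hN hz))] at hz'
      have hθ2 : ∀ a, θ a ^ 2 = 1 := fun a => sq_of_conj θ (congrFun hz' a).symm
      have hov := overL_of_inner hAT (fun t ht => ht) ψ.2 hc
      have hψr : IsReal (ψ : T → ℂ) := by
        have hψc : IsIrrCharacter T (fun y => conj ((ψ : T → ℂ) y)) := by
          rw [show (fun y => conj ((ψ : T → ℂ) y)) = (ψ : T → ℂ) ∘ fun y => y⁻¹ from
            funext fun y => (char_conj_eq (isCharacter_of_isIrr ψ.2) y).symm]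
          exact irr_comp_inv ψ
        have h1 : classInner (fun a : A => conj ((ψ : T → ℂ) ⟨a, hAT a.2⟩)) (fn θ) ≠ 0 := by
          rw [show (fun a : A => conj ((ψ : T → ℂ) ⟨a, hAT a.2⟩)) = fun a : A => (ψ : T → ℂ) ⟨a, hAT a.2⟩ from
            funext fun a => by rw [hov a, map_mul, hk1, Complex.conj_natCast, conj_of_sq (hθ2 a)]]
          exact hc
        have h2 : indFun T (fun y => conj ((ψ : T → ℂ) y)) = indFun T (ψ : T → ℂ) := by
          rw [conj_indFun]
          exact funext fun y => hreal y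
        exact fun y => congrFun (clifford_unique (fn_irr θ) (T := T) (fun g => Iff.rfl) hAT hψc ψ.2 h1 hc h2) y
      haveI : (A.subgroupOf T).Normal := hAn.subgroupOf T
      obtain ⟨δ, hδ, hδA⟩ := exists_det (isCharacter_of_isIrr ψ.2) hψr ⟨k, hk, hk1⟩
        (A := A.subgroupOf T) (θ := θ.comp eA.toMonoidHom) (fun a => hθ2 _)
        (fun a => hov ⟨((a : T) : G), a.2⟩)
      let δP : (P : Subgroup G) →* ℂˣ := δ.comp (Subgroup.inclusion hPT)
      have h2 := hlift (μ * δP) (fun y hy => ?_) x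
      · rw [MonoidHom.mul_apply, mul_pow] at h2
        rw [show δP x ^ 2 = 1 from hδ _, mul_one] at h2
        exact h2
      · have hyA := hπ1 y hy
        rw [MonoidHom.mul_apply, show δP y = θ ⟨y, hyA⟩ from hδA ⟨⟨y, hPT y.2⟩, hyA⟩]
        show θ ⟨(y : G), hyA⟩ * θ ⟨(y : G), hyA⟩ = 1
        rw [← sq, hθ2]

/-- Elementary abelian factor group, through linear characters. -/
theorem linear_sq_iff {H : Type u} [Group H] [Finite H] (hH : IsPGroup 2 H) :
    (∀ (μ : H →* ℂˣ) (x : H), μ x ^ 2 = 1) ↔ commutator H = frattini H := by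
  constructor
  · intro h
    refine le_antisymm (CfsgLib.Solv.commutator_le_frattini hH)
      (CfsgLib.Solv.frattini_le_of_elementary (p := 2) (commutator H) le_rfl fun x => ?_)
    by_contra hx
    obtain ⟨μ, hμ⟩ := exists_linear_ne_one hx
    exact hμ (by rw [map_pow]; exact h μ x)
  · intro h μ x
    rw [← map_pow]
    exact commutator_apply_one μ (h ▸ CfsgLib.Solv.pow_mem_frattini hH x)

end CfsgLib.RealOdd
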