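import Cfsg.Agent.Char.RelGlauberman
import Cfsg.Agent.Char.Gallagher
import Cfsg.Agent.Char.ExtMore
import Cfsg.Agent.Char.GlauberFpf

/-! A `p`-group of operators on a group with an invariant normal Sylow `p`-subgroup `Q`: an invariant
character has only one invariant constituent of multiplicity prime to `p` on the elements fixed
modulo `Q` (Clifford reduction to the coprime correspondence on the quotient). -/

set_option linter.unusedSectionVars false
set_option linter.style.haveILetI false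

namespace CfsgLib.RelGlau

open CfsgLib.Char Cfsg
open scoped ComplexConjugate

universe u v

variable {p : ℕ} [Fact p.Prime] {A : Type v} [Group A] {K : Type u} [Group K]
  [MulDistribMulAction A K] {Q C : Subgroup K} [hN : Q.Normal]

/-- inner products over `Q` seen inside a subgroup containing it -/
theorem inner_sub [Fintype Q] {H : Subgroup K} (hQH : Q ≤ H) [Fintype (Q.subgroupOf H)]
    (f : H → ℂ) (θ : Q → ℂ) :
    classInner (fun x : Q.subgroupOf H => f x) (θ ∘ Subgroup.subgroupOfEquivOfLe hQH) =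
      classInner (fun n : Q => f ⟨n, hQH n.2⟩) θ :=
  classInner_mulEquiv (Subgroup.subgroupOfEquivOfLe hQH) (fun n : Q => f ⟨n, hQH n.2⟩) θ

/-- a stable subgroup inherits the operators -/
@[reducible] def subAct {T : Subgroup K} (hs : ∀ a : A, ∀ x ∈ T, a • x ∈ T) :
    MulDistribMulAction A T where
  smul a x := ⟨a • (x : K), hs a x x.2⟩
  one_smul x := Subtype.ext (one_smul A (x : K))
  mul_smul a b x := Subtype.ext (mul_smul a b (x : K))
  smul_mul a x y := Subtype.ext (smul_mul' a (x : K) (y : K))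
  smul_one a := Subtype.ext (smul_one a)

variable [Fintype K]

/-- an invariant character has an invariant constituent on `Q` -/
theorem exists_inv_constituent (hA : IsPGroup p A) (hs : ∀ a : A, ∀ x ∈ Q, a • x ∈ Q)
    (hidx : ¬ p ∣ Q.index) [Fintype Q] {χ : K → ℂ} (hχ : IsIrrCharacter K χ) (hi : IsInv A χ) :
    ∃ θ : IrrCharacter Q, InvSub A Q (θ : Q → ℂ) ∧
      classInner (fun n : Q => χ n) (θ : Q → ℂ) ≠ 0 := by
  classical
  obtain ⟨θ₀, hθ₀, hc₀⟩ := exists_constituent_res (N := Q) hχ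
  letI := subAct (A := A) hs
  let X := {θ : IrrCharacter Q // classInner (fun n : Q => χ n) (θ : Q → ℂ) ≠ 0}
  have hmove : ∀ (a : A) (θ : IrrCharacter Q),
      classInner (fun n : Q => χ n) (fun n : Q => (θ : Q → ℂ) (a • n)) =
        classInner (fun n : Q => χ n) (θ : Q → ℂ) := by
    intro a θ
    conv_rhs => rw [← classInner_mulEquiv (MulDistribMulAction.toMulEquiv Q a)]
    congr 1
    exact funext fun n => (hi a n).symm
  letI : MulAction A X :=
    { smul := fun a θ => ⟨⟨fun n => (θ.1 : Q → ℂ) (a⁻¹ • n), irr_smul θ.1.2 a⁻¹⟩,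
        fun e => θ.2 ((hmove a⁻¹ θ.1).symm.trans e)⟩
      one_smul := fun θ => Subtype.ext (Subtype.ext (funext fun n => by
        show (θ.1 : Q → ℂ) ((1 : A)⁻¹ • n) = _
        rw [inv_one, one_smul]))
      mul_smul := fun a b θ => Subtype.ext (Subtype.ext (funext fun n => by
        show (θ.1 : Q → ℂ) ((a * b)⁻¹ • n) = (θ.1 : Q → ℂ) (b⁻¹ • a⁻¹ • n)
        rw [mul_inv_rev, mul_smul])) }
  have hcard : Nat.card X = (inertia θ₀).index := by
    rw [← card_orbit, ← Nat.card_eq_finsetCard]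
    refine Nat.card_congr (Equiv.ofBijective
      (fun θ => ⟨(θ.1 : Q → ℂ), ?_⟩) ⟨fun x y e => ?_, ?_⟩)
    · obtain ⟨g, hg⟩ := conjugate_of_constituents hχ hθ₀ θ.1.2 hc₀ θ.2
      exact Finset.mem_image.mpr ⟨g, Finset.mem_univ _, hg.symm⟩
    · have e' := Subtype.ext_iff.mp e
      exact Subtype.ext (Subtype.ext e')
    · rintro ⟨φ, hφ⟩
      obtain ⟨g, -, rfl⟩ := Finset.mem_image.mp hφ
      exact ⟨⟨⟨_, irr_conjN hθ₀ g⟩, by
        show classInner _ (conjN θ₀ g) ≠ 0
        rw [inner_res_conjN (classFun_of_irr hχ)]; exact hc₀⟩, rfl⟩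
  have hnd : ¬ p ∣ Nat.card X := fun hd => hidx (hd.trans
    (hcard ▸ Subgroup.index_dvd_of_le (le_inertia (classFun_of_irr hθ₀))))
  obtain ⟨θ, hθ⟩ := hA.nonempty_fixed_point_of_prime_not_dvd_card X hnd
  refine ⟨θ.1, fun a n n' e => ?_, θ.2⟩
  have h1 := congrFun (congrArg (fun x : X => (x.1 : Q → ℂ)) (hθ a⁻¹)) n
  change (θ.1 : Q → ℂ) ((a⁻¹)⁻¹ • n) = _ at h1
  rw [inv_inv] at h1
  rw [← h1]
  exact congrArg (θ.1 : Q → ℂ) (Subtype.ext e)

/-- invariant constituents are conjugate in `C` -/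
theorem inv_constituents_conj (h : Rel p A Q C) [Fintype Q] {χ : K → ℂ}
    (hχ : IsIrrCharacter K χ) {θ θ' : IrrCharacter Q} (hi : InvSub A Q (θ : Q → ℂ))
    (hi' : InvSub A Q (θ' : Q → ℂ)) (hc : classInner (fun n : Q => χ n) (θ : Q → ℂ) ≠ 0)
    (hc' : classInner (fun n : Q => χ n) (θ' : Q → ℂ) ≠ 0) :
    ∃ c ∈ C, (θ' : Q → ℂ) = conjN (θ : Q → ℂ) c := by
  classical
  obtain ⟨g₀, hg₀⟩ := conjugate_of_constituents hχ θ.2 θ'.2 hc hc'
  haveI : Fintype (K ⧸ Q) := Fintype.ofFinite _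
  set T := inertia (θ : Q → ℂ)
  have hQT : Q ≤ T := le_inertia (classFun_of_irr θ.2)
  letI := quotAct (A := A) h.stab
  have hsmul : ∀ (a : A) (g : K), a • (g : K ⧸ Q) = ((a • g : K) : K ⧸ Q) := fun a g => rfl
  have hright : ∀ g : K, ∀ n ∈ Q, conjN (θ : Q → ℂ) (g * n) = conjN (θ : Q → ℂ) g := fun g n hn => by
    rw [← conjN_mul, conjN_of_mem (classFun_of_irr (irr_conjN θ.2 g)) hn]
  have hout : ∀ g : K, conjN (θ : Q → ℂ) (g : K ⧸ Q).out = conjN (θ : Q → ℂ) g := fun g => by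
    obtain ⟨n, hn⟩ := QuotientGroup.mk_out_eq_mul Q g
    rw [hn, hright _ _ n.2]
  have hact : ∀ (a : A) (g : K), conjN (θ : Q → ℂ) g = (θ' : Q → ℂ) →
      conjN (θ : Q → ℂ) (a • g) = (θ' : Q → ℂ) := by
    intro a g hg
    funext n
    have e1 := congrFun hg ⟨a⁻¹ • (n : K), h.stab a⁻¹ n n.2⟩
    have e2 := hi' a⁻¹ n ⟨a⁻¹ • (n : K), h.stab a⁻¹ n n.2⟩ rfl
    rw [← e2, ← e1]
    refine hi a _ _ ?_
    show a • g * (n : K) * (a • g)⁻¹ = a • (g * (a⁻¹ • (n : K)) * g⁻¹)
    simp [smul_mul', smul_inv']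
  let S := {x : K ⧸ Q // conjN (θ : Q → ℂ) x.out = (θ' : Q → ℂ)}
  letI : MulAction A S :=
    { smul := fun a x => ⟨a • x.1, by
        obtain ⟨x, hx⟩ := x
        induction x using QuotientGroup.induction_on with
        | _ g =>
          show conjN (θ : Q → ℂ) (a • (g : K ⧸ Q)).out = _
          rw [hsmul, hout]
          rw [hout] at hx
          exact hact a g hx⟩
      one_smul := fun x => Subtype.ext (one_smul A x.1)
      mul_smul := fun a b x => Subtype.ext (mul_smul a b x.1) }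
  have hTcard : Nat.card T = Nat.card Q * Q.relIndex T := by
    rw [Subgroup.relIndex, ← Nat.card_congr (Subgroup.subgroupOfEquivOfLe hQT).toEquiv]
    exact (Q.subgroupOf T).card_mul_index.symm
  have hScard : Nat.card S = Q.relIndex T := by
    have e := sum_out (Q := Q)
      (fun g => if conjN (θ : Q → ℂ) g = (θ' : Q → ℂ) then 1 else 0)
      (fun g n hn => by simp only [hright g n hn])
    rw [Finset.sum_boole, Finset.sum_boole] at e
    have e1 : (Finset.univ.filter fun g : K => conjN (θ : Q → ℂ) g = (θ' : Q → ℂ)).card =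
        Nat.card T := by
      rw [← Fintype.card_subtype, Fintype.card_eq_nat_card]
      refine Nat.card_congr ((Equiv.mulRight g₀⁻¹).subtypeEquiv fun g => ?_)
      show _ ↔ conjN (θ : Q → ℂ) (g * g₀⁻¹) = _
      rw [← conjN_mul, hg₀]
      refine ⟨fun hg => by rw [hg, conjN_mul, mul_inv_cancel, conjN_one], fun hg => ?_⟩
      have := congrArg (fun f => conjN f g₀) hg
      simp only [conjN_mul, inv_mul_cancel_right] at this
      exact this
    rw [e1, hTcard, Nat.cast_mul, ← Fintype.card_subtype, Fintype.card_eq_nat_card] at e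
    exact_mod_cast (mul_left_cancel₀ (natCard_ne_zero Q) e).symm
  have hnd : ¬ p ∣ Nat.card S := fun hd => h.index ((hd.trans (dvd_of_eq hScard)).trans
    (Subgroup.relIndex_dvd_index_of_normal Q T))
  obtain ⟨⟨x, hx⟩, hfix⟩ := h.group.nonempty_fixed_point_of_prime_not_dvd_card S hnd
  refine ⟨x.out, (h.mem _).mpr fun a => ?_, hx.symm⟩
  rw [← QuotientGroup.eq, ← hsmul, QuotientGroup.out_eq']
  exact congrArg Subtype.val (hfix a)

/-- uniqueness above an invariant character of `Q` -/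
theorem unique_invariant (h : Rel p A Q C) [Fintype C] [Fintype Q] {θ : IrrCharacter Q}
    (hK : ∀ g : K, conjN (θ : Q → ℂ) g = (θ : Q → ℂ)) (hA : InvSub A Q (θ : Q → ℂ))
    {χ : K → ℂ} (hχ : IsIrrCharacter K χ) (hi : IsInv A χ)
    (hc : classInner (fun n : Q => χ n) (θ : Q → ℂ) ≠ 0) {ξ ξ' : C → ℂ}
    (hξ : IsIrrCharacter C ξ) (hξ' : IsIrrCharacter C ξ') (hii : InvSub A C ξ)
    (hii' : InvSub A C ξ')
    (hcξ : classInner (fun n : Q => ξ ⟨n, h.le n.2⟩) (θ : Q → ℂ) ≠ 0)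
    (hcξ' : classInner (fun n : Q => ξ' ⟨n, h.le n.2⟩) (θ : Q → ℂ) ≠ 0)
    (ho : Occurs p C χ ξ) (ho' : Occurs p C χ ξ') : ξ = ξ' := by
  classical
  have hp : p.Prime := Fact.out
  obtain ⟨e, he⟩ := IsPGroup.iff_card.mp h.isP
  obtain ⟨d, hd0, hd⟩ := irr_deg θ.2
  have hdet : detOrder (θ : Q → ℂ) ∣ Nat.card Q := by
    obtain ⟨D, hD⟩ := detChar_exists_hom (isCharacter_of_isIrr θ.2)
    rw [detOrder, hD, orderOf_coe_linear]
    refine orderOf_dvd_of_pow_eq_one (MonoidHom.ext fun n => ?_)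
    rw [MonoidHom.pow_apply, ← map_pow, pow_card_eq_one', map_one]
    rfl
  have hdq : d ∣ Nat.card Q := charDegree_eq hd ▸ degree_dvd_card θ.2
  have hcopq : Nat.Coprime Q.index (Nat.card Q) := by
    rw [he]; exact ((hp.coprime_iff_not_dvd.mpr h.index).symm).pow_right e
  obtain ⟨η, ⟨hη, hηQ, hηdet⟩, hηu⟩ := exists_canonical_extension θ.2 hK hd
    (Nat.Coprime.mul_right (hcopq.coprime_dvd_right hdet) (hcopq.coprime_dvd_right hdq))
  have hηinv : IsInv A η := by
    intro a g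
    have h1 : (fun g => η (a • g)) = η := by
      refine hηu _ (irr_smul hη a) (fun n => ?_) ?_
      · rw [← hA a n ⟨a • (n : K), h.stab a n n.2⟩ rfl, ← hηQ]
      · exact Nat.Coprime.coprime_dvd_right (dvd_trans
          (detOrder_comp_dvd (MulDistribMulAction.toMonoidHom K a) (isCharacter_of_isIrr hη))
          (hηdet ▸ hdet)) hcopq
    exact congrFun h1 g
  -- the two Gallagher decompositions
  haveI : Fintype (Q.subgroupOf C) := Fintype.ofFinite _
  obtain ⟨β, ⟨hβ, hβQ⟩, hβχ⟩ := (gallagher θ.2 (isCharacter_of_isIrr hη) hηQ).surjOn ⟨hχ, hc⟩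
  set ηC : C → ℂ := fun c => η c with hηC
  have hG := gallagher (N := Q.subgroupOf C) (irr_mulEquiv (Subgroup.subgroupOfEquivOfLe h.le) θ.2)
    (χ := ηC) (isCharacter_comp C.subtype (isCharacter_of_isIrr hη))
    (fun x => hηQ (Subgroup.subgroupOfEquivOfLe h.le x))
  have hgal : ∀ {ξ : C → ℂ}, IsIrrCharacter C ξ → InvSub A C ξ →
      classInner (fun n : Q => ξ ⟨n, h.le n.2⟩) (θ : Q → ℂ) ≠ 0 →
      ∃ γ : C → ℂ, IsIrrCharacter C γ ∧ (∀ x : Q.subgroupOf C, γ x = γ 1) ∧ InvSub A C γ ∧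
        γ * ηC = ξ := by
    intro ξ hξ hii hcξ
    obtain ⟨γ, ⟨hγ, hγQ⟩, hγξ⟩ := hG.surjOn ⟨hξ, by rwa [inner_sub h.le]⟩
    refine ⟨γ, hγ, hγQ, fun a c c' e => ?_, hγξ⟩
    have hmem : γ ∘ h.autC a ∈ {β : C → ℂ | IsIrrCharacter C β ∧
        ∀ n : Q.subgroupOf C, β n = β 1} := by
      refine ⟨irr_mulEquiv _ hγ, fun x => ?_⟩
      show γ (h.autC a x) = γ (h.autC a 1)
      rw [map_one]
      exact hγQ ⟨h.autC a x, h.stab a _ x.2⟩
    have h1 : (γ ∘ h.autC a) * ηC = γ * ηC := by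
      funext x
      show γ (h.autC a x) * η (x : K) = _
      rw [← hηinv a x]
      have h2 := congrFun hγξ (h.autC a x)
      have h3 := congrFun hγξ x
      exact h2.trans ((hii a x _ rfl).trans h3.symm)
    have h4 := congrFun (hG.injOn hmem ⟨hγ, hγQ⟩ h1) c
    rw [show c' = h.autC a c from Subtype.ext e]
    exact h4
  obtain ⟨γ, hγ, hγQ, hγi, rfl⟩ := hgal hξ hii hcξ
  obtain ⟨γ', hγ', hγQ', hγi', rfl⟩ := hgal hξ' hii' hcξ'
  have hβi : IsInv A β := by
    intro a g
    have h1 : (fun g => β (a • g)) * η = β * η := by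
      funext x
      show β (a • x) * η x = _
      rw [← hηinv a x]
      have h2 := congrFun hβχ (a • x)
      have h3 := congrFun hβχ x
      exact h2.trans ((hi a x).trans h3.symm)
    exact congrFun ((gallagher θ.2 (isCharacter_of_isIrr hη) hηQ).injOn
      ⟨irr_smul hβ a, fun n => by
        show β (a • (n : K)) = β (a • 1)
        rw [smul_one]; exact hβQ ⟨a • (n : K), h.stab a n n.2⟩⟩ ⟨hβ, hβQ⟩ h1) g
  -- the quotient
  letI := quotAct (A := A) h.stab
  have hsmul : ∀ (a : A) (g : K), a • (g : K ⧸ Q) = ((a • g : K) : K ⧸ Q) := fun a g => rfl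
  haveI : Fintype (K ⧸ Q) := Fintype.ofFinite _
  let Cb : Subgroup (K ⧸ Q) := C.map (QuotientGroup.mk' Q)
  haveI : Fintype Cb := Fintype.ofFinite _
  let f : C →* Cb := (QuotientGroup.mk' Q).subgroupMap C
  have hf : Function.Surjective f := (QuotientGroup.mk' Q).subgroupMap_surjective C
  have hfker : ∀ c : C, f c = 1 → (c : K) ∈ Q := fun c e =>
    (QuotientGroup.eq_one_iff _).mp (congrArg Subtype.val e)
  have hι : IsFixedEmb A Cb.subtype := by
    refine ⟨Subtype.val_injective, fun x => ?_⟩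
    induction x using QuotientGroup.induction_on with
    | _ g =>
      refine ⟨?_, fun hg => ⟨f ⟨g, (h.mem g).mpr fun a => QuotientGroup.eq.mp
        ((hsmul a g).symm.trans (hg a))⟩, rfl⟩⟩
      rintro ⟨⟨x, c, hcC, rfl⟩, hx⟩ a
      rw [← hx]
      show a • (c : K ⧸ Q) = c
      rw [hsmul, QuotientGroup.eq]
      exact (h.mem c).mp hcC a
  have hpK : ¬ p ∣ Nat.card (K ⧸ Q) := h.index
  obtain ⟨β', hβ', hβf⟩ := irr_descend (QuotientGroup.mk' Q) (QuotientGroup.mk'_surjective Q) hβ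
    fun k hk => hβQ ⟨k, (QuotientGroup.eq_one_iff k).mp hk⟩
  have hβ'i : IsInv A β' := by
    intro a x
    induction x using QuotientGroup.induction_on with
    | _ g => exact (congrFun hβf (a • g)).trans ((hβi a g).trans (congrFun hβf g).symm)
  have key : ∀ {γ : C → ℂ}, IsIrrCharacter C γ → (∀ x : Q.subgroupOf C, γ x = γ 1) →
      ∃ γb : Cb → ℂ, IsIrrCharacter Cb γb ∧ γb ∘ f = γ ∧
        classInner (fun c : C => χ c) (γ * ηC) = classInner (β' ∘ Cb.subtype) γb := by
    intro γ hγ hγQ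
    obtain ⟨γb, hγb, hγf⟩ := irr_descend f hf hγ fun c hc => hγQ ⟨c, hfker c hc⟩
    refine ⟨γb, hγb, hγf, ?_⟩
    have hres : IsCharacter Cb (β' ∘ Cb.subtype) :=
      isCharacter_comp Cb.subtype (isCharacter_of_isIrr hβ')
    have hexp := classFun_eq_sum (classFun_of_char hres)
    have hq : ∀ ζ : IrrCharacter Cb, ∀ x : Q.subgroupOf C,
        ((ζ : Cb → ℂ) ∘ f) x = ((ζ : Cb → ℂ) ∘ f) 1 := fun ζ x => by
      show (ζ : Cb → ℂ) (f x) = (ζ : Cb → ℂ) (f 1)
      rw [map_one]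
      exact congrArg (ζ : Cb → ℂ) (Subtype.ext ((QuotientGroup.eq_one_iff _).mpr x.2))
    have hχC : (fun c : C => χ c) = ∑ ζ : IrrCharacter Cb,
        classInner (β' ∘ Cb.subtype) (ζ : Cb → ℂ) • (((ζ : Cb → ℂ) ∘ f) * ηC) := by
      funext c
      have h1 := congrFun hexp (f c)
      have h2 : β' (Cb.subtype (f c)) = β c := congrFun hβf (c : K)
      simp only [Function.comp_apply, h2, Finset.sum_apply, Pi.smul_apply, smul_eq_mul] at h1
      show χ c = _
      rw [← congrFun hβχ (c : K)]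
      show β c * η c = _
      rw [h1, Finset.sum_mul, Finset.sum_apply]
      exact Finset.sum_congr rfl fun ζ _ => by
        simp only [Pi.smul_apply, smul_eq_mul, Pi.mul_apply, Function.comp_apply, hηC]
        ring
    rw [hχC, classInner_sum_left, Finset.sum_eq_single (⟨γb, hγb⟩ : IrrCharacter Cb)]
    · rw [classInner_smul_left, hγf, irr_inner_self (hG.mapsTo ⟨hγ, hγQ⟩).1, mul_one]
    · intro ζ _ hne
      have h1 := hG.mapsTo (x := (ζ : Cb → ℂ) ∘ f) ⟨irr_comp f hf ζ.2, hq ζ⟩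
      rw [classInner_smul_left, irr_inner_ne h1.1 (hG.mapsTo ⟨hγ, hγQ⟩).1 fun e => hne
        (Subtype.ext (funext fun x => by
          obtain ⟨c, rfl⟩ := hf x
          have h2 := congrFun (hG.injOn ⟨irr_comp f hf ζ.2, hq ζ⟩ ⟨hγ, hγQ⟩ e) c
          rw [← hγf] at h2
          exact h2)), mul_zero]
    · exact fun hnot => absurd (Finset.mem_univ _) hnot
  obtain ⟨γb, hγb, hγf, hk⟩ := key hγ hγQ
  obtain ⟨γb', hγb', hγf', hk'⟩ := key hγ' hγQ'
  obtain ⟨m, hm, hmp⟩ := ho
  obtain ⟨m', hm', hmp'⟩ := ho'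
  have hb := glau_unique h.group hpK hι hβ' hβ'i hγb hγb' ⟨m, hk.symm.trans hm, hmp⟩
    ⟨m', hk'.symm.trans hm', hmp'⟩
  rw [← hγf, ← hγf', hb]

/-- induction commutes with operators stabilising the subgroup -/
theorem indFun_smul' {T : Subgroup K} (hs : ∀ a : A, ∀ x ∈ T, a • x ∈ T) (ψ : T → ℂ) (a : A)
    (g : K) :
    indFun T (fun x : T => ψ ⟨a • (x : K), hs a x x.2⟩) g = indFun T ψ (a • g) := by
  rw [indFun_apply, indFun_apply]
  congr 1
  refine Fintype.sum_equiv (MulDistribMulAction.toMulEquiv K a).toEquiv _ _ fun x => ?_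
  show extendByZero T _ (x⁻¹ * g * x) = extendByZero T ψ ((a • x)⁻¹ * (a • g) * (a • x))
  rw [show (a • x)⁻¹ * (a • g) * (a • x) = a • (x⁻¹ * g * x) by simp [smul_mul', smul_inv']]
  by_cases hx : x⁻¹ * g * x ∈ T
  · rw [extendByZero_mem' T _ hx, extendByZero_mem' T _ (hs a _ hx)]
  · rw [extendByZero_not_mem T _ hx, extendByZero_not_mem T _ fun hc => hx (by
      simpa using hs a⁻¹ _ hc)]

/-- the invariant constituent of multiplicity prime to `p` is unique -/
theorem occurs_unique (h : Rel p A Q C) [Fintype C] {χ : K → ℂ} (hχ : IsIrrCharacter K χ)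
    (hi : IsInv A χ) {ξ ξ' : C → ℂ} (hξ : IsIrrCharacter C ξ) (hξ' : IsIrrCharacter C ξ')
    (hii : InvSub A C ξ) (hii' : InvSub A C ξ') (ho : Occurs p C χ ξ) (ho' : Occurs p C χ ξ') :
    ξ = ξ' := by
  classical
  haveI : Fintype Q := Fintype.ofFinite _
  haveI : Fintype (Q.subgroupOf C) := Fintype.ofFinite _
  have hQC := h.le
  letI actC : MulDistribMulAction A C := subAct fun a x hx => h.smul_C a hx
  have hsC : ∀ a : A, ∀ x ∈ Q.subgroupOf C, a • x ∈ Q.subgroupOf C := fun a x hx => h.stab a _ hx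
  have hidxC : ¬ p ∣ (Q.subgroupOf C).index := not_dvd_relIndex h
  have step : ∀ {ξ : C → ℂ}, IsIrrCharacter C ξ → InvSub A C ξ → Occurs p C χ ξ →
      ∃ θ : IrrCharacter Q, InvSub A Q (θ : Q → ℂ) ∧
        classInner (fun n : Q => χ n) (θ : Q → ℂ) ≠ 0 ∧
        classInner (fun n : Q => ξ ⟨n, hQC n.2⟩) (θ : Q → ℂ) ≠ 0 := by
    intro ξ hξ hii ho
    obtain ⟨θ, hθi, hθc⟩ := exists_inv_constituent h.group hsC hidxC hξ fun a x => hii a x _ rfl
    let e := Subgroup.subgroupOfEquivOfLe hQC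
    refine ⟨⟨(θ : Q.subgroupOf C → ℂ) ∘ e.symm, irr_mulEquiv e.symm θ.2⟩,
      fun a n n' en => hθi a (e.symm n) (e.symm n') (Subtype.ext en), ?_, ?_⟩
    swap
    · show classInner _ ((θ : Q.subgroupOf C → ℂ) ∘ e.symm) ≠ 0
      rw [← inner_sub hQC, show ((θ : Q.subgroupOf C → ℂ) ∘ e.symm) ∘ e = (θ : Q.subgroupOf C → ℂ)
        from funext fun x => congrArg (θ : Q.subgroupOf C → ℂ) (e.symm_apply_apply x)]
      exact hθc
    · obtain ⟨m, hm, hmp⟩ := ho
      have hsub := isCharacter_sub_constituent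
        (isCharacter_comp C.subtype (isCharacter_of_isIrr hχ)) hξ
        (show classInner (fun c : C => χ c) ξ ≠ 0 by
          rw [hm, Nat.cast_ne_zero]; rintro rfl; exact hmp (dvd_zero p))
      intro hz
      refine hθc ?_
      have h2 : classInner (fun n : Q => χ n) ((θ : Q.subgroupOf C → ℂ) ∘ e.symm) = 0 := hz
      rw [← inner_sub hQC (fun c : C => χ c), show ((θ : Q.subgroupOf C → ℂ) ∘ e.symm) ∘ e =
        (θ : Q.subgroupOf C → ℂ) from funext fun x =>
          congrArg (θ : Q.subgroupOf C → ℂ) (e.symm_apply_apply x)] at h2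
      refine inner_zero_of_summand
        (isCharacter_comp (Q.subgroupOf C).subtype (isCharacter_of_isIrr hξ))
        (isCharacter_comp (Q.subgroupOf C).subtype hsub) (isCharacter_of_isIrr θ.2) ?_
      rw [← h2]
      congr 1
      funext x
      simp [Function.comp_apply]
  obtain ⟨θ, hθi, hθχ, hθξ⟩ := step hξ hii ho
  obtain ⟨θ₁, hθi₁, hθχ₁, hθξ₁⟩ := step hξ' hii' ho'
  obtain ⟨c, hcC, hconj⟩ := inv_constituents_conj h hχ hθi hθi₁ hθχ hθχ₁
  have hθξ' : classInner (fun n : Q => ξ' ⟨n, hQC n.2⟩) (θ : Q → ℂ) ≠ 0 := by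
    rw [hconj, ← inner_sub hQC] at hθξ₁
    rw [← inner_sub hQC]
    rw [← inner_res_conjN (classFun_of_irr hξ') _ (⟨c, hcC⟩ : C)]
    intro hz
    exact hθξ₁ (Eq.trans (by congr 1) hz)
  set T := inertia (θ : Q → ℂ) with hTdef
  have hQT : Q ≤ T := le_inertia (classFun_of_irr θ.2)
  haveI : Fintype T := Fintype.ofFinite _
  have hTA : ∀ a : A, ∀ t ∈ T, a • t ∈ T := by
    intro a t ht
    refine mem_inertia'.mpr fun n => ?_
    have e1 := mem_inertia'.mp ht ⟨a⁻¹ • (n : K), h.stab a⁻¹ n n.2⟩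
    have e2 := hθi a⁻¹ n ⟨a⁻¹ • (n : K), h.stab a⁻¹ n n.2⟩ rfl
    rw [← e2, ← e1]
    exact hθi a _ _ (by simp [smul_mul', smul_inv'])
  letI actT : MulDistribMulAction A T := subAct hTA
  haveI : Fintype (C.subgroupOf T) := Fintype.ofFinite _
  haveI : Fintype (Q.subgroupOf T) := Fintype.ofFinite _
  have hR : Rel p A (Q.subgroupOf T) (C.subgroupOf T) :=
    ⟨h.group, fun a x hx => h.stab a _ hx,
      h.isP.of_equiv (Subgroup.subgroupOfEquivOfLe hQT).symm,
      fun hd => h.index (hd.trans (Subgroup.relIndex_dvd_index_of_normal Q T)), fun t => h.mem t⟩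
  let eT := Subgroup.subgroupOfEquivOfLe hQT
  let θT : IrrCharacter (Q.subgroupOf T) := ⟨(θ : Q → ℂ) ∘ eT, irr_mulEquiv eT θ.2⟩
  have hTiff : ∀ g : K, g ∈ T ↔ conjN (θ : Q → ℂ) g = (θ : Q → ℂ) := fun g => mem_inertia
  obtain ⟨ψ, hψ, hψχ, hψθ⟩ := clifford_exists θ.2 hTiff hQT hχ hθχ
  have hψi : IsInv A ψ := by
    intro a t
    have h1 : IsIrrCharacter T (fun x : T => ψ (a • x)) := irr_smul hψ a
    have h2 : classInner (fun n : Q => ψ (a • (⟨n, hQT n.2⟩ : T))) (θ : Q → ℂ) =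
        classInner (fun n : Q => ψ ⟨n, hQT n.2⟩) (θ : Q → ℂ) := by
      letI := subAct (A := A) h.stab
      conv_rhs => rw [← classInner_mulEquiv (MulDistribMulAction.toMulEquiv Q a)]
      congr 1
      exact funext fun n => (hθi a n _ rfl).symm
    have h3 : indFun T (fun x : T => ψ (a • x)) = indFun T ψ := funext fun g => by
      rw [show (fun x : T => ψ (a • x)) = fun x : T => ψ ⟨a • (x : K), hTA a x x.2⟩ from rfl,
        indFun_smul' hTA, hψχ, hi]
    exact congrFun (clifford_unique θ.2 hTiff hQT h1 hψ (by rw [h2, hψθ]; exact hθχ)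
      (by rw [hψθ]; exact hθχ) h3) t
  have hθT : ∀ t : T, conjN (θT : Q.subgroupOf T → ℂ) t = (θT : Q.subgroupOf T → ℂ) := fun t =>
    funext fun x => mem_inertia'.mp t.2 (eT x)
  have hθTA : InvSub A (Q.subgroupOf T) (θT : Q.subgroupOf T → ℂ) := fun a x x' e =>
    hθi a (eT x) (eT x') (congrArg Subtype.val e)
  -- descend to the inertia group
  haveI : Fintype (T.subgroupOf C) := Fintype.ofFinite _
  let T' : Subgroup C := T.subgroupOf C
  let eC := Subgroup.subgroupOfEquivOfLe hQC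
  have hT'iff : ∀ x : C, x ∈ T' ↔ conjN ((θ : Q → ℂ) ∘ eC) x = (θ : Q → ℂ) ∘ eC := by
    intro x
    show (x : K) ∈ T ↔ _
    rw [hTiff]
    constructor
    · exact fun e => funext fun n => congrFun e (eC n)
    · intro e
      funext n
      have := congrFun e (eC.symm n)
      simp only [Function.comp_apply, MulEquiv.apply_symm_apply] at this
      exact this
  have hQT' : Q.subgroupOf C ≤ T' := fun x hx => hQT hx
  let e : C.subgroupOf T ≃* T' :=
    { toFun := fun x => ⟨⟨((x : T) : K), x.2⟩, (x : T).2⟩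
      invFun := fun x => ⟨⟨((x : C) : K), x.2⟩, (x : C).2⟩
      left_inv := fun _ => rfl
      right_inv := fun _ => rfl
      map_mul' := fun _ _ => rfl }
  have descend : ∀ {ξ : C → ℂ}, IsIrrCharacter C ξ → InvSub A C ξ → Occurs p C χ ξ →
      classInner (fun n : Q => ξ ⟨n, hQC n.2⟩) (θ : Q → ℂ) ≠ 0 →
      ∃ ζ : C.subgroupOf T → ℂ, IsIrrCharacter (C.subgroupOf T) ζ ∧
        InvSub A (C.subgroupOf T) ζ ∧ indFun T' (ζ ∘ e.symm) = ξ ∧
        classInner (fun n : Q.subgroupOf T => ζ ⟨n, hR.le n.2⟩)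
          (θT : Q.subgroupOf T → ℂ) ≠ 0 ∧
        Occurs p (C.subgroupOf T) ψ ζ := by
    intro ξ hξ hii ho hcξ
    rw [← inner_sub hQC] at hcξ
    obtain ⟨η, hη, hηξ, hηθ⟩ :=
      clifford_exists (irr_mulEquiv eC θ.2) hT'iff hQT' hξ hcξ
    have hTA' : ∀ a : A, ∀ x ∈ T', a • x ∈ T' := fun a x hx => hTA a _ hx
    have hηi : ∀ (a : A) (x : T'), η ⟨a • (x : C), hTA' a x x.2⟩ = η x := by
      intro a x
      letI := subAct (A := A) hTA'
      have h1 : IsIrrCharacter T' (fun y : T' => η ⟨a • (y : C), hTA' a y y.2⟩) := irr_smul hη a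
      have h2 : classInner (fun n : Q.subgroupOf C =>
            η ⟨a • (n : C), hTA' a n (hQT' n.2)⟩) ((θ : Q → ℂ) ∘ eC) =
          classInner (fun n : Q.subgroupOf C => η ⟨n, hQT' n.2⟩) ((θ : Q → ℂ) ∘ eC) := by
        letI := subAct (A := A) hsC
        conv_rhs => rw [← classInner_mulEquiv (MulDistribMulAction.toMulEquiv (Q.subgroupOf C) a)]
        congr 1
        exact funext fun n => (hθi a (eC n) _ rfl).symm
      have h3 : indFun T' (fun y : T' => η ⟨a • (y : C), hTA' a y y.2⟩) = indFun T' η :=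
        funext fun g => by rw [indFun_smul' hTA', hηξ]; exact hii a g _ rfl
      exact congrFun (clifford_unique (irr_mulEquiv eC θ.2) hT'iff hQT' h1 hη
        (by rw [h2, hηθ]; exact hcξ) (by rw [hηθ]; exact hcξ) h3) x
    have hcθ : classInner (fun n : Q.subgroupOf T => η (e ⟨n, hR.le n.2⟩))
        (θT : Q.subgroupOf T → ℂ) ≠ 0 := by
      intro hz
      rw [← hηθ] at hcξ
      refine hcξ ?_
      rw [← classInner_mulEquiv (eT.trans eC.symm)]
      refine Eq.trans ?_ hz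
      congr 1
    refine ⟨η ∘ e, irr_mulEquiv e hη, fun a x x' ex => ?_, ?_, hcθ, ?_⟩
    · show η (e x') = η (e x)
      rw [← hηi a (e x)]
      have e1 : (((x' : T) : K)) = a • ((x : T) : K) := congrArg (fun t : T => (t : K)) ex
      exact congrArg η (Subtype.ext (Subtype.ext e1))
    · rw [show (η ∘ e) ∘ e.symm = η from funext fun x => congrArg η (e.apply_symm_apply x)]
      exact hηξ
    · obtain ⟨m, hm, hmp⟩ := ho
      refine ⟨m, ?_, hmp⟩
      have hcl : IsClassFunction C (fun c : C => χ c) :=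
        classFun_of_char (isCharacter_comp C.subtype (isCharacter_of_isIrr hχ))
      rw [← hm, ← hηξ, frobenius' T' η hcl, ← classInner_mulEquiv e]
      have hres : IsCharacter T (fun t : T => χ t) :=
        isCharacter_comp T.subtype (isCharacter_of_isIrr hχ)
      have hψm : classInner (fun t : T => χ t) ψ ≠ 0 := by
        rw [← frobenius' T ψ (classFun_of_irr hχ), hψχ, irr_inner_self hχ]
        exact one_ne_zero
      have hrest := isCharacter_sub_constituent hres hψ hψm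
      have hz : classInner (fun n : Q => ((fun t : T => χ t) - ψ) ⟨n, hQT n.2⟩) (θ : Q → ℂ) = 0 := by
        have e0 : (fun n : Q => ((fun t : T => χ t) - ψ) ⟨n, hQT n.2⟩) =
            (fun n : Q => χ n) - fun n : Q => ψ ⟨n, hQT n.2⟩ := rfl
        rw [e0, classInner_sub_left, hψθ, sub_self]
      set R : C.subgroupOf T → ℂ := fun x => ((fun t : T => χ t) - ψ) x with hRdef
      have hRc : IsCharacter (C.subgroupOf T) R := isCharacter_comp (C.subgroupOf T).subtype hrest
      have hR0 : classInner R (η ∘ e) = 0 := by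
        by_contra hne
        have hsub := isCharacter_sub_constituent hRc (irr_mulEquiv e hη) hne
        refine hcθ ?_
        let ι : Q.subgroupOf T →* C.subgroupOf T :=
          { toFun := fun n => ⟨n, hR.le n.2⟩
            map_one' := rfl
            map_mul' := fun _ _ => rfl }
        refine inner_zero_of_summand (isCharacter_comp ι (isCharacter_comp e.toMonoidHom
          (isCharacter_of_isIrr hη))) (isCharacter_comp ι hsub) (isCharacter_of_isIrr θT.2) ?_
        rw [← inner_sub hQT] at hz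
        refine Eq.trans ?_ hz
        congr 1
        funext n
        simp [hRdef, ι]
      rw [show ((fun x : T' => χ ((x : C) : K)) ∘ e) =
          (fun x : C.subgroupOf T => ψ x) + R from funext fun x => by
        simp [hRdef]; rfl, classInner_add_left, hR0, add_zero]
  obtain ⟨ζ, hζ, hζi, hζξ, hζθ, hζo⟩ := descend hξ hii ho hθξ
  obtain ⟨ζ', hζ', hζi', hζξ', hζθ', hζo'⟩ := descend hξ' hii' ho' hθξ'
  have hψc : classInner (fun n : Q.subgroupOf T => ψ n) (θT : Q.subgroupOf T → ℂ) ≠ 0 := by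
    show classInner _ ((θ : Q → ℂ) ∘ eT) ≠ 0
    rw [inner_sub hQT, hψθ]; exact hθχ
  have := unique_invariant hR hθT hθTA hψ hψi hψc hζ hζ' hζi hζi' hζθ hζθ' hζo hζo'
  rw [← hζξ, ← hζξ', this]

open Classical in
/-- the relative Glauberman correspondence -/
theorem correspondence (h : Rel p A Q C) [Fintype C] :
    ∃ F : {χ : IrrCharacter K // IsInv A (χ : K → ℂ)} →
        {ξ : IrrCharacter C // InvSub A C (ξ : C → ℂ)},
      Function.Bijective F ∧ ∀ χ,
        (∀ ξ : {ξ : IrrCharacter C // InvSub A C (ξ : C → ℂ)}, ∃ m : ℕ,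
          classInner (fun c : C => (χ.1 : K → ℂ) c) (ξ.1 : C → ℂ) = (m : ℂ) ∧
            (ξ = F χ → ((m : ZMod p) = 1 ∨ (m : ZMod p) = -1)) ∧ (ξ ≠ F χ → p ∣ m)) ∧
        ((charDegree ((F χ).1 : C → ℂ) : ZMod p) = (charDegree (χ.1 : K → ℂ) : ZMod p) ∨
          (charDegree ((F χ).1 : C → ℂ) : ZMod p) = -(charDegree (χ.1 : K → ℂ) : ZMod p)) := by
  have hp : p.Prime := Fact.out
  choose F hF using fun χ : {χ : IrrCharacter K // IsInv A (χ : K → ℂ)} => occurs_exists h χ.2
  have huniq : ∀ (χ : {χ : IrrCharacter K // IsInv A (χ : K → ℂ)}) (ξ : IrrCharacter C),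
      InvSub A C (ξ : C → ℂ) → Occurs p C (χ.1 : K → ℂ) (ξ : C → ℂ) → ξ = F χ := fun χ ξ hξ ho =>
    Subtype.ext (occurs_unique h χ.1.2 χ.2 ξ.2 (F χ).2 hξ (hF χ).1 ho (hF χ).2)
  -- the congruence for two characters sharing a correspondent
  have hpair : ∀ χ χ' : {χ : IrrCharacter K // IsInv A (χ : K → ℂ)}, ∀ m m' : IrrCharacter C → ℕ,
      (∀ ξ : IrrCharacter C, classInner (fun c : C => (χ.1 : K → ℂ) c) (ξ : C → ℂ) = (m ξ : ℂ)) →
      (∀ ξ : IrrCharacter C, classInner (fun c : C => (χ'.1 : K → ℂ) c) (ξ : C → ℂ) = (m' ξ : ℂ)) →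
      ((m (F χ) * m' (F χ) : ℕ) : ℤ) ≡ ((if χ.1 = χ'.1 then 1 else 0 : ℕ) : ℤ) [ZMOD p] := by
    intro χ χ' m m' hm hm'
    refine Int.ModEq.trans ?_ (sum_inv_mult h χ.2 χ'.2 hm hm')
    rw [← Finset.add_sum_erase _ _ (show F χ ∈ Finset.univ.filter
      (fun ξ : IrrCharacter C => InvSub A C (ξ : C → ℂ)) from
        Finset.mem_filter.mpr ⟨Finset.mem_univ _, (hF χ).1⟩)]
    rw [Nat.cast_add]
    conv_lhs => rw [← add_zero ((m (F χ) * m' (F χ) : ℕ) : ℤ)]
    refine Int.ModEq.add_left _ (Int.ModEq.symm (Int.modEq_zero_iff_dvd.mpr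
      (Int.natCast_dvd_natCast.mpr (Finset.dvd_sum fun ξ hξ => ?_))))
    refine Dvd.dvd.mul_right ?_ _
    by_contra hd
    rw [Finset.mem_erase, Finset.mem_filter] at hξ
    exact hξ.1 (huniq χ ξ hξ.2.2 ⟨m ξ, hm ξ, hd⟩)
  refine ⟨fun χ => ⟨F χ, (hF χ).1⟩, ⟨fun χ χ' e => ?_, fun ξ => ?_⟩, fun χ => ?_⟩
  · have e' : F χ = F χ' := congrArg Subtype.val e
    obtain ⟨m, -, hm, -, -⟩ := exists_inv_constituents h (isCharacter_of_isIrr χ.1.2) χ.2
    obtain ⟨m', -, hm', -, -⟩ := exists_inv_constituents h (isCharacter_of_isIrr χ'.1.2) χ'.2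
    have hd : ∀ (χ₀ : {χ : IrrCharacter K // IsInv A (χ : K → ℂ)}) (m₀ : IrrCharacter C → ℕ),
        (∀ ξ : IrrCharacter C, classInner (fun c : C => (χ₀.1 : K → ℂ) c) (ξ : C → ℂ) = (m₀ ξ : ℂ)) →
        ¬ p ∣ m₀ (F χ₀) := by
      intro χ₀ m₀ hm₀
      obtain ⟨k, hk, hkp⟩ := (hF χ₀).2
      rw [hm₀, Nat.cast_inj] at hk
      exact hk ▸ hkp
    have h1 := hpair χ χ' m m' hm hm'
    by_contra hne
    rw [if_neg fun e => hne (Subtype.ext e), Nat.cast_zero, Int.modEq_zero_iff_dvd,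
      Int.natCast_dvd_natCast, hp.dvd_mul] at h1
    rcases h1 with h1 | h1
    · exact hd χ m hm h1
    · exact hd χ' m' hm' (e' ▸ h1)
  · obtain ⟨χ, hχi, ho⟩ := occurs_surj h ξ.2
    exact ⟨⟨χ, hχi⟩, Subtype.ext (huniq ⟨χ, hχi⟩ ξ.1 ξ.2 ho).symm⟩
  · obtain ⟨m, s, hm, hs, hsum⟩ := exists_inv_constituents h (isCharacter_of_isIrr χ.1.2) χ.2
    have h1 := hpair χ χ m m hm hm
    rw [if_pos rfl] at h1
    have hsq : (m (F χ) : ZMod p) * (m (F χ) : ZMod p) = 1 := by
      have := (ZMod.intCast_eq_intCast_iff _ _ p).mpr h1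
      push_cast at this
      exact this
    have hpm := mul_self_eq_one_iff.mp hsq
    refine ⟨fun ξ => ⟨m ξ.1, hm ξ.1, fun e => ?_, fun hne => ?_⟩, ?_⟩
    · rw [show ξ.1 = F χ from congrArg Subtype.val e]; exact hpm
    · by_contra hd
      exact hne (Subtype.ext (huniq χ ξ.1 ξ.2 ⟨m ξ.1, hm ξ.1, hd⟩))
    · have h2 := hsum (fun ξ => m ξ * charDegree (ξ : C → ℂ)) fun ξ η a he hmm => by
        have hdeg : charDegree (η : C → ℂ) = charDegree (ξ : C → ℂ) := by
          apply charDegree_eq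
          rw [he 1, map_one, irr_one_eq ξ.2]
        show m η * _ = m ξ * _
        rw [hmm, hdeg]
      have hdegχ : charDegree (χ.1 : K → ℂ) =
          ∑ ξ : IrrCharacter C, m ξ * charDegree (ξ : C → ℂ) := by
        apply charDegree_eq
        have hres : IsCharacter C (fun c : C => (χ.1 : K → ℂ) c) :=
          isCharacter_comp C.subtype (isCharacter_of_isIrr χ.1.2)
        have h3 := congrFun (classFun_eq_sum (classFun_of_char hres)) 1
        simp only [Finset.sum_apply, Pi.smul_apply, smul_eq_mul, hm] at h3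
        rw [OneMemClass.coe_one] at h3
        rw [h3]
        push_cast
        exact Finset.sum_congr rfl fun ξ _ => by rw [irr_one_eq ξ.2]
      rw [← hdegχ] at h2
      have h4 : (charDegree (χ.1 : K → ℂ) : ZMod p) =
          (m (F χ) : ZMod p) * (charDegree ((F χ) : C → ℂ) : ZMod p) := by
        have := (ZMod.intCast_eq_intCast_iff _ _ p).mpr h2
        push_cast at this
        rw [this, Finset.sum_eq_single_of_mem (F χ) ((hs _).mpr (hF χ).1)]
        intro ξ hξ hne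
        have hd : p ∣ m ξ := by
          by_contra hd
          exact hne (huniq χ ξ ((hs ξ).mp hξ) ⟨m ξ, hm ξ, hd⟩)
        rw [(ZMod.natCast_eq_zero_iff _ _).mpr hd, zero_mul]
      rcases hpm with e | e <;> rw [e] at h4 <;> simp [h4]

end CfsgLib.RelGlau
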