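import Cfsg.Agent.Char.Glauberman
import Cfsg.Agent.Char.NormalSum
import Cfsg.Agent.Char.Clifford
import Mathlib.GroupTheory.QuotientGroup.Basic

/-! A `p`-group of operators on a group with an invariant normal Sylow `p`-subgroup `Q`: restriction
to the subgroup `C` of elements fixed modulo `Q` is an isometry modulo `p` on invariant characters. -/

set_option linter.unusedSectionVars false
set_option linter.style.haveILetI false

namespace CfsgLib.RelGlau

open CfsgLib.Char Cfsg
open scoped ComplexConjugate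

universe u v

variable {p : ℕ} [Fact p.Prime] {A : Type v} [Group A] {K : Type u} [Group K]
  [MulDistribMulAction A K] {Q C : Subgroup K} [hN : Q.Normal]

/-- the standing hypotheses -/
structure Rel (p : ℕ) (A : Type v) [Group A] {K : Type u} [Group K] [MulDistribMulAction A K]
    (Q C : Subgroup K) : Prop where
  group : IsPGroup p A
  stab : ∀ a : A, ∀ x ∈ Q, a • x ∈ Q
  isP : IsPGroup p Q
  index : ¬ p ∣ Q.index
  mem : ∀ g : K, g ∈ C ↔ ∀ a : A, (a • g)⁻¹ * g ∈ Q

/-- invariance of a function on a subgroup -/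
def InvSub (A : Type v) [Group A] {K : Type u} [Group K] [MulDistribMulAction A K] (H : Subgroup K)
    (ξ : H → ℂ) : Prop :=
  ∀ (a : A) (h h' : H), (h' : K) = a • (h : K) → ξ h' = ξ h

/-- `ξ` occurs in `χ` with multiplicity prime to `p` -/
def Occurs (p : ℕ) (C : Subgroup K) [Fintype C] (χ : K → ℂ) (ξ : C → ℂ) : Prop :=
  ∃ m : ℕ, classInner (fun c : C => χ c) ξ = (m : ℂ) ∧ ¬ p ∣ m

/-- the operators on the quotient -/
@[reducible] def quotAct (hs : ∀ a : A, ∀ x ∈ Q, a • x ∈ Q) : MulDistribMulAction A (K ⧸ Q) where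
  smul a x := QuotientGroup.map Q Q (MulDistribMulAction.toMonoidHom K a) (fun x hx => hs a x hx) x
  one_smul x := by
    induction x using QuotientGroup.induction_on with
    | _ g => exact congrArg QuotientGroup.mk (one_smul A g)
  mul_smul a b x := by
    induction x using QuotientGroup.induction_on with
    | _ g => exact congrArg QuotientGroup.mk (mul_smul a b g)
  smul_mul a x y := map_mul (QuotientGroup.map Q Q _ _) x y
  smul_one a := map_one (QuotientGroup.map Q Q _ _)

theorem Rel.le (h : Rel p A Q C) : Q ≤ C := fun x hx =>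
  (h.mem x).mpr fun a => Q.mul_mem (Q.inv_mem (h.stab a x hx)) hx

theorem Rel.smul_C (h : Rel p A Q C) (a : A) {x : K} (hx : x ∈ C) : a • x ∈ C := by
  have h1 := C.mul_mem (h.le (Q.inv_mem (hN.mem_comm ((h.mem x).mp hx a)))) hx
  simpa [mul_assoc] using h1

/-- an operator as an automorphism of `C` -/
def Rel.autC (h : Rel p A Q C) (a : A) : C ≃* C where
  toFun c := ⟨a • (c : K), h.smul_C a c.2⟩
  invFun c := ⟨a⁻¹ • (c : K), h.smul_C a⁻¹ c.2⟩
  left_inv c := Subtype.ext (inv_smul_smul a (c : K))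
  right_inv c := Subtype.ext (smul_inv_smul a (c : K))
  map_mul' c d := Subtype.ext (smul_mul' a (c : K) (d : K))

@[simp] theorem Rel.coe_autC (h : Rel p A Q C) (a : A) (c : C) :
    ((h.autC a c : C) : K) = a • (c : K) := rfl

variable [Fintype K]

theorem not_dvd_relIndex (h : Rel p A Q C) : ¬ p ∣ Q.relIndex C := fun hd =>
  h.index (hd.trans (Subgroup.relIndex_dvd_index_of_normal Q C))

theorem card_C (h : Rel p A Q C) : Nat.card C = Nat.card Q * Q.relIndex C := by
  rw [Subgroup.relIndex, ← Nat.card_congr (Subgroup.subgroupOfEquivOfLe h.le).toEquiv]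
  exact (Q.subgroupOf C).card_mul_index.symm

theorem sum_out [Fintype (K ⧸ Q)] (F : K → ℂ) (hQ : ∀ g, ∀ n ∈ Q, F (g * n) = F g) :
    ∑ g : K, F g = (Nat.card Q : ℂ) * ∑ x : K ⧸ Q, F x.out := by
  classical
  haveI : Fintype Q := Fintype.ofFinite _
  rw [← Equiv.sum_comp (Subgroup.groupEquivQuotientProdSubgroup (s := Q)).symm, Fintype.sum_prod_type,
    Finset.mul_sum]
  refine Finset.sum_congr rfl fun x _ => ?_
  rw [Finset.sum_congr rfl (g := fun _ => F x.out) fun n _ => ?_, Finset.sum_const, Finset.card_univ,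
    Fintype.card_eq_nat_card, nsmul_eq_mul]
  generalize hg : (Subgroup.groupEquivQuotientProdSubgroup (s := Q)).symm (x, n) = g
  have hx : (g : K ⧸ Q) = x := by
    rw [← hg]
    have := congrArg Prod.fst
      ((Subgroup.groupEquivQuotientProdSubgroup (s := Q)).apply_symm_apply (x, n))
    exact this
  have h1 : x.out⁻¹ * g ∈ Q := QuotientGroup.eq.mp (by rw [QuotientGroup.out_eq', hx])
  rw [show g = x.out * (x.out⁻¹ * g) by group, hQ _ _ h1]

open Classical in
/-- the fundamental congruence -/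
theorem pcong_sums (h : Rel p A Q C) [Fintype C] (F : K → ℂ) (hQ : ∀ g, ∀ n ∈ Q, F (g * n) = F g)
    (hF : IsInv A F) (hint : ∀ g, IsIntegral ℤ (F g)) :
    PCong p ((∑ g : K, F g) / (Nat.card Q : ℂ)) ((∑ c : C, F c) / (Nat.card Q : ℂ)) := by
  haveI : Fintype (K ⧸ Q) := Fintype.ofFinite _
  letI := quotAct (A := A) h.stab
  have hsmul : ∀ (a : A) (g : K), a • (g : K ⧸ Q) = ((a • g : K) : K ⧸ Q) := fun a g => rfl
  have hout : ∀ g : K, F (g : K ⧸ Q).out = F g := fun g => by
    obtain ⟨n, hn⟩ := QuotientGroup.mk_out_eq_mul Q g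
    rw [hn, hQ _ _ n.2]
  have hq : (Nat.card Q : ℂ) ≠ 0 := natCard_ne_zero Q
  have h1 := pcong_sum_fixed h.group (fun x : K ⧸ Q => F x.out)
    (fun a x => by
      induction x using QuotientGroup.induction_on with
      | _ g => show F (a • (g : K ⧸ Q)).out = _; rw [hsmul, hout, hout, hF])
    fun x => hint _
  have hCQ : ∀ g : K, g ∈ C ↔ ∀ a : A, a • (g : K ⧸ Q) = g := fun g =>
    (h.mem g).trans (forall_congr' fun a => by rw [hsmul, QuotientGroup.eq])
  have h2 : ∑ c : C, F c =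
      (Nat.card Q : ℂ) * ∑ x ∈ Finset.univ.filter (fun x : K ⧸ Q => ∀ a : A, a • x = x), F x.out := by
    have e := sum_out (Q := Q) (fun g => if g ∈ C then F g else 0) fun g n hn => by
      rw [hQ g n hn]
      exact if_congr ⟨fun hm => by simpa using C.mul_mem hm (C.inv_mem (h.le hn)),
        fun hm => C.mul_mem hm (h.le hn)⟩ rfl rfl
    rw [sum_subgroup C _ (fun g hg => if_neg hg)] at e
    rw [Finset.sum_congr rfl fun c _ => if_pos c.2] at e
    rw [e, Finset.sum_filter]
    congr 1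
    refine Finset.sum_congr rfl fun x _ => if_congr ?_ rfl rfl
    rw [hCQ, QuotientGroup.out_eq']
  rw [sum_out F hQ, h2, mul_div_cancel_left₀ _ hq, mul_div_cancel_left₀ _ hq]
  exact h1

theorem card_quot (h : Rel p A Q C) [Fintype C] :
    PCong p (Q.index : ℂ) (Q.relIndex C : ℂ) := by
  have h1 := pcong_sums h (fun _ => (1 : ℂ)) (fun _ _ _ => rfl) (fun _ _ => rfl)
    fun _ => isIntegral_one
  rw [Finset.sum_const, Finset.sum_const, nsmul_one, nsmul_one, Finset.card_univ, Finset.card_univ,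
    Fintype.card_eq_nat_card, Fintype.card_eq_nat_card, card_C h, ← Q.card_mul_index] at h1
  push_cast at h1
  rwa [mul_div_cancel_left₀ _ (natCard_ne_zero Q), mul_div_cancel_left₀ _ (natCard_ne_zero Q)] at h1

/-- the average over `Q` -/
noncomputable def avg (Q : Subgroup K) [Fintype Q] (φ : K → ℂ) (g : K) : ℂ :=
  (Nat.card Q : ℂ)⁻¹ * ∑ n : Q, φ ((n : K) * g)

theorem avg_integral [Fintype Q] {φ : K → ℂ} (hφ : IsCharacter K φ) (g : K) :
    IsIntegral ℤ (avg Q φ g) := by
  classical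
  rw [avg]
  obtain ⟨hcl, hnat⟩ := isCharacter_iff.mp hφ
  choose m hm using hnat
  have e : ∀ x, φ x = ∑ η : IrrCharacter K, (m η : ℂ) * (η : K → ℂ) x := fun x => by
    have := congrFun (classFun_eq_sum hcl) x
    simpa [hm] using this
  rw [Finset.sum_congr rfl fun n _ => e _, Finset.sum_comm, Finset.mul_sum]
  refine IsIntegral.sum _ fun η _ => ?_
  rw [← Finset.mul_sum, irr_coset_sum_eq η.2, mul_left_comm]
  refine (_root_.isIntegral_natCast _).mul ?_
  split_ifs
  · rw [← mul_assoc, inv_mul_cancel₀ (natCard_ne_zero Q), one_mul]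
    exact char_isIntegral (isCharacter_of_isIrr η.2) g
  · rw [mul_zero]; exact isIntegral_zero

theorem avg_right [Fintype Q] (φ : K → ℂ) (g : K) {n : K} (hn : n ∈ Q) :
    avg Q φ (g * n) = avg Q φ g := by
  rw [avg, avg]
  congr 1
  refine Fintype.sum_equiv (Equiv.mulRight ⟨g * n * g⁻¹, hN.conj_mem n hn g⟩) _ _ fun m => ?_
  simp [mul_assoc]

theorem avg_sum [Fintype Q] (H : Subgroup K) [Fintype H] (hQH : Q ≤ H) (φ : K → ℂ) :
    ∑ x : H, avg Q φ x = ∑ x : H, φ x := by
  simp only [avg, ← Finset.mul_sum]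
  rw [Finset.sum_comm]
  have : ∀ n : Q, ∑ x : H, φ ((n : K) * x) = ∑ x : H, φ x := fun n =>
    Fintype.sum_equiv (Equiv.mulLeft ⟨(n : K), hQH n.2⟩) _ _ fun x => rfl
  rw [Finset.sum_congr rfl fun n _ => this n, Finset.sum_const, Finset.card_univ,
    Fintype.card_eq_nat_card, nsmul_eq_mul, ← mul_assoc, inv_mul_cancel₀ (natCard_ne_zero Q), one_mul]

theorem avg_inv [Fintype Q] (hs : ∀ a : A, ∀ x ∈ Q, a • x ∈ Q) {φ : K → ℂ} (hφ : IsInv A φ) :
    IsInv A (avg Q φ) := by
  intro a g
  rw [avg, avg]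
  congr 1
  let e : Q ≃ Q :=
    { toFun := fun n => ⟨a⁻¹ • (n : K), hs a⁻¹ n n.2⟩
      invFun := fun n => ⟨a • (n : K), hs a n n.2⟩
      left_inv := fun n => Subtype.ext (smul_inv_smul a (n : K))
      right_inv := fun n => Subtype.ext (inv_smul_smul a (n : K)) }
  refine Fintype.sum_equiv e _ _ fun n => ?_
  show _ = φ (a⁻¹ • (n : K) * g)
  rw [← hφ a (a⁻¹ • (n : K) * g), smul_mul', smul_inv_smul]

/-- restriction preserves inner products of invariant characters modulo `p` -/
theorem inner_res_pcong (h : Rel p A Q C) [Fintype C] {φ ψ : K → ℂ} (hφ : IsCharacter K φ)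
    (hψ : IsCharacter K ψ) (hi : IsInv A φ) (hi' : IsInv A ψ) {n n' : ℕ}
    (hn : classInner φ ψ = (n : ℂ))
    (hn' : classInner (fun c : C => φ c) (fun c : C => ψ c) = (n' : ℂ)) :
    (n : ℤ) ≡ n' [ZMOD p] := by
  classical
  haveI : Fintype Q := Fintype.ofFinite _
  haveI : Fintype (⊤ : Subgroup K) := Fintype.ofFinite _
  set f : K → ℂ := fun g => φ g * conj (ψ g) with hf
  have hfc : IsCharacter K f := isCharacter_mul hφ (isCharacter_conj hψ)
  have hfi : IsInv A f := fun a g => by simp only [hf, hi a g, hi' a g]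
  have h1 := pcong_sums h (avg Q f) (fun g n hn => avg_right f g hn) (avg_inv h.stab hfi)
    (avg_integral hfc)
  have etop : ∀ F : K → ℂ, ∑ x : (⊤ : Subgroup K), F x = ∑ x : K, F x := fun F =>
    Fintype.sum_equiv Subgroup.topEquiv.toEquiv _ _ fun x => rfl
  rw [avg_sum C h.le, ← etop, avg_sum ⊤ le_top, etop] at h1
  have e1 : ∑ x : K, f x = (Nat.card K : ℂ) * n := by
    rw [← hn, classInner_def, ← mul_assoc, mul_inv_cancel₀ (natCard_ne_zero K), one_mul]
  have e2 : ∑ x : C, f x = (Nat.card C : ℂ) * n' := by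
    rw [← hn', classInner_def, ← mul_assoc, mul_inv_cancel₀ (natCard_ne_zero C), one_mul]
  rw [e1, e2, card_C h, ← Q.card_mul_index] at h1
  push_cast at h1
  rw [mul_assoc, mul_assoc, mul_div_cancel_left₀ _ (natCard_ne_zero Q),
    mul_div_cancel_left₀ _ (natCard_ne_zero Q)] at h1
  have h3 := ((card_quot h).symm.mul_right (_root_.isIntegral_natCast n)).trans h1
  have h4 : (Q.relIndex C : ℤ) * n ≡ (Q.relIndex C : ℤ) * n' [ZMOD p] := by
    apply PCong.int_modEq (Fact.out : p.Prime).ne_zero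
    push_cast
    exact h3
  exact modEq_cancel (not_dvd_relIndex h) h4

/-- a `p`-group only sees the fixed points -/
theorem nat_sum_fixed {B : Type v} [Group B] {X : Type u} [MulAction B X] [Fintype X]
    (hB : IsPGroup p B) (f : X → ℕ) (hf : ∀ (b : B) (x : X), f (b • x) = f x) :
    ∃ s : Finset X, (∀ x, x ∈ s ↔ ∀ b : B, b • x = x) ∧
      ((∑ x, f x : ℕ) : ℤ) ≡ ((∑ x ∈ s, f x : ℕ) : ℤ) [ZMOD p] := by
  obtain ⟨s, hs, hc⟩ := exists_fixed_finset hB (fun x => (f x : ℂ)) (fun b x => by rw [hf])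
    fun x => _root_.isIntegral_natCast _
  exact ⟨s, hs, PCong.nat_modEq (Fact.out : p.Prime).ne_zero (by push_cast; exact hc)⟩

/-- the operators on the characters of `C` -/
@[reducible] def irrActC (h : Rel p A Q C) [Fintype C] : MulAction A (IrrCharacter C) where
  smul a ξ := ⟨fun c => (ξ : C → ℂ) (h.autC a⁻¹ c), irr_mulEquiv (h.autC a⁻¹) ξ.2⟩
  one_smul ξ := Subtype.ext (funext fun c => by
    show (ξ : C → ℂ) (h.autC (1 : A)⁻¹ c) = (ξ : C → ℂ) c
    exact congrArg (ξ : C → ℂ) (Subtype.ext (by rw [h.coe_autC, inv_one, one_smul])))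
  mul_smul a b ξ := Subtype.ext (funext fun c => by
    show (ξ : C → ℂ) (h.autC (a * b)⁻¹ c) = (ξ : C → ℂ) (h.autC b⁻¹ (h.autC a⁻¹ c))
    exact congrArg (ξ : C → ℂ) (Subtype.ext (by
      rw [h.coe_autC, h.coe_autC, h.coe_autC, mul_inv_rev, mul_smul])))

/-- multiplicities and the invariant constituents -/
theorem exists_inv_constituents (h : Rel p A Q C) [Fintype C] {χ : K → ℂ} (hχ : IsCharacter K χ)
    (hi : IsInv A χ) :
    ∃ (m : IrrCharacter C → ℕ) (s : Finset (IrrCharacter C)),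
      (∀ ξ : IrrCharacter C, classInner (fun c : C => χ c) (ξ : C → ℂ) = (m ξ : ℂ)) ∧
      (∀ ξ, ξ ∈ s ↔ InvSub A C (ξ : C → ℂ)) ∧
      ∀ f : IrrCharacter C → ℕ, (∀ ξ η : IrrCharacter C, ∀ a : A,
          (∀ c, (η : C → ℂ) c = (ξ : C → ℂ) (h.autC a c)) → m η = m ξ → f η = f ξ) →
        ((∑ ξ, f ξ : ℕ) : ℤ) ≡ ((∑ ξ ∈ s, f ξ : ℕ) : ℤ) [ZMOD p] := by
  classical
  have hres : IsCharacter C (fun c : C => χ c) := isCharacter_comp C.subtype hχ
  choose m hm using fun ξ : IrrCharacter C => inner_char_irr hres ξ.2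
  letI := irrActC h
  have hsm : ∀ (a : A) (ξ : IrrCharacter C) (c : C),
      ((a • ξ : IrrCharacter C) : C → ℂ) c = (ξ : C → ℂ) (h.autC a⁻¹ c) := fun a ξ c => rfl
  have hminv : ∀ (a : A) (ξ : IrrCharacter C), m (a • ξ) = m ξ := by
    intro a ξ
    have h2 := hm (a • ξ)
    have h1 : classInner (fun c : C => χ c) ((a • ξ : IrrCharacter C) : C → ℂ) =
        classInner (fun c : C => χ c) (ξ : C → ℂ) := by
      rw [← classInner_mulEquiv (h.autC a) (fun c : C => χ c)]
      congr 1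
      · exact funext fun c => hi a c
      · refine funext fun c => ?_
        show (ξ : C → ℂ) (h.autC a⁻¹ (h.autC a c)) = _
        exact congrArg (ξ : C → ℂ) (Subtype.ext (inv_smul_smul a (c : K)))
    rw [h1, hm] at h2
    exact_mod_cast h2.symm
  refine ⟨m, Finset.univ.filter (fun ξ : IrrCharacter C => InvSub A C (ξ : C → ℂ)), hm,
    fun ξ => by simp, fun f hf => ?_⟩
  obtain ⟨s, hs, hc⟩ := nat_sum_fixed h.group f fun a ξ =>
    hf ξ (a • ξ) a⁻¹ (fun c => hsm a ξ c) (hminv a ξ)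
  convert hc using 3
  · ext ξ
    rw [hs, Finset.mem_filter]
    simp only [Finset.mem_univ, true_and]
    constructor
    · intro hξ a
      refine Subtype.ext (funext fun c => ?_)
      rw [hsm]
      exact hξ a⁻¹ c _ rfl
    · intro hξ a c c' hcc
      have := congrFun (congrArg Subtype.val (hξ a⁻¹)) c
      rw [hsm, inv_inv] at this
      rw [← this]
      exact congrArg (ξ : C → ℂ) (Subtype.ext hcc)

theorem inner_res_eq_sum [Fintype C] {φ ψ : C → ℂ} (hφ : IsCharacter C φ)
    {m m' : IrrCharacter C → ℕ} (hm : ∀ ξ : IrrCharacter C, classInner φ (ξ : C → ℂ) = (m ξ : ℂ))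
    (hm' : ∀ ξ : IrrCharacter C, classInner ψ (ξ : C → ℂ) = (m' ξ : ℂ)) :
    classInner φ ψ = ((∑ ξ, m ξ * m' ξ : ℕ) : ℂ) := by
  nth_rewrite 1 [classFun_eq_sum (classFun_of_char hφ)]
  rw [classInner_sum_left]
  push_cast
  refine Finset.sum_congr rfl fun ξ _ => ?_
  rw [classInner_smul_left, hm, ← classInner_conj ψ, hm', Complex.conj_natCast]

open Classical in
/-- the multiplicity vectors of invariant characters are orthonormal modulo `p` -/
theorem sum_inv_mult (h : Rel p A Q C) [Fintype C] {χ χ' : IrrCharacter K}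
    (hi : IsInv A (χ : K → ℂ)) (hi' : IsInv A (χ' : K → ℂ)) {m m' : IrrCharacter C → ℕ}
    (hm : ∀ ξ : IrrCharacter C, classInner (fun c : C => (χ : K → ℂ) c) (ξ : C → ℂ) = (m ξ : ℂ))
    (hm' : ∀ ξ : IrrCharacter C, classInner (fun c : C => (χ' : K → ℂ) c) (ξ : C → ℂ) = (m' ξ : ℂ)) :
    ((∑ ξ ∈ Finset.univ.filter (fun ξ : IrrCharacter C => InvSub A C (ξ : C → ℂ)),
        m ξ * m' ξ : ℕ) : ℤ) ≡ ((if χ = χ' then 1 else 0 : ℕ) : ℤ) [ZMOD p] := by
  obtain ⟨m₁, s, h1, hs, hsum⟩ :=
    exists_inv_constituents h (isCharacter_of_isIrr χ.2) hi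
  obtain ⟨m₂, -, h2, -, -⟩ :=
    exists_inv_constituents h (isCharacter_of_isIrr χ'.2) hi'
  obtain rfl : m₁ = m := funext fun ξ => by exact_mod_cast (h1 ξ).symm.trans (hm ξ)
  obtain rfl : m₂ = m' := funext fun ξ => by exact_mod_cast (h2 ξ).symm.trans (hm' ξ)
  have hn : classInner (χ : K → ℂ) (χ' : K → ℂ) = ((if χ = χ' then 1 else 0 : ℕ) : ℂ) := by
    rw [irr_inner χ.2 χ'.2]
    by_cases e : χ = χ'
    · rw [if_pos (congrArg Subtype.val e), if_pos e, Nat.cast_one]
    · rw [if_neg fun e' => e (Subtype.ext e'), if_neg e, Nat.cast_zero]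
  have hres : IsCharacter C (fun c : C => (χ : K → ℂ) c) :=
    isCharacter_comp C.subtype (isCharacter_of_isIrr χ.2)
  have h3 := inner_res_pcong h (isCharacter_of_isIrr χ.2) (isCharacter_of_isIrr χ'.2) hi hi' hn
    (inner_res_eq_sum hres hm hm')
  have h4 := hsum (fun ξ => m₁ ξ * m₂ ξ) fun ξ η a hη _ => ?_
  · convert (h3.trans h4).symm using 5
    ext ξ
    simp [hs]
  · have key : ∀ {ψ : K → ℂ}, IsInv A ψ → classInner (fun c : C => ψ c) (η : C → ℂ) =
        classInner (fun c : C => ψ c) (ξ : C → ℂ) := fun {ψ} hψ => by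
      rw [← classInner_mulEquiv (h.autC a) (fun c : C => ψ c) (ξ : C → ℂ)]
      congr 1
      · exact funext fun c => (hψ a c).symm
      · exact funext hη
    have e1 : m₁ η = m₁ ξ := by exact_mod_cast (hm η).symm.trans ((key hi).trans (hm ξ))
    have e2 : m₂ η = m₂ ξ := by exact_mod_cast (hm' η).symm.trans ((key hi').trans (hm' ξ))
    show m₁ η * m₂ η = m₁ ξ * m₂ ξ
    rw [e1, e2]

theorem occurs_exists (h : Rel p A Q C) [Fintype C] {χ : IrrCharacter K}
    (hi : IsInv A (χ : K → ℂ)) :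
    ∃ ξ : IrrCharacter C, InvSub A C (ξ : C → ℂ) ∧ Occurs p C (χ : K → ℂ) (ξ : C → ℂ) := by
  classical
  obtain ⟨m, -, hm, -, -⟩ := exists_inv_constituents h (isCharacter_of_isIrr χ.2) hi
  have h1 := sum_inv_mult h hi hi hm hm
  rw [if_pos rfl] at h1
  by_contra hno
  push Not at hno
  have h2 : ((∑ ξ ∈ Finset.univ.filter (fun ξ : IrrCharacter C => InvSub A C (ξ : C → ℂ)),
      m ξ * m ξ : ℕ) : ℤ) ≡ 0 [ZMOD p] := by
    refine Int.modEq_zero_iff_dvd.mpr (Int.natCast_dvd_natCast.mpr (Finset.dvd_sum fun ξ hξ => ?_))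
    by_cases hd : p ∣ m ξ
    · exact hd.mul_right _
    · exact absurd ⟨m ξ, hm ξ, hd⟩ (hno ξ (Finset.mem_filter.mp hξ).2)
  have h3 := h1.symm.trans h2
  rw [Int.modEq_zero_iff_dvd, Int.natCast_dvd_natCast] at h3
  exact (Fact.out : p.Prime).not_dvd_one h3

/-- every invariant character of `C` occurs in some invariant character of `K` -/
theorem occurs_surj (h : Rel p A Q C) [Fintype C] {ξ : IrrCharacter C}
    (hξ : InvSub A C (ξ : C → ℂ)) :
    ∃ χ : IrrCharacter K, IsInv A (χ : K → ℂ) ∧ Occurs p C (χ : K → ℂ) (ξ : C → ℂ) := by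
  classical
  haveI : Fintype Q := Fintype.ofFinite _
  set Φ := indFun C (ξ : C → ℂ) with hΦ
  have hξc := isCharacter_of_isIrr ξ.2
  have hΦc : IsCharacter K Φ := isCharacter_indFun C hξc
  have hres : IsCharacter C (fun c : C => Φ c) := isCharacter_comp C.subtype hΦc
  obtain ⟨n, hn⟩ := inner_char_irr hres ξ.2
  choose m hm using fun χ : IrrCharacter K => inner_char_irr hΦc χ.2
  have hmres : ∀ χ : IrrCharacter K,
      classInner (fun c : C => (χ : K → ℂ) c) (ξ : C → ℂ) = (m χ : ℂ) := fun χ => by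
    rw [← classInner_conj, ← frobenius C _ (classFun_of_irr χ.2), hm, Complex.conj_natCast]
  have hnsum : n = ∑ χ : IrrCharacter K, m χ * m χ := by
    have h1 : classInner (fun c : C => Φ c) (ξ : C → ℂ) = classInner Φ Φ := by
      rw [hΦ, frobenius' C _ (indFun_classFun C _)]
    have h2 : classInner Φ Φ = ((∑ χ, m χ * m χ : ℕ) : ℂ) := by
      nth_rewrite 1 [classFun_eq_sum (classFun_of_char hΦc)]
      rw [classInner_sum_left]
      push_cast
      refine Finset.sum_congr rfl fun χ _ => ?_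
      rw [classInner_smul_left, hm, ← classInner_conj Φ, hm, Complex.conj_natCast]
    rw [hn, h2] at h1
    exact_mod_cast h1
  -- the Mackey summands
  set W : K → ℂ := fun g => ∑ c : C,
    extendByZero C (ξ : C → ℂ) (g⁻¹ * (c : K) * g) * conj ((ξ : C → ℂ) c) with hW
  have hcard : (Nat.card C : ℂ) = (Nat.card Q : ℂ) * (Q.relIndex C : ℂ) := by
    rw [card_C h]; push_cast; ring
  have hq : (Nat.card Q : ℂ) ≠ 0 := natCard_ne_zero Q
  have hWsum : ∑ g : K, W g = (Nat.card C : ℂ) * (Nat.card C : ℂ) * n := by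
    rw [← hn, classInner_def, hW, Finset.sum_comm, hΦ]
    simp only [indFun_apply, Finset.mul_sum, Finset.sum_mul]
    refine Finset.sum_congr rfl fun c _ => Finset.sum_congr rfl fun g _ => ?_
    field_simp
  have hright : ∀ (g : K) (d : C), W (g * d) = W g := by
    intro g d
    simp only [hW]
    refine Finset.sum_congr rfl fun c _ => ?_
    congr 1
    have e : (g * (d : K))⁻¹ * (c : K) * (g * (d : K)) = (d : K)⁻¹ * (g⁻¹ * c * g) * d := by group
    rw [e]
    by_cases hx : g⁻¹ * (c : K) * g ∈ C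
    · rw [extendByZero_mem' C _ hx,
        extendByZero_mem' C _ (C.mul_mem (C.mul_mem (C.inv_mem d.2) hx) d.2)]
      have := classFun_of_irr ξ.2 ⟨_, hx⟩ d⁻¹
      exact (congrArg (ξ : C → ℂ) (Subtype.ext (by simp [mul_assoc]))).trans this
    · rw [extendByZero_not_mem C _ hx, extendByZero_not_mem C _ fun hc => hx (by
        have := C.mul_mem (C.mul_mem d.2 hc) (C.inv_mem d.2)
        simpa [mul_assoc] using this)]
  have hWinv : IsInv A W := by
    intro a g
    simp only [hW]
    refine (Fintype.sum_equiv (h.autC a).toEquiv _ _ fun c => ?_).symm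
    have e : (a • g)⁻¹ * ((h.autC a c : C) : K) * (a • g) = a • (g⁻¹ * (c : K) * g) := by
      simp [smul_mul', smul_inv']
    show _ = extendByZero C _ ((a • g)⁻¹ * ((h.autC a c : C) : K) * (a • g)) *
      conj ((ξ : C → ℂ) (h.autC a c))
    rw [e, hξ a c (h.autC a c) rfl]
    congr 1
    by_cases hx : g⁻¹ * (c : K) * g ∈ C
    · rw [extendByZero_mem' C _ hx, extendByZero_mem' C _ (h.smul_C a hx)]
      exact (hξ a ⟨_, hx⟩ _ rfl).symm
    · rw [extendByZero_not_mem C _ hx, extendByZero_not_mem C _ fun hc => hx (by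
        simpa using h.smul_C a⁻¹ hc)]
  have hWint : ∀ g : K, IsIntegral ℤ (W g / (Nat.card Q : ℂ)) := by
    intro g
    let H : Subgroup C := C.comap ((MulAut.conj g⁻¹).toMonoidHom.comp C.subtype)
    have hH : ∀ c : C, c ∈ H ↔ g⁻¹ * (c : K) * g ∈ C := fun c => by
      simp [H, Subgroup.mem_comap, MulAut.conj_apply]
    haveI : Fintype H := Fintype.ofFinite _
    let f : H →* C :=
      { toFun := fun x => ⟨g⁻¹ * ((x : C) : K) * g, (hH x).mp x.2⟩
        map_one' := Subtype.ext (by simp)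
        map_mul' := fun x y => Subtype.ext (by simp [mul_assoc]) }
    obtain ⟨k, hk⟩ := inner_char_char (isCharacter_comp f hξc) (isCharacter_comp H.subtype hξc)
    have e : W g = (Nat.card H : ℂ) * k := by
      rw [← hk, classInner_def, ← mul_assoc, mul_inv_cancel₀ (natCard_ne_zero H), one_mul, hW]
      show ∑ c : C, _ = _
      rw [sum_subgroup H (fun c : C =>
        extendByZero C (ξ : C → ℂ) (g⁻¹ * (c : K) * g) * conj ((ξ : C → ℂ) c)) fun c hc => by
        rw [extendByZero_not_mem C _ fun hm => hc ((hH c).mpr hm), zero_mul]]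
      exact Finset.sum_congr rfl fun x _ => by
        rw [extendByZero_mem' C _ ((hH x).mp x.2)]; rfl
    obtain ⟨r, hr⟩ : Nat.card Q ∣ Nat.card H := by
      refine Subgroup.card_dvd_of_injective
        ({ toFun := fun x => ⟨⟨(x : K), h.le x.2⟩, (hH _).mpr (h.le (by
            simpa using hN.conj_mem (x : K) x.2 g⁻¹))⟩
           map_one' := rfl
           map_mul' := fun _ _ => rfl } : Q →* H) fun x y hxy => ?_
      exact Subtype.ext (congrArg (fun z : H => ((z : C) : K)) hxy)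
    rw [e, hr, Nat.cast_mul, mul_assoc, mul_div_cancel_left₀ _ hq]
    exact (_root_.isIntegral_natCast r).mul (_root_.isIntegral_natCast k)
  have h1 := pcong_sums h (fun g => W g / (Nat.card Q : ℂ))
    (fun g m hm' => congrArg (· / (Nat.card Q : ℂ)) (hright g ⟨m, h.le hm'⟩))
    (fun a g => by simp only [hWinv a g]) hWint
  rw [← Finset.sum_div, ← Finset.sum_div, hWsum] at h1
  have hWone : W 1 = (Nat.card C : ℂ) := by
    have h' := irr_inner_self ξ.2
    rw [classInner_def, inv_mul_eq_one₀ (natCard_ne_zero C)] at h'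
    rw [h', hW]
    exact Finset.sum_congr rfl fun c _ => by
      rw [inv_one, one_mul, mul_one, extendByZero_mem]
  rw [Finset.sum_congr rfl fun c _ => show W ((c : C) : K) = W 1 by
      simpa using hright 1 c, Finset.sum_const, Finset.card_univ, Fintype.card_eq_nat_card,
    nsmul_eq_mul, hWone, hcard] at h1
  have h5 : ((Q.relIndex C * Q.relIndex C : ℕ) : ℤ) * (n : ℤ) ≡
      ((Q.relIndex C * Q.relIndex C : ℕ) : ℤ) * 1 [ZMOD p] := by
    apply PCong.int_modEq (Fact.out : p.Prime).ne_zero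
    push_cast
    convert h1 using 1 <;> field_simp
  have hn1 : (n : ℤ) ≡ 1 [ZMOD p] := modEq_cancel
    ((Fact.out : p.Prime).not_dvd_mul (not_dvd_relIndex h) (not_dvd_relIndex h)) h5
  -- only invariant characters count
  letI act : MulAction A (IrrCharacter K) :=
    { smul := fun a χ => ⟨fun g => (χ : K → ℂ) (a⁻¹ • g), irr_smul χ.2 a⁻¹⟩
      one_smul := fun χ => Subtype.ext (funext fun g => by
        show (χ : K → ℂ) ((1 : A)⁻¹ • g) = (χ : K → ℂ) g
        rw [inv_one, one_smul])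
      mul_smul := fun a b χ => Subtype.ext (funext fun g => by
        show (χ : K → ℂ) ((a * b)⁻¹ • g) = (χ : K → ℂ) (b⁻¹ • a⁻¹ • g)
        rw [mul_inv_rev, mul_smul]) }
  obtain ⟨s, hs, hsum⟩ := nat_sum_fixed h.group (fun χ : IrrCharacter K => m χ * m χ) fun a χ => by
    have h2 := hmres (a • χ)
    have h3 : classInner (fun c : C => ((a • χ : IrrCharacter K) : K → ℂ) c) (ξ : C → ℂ) =
        classInner (fun c : C => (χ : K → ℂ) c) (ξ : C → ℂ) := by
      rw [← classInner_mulEquiv (h.autC a) (fun c : C => ((a • χ : IrrCharacter K) : K → ℂ) c)]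
      congr 1
      · exact funext fun c => show (χ : K → ℂ) (a⁻¹ • a • (c : K)) = _ by rw [inv_smul_smul]
      · exact funext fun c => hξ a c _ rfl
    rw [h3, hmres] at h2
    have h4 : m χ = m (a • χ) := by exact_mod_cast h2
    show _ * _ = _ * _
    rw [← h4]
  by_contra hno
  push Not at hno
  rw [← hnsum] at hsum
  have h2 : ((∑ χ ∈ s, m χ * m χ : ℕ) : ℤ) ≡ 0 [ZMOD p] := by
    refine Int.modEq_zero_iff_dvd.mpr (Int.natCast_dvd_natCast.mpr (Finset.dvd_sum fun χ hχ => ?_))
    by_cases hd : p ∣ m χ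
    · exact hd.mul_right _
    · refine absurd ⟨m χ, hmres χ, hd⟩ (hno χ fun a g => ?_)
      have := congrFun (congrArg Subtype.val ((hs χ).mp hχ a⁻¹)) g
      change (χ : K → ℂ) ((a⁻¹)⁻¹ • g) = _ at this
      rwa [inv_inv] at this
  have h6 := hn1.symm.trans (hsum.trans h2)
  rw [Int.modEq_zero_iff_dvd] at h6
  exact (Fact.out : p.Prime).not_dvd_one (Int.natCast_dvd_natCast.mp (by simpa using h6))

end CfsgLib.RelGlau
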