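import Cfsg.Prelude.Def_Characters
import Mathlib.RepresentationTheory.Maschke
import Mathlib.RepresentationTheory.Semisimple
import Mathlib.LinearAlgebra.Eigenspace.Semisimple
import Mathlib.LinearAlgebra.Eigenspace.Minpoly
import Mathlib.LinearAlgebra.Determinant
import Mathlib.FieldTheory.Separable
import Mathlib.Analysis.Complex.Polynomial.Basic

/-! Complex representations of finite groups: eigenvalues, decomposition, characters. -/

set_option linter.unusedSectionVars false
set_option linter.style.haveILetI false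

namespace CfsgLib.Char

open Polynomial Module
open scoped ComplexConjugate

universe u v w

variable {G : Type u} [Group G] [Finite G]
  {V : Type v} [AddCommGroup V] [Module ℂ V] [FiniteDimensional ℂ V]

theorem invertibleCard (G : Type u) [Group G] [Finite G] :
    Nonempty (Invertible (Nat.card G : ℂ)) :=
  ⟨invertibleOfNonzero (by exact_mod_cast Nat.card_pos.ne')⟩

theorem natCard_ne_zero (G : Type u) [Group G] [Finite G] : (Nat.card G : ℂ) ≠ 0 := by
  exact_mod_cast Nat.card_pos.ne'

/-- each element acts diagonalisably, with roots of unity as eigenvalues -/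
theorem exists_eigenbasis (ρ : Representation ℂ G V) (g : G) :
    ∃ (b : Basis (Fin (finrank ℂ V)) ℂ V) (ζ : Fin (finrank ℂ V) → ℂ),
      (∀ i, ζ i ^ orderOf g = 1) ∧ ∀ i, ρ g (b i) = ζ i • b i := by
  classical
  set n := orderOf g with hn
  have hn0 : 0 < n := orderOf_pos g
  have hf : (ρ g) ^ n = 1 := by rw [← map_pow, hn, pow_orderOf_eq_one, map_one]
  have hss : Module.End.IsSemisimple (ρ g) := by
    refine Module.End.isSemisimple_of_squarefree_aeval_eq_zero (p := (X : ℂ[X]) ^ n - 1) ?_ ?_
    · have : ((X : ℂ[X]) ^ n - C 1).Separable :=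
        separable_X_pow_sub_C (1 : ℂ) (by exact_mod_cast hn0.ne') one_ne_zero
      simpa using this.squarefree
    · simp [hf]
  have htop := hss.iSup_eigenspace_eq_top
  let s : Set V := {v | ∃ μ : ℂ, μ ^ n = 1 ∧ ρ g v = μ • v}
  have hs : ⊤ ≤ Submodule.span ℂ s := by
    rw [← htop, iSup_le_iff]
    intro μ v hv
    rcases eq_or_ne v 0 with rfl | hv0
    · exact zero_mem _
    refine Submodule.subset_span ⟨μ, ?_, Module.End.mem_eigenspace_iff.mp hv⟩
    have h1 : ((ρ g) ^ n) v = μ ^ n • v := Module.End.HasEigenvector.pow_apply ⟨hv, hv0⟩ n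
    rw [hf] at h1
    have h2 : (μ ^ n - 1) • v = 0 := by
      rw [sub_smul, one_smul, ← h1]
      simp
    rcases smul_eq_zero.mp h2 with h3 | h3
    · exact sub_eq_zero.mp h3
    · exact absurd h3 hv0
  let b := Basis.ofSpan hs
  have hb : ∀ i, b i ∈ s := fun i => Basis.ofSpan_subset hs (Set.mem_range_self i)
  haveI : Fintype _ := FiniteDimensional.fintypeBasisIndex b
  let e := Fintype.equivFinOfCardEq (finrank_eq_card_basis b).symm
  choose μ hμ hμv using hb
  exact ⟨b.reindex e, fun i => μ (e.symm i), fun i => hμ _, fun i => by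
    simpa using hμv (e.symm i)⟩

theorem eigen_pow {ρ : Representation ℂ G V} {g : G} {ι : Type*} {b : Basis ι ℂ V} {ζ : ι → ℂ}
    (h : ∀ i, ρ g (b i) = ζ i • b i) (k : ℕ) (i : ι) : ρ (g ^ k) (b i) = ζ i ^ k • b i := by
  induction k with
  | zero => simp
  | succ k ih => rw [pow_succ, map_mul, Module.End.mul_apply, h, map_smul, ih, smul_smul, pow_succ']

theorem trace_of_eigen {ι : Type*} [Fintype ι] {b : Basis ι ℂ V} {f : V →ₗ[ℂ] V} {ζ : ι → ℂ}
    (h : ∀ i, f (b i) = ζ i • b i) : LinearMap.trace ℂ V f = ∑ i, ζ i := by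
  classical
  rw [LinearMap.trace_eq_matrix_trace ℂ b, Matrix.trace]
  refine Finset.sum_congr rfl fun i _ => ?_
  simp [LinearMap.toMatrix_apply, h i]

theorem det_of_eigen {ι : Type*} [Fintype ι] {b : Basis ι ℂ V} {f : V →ₗ[ℂ] V} {ζ : ι → ℂ}
    (h : ∀ i, f (b i) = ζ i • b i) : LinearMap.det f = ∏ i, ζ i := by
  classical
  rw [← LinearMap.det_toMatrix b]
  have : LinearMap.toMatrix b b f = Matrix.diagonal ζ := by
    ext i j
    simp only [LinearMap.toMatrix_apply, h j, map_smul, Basis.repr_self, Finsupp.smul_apply,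
      smul_eq_mul, Matrix.diagonal_apply]
    by_cases hij : i = j
    · subst hij; simp
    · simp [hij, Finsupp.single_eq_of_ne hij]
  rw [this, Matrix.det_diagonal]

/-- eigenvalue description of character values on the powers of `g` -/
theorem exists_roots (ρ : Representation ℂ G V) (g : G) :
    ∃ ζ : Fin (finrank ℂ V) → ℂ, (∀ i, ζ i ^ orderOf g = 1) ∧
      (∀ k : ℕ, ρ.character (g ^ k) = ∑ i, ζ i ^ k) ∧
      (ρ.character g = ∑ i, ζ i) ∧ LinearMap.det (ρ g) = ∏ i, ζ i := by
  obtain ⟨b, ζ, hζ, hb⟩ := exists_eigenbasis ρ g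
  exact ⟨ζ, hζ, fun k => trace_of_eigen (eigen_pow hb k), trace_of_eigen hb, det_of_eigen hb⟩

theorem norm_root {z : ℂ} {n : ℕ} (hn : n ≠ 0) (h : z ^ n = 1) : ‖z‖ = 1 :=
  Complex.norm_eq_one_of_pow_eq_one h hn

theorem conj_root {z : ℂ} {n : ℕ} (hn : n ≠ 0) (h : z ^ n = 1) : conj z = z⁻¹ :=
  (Complex.inv_eq_conj (norm_root hn h)).symm

theorem char_inv (ρ : Representation ℂ G V) (g : G) : ρ.character g⁻¹ = conj (ρ.character g) := by
  obtain ⟨b, ζ, hζ, hb⟩ := exists_eigenbasis ρ g
  have hinv : ∀ i, ρ g⁻¹ (b i) = (ζ i)⁻¹ • b i := by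
    intro i
    have hne : ζ i ≠ 0 := by
      intro h0
      have := hζ i
      rw [h0, zero_pow (orderOf_pos g).ne'] at this
      exact zero_ne_one this
    have : ρ g⁻¹ (ρ g (b i)) = b i := ρ.inv_self_apply g (b i)
    rw [hb i, map_smul] at this
    rw [eq_inv_smul_iff₀ hne]
    exact this
  rw [Representation.character, Representation.character, trace_of_eigen hinv, trace_of_eigen hb,
    map_sum]
  exact Finset.sum_congr rfl fun i _ => (conj_root (orderOf_pos g).ne' (hζ i)).symm

/-- Maschke: invariant complements -/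
theorem exists_compl (ρ : Representation ℂ G V) (W : Subrepresentation ρ) :
    ∃ W' : Subrepresentation ρ, IsCompl W W' := by
  haveI : NeZero (Nat.card G : ℂ) := ⟨natCard_ne_zero G⟩
  haveI : Representation.IsSemisimpleRepresentation ρ :=
    (Representation.isSemisimpleRepresentation_iff_isSemisimpleModule_asModule ρ).mpr inferInstance
  exact ComplementedLattice.exists_isCompl W

theorem isCompl_toSubmodule {ρ : Representation ℂ G V} {W W' : Subrepresentation ρ}
    (h : IsCompl W W') : IsCompl W.toSubmodule W'.toSubmodule := by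
  constructor
  · rw [disjoint_iff, ← Subrepresentation.toSubmodule_inf, disjoint_iff.mp h.1]
    rfl
  · rw [codisjoint_iff, ← Subrepresentation.toSubmodule_sup, codisjoint_iff.mp h.2]
    rfl

theorem char_of_isCompl {ρ : Representation ℂ G V} {W W' : Subrepresentation ρ}
    (h : IsCompl W W') (g : G) :
    ρ.character g = W.toRepresentation.character g + W'.toRepresentation.character g := by
  let e := Submodule.prodEquivOfIsCompl _ _ (isCompl_toSubmodule h)
  have : ρ g = e.conj (LinearMap.prodMap (W.toRepresentation g) (W'.toRepresentation g)) := by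
    ext v
    obtain ⟨x, rfl⟩ := e.surjective v
    simp [LinearEquiv.conj_apply, e, Submodule.coe_prodEquivOfIsCompl',
      Subrepresentation.toRepresentation]
  unfold Representation.character
  rw [this, LinearMap.trace_conj', LinearMap.trace_prodMap']

theorem exists_split_of_not_irreducible (ρ : Representation ℂ G V) (hV : 0 < finrank ℂ V)
    (h : ¬ ρ.IsIrreducible) :
    ∃ W W' : Subrepresentation ρ, IsCompl W W' ∧
      finrank ℂ W.toSubmodule < finrank ℂ V ∧ finrank ℂ W'.toSubmodule < finrank ℂ V := by
  haveI : Nontrivial V := Module.finrank_pos_iff.mp hV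
  have hnt : Nontrivial (Subrepresentation ρ) := ⟨⊥, ⊤, fun hh => by
    have := congrArg Subrepresentation.toSubmodule hh
    exact bot_ne_top this⟩
  have : ∃ W : Subrepresentation ρ, W ≠ ⊥ ∧ W ≠ ⊤ := by
    by_contra hc
    push Not at hc
    exact h { eq_bot_or_eq_top := fun W => or_iff_not_imp_left.mpr (hc W) }
  obtain ⟨W, hb, ht⟩ := this
  obtain ⟨W', hW'⟩ := exists_compl ρ W
  have hc := isCompl_toSubmodule hW'
  have hsum := Submodule.finrank_add_eq_of_isCompl hc
  have h1 : W.toSubmodule ≠ ⊥ := fun e => hb (Subrepresentation.toSubmodule_injective e)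
  have h2 : W.toSubmodule ≠ ⊤ := fun e => ht (Subrepresentation.toSubmodule_injective e)
  have h3 : 0 < finrank ℂ W.toSubmodule := by
    rwa [Nat.pos_iff_ne_zero, Ne, Submodule.finrank_eq_zero]
  have h4 : finrank ℂ W.toSubmodule < finrank ℂ V := Submodule.finrank_lt h2
  exact ⟨W, W', hW', h4, by omega⟩

theorem finrank_pos_of_irreducible (ρ : Representation ℂ G V) [ρ.IsIrreducible] :
    0 < finrank ℂ V := by
  by_contra h
  have h0 : finrank ℂ V = 0 := by omega
  haveI : Subsingleton V := Module.finrank_zero_iff.mp h0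
  have hne : (⊥ : Subrepresentation ρ) ≠ ⊤ := bot_ne_top
  exact hne (Subrepresentation.toSubmodule_injective (Subsingleton.elim _ _))

theorem char_add_prod {W : Type w} [AddCommGroup W] [Module ℂ W] [FiniteDimensional ℂ W]
    (ρ : Representation ℂ G V) (σ : Representation ℂ G W) :
    (ρ.prod σ).character = ρ.character + σ.character := by
  ext g
  exact LinearMap.trace_prodMap' (ρ g) (σ g)

/-- transport to a coordinate space -/
noncomputable def finRep (ρ : Representation ℂ G V) :
    Representation ℂ G (Fin (finrank ℂ V) → ℂ) where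
  toFun g := (Module.finBasis ℂ V).equivFun.conj (ρ g)
  map_one' := by simp [Module.End.one_eq_id]
  map_mul' a b := by ext v; simp [LinearEquiv.conj_apply, Module.End.mul_apply]

theorem finRep_apply (ρ : Representation ℂ G V) (g : G) (v : Fin (finrank ℂ V) → ℂ) :
    finRep ρ g v = (Module.finBasis ℂ V).equivFun (ρ g ((Module.finBasis ℂ V).equivFun.symm v)) :=
  rfl

theorem finRep_char (ρ : Representation ℂ G V) : (finRep ρ).character = ρ.character := by
  ext g
  exact LinearMap.trace_conj' (ρ g) _

/-- irreducibility transports along an equivariant linear equivalence -/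
theorem irreducible_of_equiv {H : Type*} [Monoid H] {A : Type*} [AddCommGroup A] [Module ℂ A]
    {B : Type*} [AddCommGroup B] [Module ℂ B]
    {ρ : Representation ℂ H A} {σ : Representation ℂ H B} (e : A ≃ₗ[ℂ] B)
    (he : ∀ h v, e (ρ h v) = σ h (e v)) (hρ : ρ.IsIrreducible) : σ.IsIrreducible := by
  let iso : Subrepresentation ρ ≃o Subrepresentation σ :=
    { toFun := fun W =>
        ⟨W.toSubmodule.map e.toLinearMap, fun h v hv => by
          obtain ⟨w, hw, rfl⟩ := Submodule.mem_map.mp hv
          exact Submodule.mem_map.mpr ⟨ρ h w, W.apply_mem_toSubmodule h hw, he h w⟩⟩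
      invFun := fun W =>
        ⟨W.toSubmodule.comap e.toLinearMap, fun h v hv => by
          simp only [Submodule.mem_comap, LinearEquiv.coe_coe, he] at hv ⊢
          exact W.apply_mem_toSubmodule h hv⟩
      left_inv := fun W => Subrepresentation.toSubmodule_injective
        (Submodule.comap_map_eq_of_injective e.injective _)
      right_inv := fun W => Subrepresentation.toSubmodule_injective
        (Submodule.map_comap_eq_of_surjective e.surjective _)
      map_rel_iff' := fun {W W'} => Submodule.map_le_map_iff_of_injective e.injective _ _ }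
  exact iso.isSimpleOrder_iff.mp hρ

theorem finRep_irreducible (ρ : Representation ℂ G V) (h : ρ.IsIrreducible) :
    (finRep ρ).IsIrreducible :=
  irreducible_of_equiv (Module.finBasis ℂ V).equivFun
    (fun g v => by rw [finRep_apply, LinearEquiv.symm_apply_apply]) h

theorem isCharacter_of_rep (ρ : Representation ℂ G V) : Cfsg.IsCharacter G ρ.character :=
  ⟨_, finRep ρ, finRep_char ρ⟩

theorem isIrr_of_rep (ρ : Representation ℂ G V) (h : ρ.IsIrreducible) :
    Cfsg.IsIrrCharacter G ρ.character :=
  ⟨_, finRep ρ, finRep_irreducible ρ h, finRep_char ρ⟩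

end CfsgLib.Char
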