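import Cfsg.Agent.S2299
import Cfsg.Agent.S2300
import Cfsg.Agent.S2434
import Cfsg.Agent.Misc.SLTwoEven
import Cfsg.Agent.Misc.SLTwoSmall
import Cfsg.Agent.Misc.SLTwoCount
import Cfsg.Agent.Misc.PrincipalSeries
import Cfsg.Prelude.Def_DegreeGraph

/-!
Degrees of the irreducible characters of SL(2, q) and PSL(2, q).
-/

set_option autoImplicit false
set_option linter.unusedSectionVars false
set_option linter.style.haveILetI false

namespace CfsgLib.Char.SL2Deg

open Cfsg CfsgLib.Char CfsgLib.Misc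

variable {F : Type*} [Field F] [Fintype F]

local notation "SL2" => Matrix.SpecialLinearGroup (Fin 2) F
local notation "PSL2" => Matrix.ProjectiveSpecialLinearGroup (Fin 2) F

theorem indFun_central {G : Type*} [Group G] [Fintype G] (H : Subgroup G) (θ : H → ℂ) {z : G}
    (hz : z ∈ H) (hc : ∀ k, z * k = k * z) : indFun H θ z = (H.index : ℂ) * θ ⟨z, hz⟩ := by
  rw [indFun_apply, Finset.sum_congr rfl (g := fun _ => θ ⟨z, hz⟩) fun x _ => by
      rw [show x⁻¹ * z * x = z by rw [mul_assoc, hc, inv_mul_cancel_left], extendByZero_mem' H θ hz],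
    Finset.sum_const, nsmul_eq_mul, Finset.card_univ, ← Nat.card_eq_fintype_card,
    ← H.card_mul_index]
  push_cast
  field_simp [natCard_ne_zero H]

/-- A character trivial at `-1` descends to the projective group. -/
theorem descend {χ : SL2 → ℂ} (hχ : IsIrrCharacter SL2 χ) (h : χ (-1) = χ 1) :
    charDegree χ ∈ charDegrees PSL2 := by
  classical
  haveI := Fintype.ofFinite SL2
  haveI := Fintype.ofFinite PSL2
  obtain ⟨χ', h1, h2⟩ := irr_descend (QuotientGroup.mk' (Subgroup.center SL2))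
    (QuotientGroup.mk'_surjective _) hχ fun k hk => by
      rw [QuotientGroup.mk'_apply, QuotientGroup.eq_one_iff, SLTwoDiscrete.mem_center_iff] at hk
      rcases hk with rfl | rfl
      · rfl
      · exact h
  subst h2
  exact ⟨⟨χ', h1⟩, rfl⟩

theorem psl_subset {d : ℕ} (h : d ∈ charDegrees PSL2) : d ∈ charDegrees SL2 := by
  classical
  haveI := Fintype.ofFinite SL2
  haveI := Fintype.ofFinite PSL2
  obtain ⟨χ, rfl⟩ := h
  exact ⟨⟨_, irr_comp (QuotientGroup.mk' (Subgroup.center SL2)) (QuotientGroup.mk'_surjective _) χ.2⟩,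
    rfl⟩

theorem sl_cases {d : ℕ} (h : d ∈ charDegrees SL2) :
    d = 1 ∨ d = Fintype.card F ∨ d = Fintype.card F + 1 ∨ d = Fintype.card F - 1 ∨
      (Odd (Fintype.card F) ∧ (2 * d = Fintype.card F + 1 ∨ 2 * d = Fintype.card F - 1)) := by
  classical
  obtain ⟨χ, rfl⟩ := h
  set q := Fintype.card F with hq
  have hq1 : 1 < q := Fintype.one_lt_card
  have hd := irr_one_eq χ.2
  rcases ((Nat.even_or_odd q).symm) with hodd | heven
  · obtain ⟨k, hk⟩ := id hodd
    rcases (Cfsg.Agent.S2299.result (F := F) hodd).1 _ χ.2 with e | e | e | e | e | e <;> rw [hd] at e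
    · exact Or.inl (by exact_mod_cast e)
    · exact Or.inr (Or.inl (by exact_mod_cast e))
    · exact Or.inr (Or.inr (Or.inl (by exact_mod_cast e)))
    · refine Or.inr (Or.inr (Or.inr (Or.inl ?_)))
      rw [← Nat.cast_inj (R := ℂ), e, Nat.cast_sub hq1.le, Nat.cast_one]
    · refine Or.inr (Or.inr (Or.inr (Or.inr ⟨hodd, Or.inl ?_⟩)))
      have := Nat.cast_inj.1 e
      omega
    · refine Or.inr (Or.inr (Or.inr (Or.inr ⟨hodd, Or.inr ?_⟩)))
      have := Nat.cast_inj.1 e
      omega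
  · obtain ⟨p, hchar⟩ := CharP.exists F
    haveI := hchar
    obtain ⟨n, hp, hn⟩ := FiniteField.card F p
    have h2 : p = 2 := by
      have h2d : 2 ∣ q := heven.two_dvd
      rw [hq, hn] at h2d
      exact ((Nat.prime_dvd_prime_iff_eq Nat.prime_two hp).1 (Nat.prime_two.dvd_of_dvd_pow h2d)).symm
    subst h2
    rcases (Cfsg.Agent.S2300.result (F := F)).1 _ χ.2 with e | e | e | e <;> rw [hd] at e
    · exact Or.inl (by exact_mod_cast e)
    · refine Or.inr (Or.inr (Or.inr (Or.inl ?_)))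
      rw [← Nat.cast_inj (R := ℂ), e, Nat.cast_sub hq1.le, Nat.cast_one]
    · exact Or.inr (Or.inl (by exact_mod_cast e))
    · exact Or.inr (Or.inr (Or.inl (by exact_mod_cast e)))

theorem even_mem [CharP F 2] (h4 : 4 ≤ Fintype.card F) :
    Fintype.card F ∈ charDegrees SL2 ∧ Fintype.card F + 1 ∈ charDegrees SL2 ∧
      Fintype.card F - 1 ∈ charDegrees SL2 := by
  obtain ⟨-, hcount⟩ := Cfsg.Agent.S2300.result (F := F)
  obtain ⟨-, hq, hp, hm⟩ := hcount h4
  have key : ∀ {z : ℂ} {n : ℕ},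
      0 < Nat.card {χ : IrrCharacter SL2 // (χ : SL2 → ℂ) 1 = z} → z = (n : ℂ) → n ∈ charDegrees SL2 := by
    intro z n h0 hz
    obtain ⟨⟨χ, hχ⟩⟩ := (Nat.card_pos_iff.1 h0).1
    exact ⟨χ, charDegree_eq (hχ.trans hz)⟩
  exact ⟨key (by rw [hq]; omega) rfl, key (by rw [hp]; omega) (by push_cast; rfl),
    key (by rw [hm]; omega) (by rw [Nat.cast_sub (by omega), Nat.cast_one])⟩

theorem psS_neg_one [DecidableEq F] (α : MulChar F ℂ) (hα : α (-1) = 1) :
    PrincipalSeries.psS α (-1 : SL2) = PrincipalSeries.psS α 1 := by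
  have hb : (-1 : SL2) ∈ BorelInduced.Bor
      (Matrix.SpecialLinearGroup.toGL : SL2 →* Matrix.GeneralLinearGroup (Fin 2) F) :=
    (BorelInduced.mem_Bor _).2 (by simp [BorelInduced.mat])
  rw [PrincipalSeries.psS, indFun_one]
  rw [indFun_central _ _ hb SLTwoDiscrete.neg_one_central]
  congr 1
  simp [BorelInduced.th, BorelInduced.mat, hα]

theorem psl_q (h4 : 4 ≤ Fintype.card F) : Fintype.card F ∈ charDegrees PSL2 := by
  classical
  have hirr := SLTwoCount.irr_steinberg (F := F)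
  have hone := SLTwoClassify.steinberg_one (F := F)
  rw [← charDegree_eq hone]
  refine descend hirr ?_
  rw [Pi.sub_apply, Pi.sub_apply, psS_neg_one (1 : MulChar F ℂ)
    (MulChar.one_apply (isUnit_iff_ne_zero.2 (neg_ne_zero.2 one_ne_zero)))]

theorem exists_ell : ∃ g : SL2, SLTwoTorus.Ell g := by
  classical
  obtain ⟨t, ht⟩ : ∃ t : F, ∀ a : Fˣ, (a : F) + ((a⁻¹ : Fˣ) : F) ≠ t := by
    by_contra h
    push Not at h
    have h1 := Fintype.card_le_of_surjective (fun a : Fˣ => (a : F) + ((a⁻¹ : Fˣ) : F)) h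
    rw [Fintype.card_units] at h1
    have := Fintype.one_lt_card (α := F)
    omega
  refine ⟨⟨!![t, -1; 1, 0], by simp [Matrix.det_fin_two]⟩, SLTwoTorus.ell_of_no_root fun a h => ?_⟩
  have htr : PSLTwoProducts.tr (⟨!![t, -1; 1, 0], by simp [Matrix.det_fin_two]⟩ : SL2) = t := by
    simp [PSLTwoProducts.tr, Dickson.tr, Matrix.trace_fin_two]
  rw [htr] at h
  have ha : a ≠ 0 := fun e => by rw [e] at h; simp at h
  refine ht (Units.mk0 a ha) ?_
  rw [Units.val_inv_eq_inv_val, Units.val_mk0]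
  field_simp
  linear_combination h

theorem psl_qm (hodd : Odd (Fintype.card F)) (h5 : 5 ≤ Fintype.card F) :
    Fintype.card F - 1 ∈ charDegrees PSL2 := by
  classical
  obtain ⟨g, hg⟩ := exists_ell (F := F)
  have hT := SLTwoSmall.exists_torus hodd hg
  set C := Subgroup.centralizer ({g} : Set SL2)
  haveI := hT.cyclic
  haveI := Fintype.ofFinite C
  obtain ⟨c, hc⟩ := IsCyclic.exists_generator (α := C)
  have hn : Fintype.card F + 1 ≠ 0 := by omega
  obtain ⟨ζ, hζ⟩ : ∃ ζ : ℂ, IsPrimitiveRoot ζ (Fintype.card F + 1) :=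
    ⟨_, Complex.isPrimitiveRoot_exp _ hn⟩
  set u : ℂˣ := (hζ.isUnit hn).unit with hu
  have huo : orderOf u = Fintype.card F + 1 := by
    rw [← orderOf_units, hu, IsUnit.unit_spec, ← hζ.eq_orderOf]
  let lam : C →* ℂˣ := monoidHomOfForallMemZpowers hc (g' := u) (by
    rw [huo, orderOf_eq_card_of_forall_mem_zpowers hc, hT.card])
  obtain ⟨χ, hχ, hd, -, hz, -, -⟩ := (Cfsg.Agent.S2434.result hodd C hT.cyclic hT.card).1 (lam ^ 2) ⟨c, by
    rw [MonoidHom.pow_apply, monoidHomOfForallMemZpowers_apply_gen, ← pow_mul]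
    intro h
    have h2 := Nat.le_of_dvd (by norm_num) (orderOf_dvd_of_pow_eq_one h)
    omega⟩
  have hzc : ((hT.z : C) : SL2) ∈ Subgroup.center SL2 :=
    (SLTwoDiscrete.mem_center_iff _).2 (Or.inr rfl)
  have h1 := hz hT.z hzc 1
  rw [mul_one] at h1
  have h2 : ((lam ^ 2) hT.z : ℂˣ) = 1 := by
    rw [MonoidHom.pow_apply, ← map_pow, pow_two,
      show hT.z * hT.z = 1 from Subtype.ext SLTwoDiscrete.neg_one_sq, map_one]
  rw [h2, Units.val_one, one_mul] at h1
  have h3 := descend hχ h1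
  rwa [charDegree_eq (n := Fintype.card F - 1)
    (hd.trans (by rw [Nat.cast_sub (by omega), Nat.cast_one]))] at h3

theorem psl_qp (hodd : Odd (Fintype.card F)) (h7 : 5 < Fintype.card F) :
    Fintype.card F + 1 ∈ charDegrees PSL2 := by
  classical
  have hn : Fintype.card F - 1 ≠ 0 := by omega
  obtain ⟨β, hβ⟩ := MulChar.exists_mulChar_orderOf F (dvd_refl (Fintype.card F - 1))
    (Complex.isPrimitiveRoot_exp _ hn)
  have hα : (β ^ 2) ^ 2 ≠ 1 := by
    rw [← pow_mul]
    intro h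
    have h2 := Nat.le_of_dvd (by norm_num) (hβ ▸ orderOf_dvd_of_pow_eq_one h)
    obtain ⟨k, hk⟩ := hodd
    omega
  have hirr := (PrincipalSeries.irr_S_iff (β ^ 2)).2 hα
  have hone : PrincipalSeries.psS (β ^ 2) 1 = ((Fintype.card F + 1 : ℕ) : ℂ) := by
    rw [SLTwoClassify.psS_one]
    push_cast
    ring
  rw [← charDegree_eq hone]
  refine descend hirr ?_
  refine psS_neg_one (β ^ 2) ?_
  rw [MulChar.pow_apply' _ two_ne_zero, ← map_pow, neg_one_sq, map_one]

theorem sl_of_psl {d : ℕ} (h : d ∈ charDegrees PSL2) : d ∈ charDegrees SL2 := psl_subset h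

theorem degrees_of_iso {S G : Type*} [Group S] [Finite S] [Group G] [Finite G] (e : S ≃* G) :
    charDegrees S = charDegrees G := by
  classical
  haveI := Fintype.ofFinite S
  haveI := Fintype.ofFinite G
  ext d
  constructor
  · rintro ⟨χ, rfl⟩
    refine ⟨⟨_, irr_mulEquiv e.symm χ.2⟩, ?_⟩
    show charDegree ((χ : S → ℂ) ∘ e.symm) = _
    exact charDegree_eq (by rw [Function.comp_apply, map_one, irr_one_eq χ.2])
  · rintro ⟨χ, rfl⟩
    refine ⟨⟨_, irr_mulEquiv e χ.2⟩, ?_⟩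
    refine charDegree_eq ?_
    show ((χ : G → ℂ) ∘ e) 1 = _
    rw [Function.comp_apply, map_one, irr_one_eq χ.2]

/-- The degrees of `S` when `S` is `SL(2, q)` or `PSL(2, q)`. -/
theorem degrees (h4 : 4 ≤ Fintype.card F) (h5 : Odd (Fintype.card F) → 5 < Fintype.card F)
    {S : Type*} [Group S] [Finite S] (hS : Nonempty (S ≃* PSL2) ∨ Nonempty (S ≃* SL2)) :
    (∀ d ∈ charDegrees S, d = 1 ∨ d = Fintype.card F ∨ d = Fintype.card F + 1 ∨
      d = Fintype.card F - 1 ∨
      (Odd (Fintype.card F) ∧ (2 * d = Fintype.card F + 1 ∨ 2 * d = Fintype.card F - 1))) ∧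
    Fintype.card F ∈ charDegrees S ∧ Fintype.card F + 1 ∈ charDegrees S ∧
      Fintype.card F - 1 ∈ charDegrees S := by
  classical
  have hmem : Fintype.card F ∈ charDegrees PSL2 ∧ Fintype.card F + 1 ∈ charDegrees PSL2 ∧
      Fintype.card F - 1 ∈ charDegrees PSL2 := by
    rcases (Nat.even_or_odd (Fintype.card F)).symm with hodd | heven
    · exact ⟨psl_q h4, psl_qp hodd (h5 hodd), psl_qm hodd (h5 hodd).le⟩
    · obtain ⟨p, hchar⟩ := CharP.exists F
      haveI := hchar
      obtain ⟨n, hp, hn⟩ := FiniteField.card F p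
      have h2 : p = 2 := by
        have h2d : 2 ∣ Fintype.card F := heven.two_dvd
        rw [hn] at h2d
        exact ((Nat.prime_dvd_prime_iff_eq Nat.prime_two hp).1 (Nat.prime_two.dvd_of_dvd_pow h2d)).symm
      subst h2
      rw [← degrees_of_iso (SLTwoEven.toPSL F)]
      exact even_mem h4
  rcases hS with ⟨⟨e⟩⟩ | ⟨⟨e⟩⟩ <;> rw [degrees_of_iso e]
  · exact ⟨fun d hd => sl_cases (psl_subset hd), hmem⟩
  · exact ⟨fun d hd => sl_cases hd, psl_subset hmem.1, psl_subset hmem.2.1, psl_subset hmem.2.2⟩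

/-- Exactly one character of `PSL(2, q)` has degree divisible by the characteristic. -/
theorem unique_steinberg (p : ℕ) [Fact p.Prime] [CharP F p] (h4 : 4 ≤ Fintype.card F) :
    Nat.card {χ : IrrCharacter PSL2 // p ∣ charDegree (χ : PSL2 → ℂ)} = 1 ∧
      ∀ χ : IrrCharacter PSL2, p ∣ charDegree (χ : PSL2 → ℂ) →
        charDegree (χ : PSL2 → ℂ) = Fintype.card F := by
  classical
  haveI := Fintype.ofFinite SL2
  haveI := Fintype.ofFinite PSL2
  obtain ⟨n, hp, hn⟩ := FiniteField.card F p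
  have hpq : p ∣ Fintype.card F := hn ▸ dvd_pow_self p n.2.ne'
  have hdeg : ∀ χ : IrrCharacter PSL2, p ∣ charDegree (χ : PSL2 → ℂ) →
      charDegree (χ : PSL2 → ℂ) = Fintype.card F := by
    intro χ hdvd
    have h1 := sl_cases (psl_subset (F := F) (⟨χ, rfl⟩ : charDegree (χ : PSL2 → ℂ) ∈ charDegrees PSL2))
    have hno : ∀ m, p ∣ m → m = Fintype.card F + 1 ∨ m + 1 = Fintype.card F → False := by
      rintro m hm (rfl | h)
      · exact hp.not_dvd_one ((Nat.dvd_add_right hpq).1 hm)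
      · exact hp.not_dvd_one ((Nat.dvd_add_right hm).1 (h ▸ hpq))
    rcases h1 with e | e | e | e | ⟨-, e | e⟩
    · exact absurd (e ▸ hdvd) hp.not_dvd_one
    · exact e
    · exact (hno _ hdvd (Or.inl e)).elim
    · exact (hno _ hdvd (Or.inr (by omega))).elim
    · exact (hno _ (hdvd.mul_left 2) (Or.inl e)).elim
    · exact (hno _ (hdvd.mul_left 2) (Or.inr (by omega))).elim
  refine ⟨Nat.card_eq_one_iff_unique.2 ⟨⟨fun a b => ?_⟩, ?_⟩, hdeg⟩
  · have hc := SLTwoCount.card_q (F := F) h4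
    rw [Nat.card_eq_one_iff_unique] at hc
    have hinj := hc.1
    let lift : {χ : IrrCharacter PSL2 // p ∣ charDegree (χ : PSL2 → ℂ)} →
        {χ : IrrCharacter SL2 // (χ : SL2 → ℂ) 1 = (Fintype.card F : ℂ)} := fun a =>
      ⟨⟨(a.1 : PSL2 → ℂ) ∘ QuotientGroup.mk' (Subgroup.center SL2),
        irr_comp (QuotientGroup.mk' (Subgroup.center SL2)) (QuotientGroup.mk'_surjective _) a.1.2⟩,
        by show ((a.1 : PSL2 → ℂ) ∘ QuotientGroup.mk' (Subgroup.center SL2)) 1 = _
           rw [Function.comp_apply, map_one, irr_one_eq a.1.2, hdeg _ a.2]⟩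
    have h := congrArg (fun z => ((z.1 : IrrCharacter SL2) : SL2 → ℂ))
      (@Subsingleton.elim _ hinj (lift a) (lift b))
    refine Subtype.ext (Subtype.ext (funext fun x => ?_))
    obtain ⟨g, rfl⟩ := QuotientGroup.mk'_surjective (Subgroup.center SL2) x
    exact congrFun h g
  · obtain ⟨χ, hχ⟩ := psl_q (F := F) h4
    exact ⟨⟨χ, hχ ▸ hpq⟩⟩

end CfsgLib.Char.SL2Deg
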