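import Cfsg.Agent.S4495
import Cfsg.Agent.S4496
import Cfsg.Agent.Solv.Basic
import Mathlib.GroupTheory.Sylow
import Mathlib.GroupTheory.SpecificGroups.Cyclic

/-! Groups with a self-centralizing element of prime order: basic numerology. -/

set_option autoImplicit false
set_option linter.style.haveILetI false
set_option linter.unusedSectionVars false

namespace CfsgLib.Char.SelfCentPrime

variable {G : Type*} [Group G] [Finite G] {p : ℕ} (hp : p.Prime) {x : G} (hx : orderOf x = p)
  (hC : Subgroup.centralizer ({x} : Set G) = Subgroup.zpowers x)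

include hp hx in
theorem ne_one : x ≠ 1 := fun e => hp.one_lt.ne (by rw [← hx, e, orderOf_one])

include hx in
theorem card_zpowers : Nat.card (Subgroup.zpowers x) = p := by rw [Nat.card_zpowers, hx]

include hp hx in
theorem gen {y : G} (hy : y ∈ Subgroup.zpowers x) (hy1 : y ≠ 1) :
    Subgroup.zpowers y = Subgroup.zpowers x := by
  refine Subgroup.eq_of_le_of_card_ge (Subgroup.zpowers_le.2 hy) ?_
  have hd := Subgroup.orderOf_dvd_natCard (Subgroup.zpowers x) hy
  rw [card_zpowers hx] at hd
  rcases (Nat.dvd_prime hp).1 hd with h | h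
  · exact absurd (orderOf_eq_one_iff.1 h) hy1
  · rw [card_zpowers hx, Nat.card_zpowers, h]

include hp hx hC in
theorem centralizer_eq {y : G} (hy : y ∈ Subgroup.zpowers x) (hy1 : y ≠ 1) :
    Subgroup.centralizer ({y} : Set G) = Subgroup.zpowers x := by
  rw [← hC, ← Subgroup.centralizer_closure {y}, ← Subgroup.centralizer_closure {x},
    ← Subgroup.zpowers_eq_closure, ← Subgroup.zpowers_eq_closure, gen hp hx hy hy1]

include hp hx hC in
theorem exists_sylow : ∃ P : Sylow p G, (P : Subgroup G) = Subgroup.zpowers x := by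
  haveI := Fact.mk hp
  have hXp : IsPGroup p (Subgroup.zpowers x) :=
    IsPGroup.of_card (n := 1) (by rw [card_zpowers hx, pow_one])
  obtain ⟨P, hP⟩ := hXp.exists_le_sylow
  refine ⟨P, le_antisymm (fun u hu => ?_) hP⟩
  haveI : Nontrivial (P : Subgroup G) :=
    ⟨⟨⟨x, hP (Subgroup.mem_zpowers x)⟩, 1, fun e => ne_one hp hx (congrArg Subtype.val e)⟩⟩
  haveI := P.isPGroup'.center_nontrivial
  obtain ⟨⟨z, hz⟩, hz1⟩ := exists_ne (1 : Subgroup.center (P : Subgroup G))
  rw [Subgroup.mem_center_iff] at hz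
  have hcomm : ∀ v : G, v ∈ (P : Subgroup G) → v * (z : G) = (z : G) * v := fun v hv =>
    congrArg Subtype.val (hz ⟨v, hv⟩)
  have hzX : (z : G) ∈ Subgroup.zpowers x := by
    rw [← hC, Subgroup.mem_centralizer_singleton_iff]
    exact (hcomm x (hP (Subgroup.mem_zpowers x))).symm
  rw [← centralizer_eq hp hx hC hzX fun e => hz1 (Subtype.ext (Subtype.ext e)),
    Subgroup.mem_centralizer_singleton_iff]
  exact hcomm u hu

include hp hx hC in
theorem card_subgroups :
    Nat.card {H : Subgroup G // Nat.card H = p} =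
      (Subgroup.normalizer ((Subgroup.zpowers x : Subgroup G) : Set G)).index := by
  haveI := Fact.mk hp
  obtain ⟨P, hP⟩ := exists_sylow hp hx hC
  have hfac : p ^ (Nat.card G).factorization p = p := by
    rw [← P.card_eq_multiplicity, hP, card_zpowers hx]
  rw [← hP]
  refine Eq.trans ?_ P.card_eq_index_normalizer
  exact Nat.card_congr ⟨fun H => Sylow.ofCard H.1 (by rw [H.2, hfac]),
    fun Q => ⟨Q, by rw [Q.card_eq_multiplicity, hfac]⟩, fun H => rfl, fun Q => Sylow.ext rfl⟩

/-- The index of `⟨x⟩` in its normalizer. -/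
noncomputable def e (x : G) : ℕ :=
  (Subgroup.zpowers x).relIndex (Subgroup.normalizer ((Subgroup.zpowers x : Subgroup G) : Set G))

include hx in
theorem card_normalizer :
    Nat.card (Subgroup.normalizer ((Subgroup.zpowers x : Subgroup G) : Set G)) = p * e x := by
  rw [← card_zpowers hx, e, Subgroup.relIndex, ← Nat.card_congr
    (Subgroup.subgroupOfEquivOfLe (Subgroup.le_normalizer (H := Subgroup.zpowers x))).toEquiv,
    Subgroup.card_mul_index]

include hp hx hC in
theorem card_eq : Nat.card G = p * e x * Nat.card {H : Subgroup G // Nat.card H = p} := by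
  rw [card_subgroups hp hx hC, ← card_normalizer hx, Subgroup.card_mul_index]

include hp hx hC in
theorem not_sq_dvd : ¬ p ^ 2 ∣ Nat.card G := by
  haveI := Fact.mk hp
  obtain ⟨P, hP⟩ := exists_sylow hp hx hC
  intro h
  have h2 := P.card_eq_multiplicity
  rw [hP, card_zpowers hx] at h2
  have h3 := (hp.pow_dvd_iff_le_factorization Nat.card_pos.ne').1 h
  have h4 := Nat.pow_right_injective hp.two_le ((pow_one p).trans h2)
  omega

include hp hx hC in
/-- The number of classes of elements of order `p` times `e` is `p - 1`. -/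
theorem t_mul_e {t : ℕ}
    (ht : Nat.card {C : ConjClasses G // ∃ g ∈ C.carrier, orderOf g = p} = t) :
    t * e x = p - 1 := by
  classical
  haveI := Fintype.ofFinite G
  haveI := Fact.mk hp
  set P₀ := Subgroup.zpowers x with hP₀
  obtain ⟨S, hS⟩ := exists_sylow hp hx hC
  set N := Subgroup.normalizer ((P₀ : Subgroup G) : Set G) with hN
  have hfib : ∀ g ∈ P₀, g ≠ 1 →
      (Finset.univ.filter fun y : G => y ∈ P₀ ∧ IsConj g y).card = e x := by
    intro g hg hg1
    have hsub : (Finset.univ.filter fun y : G => y ∈ P₀ ∧ IsConj g y) =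
        (Finset.univ.filter fun n : G => n ∈ N).image (fun n => n * g * n⁻¹) := by
      ext y
      simp only [Finset.mem_filter, Finset.mem_univ, true_and, Finset.mem_image]
      constructor
      · rintro ⟨hy, hgy⟩
        obtain ⟨c, hc⟩ := isConj_iff.1 hgy
        refine ⟨c, ?_, hc⟩
        have hy1 : y ≠ 1 := fun e' => hg1 (isConj_one_left.1 (e' ▸ hgy))
        rw [hN, Subgroup.mem_normalizer_iff]
        intro w
        rw [show P₀ = Subgroup.zpowers g from (gen hp hx hg hg1).symm]
        have hmap : (Subgroup.zpowers g).map (MulAut.conj c).toMonoidHom = Subgroup.zpowers g := by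
          rw [MonoidHom.map_zpowers]
          show Subgroup.zpowers (c * g * c⁻¹) = _
          rw [hc, gen hp hx hy hy1, gen hp hx hg hg1]
        conv_rhs => rw [← hmap, Subgroup.mem_map]
        exact ⟨fun hw => ⟨w, hw, rfl⟩, fun ⟨w', hw', e'⟩ => by
          have : w' = w := (MulAut.conj c).injective e'
          exact this ▸ hw'⟩
      · rintro ⟨n, hn, rfl⟩
        rw [hN, Subgroup.mem_normalizer_iff] at hn
        exact ⟨(hn g).1 hg, isConj_iff.2 ⟨n, rfl⟩⟩
    have hCg : ∀ n : G, n * g * n⁻¹ = g ↔ n ∈ P₀ := by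
      intro n
      rw [mul_inv_eq_iff_eq_mul, hP₀, ← centralizer_eq hp hx hC hg hg1,
        Subgroup.mem_centralizer_singleton_iff]
    have hfibre : ∀ y ∈ (Finset.univ.filter fun n : G => n ∈ N).image (fun n => n * g * n⁻¹),
        ((Finset.univ.filter fun n : G => n ∈ N).filter fun n => n * g * n⁻¹ = y).card = p := by
      intro y hy
      obtain ⟨n, hn, rfl⟩ := Finset.mem_image.1 hy
      rw [← card_zpowers hx, Nat.card_eq_fintype_card, Fintype.card_subtype]
      have hnN : n ∈ N := (Finset.mem_filter.1 hn).2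
      refine Finset.card_bij' (fun m _ => n⁻¹ * m) (fun m _ => n * m) ?_ ?_ ?_ ?_
      · intro m hm
        simp only [Finset.mem_filter, Finset.mem_univ, true_and] at hm ⊢
        rw [← hP₀, ← hCg]
        calc n⁻¹ * m * g * (n⁻¹ * m)⁻¹ = n⁻¹ * (m * g * m⁻¹) * n := by group
          _ = g := by rw [hm.2]; group
      · intro m hm
        simp only [Finset.mem_filter, Finset.mem_univ, true_and] at hm ⊢
        refine ⟨N.mul_mem hnN (Subgroup.le_normalizer hm), ?_⟩
        calc n * m * g * (n * m)⁻¹ = n * (m * g * m⁻¹) * n⁻¹ := by group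
          _ = n * g * n⁻¹ := by rw [(hCg m).2 hm]
      · intro m _; exact mul_inv_cancel_left n m
      · intro m _; exact inv_mul_cancel_left n m
    have h1 := Finset.card_eq_sum_card_image (fun n => n * g * n⁻¹)
      (Finset.univ.filter fun n : G => n ∈ N)
    rw [Finset.sum_const_nat hfibre, ← hsub, ← Fintype.card_subtype, Fintype.card_eq_nat_card] at h1
    have h2 : Nat.card {n : G // n ∈ N} = p * e x := card_normalizer hx
    rw [h2, mul_comm] at h1
    exact (Nat.eq_of_mul_eq_mul_right hp.pos h1).symm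
  haveI : Fintype (ConjClasses G) := Fintype.ofFinite _
  let T : Finset (ConjClasses G) := Finset.univ.filter fun C => ∃ g ∈ C.carrier, orderOf g = p
  have hT : T.card = t := by rw [← ht, Nat.card_eq_fintype_card, Fintype.card_subtype]
  have hA : ((Finset.univ.filter fun y : G => y ∈ P₀).erase 1).card = p - 1 := by
    rw [Finset.card_erase_of_mem (Finset.mem_filter.2 ⟨Finset.mem_univ _, P₀.one_mem⟩),
      ← Fintype.card_subtype, Fintype.card_eq_nat_card]
    show Nat.card P₀ - 1 = p - 1
    rw [card_zpowers hx]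
  rw [← hA, ← hT]
  have hmaps : ∀ y ∈ (Finset.univ.filter fun y : G => y ∈ P₀).erase 1, ConjClasses.mk y ∈ T := by
    intro y hy
    obtain ⟨hy1, hy'⟩ := Finset.mem_erase.1 hy
    have hyP := (Finset.mem_filter.1 hy').2
    refine Finset.mem_filter.2 ⟨Finset.mem_univ _, y, ConjClasses.mem_carrier_mk, ?_⟩
    rw [← Nat.card_zpowers, gen hp hx hyP hy1, card_zpowers hx]
  rw [Finset.card_eq_sum_card_fiberwise hmaps, Finset.sum_const_nat]
  intro C hC'
  obtain ⟨g₀, hg₀, hord⟩ := (Finset.mem_filter.1 hC').2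
  obtain ⟨S', hS'⟩ := (IsPGroup.of_card (n := 1) (by rw [Nat.card_zpowers, hord, pow_one]) :
    IsPGroup p (Subgroup.zpowers g₀)).exists_le_sylow
  obtain ⟨a, ha⟩ := MulAction.exists_smul_eq G S' S
  have hgP : a * g₀ * a⁻¹ ∈ P₀ := by
    rw [hP₀, ← hS, ← ha]
    exact ⟨g₀, hS' (Subgroup.mem_zpowers g₀), rfl⟩
  have hg1 : a * g₀ * a⁻¹ ≠ 1 := by
    intro e'
    rw [conj_eq_one_iff] at e'
    rw [e', orderOf_one] at hord
    exact hp.one_lt.ne hord
  rw [← hfib _ hgP hg1]
  refine congrArg Finset.card (Finset.ext fun y => ?_)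
  have hCy : C = ConjClasses.mk (a * g₀ * a⁻¹) := by
    rw [← ConjClasses.mem_carrier_iff_mk_eq.1 hg₀]
    exact ConjClasses.mk_eq_mk_iff_isConj.2 (isConj_iff.2 ⟨a, rfl⟩)
  simp only [Finset.mem_filter, Finset.mem_erase, Finset.mem_univ, true_and, hCy,
    ConjClasses.mk_eq_mk_iff_isConj]
  exact ⟨fun h => ⟨h.1.2, h.2.symm⟩,
    fun h => ⟨⟨fun e' => hg1 (isConj_one_left.1 (e' ▸ h.2)), h.1⟩, h.2.symm⟩⟩

include hp hx hC in
/-- `O_{p'}(G)` lies in the derived group. -/
theorem core_le_commutator : Cfsg.pPrimeCore p G ≤ commutator G := by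
  haveI := Fact.mk hp
  haveI := CfsgLib.Solv.pPrimeCore_normal G p
  set K := Cfsg.pPrimeCore p G with hK
  have hmem : ∀ k : K, x * k * x⁻¹ * (k : G)⁻¹ ∈ K := fun k =>
    mul_mem (‹K.Normal›.conj_mem _ k.2 x) (inv_mem k.2)
  have hinj : Function.Injective (fun k : K => (⟨x * k * x⁻¹ * (k : G)⁻¹, hmem k⟩ : K)) := by
    intro k l hkl
    have h1 : (k : G) * x⁻¹ * (k : G)⁻¹ = l * x⁻¹ * (l : G)⁻¹ :=
      mul_left_cancel (a := x) (by simpa [mul_assoc] using congrArg Subtype.val hkl)
    have h2 : (l : G)⁻¹ * k ∈ Subgroup.centralizer ({x} : Set G) := by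
      rw [Subgroup.mem_centralizer_singleton_iff]
      have h3 := congrArg (fun g => g⁻¹) h1
      simp only [mul_inv_rev, inv_inv, ← mul_assoc] at h3
      calc (l : G)⁻¹ * k * x = (l : G)⁻¹ * (k * x * (k : G)⁻¹) * k := by group
        _ = (l : G)⁻¹ * (l * x * (l : G)⁻¹) * k := by rw [h3]
        _ = x * ((l : G)⁻¹ * k) := by group
    rw [hC] at h2
    have h4 : (l : G)⁻¹ * k = 1 := orderOf_eq_one_iff.1 (Nat.eq_one_of_dvd_coprimes
      (hp.coprime_iff_not_dvd.2 (CfsgLib.Solv.not_dvd_card_pPrimeCore (p := p) (G := G)))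
      (card_zpowers hx ▸ Subgroup.orderOf_dvd_natCard _ h2)
      (Subgroup.orderOf_dvd_natCard K (mul_mem (inv_mem l.2) k.2)))
    exact Subtype.ext (inv_mul_eq_one.1 h4).symm
  intro k hk
  obtain ⟨l, hl⟩ := (Finite.injective_iff_surjective.1 hinj) ⟨k, hk⟩
  rw [← show x * l * x⁻¹ * (l : G)⁻¹ = k from congrArg Subtype.val hl]
  exact Subgroup.commutator_mem_commutator (Subgroup.mem_top x) (Subgroup.mem_top (l : G))

include hp hx hC in
theorem commutator_le_of_dvd {S : Subgroup G} [S.Normal] (h : p ∣ Nat.card S) : commutator G ≤ S :=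
  (Cfsg.Agent.S4496.result p hp x hx hC S).1 h

include hp hx hC in
theorem commutator_eq_core {t : ℕ}
    (ht : Nat.card {C : ConjClasses G // ∃ g ∈ C.carrier, orderOf g = p} = t) (h : t = p - 1) :
    commutator G = Cfsg.pPrimeCore p G := by
  refine le_antisymm (CfsgLib.Solv.le_pPrimeCore ?_) (core_le_commutator hp hx hC)
  refine Nat.Coprime.symm (hp.coprime_iff_not_dvd.2 fun hd => not_sq_dvd hp hx hC ?_)
  rw [← (commutator G).card_mul_index, (Cfsg.Agent.S4495.result p hp x hx hC t ht).2 h, pow_two]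
  exact Nat.mul_dvd_mul_right hd p

include hp hx hC in
theorem mem_commutator {t : ℕ}
    (ht : Nat.card {C : ConjClasses G // ∃ g ∈ C.carrier, orderOf g = p} = t) (h : t ≠ p - 1) :
    x ∈ commutator G ∧ (commutator G).index ≤ e x := by
  have h1 := (Cfsg.Agent.S4495.result p hp x hx hC t ht).1 h
  have hte := t_mul_e hp hx hC ht
  have hp2 := hp.two_le
  have ht0 : 0 < t := by
    rcases Nat.eq_zero_or_pos t with e0 | e0
    · rw [e0, zero_mul] at hte; omega
    · exact e0
  constructor
  · rw [← QuotientGroup.eq_one_iff, ← orderOf_eq_one_iff]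
    have h2 : orderOf (x : G ⧸ commutator G) ∣ p :=
      hx ▸ orderOf_map_dvd (QuotientGroup.mk' (commutator G)) x
    have h3 : orderOf (x : G ⧸ commutator G) ∣ (commutator G).index := by
      rw [Subgroup.index_eq_card]; exact orderOf_dvd_natCard _
    refine Nat.eq_one_of_dvd_coprimes (hp.coprime_iff_not_dvd.2 fun hd => ?_) h2 h3
    have h4 : (commutator G).index ≤ p - 1 := le_trans (Nat.le_mul_of_pos_right _ ht0) h1
    have h5 := Nat.le_of_dvd (Nat.pos_of_ne_zero Subgroup.FiniteIndex.index_ne_zero) hd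
    omega
  · refine Nat.le_of_mul_le_mul_right ?_ ht0
    rw [mul_comm (e x), hte]; exact h1

include hp hx hC in
theorem eq_commutator_of_dvd {t : ℕ}
    (ht : Nat.card {C : ConjClasses G // ∃ g ∈ C.carrier, orderOf g = p} = t) (h : t ≠ p - 1)
    {M : Subgroup (commutator G)} [M.Normal] (hM : p ∣ Nat.card M) : M = ⊤ := by
  haveI := Fact.mk hp
  obtain ⟨m, hm⟩ := exists_prime_orderOf_dvd_card' p hM
  obtain ⟨P, hP⟩ := exists_sylow hp hx hC
  have hxG := (mem_commutator hp hx hC ht h).1
  have hsy : ∀ Q : Sylow p (commutator G), Nat.card Q = p := by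
    intro Q
    obtain ⟨k, hk⟩ := IsPGroup.iff_card.1 Q.2
    have hd : Nat.card Q ∣ Nat.card G :=
      (Subgroup.card_subgroup_dvd_card _).trans (Subgroup.card_subgroup_dvd_card _)
    have hle : k ≤ 1 := by
      by_contra hk2
      exact not_sq_dvd hp hx hC ((pow_dvd_pow p (by omega : 2 ≤ k)).trans (hk ▸ hd))
    have hne : k ≠ 0 := by
      intro h0
      refine Q.not_dvd_index ?_
      have h5 := (Q : Subgroup (commutator G)).card_mul_index
      rw [hk, h0, pow_zero, one_mul] at h5
      rw [h5]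
      exact (dvd_of_eq (card_zpowers hx).symm).trans
        (Subgroup.card_dvd_of_le (Subgroup.zpowers_le.2 hxG))
    rw [hk, show k = 1 by omega, pow_one]
  have hall : ∀ g : commutator G, orderOf g = p → g ∈ M := by
    intro g hg
    obtain ⟨Q, hQ⟩ := (IsPGroup.of_card (n := 1) (show Nat.card (Subgroup.zpowers (m : commutator G))
      = p ^ 1 by rw [Nat.card_zpowers, Subgroup.orderOf_coe, hm, pow_one])).exists_le_sylow
    obtain ⟨R, hR⟩ := (IsPGroup.of_card (n := 1) (show Nat.card (Subgroup.zpowers g)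
      = p ^ 1 by rw [Nat.card_zpowers, hg, pow_one])).exists_le_sylow
    have hQM : (Q : Subgroup (commutator G)) ≤ M := by
      have h6 : Subgroup.zpowers (m : commutator G) = Q := Subgroup.eq_of_le_of_card_ge hQ (by
        rw [hsy Q, Nat.card_zpowers, Subgroup.orderOf_coe, hm])
      rw [← h6]; exact Subgroup.zpowers_le.2 m.2
    obtain ⟨a, ha⟩ := MulAction.exists_smul_eq (commutator G) Q R
    have hgR : g ∈ (R : Subgroup (commutator G)) := hR (Subgroup.mem_zpowers g)
    rw [← ha, Sylow.coe_subgroup_smul] at hgR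
    obtain ⟨q, hq, rfl⟩ := hgR
    exact ‹M.Normal›.conj_mem q (hQM hq) a
  let L : Subgroup G := Subgroup.closure {g : G | orderOf g = p}
  haveI : L.Normal := ⟨fun n hn c => by
    refine Subgroup.closure_induction (p := fun y _ => c * y * c⁻¹ ∈ L) ?_ ?_ ?_ ?_ hn
    · intro y hy
      exact Subgroup.subset_closure (show orderOf (c * y * c⁻¹) = p by
        rw [← MulAut.conj_apply, MulEquiv.orderOf_eq]; exact hy)
    · simp [one_mem]
    · intro a b _ _ iha ihb; simpa [mul_assoc] using mul_mem iha ihb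
    · intro a _ iha; simpa [mul_assoc] using inv_mem iha⟩
  have hxL : x ∈ L := Subgroup.subset_closure hx
  have hle : commutator G ≤ L :=
    commutator_le_of_dvd hp hx hC (hx ▸ Subgroup.orderOf_dvd_natCard L hxL)
  have hsup : L ≤ M.map (commutator G).subtype := by
    refine (Subgroup.closure_le _).2 fun g hg => ?_
    haveI : (commutator G).Normal := inferInstance
    have hgG : g ∈ commutator G := by
      obtain ⟨R, hR⟩ := (IsPGroup.of_card (n := 1) (show Nat.card (Subgroup.zpowers g)
        = p ^ 1 by rw [Nat.card_zpowers, hg, pow_one])).exists_le_sylow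
      obtain ⟨a, ha⟩ := MulAction.exists_smul_eq G P R
      have hgR : g ∈ (R : Subgroup G) := hR (Subgroup.mem_zpowers g)
      rw [← ha, Sylow.coe_subgroup_smul, hP] at hgR
      obtain ⟨q, hq, rfl⟩ := hgR
      exact Subgroup.Normal.conj_mem inferInstance q (Subgroup.zpowers_le.2 hxG hq) a
    exact ⟨⟨g, hgG⟩, hall _ (by rw [Subgroup.orderOf_mk]; exact hg), rfl⟩
  refine eq_top_iff.2 fun g _ => ?_
  obtain ⟨g', hg', e'⟩ := hsup (hle g.2)
  exact Subtype.ext e' ▸ hg'

end CfsgLib.Char.SelfCentPrime
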