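import Mathlib.GroupTheory.PGroup
import Mathlib.GroupTheory.Nilpotent
import Mathlib.GroupTheory.Commutator.Basic
import Mathlib.GroupTheory.SpecificGroups.Cyclic
import Mathlib.GroupTheory.Sylow
import Mathlib.GroupTheory.Abelianization.Defs
import Mathlib.GroupTheory.QuotientGroup.Basic

/-! The commutator subgroup of a small `p`-group through a maximal subgroup. -/

set_option linter.unusedSectionVars false
set_option linter.style.haveILetI false

namespace CfsgLib.SmallP

open scoped commutatorElement
open Subgroup

universe u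

variable {P : Type u} [Group P] {p : ℕ} [Fact p.Prime]

/-- `[P : P'] |N'| = p |C_N(x mod N')|` -/
theorem index_commutator_formula [Finite P] (N : Subgroup P) [N.Normal] (hN : N.index = p) (x : P)
    (hx : x ∉ N) :
    (commutator P).index * Nat.card (commutator N) =
      p * Nat.card {n : N // x * n * x⁻¹ * (n : P)⁻¹ ∈ (commutator N).map N.subtype} := by
  set L := (commutator N).map N.subtype with hL
  haveI : L.Normal := by rw [hL, map_subtype_commutator]; infer_instance
  let π := QuotientGroup.mk' L
  have hπ : ∀ a : P, π a = 1 ↔ a ∈ L := fun a => QuotientGroup.eq_one_iff a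
  have hcomm : ∀ a b : N, Commute (π a) (π b) := fun a b => by
    rw [← commutatorElement_eq_one_iff_commute, ← map_commutatorElement, hπ]
    exact ⟨⁅a, b⁆, commutator_mem_commutator (mem_top a) (mem_top b), by simp [commutatorElement_def]⟩
  have hNn : ∀ a : P, ∀ n ∈ N, a * n * a⁻¹ ∈ N := fun a n hn => ‹N.Normal›.conj_mem n hn a
  let g : N →* P ⧸ L := MonoidHom.mk' (fun n => π ⁅x, (n : P)⁆) fun a b => by
    have h1 : ⁅x, ((a * b : N) : P)⁆ = ⁅x, (a : P)⁆ * ((a : P) * ⁅x, (b : P)⁆ * (a : P)⁻¹) := by
      simp only [commutatorElement_def, Subgroup.coe_mul]; group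
    have hb : ⁅x, (b : P)⁆ ∈ N := by
      rw [commutatorElement_def]
      exact N.mul_mem (hNn x _ b.2) (N.inv_mem b.2)
    rw [h1, map_mul, map_mul, map_mul, map_inv, (hcomm a ⟨_, hb⟩).eq, mul_inv_cancel_right]
  have hker : Nat.card g.ker = Nat.card {n : N // x * n * x⁻¹ * (n : P)⁻¹ ∈ L} :=
    Nat.card_congr (Equiv.subtypeEquivRight fun n => by
      rw [MonoidHom.mem_ker]
      show π ⁅x, (n : P)⁆ = 1 ↔ _
      rw [hπ, commutatorElement_def])
  have hNtop : ∀ S : Subgroup P, N ≤ S → x ∈ S → S = ⊤ := fun S hle hxS => by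
    rw [← index_eq_one]
    have h := (Nat.dvd_prime (Fact.out : p.Prime)).1 (hN ▸ index_dvd_of_le hle)
    refine h.resolve_right fun e => ?_
    have h2 := relIndex_mul_index hle
    rw [e, hN, Nat.mul_eq_right (Fact.out : p.Prime).ne_zero, relIndex_eq_one] at h2
    exact hx (h2 hxS)
  set R := g.range with hR
  have hRnorm : R.Normal := by
    constructor
    rintro _ ⟨n, rfl⟩ q
    obtain ⟨y, rfl⟩ := QuotientGroup.mk'_surjective L q
    let W : Subgroup P := (Subgroup.normalizer (R : Set (P ⧸ L))).comap π
    have hW : W = ⊤ := by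
      refine hNtop W (fun a ha => ?_) ?_
      · show π a ∈ Subgroup.normalizer (R : Set (P ⧸ L))
        refine centralizer_le_normalizer _ (mem_centralizer_iff.2 ?_)
        rintro _ ⟨b, rfl⟩
        exact hcomm ⟨⁅x, (b : P)⁆, by
          rw [commutatorElement_def]; exact N.mul_mem (hNn x _ b.2) (N.inv_mem b.2)⟩ ⟨a, ha⟩
      · show π x ∈ Subgroup.normalizer (R : Set (P ⧸ L))
        have hmap : R.map (MulAut.conj (π x)).toMonoidHom = R := by
          refine le_antisymm ?_ ?_
          · rintro _ ⟨_, ⟨b, rfl⟩, rfl⟩
            refine ⟨⟨x * b * x⁻¹, hNn x _ b.2⟩, ?_⟩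
            show π ⁅x, x * (b : P) * x⁻¹⁆ = π x * π ⁅x, (b : P)⁆ * (π x)⁻¹
            rw [← map_inv, ← map_mul, ← map_mul]
            simp only [commutatorElement_def]; congr 1; group
          · rintro _ ⟨b, rfl⟩
            refine ⟨π ⁅x, x⁻¹ * (b : P) * x⁆, ⟨⟨x⁻¹ * b * x, by simpa using hNn x⁻¹ _ b.2⟩, rfl⟩, ?_⟩
            show π x * π ⁅x, x⁻¹ * (b : P) * x⁆ * (π x)⁻¹ = π ⁅x, (b : P)⁆
            rw [← map_inv, ← map_mul, ← map_mul]
            simp only [commutatorElement_def]; congr 1; group
        refine mem_normalizer_iff.2 fun z => ?_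
        conv_rhs => rw [← hmap, Subgroup.mem_map]
        exact ⟨fun hz => ⟨z, hz, rfl⟩, fun ⟨w, hw, e⟩ => by
          have : w = z := (MulAut.conj (π x)).injective e
          exact this ▸ hw⟩
    have hy : π y ∈ Subgroup.normalizer (R : Set (P ⧸ L)) := (hW ▸ mem_top y : y ∈ W)
    exact (mem_normalizer_iff.1 hy _).1 ⟨n, rfl⟩
  set M := R.comap π with hM
  haveI : M.Normal := hRnorm.comap π
  have hPM : commutator P = M := by
    refine le_antisymm (commutator_le.2 fun a _ b _ => ?_) ?_
    · let ψ := QuotientGroup.mk' M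
      have hψ : ∀ c : P, ψ c = 1 ↔ c ∈ M := fun c => QuotientGroup.eq_one_iff c
      have hxn : ∀ n : N, Commute (ψ x) (ψ n) := fun n => by
        rw [← commutatorElement_eq_one_iff_commute, ← map_commutatorElement, hψ]
        exact ⟨n, rfl⟩
      have hnn : ∀ m n : N, Commute (ψ m) (ψ n) := fun m n => by
        rw [← commutatorElement_eq_one_iff_commute, ← map_commutatorElement, hψ]
        show π _ ∈ R
        rw [map_commutatorElement, commutatorElement_eq_one_iff_commute.2 (hcomm m n)]
        exact one_mem _
      have h1 : ∀ c, Commute (ψ x) (ψ c) := fun c => by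
        have := hNtop ((centralizer {ψ x}).comap ψ)
          (fun n hn => mem_centralizer_singleton_iff.2 (hxn ⟨n, hn⟩).eq.symm)
          (mem_centralizer_singleton_iff.2 rfl)
        exact (mem_centralizer_singleton_iff.1 (this ▸ mem_top c : c ∈ (centralizer {ψ x}).comap ψ)).symm
      have h2 : ∀ (n : N) (c : P), Commute (ψ n) (ψ c) := fun n c => by
        have := hNtop ((centralizer {ψ n}).comap ψ)
          (fun m hm => mem_centralizer_singleton_iff.2 (hnn ⟨m, hm⟩ n).eq)
          (mem_centralizer_singleton_iff.2 (hxn n).eq)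
        exact (mem_centralizer_singleton_iff.1 (this ▸ mem_top c : c ∈ (centralizer {ψ (n : P)}).comap ψ)).symm
      have h3 := hNtop ((centralizer {ψ b}).comap ψ)
        (fun m hm => mem_centralizer_singleton_iff.2 (h2 ⟨m, hm⟩ b).eq)
        (mem_centralizer_singleton_iff.2 (h1 b).eq)
      rw [← hψ, map_commutatorElement, commutatorElement_eq_one_iff_commute]
      exact mem_centralizer_singleton_iff.1 (h3 ▸ mem_top a : a ∈ (centralizer {ψ b}).comap ψ)
    · rintro a ⟨n, hn⟩
      have hd : ⁅x, (n : P)⁆⁻¹ * a ∈ L := QuotientGroup.eq.1 hn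
      have hLc : L ≤ commutator P := by
        rw [hL, map_subtype_commutator]; exact commutator_mono le_top le_top
      have := mul_mem (commutator_mem_commutator (mem_top x) (mem_top (n : P))) (hLc hd)
      rwa [mul_inv_cancel_left] at this
  have hLN : Nat.card L = Nat.card (commutator N) :=
    (Nat.card_congr (equivMapOfInjective (commutator N) N.subtype N.subtype_injective).toEquiv).symm
  have hMcard : Nat.card M = Nat.card L * Nat.card R := by
    have h1 : Nat.card (π.ker.subgroupOf M) = Nat.card L := by
      rw [QuotientGroup.ker_mk']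
      exact Nat.card_congr (subgroupOfEquivOfLe fun a ha => by
        show π a ∈ R
        rw [(hπ a).2 ha]; exact one_mem _).toEquiv
    have h2 := (π.subgroupComap R).ker.card_mul_index
    rw [index_ker, MonoidHom.range_eq_top.2
      (MonoidHom.subgroupComap_surjective_of_surjective π R (QuotientGroup.mk'_surjective L)),
      card_top] at h2
    rw [← h2, ← h1]
    congr 1
    refine Nat.card_congr (Equiv.subtypeEquivRight fun a => ?_)
    rw [MonoidHom.mem_ker, mem_subgroupOf, MonoidHom.mem_ker, Subtype.ext_iff]; rfl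
  have h1 := (commutator P).card_mul_index
  rw [← N.card_mul_index, hN, ← g.ker.card_mul_index, index_ker, hPM, hMcard, hLN] at h1
  rw [← hker, hPM]
  refine Nat.eq_of_mul_eq_mul_left (Nat.card_pos (α := R)) ?_
  linarith

/-- a non-cyclic `p`-group has abelianization of order at least `p ^ 2` -/
theorem sq_dvd_index_commutator [Finite P] (hP : IsPGroup p P) (hnc : ¬ IsCyclic P) :
    p ^ 2 ∣ (commutator P).index := by
  have hp : p.Prime := Fact.out
  obtain ⟨k, hk⟩ := hP.index (commutator P)
  rcases Nat.lt_or_ge k 2 with hk2 | hk2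
  · exfalso
    have hne : commutator P ≠ ⊤ := fun e => hnc (by
      haveI := hP.isNilpotent
      have h1 : ∀ i, (⊤ : Subgroup P).lowerCentralSeries (i + 1) = ⊤ := fun i => by
        induction i with
        | zero => exact e
        | succ i ih => rw [Subgroup.lowerCentralSeries_succ, ih]; exact e
      have h2 := Subgroup.lowerCentralSeries_nilpotencyClass (G := P)
      have h3 : (⊤ : Subgroup P) = ⊥ := by
        rw [← le_bot_iff, ← h2]
        exact le_of_eq_of_le (h1 _).symm (Subgroup.lowerCentralSeries_antitone (⊤ : Subgroup P) (Nat.le_succ _))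
      haveI : Subsingleton P := ⟨fun a b => by
        have ha : a ∈ (⊥ : Subgroup P) := h3 ▸ mem_top a
        have hb : b ∈ (⊥ : Subgroup P) := h3 ▸ mem_top b
        rw [mem_bot.1 ha, mem_bot.1 hb]⟩
      infer_instance)
    have hk1 : (commutator P).index = p := by
      rw [hk]
      rcases (show k = 0 ∨ k = 1 by omega) with rfl | rfl
      · exact absurd (index_eq_one.1 (by rw [hk, pow_zero])) hne
      · rw [pow_one]
    obtain ⟨x, hx⟩ : ∃ x, x ∉ commutator P := by
      by_contra h
      push Not at h
      exact hne (eq_top_iff.2 fun a _ => h a)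
    refine hnc ⟨x, fun a => ?_⟩
    by_contra ha
    have hne' : zpowers x ≠ ⊤ := fun e => ha (mem_zpowers_iff.1 (e ▸ mem_top a : a ∈ zpowers x))
    obtain ⟨M, hM, hxM⟩ : ∃ M : Subgroup P, IsCoatom M ∧ zpowers x ≤ M :=
      ((eq_top_or_exists_le_coatom (zpowers x)).resolve_left hne')
    haveI := hP.isNilpotent
    haveI hMn : M.Normal := (Group.normalizerCondition_of_isNilpotent (G := P)).normal_of_coatom M hM
    haveI : Nontrivial (P ⧸ M) := QuotientGroup.nontrivial_iff.2 hM.1
    have hle : commutator P ≤ M := by
      haveI : Group.IsNilpotent (P ⧸ M) := inferInstance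
      haveI := (hP.to_quotient M).center_nontrivial
      have hctop : center (P ⧸ M) = ⊤ := by
        by_contra hc
        have h1 : M ≤ (center (P ⧸ M)).comap (QuotientGroup.mk' M) := fun c hc => by
          rw [mem_comap, QuotientGroup.mk'_apply, (QuotientGroup.eq_one_iff c).2 hc]; exact one_mem _
        rcases h1.lt_or_eq with h2 | h2
        · refine hc ?_
          rw [← map_comap_eq_self_of_surjective (QuotientGroup.mk'_surjective M) (center _), hM.2 _ h2,
            map_top_of_surjective _ (QuotientGroup.mk'_surjective M)]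
        · exact (nontrivial_iff_ne_bot _).1 ‹_› (by
            rw [← map_comap_eq_self_of_surjective (QuotientGroup.mk'_surjective M) (center _), ← h2,
              QuotientGroup.map_mk'_self])
      intro c hc
      rw [← QuotientGroup.eq_one_iff]
      have h1 : (QuotientGroup.mk' M c) ∈ (commutator P).map (QuotientGroup.mk' M) := ⟨c, hc, rfl⟩
      rw [_root_.commutator_def, map_commutator, map_top_of_surjective _ (QuotientGroup.mk'_surjective M),
        ← _root_.commutator_def, (commutator_eq_bot_iff_center_eq_top _).2 hctop] at h1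
      exact h1
    have h2 := index_dvd_of_le hle
    rw [hk1, Nat.dvd_prime hp] at h2
    rcases h2 with h2 | h2
    · exact hM.1 (index_eq_one.1 h2)
    · have h3 := relIndex_mul_index hle
      rw [h2, hk1, Nat.mul_eq_right hp.ne_zero, relIndex_eq_one] at h3
      exact hx (h3 (hxM (mem_zpowers x)))
  · exact hk ▸ pow_dvd_pow p hk2

theorem comm_of_index_center_prime {G : Type u} [Group G] [Finite G]
    (h : (center G).index ∣ p) (a b : G) : a * b = b * a := by
  haveI : IsCyclic (G ⧸ center G) := by
    rcases (Nat.dvd_prime (Fact.out : p.Prime)).1 h with h1 | h1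
    · haveI : Subsingleton (G ⧸ center G) :=
        (Nat.card_eq_one_iff_unique.1 (by rwa [← index_eq_card])).1
      infer_instance
    · exact isCyclic_of_prime_card (p := p) (by rwa [← index_eq_card])
  exact commutative_of_cyclic_center_quotient (QuotientGroup.mk' (center G))
    (QuotientGroup.ker_mk' _).le a b

theorem le_center_of_card_prime [Finite P] (hP : IsPGroup p P) (L : Subgroup P) [hL : L.Normal]
    (hc : Nat.card L = p) : L ≤ center P := by
  have hpa : IsPGroup p (ConjAct P) := hP.of_equiv ConjAct.toConjAct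
  obtain ⟨w, hw, hw1⟩ := hpa.exists_fixed_point_of_prime_dvd_card_of_fixed_point (α := L)
    (dvd_of_eq hc.symm) (a := 1) (fun g => Subtype.ext (by simp [ConjAct.smul_def]))
  have hwz : (w : P) ∈ center P := mem_center_iff.2 fun g => by
    have := congrArg Subtype.val (hw (ConjAct.toConjAct g))
    rw [ConjAct.Subgroup.val_conj_smul, ConjAct.smul_def, ConjAct.ofConjAct_toConjAct] at this
    exact mul_inv_eq_iff_eq_mul.1 this
  have hne : (center P).subgroupOf L ≠ ⊥ := fun e => hw1 (Eq.symm (mem_bot.1 (e ▸ (hwz : w ∈ (center P).subgroupOf L))))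
  haveI : Fact (Nat.card L).Prime := ⟨hc ▸ Fact.out⟩
  exact subgroupOf_eq_top.1 ((((center P).subgroupOf L).eq_bot_or_eq_top_of_prime_card).resolve_left hne)

theorem exists_index_prime_center [Finite P] (hP : Nat.card P = p ^ 4)
    (hd : Nat.card (commutator P) = p) : (center P).index ∣ p ^ 2 := by
  have hp : p.Prime := Fact.out
  have hne : center P ≠ ⊤ := fun e => by
    rw [(commutator_eq_bot_iff_center_eq_top _).2 e, card_bot] at hd
    exact hp.one_lt.ne hd
  obtain ⟨x, hx⟩ : ∃ x, x ∉ center P := by
    by_contra h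
    push Not at h
    exact hne (eq_top_iff.2 fun a _ => h a)
  have hidx : ∀ z, z ∉ center P → (centralizer ({z} : Set P)).index = p := by
    intro z hz
    obtain ⟨k, hk⟩ := (IsPGroup.of_card hP).index (centralizer ({z} : Set P))
    have hle : (centralizer ({z} : Set P)).index ≤ p := by
      rw [← hd, index]
      refine Nat.card_le_card_of_injective (fun q : P ⧸ centralizer ({z} : Set P) =>
        Quotient.liftOn' q (fun a => (⟨⁅a, z⁆, commutator_mem_commutator (mem_top a) (mem_top z)⟩ : commutator P))
          fun a b hab => Subtype.ext ?_) ?_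
      · have := mem_centralizer_singleton_iff.1 (QuotientGroup.leftRel_apply.1 hab)
        show a * z * a⁻¹ * z⁻¹ = b * z * b⁻¹ * z⁻¹
        congr 1
        calc a * z * a⁻¹ = a * (z * (a⁻¹ * b)) * b⁻¹ := by group
          _ = a * (a⁻¹ * b * z) * b⁻¹ := by rw [this]
          _ = b * z * b⁻¹ := by group
      · rintro ⟨a⟩ ⟨b⟩ hab
        have h : a * z * a⁻¹ = b * z * b⁻¹ := mul_right_cancel (congrArg Subtype.val hab)
        refine Quotient.sound' (QuotientGroup.leftRel_apply.2 (mem_centralizer_singleton_iff.2 ?_))
        calc a⁻¹ * b * z = a⁻¹ * (b * z * b⁻¹) * b := by group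
          _ = z * (a⁻¹ * b) := by rw [← h]; group
    rcases k with _ | _ | k
    · rw [pow_zero, index_eq_one] at hk
      refine absurd (mem_center_iff.2 fun g => ?_) hz
      exact mem_centralizer_singleton_iff.1 (hk ▸ mem_top g)
    · simpa using hk
    · rw [hk] at hle
      have : p ^ 1 < p ^ (k + 1 + 1) := Nat.pow_lt_pow_right hp.one_lt (by omega)
      rw [pow_one] at this; omega
  set C := centralizer ({x} : Set P) with hC
  obtain ⟨y, hy⟩ : ∃ y, y ∉ C := by
    by_contra h
    push Not at h
    exact hx (mem_center_iff.2 fun g => mem_centralizer_singleton_iff.1 (h g))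
  -- `C` is abelian
  have hCab : ∀ a b : C, a * b = b * a := by
    refine comm_of_index_center_prime (p := p) ?_
    have hCc : Nat.card C = p ^ 3 := by
      have h := C.card_mul_index
      rw [hidx x hx, hP, pow_succ] at h
      exact Nat.eq_of_mul_eq_mul_right hp.pos h
    obtain ⟨j, hj3, hj⟩ := (Nat.dvd_prime_pow hp).1 (hCc ▸ card_subgroup_dvd_card (center C))
    have hxC : x ∈ C := mem_centralizer_singleton_iff.2 rfl
    have hlt : (center P).subgroupOf C < center C := by
      refine lt_of_le_of_ne (fun c hc => mem_center_iff.2 fun g => Subtype.ext (mem_center_iff.1 hc g)) fun e => hx ?_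
      have : (⟨x, hxC⟩ : C) ∈ center C := mem_center_iff.2 fun g =>
        Subtype.ext (mem_centralizer_singleton_iff.1 g.2)
      rw [← e] at this; exact this
    have h1 : p ≤ Nat.card ((center P).subgroupOf C) := by
      rw [Nat.card_congr (subgroupOfEquivOfLe (center_le_centralizer _)).toEquiv]
      obtain ⟨k, hk0, hk⟩ := IsPGroup.card_center_eq_prime_pow hP (by norm_num)
      rw [hk]; exact Nat.le_self_pow hk0.ne' p
    have h2 : Nat.card ((center P).subgroupOf C) < Nat.card (center C) :=
      Set.ncard_lt_ncard hlt (Set.toFinite _)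
    have hj2 : 2 ≤ j := by
      by_contra hh
      have : Nat.card (center C) ≤ p := by
        rw [hj]
        calc p ^ j ≤ p ^ 1 := Nat.pow_le_pow_right hp.pos (by omega)
          _ = p := pow_one p
      omega
    have h3 := (center C).card_mul_index
    rw [hj, hCc, show p ^ 3 = p ^ j * p ^ (3 - j) by rw [← pow_add]; congr 1; omega] at h3
    rw [Nat.eq_of_mul_eq_mul_left (pow_pos hp.pos j) h3]
    exact (pow_dvd_pow p (show 3 - j ≤ 1 by omega)).trans (by rw [pow_one])
  have hD : C ⊓ centralizer ({y} : Set P) ≤ center P := by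
    rintro z ⟨hzC, hzy⟩
    refine by_contra fun hz => ?_
    have hle : C ≤ centralizer ({z} : Set P) := fun a ha =>
      mem_centralizer_singleton_iff.2 (congrArg Subtype.val (hCab ⟨a, ha⟩ ⟨z, hzC⟩))
    have heq : C = centralizer ({z} : Set P) := by
      refine le_antisymm hle ?_
      have h := relIndex_mul_index hle
      rw [hidx x hx, hidx z hz, Nat.mul_eq_right hp.ne_zero, relIndex_eq_one] at h
      exact h
    exact hy (heq ▸ mem_centralizer_singleton_iff.2 (mem_centralizer_singleton_iff.1 hzy).symm)
  refine (index_dvd_of_le hD).trans ?_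
  have hy' : y ∉ center P := fun h => hy (center_le_centralizer _ h)
  have h := index_inf_le (H := C) (K := centralizer ({y} : Set P))
  rw [hidx x hx, hidx y hy', ← sq] at h
  obtain ⟨k, hk⟩ := (IsPGroup.of_card hP).index (C ⊓ centralizer ({y} : Set P))
  rw [hk] at h ⊢
  exact pow_dvd_pow p ((Nat.pow_le_pow_iff_right hp.one_lt).1 h)

theorem card_commutator_of_index_center [Finite P] (hP : Nat.card P = p ^ 4)
    (h : (center P).index = p ^ 2) : Nat.card (commutator P) = p := by
  have hp : p.Prime := Fact.out
  obtain ⟨x, hx⟩ : ∃ x, x ∉ center P := by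
    by_contra hh
    push Not at hh
    rw [index_eq_one.2 (eq_top_iff.2 fun a _ => hh a)] at h
    exact (Nat.one_lt_pow two_ne_zero hp.one_lt).ne h
  set N := center P ⊔ zpowers x with hN
  have hcomm : N ≤ centralizer ({x} : Set P) :=
    sup_le (center_le_centralizer _) (zpowers_le.2 (mem_centralizer_singleton_iff.2 rfl))
  have hlt : center P < N := lt_of_le_of_ne le_sup_left fun e => hx (e ▸ mem_sup_right (mem_zpowers x))
  have hNne : N ≠ ⊤ := fun e => hx (mem_center_iff.2 fun g =>
    mem_centralizer_singleton_iff.1 (hcomm (e ▸ mem_top g)))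
  obtain ⟨i, hi, hNi⟩ := (Nat.dvd_prime_pow hp).1 (h ▸ index_dvd_of_le hlt.le)
  have hidx : N.index = p := by
    rcases i with _ | _ | i
    · exact absurd (index_eq_one.1 (by simpa using hNi)) hNne
    · simpa using hNi
    · exfalso
      have h1 := relIndex_mul_index hlt.le
      rw [hNi, h, show i + 1 + 1 = 2 by omega, Nat.mul_eq_right (pow_ne_zero _ hp.ne_zero),
        relIndex_eq_one] at h1
      exact hlt.not_ge h1
  haveI : (center P).Normal := inferInstance
  haveI hNn : N.Normal := by
    have hle : commutator P ≤ center P := by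
      intro c hc
      rw [← QuotientGroup.eq_one_iff]
      haveI := IsPGroup.isMulCommutative_of_card_eq_prime_sq (G := P ⧸ center P) (p := p)
        (by rw [← index_eq_card, h])
      have h1 : (QuotientGroup.mk' (center P) c) ∈ (commutator P).map (QuotientGroup.mk' (center P)) :=
        ⟨c, hc, rfl⟩
      rw [_root_.commutator_def, map_commutator, map_top_of_surjective _ (QuotientGroup.mk'_surjective _),
        ← _root_.commutator_def, commutator_eq_bot] at h1
      exact h1
    exact Subgroup.Normal.of_commutator_le (G := P) (hle.trans le_sup_left)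
  have hNcenter : (center P).subgroupOf N ≤ center N := fun c hc =>
    mem_center_iff.2 fun g => Subtype.ext (mem_center_iff.1 hc g)
  have hNab : commutator N = ⊥ := by
    rw [commutator_eq_bot_iff_center_eq_top, eq_top_iff]
    intro a _
    refine mem_center_iff.2 fun b => comm_of_index_center_prime (p := p) ?_ b a
    refine (index_dvd_of_le hNcenter).trans ?_
    show (center P).relIndex N ∣ p
    have h1 := relIndex_mul_index hlt.le
    rw [hidx, h, sq] at h1
    exact dvd_of_eq (Nat.eq_of_mul_eq_mul_right hp.pos h1)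
  obtain ⟨y, hy⟩ : ∃ y, y ∉ N := by
    by_contra hh
    push Not at hh
    exact hNne (eq_top_iff.2 fun a _ => hh a)
  have key := index_commutator_formula N hidx y hy
  have hbot : (commutator N).map N.subtype = ⊥ := by rw [hNab, Subgroup.map_bot]
  rw [hNab, card_bot, mul_one] at key
  have hK : Nat.card {n : N // y * n * y⁻¹ * (n : P)⁻¹ ∈ (commutator N).map N.subtype} = Nat.card (center P) := by
    refine Nat.card_congr ⟨fun n => ⟨n.1, ?_⟩, fun z => ⟨⟨z, hlt.le z.2⟩, ?_⟩, fun _ => rfl, fun _ => rfl⟩
    · have hn : y * (n.1 : P) * y⁻¹ * (n.1 : P)⁻¹ ∈ (⊥ : Subgroup P) := hbot ▸ n.2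
      rw [mem_bot, mul_inv_eq_one, mul_inv_eq_iff_eq_mul] at hn
      refine mem_center_iff.2 fun g => ?_
      have hle : N ≤ centralizer ({((n.1 : N) : P)} : Set P) := fun a ha => by
        refine mem_centralizer_singleton_iff.2 ?_
        have := (commutator_eq_bot_iff_center_eq_top _).1 hNab
        exact (congrArg Subtype.val (mem_center_iff.1 (this ▸ mem_top n.1 : n.1 ∈ center N) ⟨a, ha⟩))
      have htop : centralizer ({((n.1 : N) : P)} : Set P) = ⊤ := by
        rw [← index_eq_one]
        refine ((Nat.dvd_prime hp).1 (hidx ▸ index_dvd_of_le hle)).resolve_right fun e => hy ?_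
        have h1 := relIndex_mul_index hle
        rw [e, hidx, Nat.mul_eq_right hp.ne_zero, relIndex_eq_one] at h1
        exact h1 (mem_centralizer_singleton_iff.2 hn)
      exact mem_centralizer_singleton_iff.1 (htop ▸ mem_top g)
    · rw [hbot, mem_bot, mul_inv_eq_one, mul_inv_eq_iff_eq_mul]
      exact (mem_center_iff.1 z.2 y)
  have hZ := (center P).card_mul_index
  rw [h, hP, show p ^ 4 = p ^ 2 * p ^ 2 by ring] at hZ
  rw [Subgroup.map_bot] at key
  simp only [hbot] at hK
  rw [hK, Nat.eq_of_mul_eq_mul_right (pow_pos hp.pos 2) hZ] at key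
  have h3 := (commutator P).card_mul_index
  rw [key, hP, show p ^ 4 = p * (p * p ^ 2) by ring] at h3
  exact Nat.eq_of_mul_eq_mul_right (Nat.mul_pos hp.pos (pow_pos hp.pos 2)) h3

end CfsgLib.SmallP
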