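import Cfsg.Agent.Char.Orth
import Mathlib.RingTheory.Valuation.LocalSubring
import Mathlib.RepresentationTheory.Character
import Mathlib.LinearAlgebra.Matrix.ToLin
import Mathlib.GroupTheory.Sylow
import Mathlib

/-!
A character of degree at most the square root of the order of a trivial intersection Sylow subgroup
has the same commutant on the Sylow normalizer as on the whole group.
-/

set_option autoImplicit false
set_option linter.unusedSectionVars false
set_option linter.style.haveILetI false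

namespace CfsgLib.Char.TILattice

open Cfsg Module
open scoped Pointwise

universe u u₁ u₂ u₃

/-- A valuation ring of `ℂ` over the prime `p`. -/
theorem exists_valuationSubring (p : ℕ) [Fact p.Prime] :
    ∃ B : ValuationSubring ℂ, (p : ℂ) ∈ B.nonunits := by
  let A : Subring ℂ := (Int.castRingHom ℂ).range
  let I : Ideal A := Ideal.span {(p : A)}
  have hI : I ≠ ⊤ := by
    intro h
    obtain ⟨⟨z, m, rfl⟩, hz⟩ := Ideal.mem_span_singleton.1 ((Ideal.eq_top_iff_one I).1 h)
    have h1 : (1 : ℂ) = (p : ℂ) * (m : ℂ) := congrArg Subtype.val hz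
    have h2 : (1 : ℤ) = (p : ℤ) * m := by exact_mod_cast h1
    exact (Fact.out : p.Prime).ne_one (Nat.dvd_one.1 (Int.natCast_dvd_natCast.1 ⟨m, h2⟩))
  obtain ⟨B, -, hB⟩ := Ideal.image_subset_nonunits_valuationSubring I hI
  exact ⟨B, hB ⟨(p : A), Ideal.subset_span rfl, by simp⟩⟩

/-- Lattices in finite dimensional spaces are free. -/
theorem exists_lattice_basis (B : ValuationSubring ℂ) {V : Type u} [AddCommGroup V] [Module ℂ V]
    {ι : Type} [Finite ι] (v : ι → V) (hv : Submodule.span ℂ (Set.range v) = ⊤) :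
    ∃ (d : ℕ) (b : Basis (Fin d) ℂ V), (∀ i, b i ∈ Set.range v) ∧ ∀ j i, b.repr (v j) i ∈ B := by
  classical
  haveI := Fintype.ofFinite ι
  let C : Finset ι → Prop := fun t => ∀ j : ι, ∃ c : ι → ℂ, (∀ i, c i ∈ B) ∧ (∑ i ∈ t, c i • v i) = v j
  have hC : C Finset.univ := fun j => ⟨fun i => if i = j then 1 else 0,
    fun i => by by_cases h : i = j <;> simp [h, B.one_mem, B.zero_mem], by simp [ite_smul]⟩
  obtain ⟨t, ht, hmin⟩ := (Finset.univ.filter C).exists_min_image Finset.card
    ⟨Finset.univ, Finset.mem_filter.2 ⟨Finset.mem_univ _, hC⟩⟩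
  replace ht : C t := (Finset.mem_filter.1 ht).2
  have hli : LinearIndependent ℂ (fun i : t => v i) := by
    rw [Fintype.linearIndependent_iff]
    intro g hg i₀
    by_contra h0
    obtain ⟨i, -, hi⟩ := Finset.exists_max_image Finset.univ (fun i => B.valuation (g i)) ⟨i₀, Finset.mem_univ _⟩
    have hgi : g i ≠ 0 := fun h => h0 (by
      have := hi i₀ (Finset.mem_univ _)
      rw [h, map_zero, le_zero_iff, map_eq_zero] at this
      exact this)
    have hlt : (t.erase (i : ι)).card < t.card := Finset.card_erase_lt_of_mem i.2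
    refine absurd (hmin _ (Finset.mem_filter.2 ⟨Finset.mem_univ _, ?_⟩)) (not_le.2 hlt)
    intro j
    obtain ⟨c, hc, hsum⟩ := ht j
    let e : ι → ℂ := fun k => if h : k ∈ t then g ⟨k, h⟩ / g i else 0
    have he : ∀ k, e k ∈ B := by
      intro k
      by_cases h : k ∈ t
      · simp only [e, dif_pos h]
        rw [← B.valuation_le_one_iff, map_div₀]
        exact (div_le_one₀ (zero_lt_iff.2 ((Valuation.ne_zero_iff _).2 hgi))).2 (hi _ (Finset.mem_univ _))
      · simp only [e, dif_neg h]; exact B.zero_mem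
    refine ⟨fun k => c k - c i * e k, fun k => sub_mem (hc k) (mul_mem (hc i) (he k)), ?_⟩
    have hz : ∑ k ∈ t, e k • v k = 0 := by
      rw [← Finset.sum_coe_sort]
      have : ∀ k : t, e k • v k = (g i)⁻¹ • g k • v k := fun k => by
        simp only [e, dif_pos k.2, smul_smul, div_eq_inv_mul]
      rw [Finset.sum_congr rfl fun k _ => this k, ← Finset.smul_sum, hg, smul_zero]
    have hei : e i = 1 := by simp [e, hgi]
    rw [Finset.sum_erase _ (by simp [hei]), ← hsum]
    simp only [sub_smul, Finset.sum_sub_distrib, mul_smul, ← Finset.smul_sum, hz, smul_zero, sub_zero]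
  have hsp : ⊤ ≤ Submodule.span ℂ (Set.range fun i : t => v i) := by
    rw [← hv, Submodule.span_le]
    rintro _ ⟨j, rfl⟩
    obtain ⟨c, -, hsum⟩ := ht j
    rw [← hsum]
    exact Submodule.sum_mem _ fun i hi => Submodule.smul_mem _ _ (Submodule.subset_span ⟨⟨i, hi⟩, rfl⟩)
  let b := Basis.mk hli hsp
  refine ⟨_, b.reindex (Fintype.equivFin t), fun i => ⟨_, by simp [b]; rfl⟩, fun j i => ?_⟩
  obtain ⟨c, hc, hsum⟩ := ht j
  rw [Basis.repr_reindex_apply]
  have h1 : v j = ∑ k : t, c k • b k := by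
    rw [← hsum, ← Finset.sum_coe_sort]; exact Finset.sum_congr rfl fun k _ => by simp [b]
  rw [h1, b.repr_sum_self fun k : t => c k]
  exact hc _

/-- In characteristic `p`: sums over a `p`-group orbit vanish, or the translates form a basis. -/
theorem fixed_function {k : Type u₁} [Field k] {p : ℕ} [Fact p.Prime] [CharP k p] {P : Type u₂} [Group P]
    [Fintype P] (hP : IsPGroup p P) (K : Submodule k (P → k))
    (hK : ∀ f ∈ K, ∀ w : P, (fun x => f (w⁻¹ * x)) ∈ K) (h0 : K ≠ ⊥) :
    (fun _ => (1 : k)) ∈ K := by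
  classical
  obtain ⟨f, hf, hf0⟩ := Submodule.exists_mem_ne_zero_of_ne_bot h0
  letI := ZMod.algebra k p
  let Ψ : (P → ZMod p) →+ (P → k) :=
    { toFun := fun c x => ∑ v : P, algebraMap (ZMod p) k (c v) * f (v⁻¹ * x)
      map_zero' := by ext x; simp
      map_add' := fun c c' => by ext x; simp [add_mul, Finset.sum_add_distrib] }
  let S := Ψ.range
  have hfS : f ∈ S := ⟨fun v => if v = 1 then 1 else 0, funext fun x => by simp [Ψ]⟩
  have hSK : ∀ g ∈ S, g ∈ K := by
    rintro _ ⟨c, rfl⟩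
    have : Ψ c = ∑ v : P, algebraMap (ZMod p) k (c v) • (fun x => f (v⁻¹ * x)) := by
      ext x
      simp only [Ψ, AddMonoidHom.coe_mk, ZeroHom.coe_mk, Finset.sum_apply, Pi.smul_apply, smul_eq_mul]
    rw [this]
    exact Submodule.sum_mem _ fun v _ => K.smul_mem _ (hK f hf v)
  have hSst : ∀ g ∈ S, ∀ w : P, (fun x => g (w⁻¹ * x)) ∈ S := by
    rintro _ ⟨c, rfl⟩ w
    refine ⟨fun v => c (w⁻¹ * v), funext fun x => ?_⟩
    simp only [Ψ, AddMonoidHom.coe_mk, ZeroHom.coe_mk]
    exact Fintype.sum_equiv (Equiv.mulLeft w⁻¹) _ _ fun v => by simp [mul_assoc]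
  letI : MulAction P S :=
    { smul := fun w g => ⟨fun x => (g : P → k) (w⁻¹ * x), hSst _ g.2 w⟩
      one_smul := fun g => Subtype.ext (funext fun x => by
        show (g : P → k) (1⁻¹ * x) = _; rw [inv_one, one_mul])
      mul_smul := fun a b g => Subtype.ext (funext fun x => by
        show (g : P → k) ((a * b)⁻¹ * x) = (g : P → k) (b⁻¹ * (a⁻¹ * x)); rw [mul_inv_rev, mul_assoc]) }
  haveI : Finite S := Finite.of_surjective _ Ψ.rangeRestrict_surjective
  have h1 := hP.card_modEq_card_fixedPoints S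
  have h2 : p ∣ Nat.card S := by
    have h3 : Nat.card S ∣ p ^ Fintype.card P := by
      have := AddSubgroup.card_range_dvd Ψ
      rwa [Nat.card_fun, Nat.card_zmod, Nat.card_eq_fintype_card (α := P)] at this
    obtain ⟨i, -, hi⟩ := (Nat.dvd_prime_pow Fact.out).1 h3
    rcases Nat.eq_zero_or_pos i with rfl | hi0
    · rw [pow_zero, Nat.card_eq_one_iff_unique] at hi
      haveI := hi.1
      exact absurd (congrArg Subtype.val (Subsingleton.elim (⟨f, hfS⟩ : S) 0)) hf0
    · exact hi ▸ dvd_pow_self p hi0.ne'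
  have h4 : p ∣ Nat.card (MulAction.fixedPoints P S) :=
    Nat.modEq_zero_iff_dvd.1 (h1.symm.trans (Nat.modEq_zero_iff_dvd.2 h2))
  let z : MulAction.fixedPoints P S := ⟨0, fun w => Subtype.ext rfl⟩
  haveI : Nonempty (MulAction.fixedPoints P S) := ⟨z⟩
  haveI : Nontrivial (MulAction.fixedPoints P S) := Finite.one_lt_card_iff_nontrivial.1
    (lt_of_lt_of_le (Fact.out : p.Prime).one_lt (Nat.le_of_dvd Nat.card_pos h4))
  obtain ⟨g, hg⟩ := exists_ne z
  have hconst : ∀ x, ((g : S) : P → k) x = ((g : S) : P → k) 1 := by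
    intro x
    have := congrFun (congrArg Subtype.val (g.2 x)) x
    exact this.symm.trans (show ((g : S) : P → k) (x⁻¹ * x) = _ by rw [inv_mul_cancel])
  have hg1 : ((g : S) : P → k) 1 ≠ 0 := fun h => hg (Subtype.ext (Subtype.ext (funext fun x => by
    rw [hconst x, h]; rfl)))
  have : (fun _ => (1 : k)) = (((g : S) : P → k) 1)⁻¹ • ((g : S) : P → k) := funext fun x => by
    simp [hconst x, inv_mul_cancel₀ hg1]
  rw [this]
  exact K.smul_mem _ (hSK _ (g : S).2)

theorem sum_conj_dichotomy {k : Type u₁} [Field k] {p : ℕ} [Fact p.Prime] [CharP k p] {P : Type u₂} [Group P]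
    [Fintype P] (hP : IsPGroup p P) {V : Type u₃} [AddCommGroup V] [Module k V] [FiniteDimensional k V]
    (σ : Representation k P V) (hd : finrank k V ≤ Fintype.card P) :
    (∀ γ : V, ∑ w : P, σ w γ = 0) ∨
      ∀ a b : V, (∀ w, σ w a = a) → (∀ w, σ w b = b) → b ≠ 0 → ∃ c : k, a = c • b := by
  classical
  by_contra h
  push Not at h
  obtain ⟨⟨γ, hγ⟩, a, b, ha, hb, hb0, hab⟩ := h
  let Φ : (P → k) →ₗ[k] V :=
    { toFun := fun f => ∑ w : P, f w • σ w γ
      map_add' := fun f g => by simp [add_smul, Finset.sum_add_distrib]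
      map_smul' := fun c f => by simp [mul_smul, Finset.smul_sum] }
  have hequiv : ∀ (f : P → k) (w : P), Φ (fun x => f (w⁻¹ * x)) = σ w (Φ f) := by
    intro f w
    simp only [Φ, LinearMap.coe_mk, AddHom.coe_mk, map_sum, map_smul]
    refine Fintype.sum_equiv (Equiv.mulLeft w⁻¹) _ _ fun x => ?_
    simp [← LinearMap.comp_apply, ← Module.End.mul_eq_comp, ← map_mul]
  have hinj : Function.Injective Φ := by
    rw [← LinearMap.ker_eq_bot]
    by_contra hne
    have h1 := fixed_function hP (LinearMap.ker Φ) (fun f hf w => by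
      rw [LinearMap.mem_ker] at hf ⊢; rw [hequiv, hf, map_zero]) hne
    rw [LinearMap.mem_ker] at h1
    exact hγ (by simpa [Φ] using h1)
  have hsurj : Function.Surjective Φ := by
    have h1 := LinearMap.finrank_le_finrank_of_injective hinj
    rw [Module.finrank_fintype_fun_eq_card] at h1
    exact (LinearMap.injective_iff_surjective_of_finrank_eq_finrank
      (by rw [Module.finrank_fintype_fun_eq_card]; omega)).1 hinj
  have hfix : ∀ v : V, (∀ w, σ w v = v) → ∃ c : k, v = c • ∑ w : P, σ w γ := by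
    intro v hv
    obtain ⟨f, rfl⟩ := hsurj v
    refine ⟨f 1, ?_⟩
    have hf : ∀ w, f w = f 1 := by
      intro w
      have := congrFun (hinj ((hequiv f w).trans (hv w))) w
      simpa using this.symm
    simp only [Φ, LinearMap.coe_mk, AddHom.coe_mk, Finset.smul_sum]
    exact Finset.sum_congr rfl fun w _ => by rw [hf w]
  obtain ⟨ca, hca⟩ := hfix a ha
  obtain ⟨cb, hcb⟩ := hfix b hb
  have hcb0 : cb ≠ 0 := fun h0 => hb0 (by rw [hcb, h0, zero_smul])
  exact hab (ca * cb⁻¹) (by rw [hcb, smul_smul, mul_assoc, inv_mul_cancel₀ hcb0, mul_one, hca])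

variable {G : Type u} [Group G] [Fintype G]

/-- An element normalising no more than `N_G(P)` acts semiregularly. -/
theorem free_of_TI {p : ℕ} [Fact p.Prime] (P : Sylow p G)
    (hTI : ∀ g : G, g ∉ Subgroup.normalizer ((P : Subgroup G) : Set G) →
      (P : Subgroup G) ⊓ (MulAut.conj g • (P : Subgroup G)) = ⊥)
    {u x : G} (hu : u ∈ (P : Subgroup G)) (hx : x ∉ Subgroup.normalizer ((P : Subgroup G) : Set G))
    (h : x⁻¹ * u * x ∈ Subgroup.normalizer ((P : Subgroup G) : Set G)) : u = 1 := by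
  set N := Subgroup.normalizer ((P : Subgroup G) : Set G)
  haveI hn : ((P : Subgroup G).subgroupOf N).Normal := Subgroup.normal_in_normalizer
  let PN : Sylow p N := P.subtype Subgroup.le_normalizer
  haveI := Sylow.unique_of_normal PN (by rw [Sylow.coe_subtype]; exact hn)
  obtain ⟨j, hj⟩ := IsPGroup.iff_orderOf.1 P.2 ⟨u, hu⟩
  rw [Subgroup.orderOf_mk] at hj
  set y : N := ⟨x⁻¹ * u * x, h⟩
  have hy : IsPGroup p (Subgroup.zpowers y) := IsPGroup.of_card (n := j) (by
    rw [Nat.card_zpowers, ← Subgroup.orderOf_coe, ← hj]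
    show orderOf (x⁻¹ * u * x) = orderOf u
    exact ((MulEquiv.orderOf_eq (MulAut.conj x⁻¹) u).symm.trans (by simp)).symm)
  obtain ⟨S, hS⟩ := hy.exists_le_sylow
  rw [Subsingleton.elim S PN] at hS
  have h1 : x⁻¹ * u * x ∈ (P : Subgroup G) := hS (Subgroup.mem_zpowers y)
  have h2 : u ∈ (P : Subgroup G) ⊓ (MulAut.conj x • (P : Subgroup G)) :=
    ⟨hu, ⟨_, h1, by simp [mul_assoc]⟩⟩
  rw [hTI x hx, Subgroup.mem_bot] at h2
  exact h2

/-- The commutant is the same on the normalizer. -/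
theorem finrank_invariants_le {p : ℕ} [Fact p.Prime] (P : Sylow p G)
    (hTI : ∀ g : G, g ∉ Subgroup.normalizer ((P : Subgroup G) : Set G) →
      (P : Subgroup G) ⊓ (MulAut.conj g • (P : Subgroup G)) = ⊥)
    {n : ℕ} (ρ : Representation ℂ G (Fin n → ℂ)) (hdeg : n ^ 2 ≤ Nat.card (P : Subgroup G))
    (α : (Fin n → ℂ) →ₗ[ℂ] (Fin n → ℂ))
    (hα : ∀ g ∈ Subgroup.normalizer ((P : Subgroup G) : Set G), ρ g * α = α * ρ g) :
    ∀ g : G, ρ g * α = α * ρ g := by
  classical
  set N := Subgroup.normalizer ((P : Subgroup G) : Set G) with hN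
  obtain ⟨B, hB⟩ := exists_valuationSubring p
  -- an invariant lattice
  let v : G × Fin n → (Fin n → ℂ) := fun w => ρ w.1 (Pi.basisFun ℂ (Fin n) w.2)
  have hv : Submodule.span ℂ (Set.range v) = ⊤ := by
    refine top_le_iff.1 (le_trans (Pi.basisFun ℂ (Fin n)).span_eq.ge (Submodule.span_mono ?_))
    rintro _ ⟨i, rfl⟩
    exact ⟨(1, i), by simp [v]⟩
  haveI : Finite (G × Fin n) := inferInstance
  obtain ⟨ι, ⟨eι⟩⟩ := Finite.exists_equiv_fin (G × Fin n)
  obtain ⟨d, b, hb, hrepr⟩ := exists_lattice_basis B (v ∘ eι.symm)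
    (by rw [Set.range_comp, eι.symm.surjective.range_eq, Set.image_univ]; exact hv)
  have hdn : d = n := by
    have := Module.finrank_eq_card_basis b
    simpa using this.symm
  let R : G →* Matrix (Fin d) (Fin d) ℂ :=
    ((LinearMap.toMatrixAlgEquiv b).toMulEquiv.toMonoidHom).comp ρ
  have hR : ∀ g i j, R g i j ∈ B := by
    intro g i j
    obtain ⟨w, hw⟩ := hb j
    show LinearMap.toMatrixAlgEquiv b (ρ g) i j ∈ B
    rw [LinearMap.toMatrixAlgEquiv_apply]
    have h1 : ρ g (b j) = (v ∘ eι.symm) (eι (g * (eι.symm w).1, (eι.symm w).2)) := by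
      simp only [Function.comp_apply, Equiv.symm_apply_apply, v, ← hw]
      rw [map_mul, Module.End.mul_apply]
    rw [h1]; exact hrepr _ i
  let Rb : G → Matrix (Fin d) (Fin d) B := fun g => Matrix.of fun i j => ⟨R g i j, hR g i j⟩
  let mC : Matrix (Fin d) (Fin d) B →+* Matrix (Fin d) (Fin d) ℂ := B.subtype.mapMatrix
  have hmC : Function.Injective mC := fun x y h => Matrix.ext fun i j =>
    Subtype.ext (congrFun (congrFun h i) j)
  have hRb : ∀ g, mC (Rb g) = R g := fun g => rfl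
  let k := IsLocalRing.ResidueField B
  let res : B →+* k := IsLocalRing.residue B
  have hpk : (p : k) = 0 := by
    obtain ⟨hpB, hpn⟩ := B.mem_nonunits_iff_exists_mem_maximalIdeal.1 hB
    rw [← map_natCast res]
    refine (IsLocalRing.residue_eq_zero_iff _).2 ?_
    convert hpn using 1
    apply Subtype.ext; simp
  haveI : CharP k p := (CharP.charP_iff_prime_eq_zero Fact.out).2 hpk
  let mk : Matrix (Fin d) (Fin d) B →+* Matrix (Fin d) (Fin d) k := res.mapMatrix
  have hRmul : ∀ g h, Rb (g * h) = Rb g * Rb h := fun g h => hmC (by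
    rw [map_mul mC, hRb, hRb, hRb, map_mul R])
  have hR1 : Rb 1 = 1 := hmC (by rw [hRb, map_one R, map_one mC])
  let σ : Representation k G (Matrix (Fin d) (Fin d) k) :=
    { toFun := fun g => (LinearMap.mulLeft k (mk (Rb g))).comp (LinearMap.mulRight k (mk (Rb g⁻¹)))
      map_one' := LinearMap.ext fun m => by simp [hR1]
      map_mul' := fun g h => LinearMap.ext fun m => by
        simp [hRmul, mul_assoc] }
  have hσ : ∀ g m, σ g m = mk (Rb g) * (m * mk (Rb g⁻¹)) := fun g m => rfl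
  -- the trace map
  let W : Submodule ℂ ((Fin n → ℂ) →ₗ[ℂ] (Fin n → ℂ)) :=
    { carrier := {β | ∀ g ∈ N, ρ g * β = β * ρ g}
      add_mem' := fun {x y} hx hy g hg => by rw [mul_add, add_mul, hx g hg, hy g hg]
      zero_mem' := fun g _ => by simp
      smul_mem' := fun c x hx g hg => by rw [mul_smul_comm, smul_mul_assoc, hx g hg] }
  letI : Fintype (G ⧸ N) := Fintype.ofFinite _
  let Φ : ((Fin n → ℂ) →ₗ[ℂ] (Fin n → ℂ)) →ₗ[ℂ] ((Fin n → ℂ) →ₗ[ℂ] (Fin n → ℂ)) :=
    ∑ x : G ⧸ N, (LinearMap.mulLeft ℂ (ρ x.out)).comp (LinearMap.mulRight ℂ (ρ (x.out)⁻¹))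
  have hΦ : ∀ β, Φ β = ∑ x : G ⧸ N, ρ x.out * (β * ρ (x.out)⁻¹) := fun β => by
    simp [Φ]
  have hΦG : ∀ β ∈ W, ∀ g, ρ g * Φ β = Φ β * ρ g := by
    intro β hβ g
    have h1 : ρ g * Φ β * ρ g⁻¹ = Φ β := by
      rw [hΦ, Finset.mul_sum, Finset.sum_mul]
      refine Fintype.sum_equiv (MulAction.toPerm g) _ _ fun x => ?_
      obtain ⟨m, hm⟩ : ∃ m ∈ N, (g • x).out = g * x.out * m := by
        refine ⟨(g * x.out)⁻¹ * (g • x).out, ?_, by group⟩
        rw [← QuotientGroup.eq, QuotientGroup.out_eq', ← smul_eq_mul, ← MulAction.Quotient.smul_coe,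
          QuotientGroup.out_eq']
      show _ = ρ ((g • x).out) * (β * ρ ((g • x).out)⁻¹)
      rw [hm.2, mul_inv_rev, map_mul ρ (g * x.out), map_mul ρ g, map_mul ρ m⁻¹, mul_inv_rev,
        map_mul ρ (x.out)⁻¹]
      have h2 : ρ m * β * ρ m⁻¹ = β := by
        rw [hβ m hm.1, mul_assoc, ← map_mul, mul_inv_cancel, map_one, mul_one]
      conv_lhs => rw [← h2]
      simp only [mul_assoc]
    calc ρ g * Φ β = ρ g * Φ β * ρ g⁻¹ * ρ g := by
          rw [mul_assoc _ (ρ g⁻¹), ← map_mul, inv_mul_cancel, map_one, mul_one]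
      _ = Φ β * ρ g := by rw [h1]
  have hmem : ∀ β ∈ W, Φ β ∈ W := fun β hβ g _ => hΦG β hβ g
  suffices hinj : ∀ β ∈ W, Φ β = 0 → β = 0 by
    let ΦW : W →ₗ[ℂ] W := (Φ.comp W.subtype).codRestrict W fun β => hmem β β.2
    have hi : Function.Injective ΦW := by
      rw [injective_iff_map_eq_zero]
      exact fun β hβ => Subtype.ext (hinj β β.2 (congrArg Subtype.val hβ))
    haveI : FiniteDimensional ℂ W := inferInstance
    have hs : Function.Surjective ΦW := @LinearMap.surjective_of_injective ℂ W _ _ _ _ ΦW hi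
    obtain ⟨β, hβ⟩ := hs ⟨α, hα⟩
    intro g
    rw [← show Φ β = α from congrArg Subtype.val hβ]
    exact hΦG β β.2 g
  intro β hβ hΦβ
  by_contra hβ0
  set a := LinearMap.toMatrixAlgEquiv b β with ha
  have ha0 : a ≠ 0 := fun h => hβ0 ((LinearMap.toMatrixAlgEquiv b).injective (by rw [← ha, h, map_zero]))
  obtain ⟨i₁, j₁, h11⟩ : ∃ i j, a i j ≠ 0 := by
    by_contra h; push Not at h; exact ha0 (Matrix.ext h)
  obtain ⟨⟨i₀, j₀⟩, -, hmax⟩ := Finset.exists_max_image Finset.univ
    (fun w : Fin d × Fin d => B.valuation (a w.1 w.2)) ⟨(i₁, j₁), Finset.mem_univ _⟩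
  have hc : a i₀ j₀ ≠ 0 := fun h => h11 (by
    have := hmax (i₁, j₁) (Finset.mem_univ _)
    rw [h, map_zero, le_zero_iff, map_eq_zero] at this
    exact this)
  set a' := (a i₀ j₀)⁻¹ • a with ha'
  have ha'B : ∀ i j, a' i j ∈ B := by
    intro i j
    rw [ha', Matrix.smul_apply, smul_eq_mul, ← B.valuation_le_one_iff, map_mul, map_inv₀,
      ← div_eq_inv_mul]
    exact (div_le_one₀ (zero_lt_iff.2 ((Valuation.ne_zero_iff _).2 hc))).2 (hmax (i, j) (Finset.mem_univ _))
  let ab : Matrix (Fin d) (Fin d) B := Matrix.of fun i j => ⟨a' i j, ha'B i j⟩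
  have hab : mC ab = a' := rfl
  have habN : ∀ g ∈ N, Rb g * ab = ab * Rb g := by
    intro g hg
    refine hmC ?_
    rw [map_mul mC, map_mul mC, hRb, hab, ha', mul_smul_comm, smul_mul_assoc]
    congr 1
    show LinearMap.toMatrixAlgEquiv b (ρ g) * _ = _ * LinearMap.toMatrixAlgEquiv b (ρ g)
    rw [ha, ← map_mul, ← map_mul, hβ g hg]
  have habsum : ∑ x : G ⧸ N, Rb x.out * (ab * Rb (x.out)⁻¹) = 0 := by
    refine hmC ?_
    rw [map_sum, map_zero]
    have : ∀ x : G ⧸ N, mC (Rb x.out * (ab * Rb (x.out)⁻¹)) =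
        (a i₀ j₀)⁻¹ • LinearMap.toMatrixAlgEquiv b (ρ x.out * (β * ρ (x.out)⁻¹)) := by
      intro x
      rw [map_mul mC, map_mul mC, hRb, hRb, hab, ha', smul_mul_assoc, mul_smul_comm, ha, map_mul, map_mul]
      rfl
    rw [Finset.sum_congr rfl fun x _ => this x, ← Finset.smul_sum, ← map_sum, ← hΦ, hΦβ, map_zero, smul_zero]
  -- reduce
  set f : G ⧸ N → Matrix (Fin d) (Fin d) k := fun x => σ x.out (mk ab) with hf
  have hfsum : ∑ x : G ⧸ N, f x = 0 := by
    rw [Finset.sum_congr rfl fun x _ => (show f x = mk (Rb x.out * (ab * Rb (x.out)⁻¹)) by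
      rw [map_mul, map_mul]; rfl), ← map_sum, habsum, map_zero]
  have hσN : ∀ m ∈ N, σ m (mk ab) = mk ab := by
    intro m hm
    rw [hσ, ← map_mul, ← map_mul, ← mul_assoc, habN m hm, mul_assoc, ← hRmul, mul_inv_cancel, hR1, mul_one]
  have hσσ : ∀ g h m, σ g (σ h m) = σ (g * h) m := fun g h m => by
    rw [map_mul]; rfl
  have hfeq : ∀ (g : G) (x : G ⧸ N), f (g • x) = σ g (f x) := by
    intro g x
    have hmem : (g * x.out)⁻¹ * (g • x).out ∈ N := by
      rw [← QuotientGroup.eq, QuotientGroup.out_eq', ← smul_eq_mul, ← MulAction.Quotient.smul_coe,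
        QuotientGroup.out_eq']
    rw [hf]
    simp only [hσσ]
    conv_lhs => rw [show (g • x).out = g * x.out * ((g * x.out)⁻¹ * (g • x).out) by group, ← hσσ, hσN _ hmem]
  set x₀ : G ⧸ N := QuotientGroup.mk 1 with hx₀
  have hf0 : f x₀ = mk ab := by
    refine hσN _ ?_
    have : QuotientGroup.mk (1 : G) = QuotientGroup.mk (s := N) x₀.out := (QuotientGroup.out_eq' x₀).symm
    have h2 := QuotientGroup.eq.1 this
    simpa using h2
  have hfree : ∀ (u : G), u ∈ (P : Subgroup G) → ∀ x : G ⧸ N, x ≠ x₀ → u • x = x → u = 1 := by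
    intro u hu x hx hux
    have hxN : x.out ∉ N := fun h => hx (by
      rw [hx₀, ← QuotientGroup.out_eq' x]
      exact (QuotientGroup.eq).2 (by simpa using N.inv_mem h))
    refine free_of_TI P hTI hu hxN ?_
    rw [← QuotientGroup.out_eq' x, MulAction.Quotient.smul_coe, smul_eq_mul, QuotientGroup.eq] at hux
    have := N.inv_mem hux
    simp [mul_assoc] at this ⊢
    exact this
  letI : Fintype (P : Subgroup G) := Fintype.ofFinite _
  let σP : Representation k (P : Subgroup G) (Matrix (Fin d) (Fin d) k) := σ.comp (P : Subgroup G).subtype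
  have hT : ∀ x : G ⧸ N, x ≠ x₀ → ∑ w : (P : Subgroup G), σP w (f x) = 0 := by
    intro x hx
    rcases sum_conj_dichotomy P.2 σP (by
      rw [Module.finrank_matrix, Module.finrank_self, Fintype.card_fin, hdn, Fintype.card_eq_nat_card,
        mul_one]
      rw [← sq]; exact hdeg) with h | h
    · exact h _
    · by_cases hd0 : d = 0
      · subst hd0; exact Matrix.ext fun i => i.elim0
      haveI : Nonempty (Fin d) := ⟨⟨0, Nat.pos_of_ne_zero hd0⟩⟩
      have h1 : ∀ g : G, σ g 1 = 1 := fun g => by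
        rw [hσ, one_mul, ← map_mul, ← hRmul, mul_inv_cancel, hR1, map_one]
      obtain ⟨c, hc'⟩ := h (mk ab) 1 (fun w => hσN _ (Subgroup.le_normalizer w.2)) (fun w => h1 _) one_ne_zero
      have hfx : f x = c • 1 := by
        show σ _ (mk ab) = _
        rw [hc', map_smul, h1]
      rw [hfx]
      simp only [map_smul]
      rw [← Finset.smul_sum, Finset.sum_congr rfl fun w _ => (show σP w 1 = 1 from h1 _), Finset.sum_const,
        Finset.card_univ]
      obtain ⟨m, hm⟩ := IsPGroup.iff_card.1 P.2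
      rw [Fintype.card_eq_nat_card, hm]
      rcases Nat.eq_zero_or_pos m with rfl | hm0
      · exfalso
        rw [pow_zero, Subgroup.card_eq_one] at hm
        have hNtop : N = ⊤ := by
          rw [hN, hm]; exact Subgroup.normalizer_eq_top ⊥
        exact hx (by
          rw [hx₀, ← QuotientGroup.out_eq' x]
          exact (QuotientGroup.eq).2 ((Subgroup.eq_top_iff' N).1 hNtop _))
      · rw [← Nat.cast_smul_eq_nsmul k, Nat.cast_pow, hpk, zero_pow hm0.ne', zero_smul, smul_zero]
  have hrest : ∑ x ∈ Finset.univ.erase x₀, f x = 0 := by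
    have hx0fix : ∀ u : (P : Subgroup G), (u : G) • x₀ = x₀ := fun u => by
      rw [hx₀, MulAction.Quotient.smul_coe, smul_eq_mul, mul_one]
      exact (QuotientGroup.eq).2 (by simp; exact Subgroup.le_normalizer u.2)
    rw [← Finset.sum_fiberwise_of_maps_to (t := (Finset.univ.erase x₀).image
      (fun x => MulAction.orbit (P : Subgroup G) x)) (g := fun x => MulAction.orbit (P : Subgroup G) x)
      fun x hx => Finset.mem_image_of_mem _ hx]
    refine Finset.sum_eq_zero fun O hO => ?_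
    obtain ⟨x, hx, rfl⟩ := Finset.mem_image.1 hO
    have hx' : x ≠ x₀ := Finset.ne_of_mem_erase hx
    refine Eq.trans ?_ (hT x hx')
    symm
    refine Finset.sum_bij (fun w _ => w • x) ?_ ?_ ?_ ?_
    · intro w _
      refine Finset.mem_filter.2 ⟨Finset.mem_erase.2 ⟨fun e => hx' ?_, Finset.mem_univ _⟩,
        MulAction.orbit_eq_iff.2 (MulAction.mem_orbit _ _)⟩
      rw [← inv_smul_smul w x, e]
      exact hx0fix w⁻¹
    · intro w _ w' _ e
      have h1 : (w⁻¹ * w') • x = x := by
        rw [mul_smul, ← e, inv_smul_smul]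
      have := hfree _ (w⁻¹ * w').2 x hx' h1
      rw [OneMemClass.coe_eq_one, inv_mul_eq_one] at this
      exact this
    · intro y hy
      obtain ⟨w, hw⟩ := MulAction.orbit_eq_iff.1 (Finset.mem_filter.1 hy).2
      exact ⟨w, Finset.mem_univ _, hw⟩
    · intro w _; exact (hfeq (w : G) x).symm
  rw [← Finset.add_sum_erase _ _ (Finset.mem_univ x₀), hrest, add_zero, hf0] at hfsum
  have := congrFun (congrFun hfsum i₀) j₀
  have h1 : ab i₀ j₀ = 1 := Subtype.ext (by
    show (a i₀ j₀)⁻¹ • a i₀ j₀ = 1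
    rw [smul_eq_mul, inv_mul_cancel₀ hc])
  simp [mk, h1] at this

end CfsgLib.Char.TILattice
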