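import Cfsg.Agent.Char.Classes
import Cfsg.Agent.Char.NormalSum
import Mathlib.GroupTheory.Index

/-! Irreducible characters which are nonzero on exactly two classes. -/

set_option linter.unusedSectionVars false
set_option linter.style.haveILetI false

namespace CfsgLib.Char

open Module Cfsg
open scoped ComplexConjugate

universe u

variable {G : Type u} [Group G] [Finite G]

/-- structure of a group with an irreducible character nonzero on exactly two classes -/
theorem two_classes (hG : 2 < Nat.card G) (χ : IrrCharacter G)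
    (hχ : Nat.card {C : ConjClasses G // ∃ g ∈ C.carrier, (χ : G → ℂ) g ≠ 0} = 2) :
    ∃ (N : Subgroup G) (g₀ : G), N.Normal ∧ g₀ ∈ N ∧ g₀ ≠ 1 ∧
      (∀ g : G, g ∈ N ↔ (χ : G → ℂ) g ≠ 0) ∧
      (∀ x ∈ N, x ≠ 1 → IsConj g₀ x) ∧
      (∀ ψ : IrrCharacter G, ψ ≠ χ → ∀ x ∈ N, (ψ : G → ℂ) x = (ψ : G → ℂ) 1) ∧
      (∀ g : G, (χ : G → ℂ) g = (χ : G → ℂ) 1 → g = 1) ∧
      (χ : G → ℂ) 1 + ((Nat.card N : ℂ) - 1) * (χ : G → ℂ) g₀ = 0 := by
  classical
  haveI := Fintype.ofFinite G
  have hd := irr_one_ne_zero χ.2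
  have hcl := classFun_of_irr χ.2
  obtain ⟨⟨C, hC⟩, hCne, huniq⟩ := (Nat.card_eq_two_iff'
    (⟨ConjClasses.mk 1, 1, ConjClasses.mem_carrier_mk, hd⟩ :
      {C : ConjClasses G // ∃ g ∈ C.carrier, (χ : G → ℂ) g ≠ 0})).mp hχ
  obtain ⟨g₀, hg₀C, hg₀⟩ := hC
  rw [ConjClasses.mem_carrier_iff_mk_eq] at hg₀C
  have hg₀1 : g₀ ≠ 1 := fun h => hCne (Subtype.ext (show C = ConjClasses.mk 1 by rw [← hg₀C, h]))
  have hsupp : ∀ g : G, (χ : G → ℂ) g ≠ 0 ↔ g = 1 ∨ IsConj g₀ g := by
    intro g
    constructor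
    · intro hg
      by_cases h1 : ConjClasses.mk g = ConjClasses.mk 1
      · exact Or.inl (isConj_one_left.mp (ConjClasses.mk_eq_mk_iff_isConj.mp h1))
      · refine Or.inr (ConjClasses.mk_eq_mk_iff_isConj.mp ?_).symm
        rw [hg₀C]
        exact congrArg Subtype.val (huniq ⟨ConjClasses.mk g, g, ConjClasses.mem_carrier_mk, hg⟩
          (fun h => h1 (congrArg Subtype.val h)))
    · rintro (rfl | h)
      · exact hd
      · rwa [← classFun_isConj hcl h]
  set S := Finset.univ.filter (fun g : G => IsConj g₀ g) with hS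
  have h1S : (1 : G) ∉ S := fun h => hg₀1 (isConj_one_left.mp (Finset.mem_filter.mp h).2)
  have hsumF : ∀ F : G → ℂ, (∀ g, IsConj g₀ g → F g = F g₀) →
      ∑ g : G, F g * (χ : G → ℂ) g = F 1 * (χ : G → ℂ) 1 + (S.card : ℂ) * (F g₀ * (χ : G → ℂ) g₀) := by
    intro F hF
    rw [← Finset.sum_subset (Finset.subset_univ (insert (1 : G) S)) fun g _ hg => ?_,
      Finset.sum_insert h1S, Finset.sum_congr rfl fun g hg => ?_, Finset.sum_const, nsmul_eq_mul]
    · have h : IsConj g₀ g := (Finset.mem_filter.mp hg).2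
      rw [hF g h, classFun_isConj hcl h]
    · have : (χ : G → ℂ) g = 0 := by
        by_contra h
        rcases (hsupp g).mp h with rfl | h
        · exact hg (Finset.mem_insert_self _ _)
        · exact hg (Finset.mem_insert_of_mem (Finset.mem_filter.mpr ⟨Finset.mem_univ _, h⟩))
      rw [this, mul_zero]
  have hinner : ∀ ψ : IrrCharacter G, ψ ≠ χ → conj ((ψ : G → ℂ) 1) * (χ : G → ℂ) 1 +
      (S.card : ℂ) * (conj ((ψ : G → ℂ) g₀) * (χ : G → ℂ) g₀) = 0 := by
    intro ψ hψ
    rw [← hsumF (fun g => conj ((ψ : G → ℂ) g)) fun g hg => by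
      simp only [classFun_isConj (classFun_of_irr ψ.2) hg]]
    have h := irr_inner_ne χ.2 ψ.2 (fun e => hψ (Subtype.ext e).symm)
    rw [classInner_def, mul_eq_zero] at h
    rw [← h.resolve_left (inv_ne_zero (natCard_ne_zero G))]
    exact Finset.sum_congr rfl fun g _ => mul_comm _ _
  have hχne : χ ≠ ⟨_, isIrr_one⟩ := by
    intro he
    have hall : ∀ g : G, g = 1 ∨ IsConj g₀ g := fun g => (hsupp g).mp (by rw [he]; simp)
    have hSc : S.card + 1 = Nat.card G := by
      rw [Nat.card_eq_fintype_card, ← Finset.card_univ, ← Finset.card_insert_of_notMem h1S]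
      congr 1
      refine Finset.eq_univ_of_forall fun g => ?_
      rcases hall g with rfl | h
      · exact Finset.mem_insert_self _ _
      · exact Finset.mem_insert_of_mem (Finset.mem_filter.mpr ⟨Finset.mem_univ _, h⟩)
    have hdvd : S.card ∣ Nat.card G := by
      rw [hS, card_filter_isConj]; exact Subgroup.index_dvd_card _
    rw [← hSc] at hdvd
    have := Nat.le_of_dvd one_pos ((Nat.dvd_add_right (dvd_refl _)).mp hdvd)
    omega
  have hrel : (χ : G → ℂ) 1 + (S.card : ℂ) * (χ : G → ℂ) g₀ = 0 := by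
    simpa using hinner _ hχne.symm
  have hker : ∀ ψ : IrrCharacter G, ψ ≠ χ → ∀ g : G, IsConj g₀ g →
      (ψ : G → ℂ) g = (ψ : G → ℂ) 1 := by
    intro ψ hψ g hg
    rw [← classFun_isConj (classFun_of_irr ψ.2) hg]
    have h := hinner ψ hψ
    have h2 : (χ : G → ℂ) 1 * (conj ((ψ : G → ℂ) 1) - conj ((ψ : G → ℂ) g₀)) = 0 := by
      linear_combination h - conj ((ψ : G → ℂ) g₀) * hrel
    have h3 := sub_eq_zero.mp ((mul_eq_zero.mp h2).resolve_left hd)
    exact ((starRingEnd ℂ).injective h3).symm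
  choose K hKn hKmem hKtr using fun ψ : IrrCharacter G => exists_kernel (isCharacter_of_isIrr ψ.2)
  let N : Subgroup G := ⨅ ψ : {ψ : IrrCharacter G // ψ ≠ χ}, K ψ.1
  have hNmem : ∀ g, g ∈ N ↔ g = 1 ∨ IsConj g₀ g := by
    intro g
    simp only [N, Subgroup.mem_iInf, hKmem]
    constructor
    · intro h
      by_contra hno
      push Not at hno
      have hg : (χ : G → ℂ) g = 0 := by
        by_contra h0
        rcases (hsupp g).mp h0 with h0 | h0
        exacts [hno.1 h0, hno.2 h0]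
      have h1 := second_orth g g
      rw [if_pos (IsConj.refl g)] at h1
      have h2 := second_orth (1 : G) g
      rw [if_neg fun hh => hno.1 (isConj_one_right.mp hh)] at h2
      have heq : ∀ ψ : IrrCharacter G, (ψ : G → ℂ) g * conj ((ψ : G → ℂ) g) =
          (ψ : G → ℂ) 1 * conj ((ψ : G → ℂ) g) := fun ψ => by
        by_cases hψ : ψ = χ
        · rw [hψ, hg]; simp
        · rw [h ⟨ψ, hψ⟩]
      rw [Finset.sum_congr rfl fun ψ _ => heq ψ, h2] at h1
      exact Nat.card_pos.ne' (by exact_mod_cast h1.symm)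
    · rintro (rfl | h) ψ
      · rfl
      · exact hker ψ.1 ψ.2 g h
  have hNcard : Nat.card N = S.card + 1 := by
    rw [← Finset.card_insert_of_notMem h1S, ← Nat.card_eq_finsetCard]
    exact Nat.card_congr (Equiv.subtypeEquivRight fun g => by simp [hS, hNmem])
  have hNn : N.Normal := ⟨fun n hn k => by
    simp only [N, Subgroup.mem_iInf] at hn ⊢
    exact fun ψ => (hKn ψ.1).conj_mem n (hn ψ) k⟩
  have hrel' : (χ : G → ℂ) 1 + ((Nat.card N : ℂ) - 1) * (χ : G → ℂ) g₀ = 0 := by
    rw [hNcard]; push_cast; linear_combination hrel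
  refine ⟨N, g₀, hNn, (hNmem g₀).mpr (Or.inr (IsConj.refl _)), hg₀1,
    fun g => (hNmem g).trans (hsupp g).symm, fun x hx h1 => ((hNmem x).mp hx).resolve_left h1,
    fun ψ hψ x hx => ?_, fun g hg => ?_, hrel'⟩
  · rcases (hNmem x).mp hx with rfl | h
    · rfl
    · exact hker ψ hψ x h
  · rcases (hsupp g).mp (hg ▸ hd) with h | h
    · exact h
    · exfalso
      rw [← classFun_isConj hcl h] at hg
      rw [hg] at hrel
      have : (χ : G → ℂ) 1 * ((S.card + 1 : ℕ) : ℂ) = 0 := by push_cast; linear_combination hrel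
      exact (mul_ne_zero hd (Nat.cast_ne_zero.mpr (Nat.succ_ne_zero _))) this

end CfsgLib.Char
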